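import Groth.Agent.Csa25.SBChart
import Groth.Agent.S9576
import Mathlib.AlgebraicGeometry.Morphisms.IsIso

/-!
# A split Severi–Brauer scheme is a projective space
-/

set_option autoImplicit false
open scoped TensorProduct
open Module CategoryTheory CategoryTheory.Limits AlgebraicGeometry HomogeneousLocalization

namespace Groth.Agent.Csa25

universe u

variable (n : ℕ) (S : Type u) [CommRing S]

local notation "𝒜" => CohB1.polyGrading n S

/-- Degree-zero fractions form an algebra over the base ring. -/
noncomputable scoped instance awayAlgebra (x : MvPolynomial (Fin (n + 1)) S) :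
    Algebra S (HomogeneousLocalization.Away 𝒜 x) where
  toSMul := inferInstance
  algebraMap := (fromZeroRingHom 𝒜 (Submonoid.powers x)).comp (algebraMap S (𝒜 0))
  commutes' _ _ := mul_comm _ _
  smul_def' r a := by
    apply val_injective
    rw [val_smul, val_mul, Algebra.smul_def]
    congr 1

/-- Degree-zero fractions form an algebra over a field below the base ring. -/
noncomputable scoped instance (priority := 90) awayAlgebraField {K : Type u} [Field K] [Algebra K S]
    (x : MvPolynomial (Fin (n + 1)) S) : Algebra K (HomogeneousLocalization.Away 𝒜 x) :=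
  ((algebraMap S (HomogeneousLocalization.Away 𝒜 x)).comp (algebraMap K S)).toAlgebra

scoped instance awayTower {K : Type u} [Field K] [Algebra K S] (x : MvPolynomial (Fin (n + 1)) S) :
    IsScalarTower K S (HomogeneousLocalization.Away 𝒜 x) :=
  ⟨fun r s a => by
    rw [Algebra.smul_def r s, Algebra.smul_def r (s • a)]
    erw [Algebra.smul_def (algebraMap K S r * s) a, Algebra.smul_def s a, map_mul, mul_assoc]
    rfl⟩

theorem awayAlgebraMap_eq (x : MvPolynomial (Fin (n + 1)) S) :
    algebraMap S (HomogeneousLocalization.Away 𝒜 x) =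
      (fromZeroRingHom 𝒜 (Submonoid.powers x)).comp (algebraMap S (𝒜 0)) := rfl

/-- `X_j / X_i`. -/
noncomputable def frac (i j : Fin (n + 1)) : HomogeneousLocalization.Away 𝒜 (MvPolynomial.X i) :=
  HomogeneousLocalization.mk ⟨1, ⟨MvPolynomial.X j, MvPolynomial.isHomogeneous_X S j⟩,
    ⟨MvPolynomial.X i, MvPolynomial.isHomogeneous_X S i⟩, ⟨1, pow_one _⟩⟩

theorem frac_self (i : Fin (n + 1)) : frac n S i i = 1 := by
  apply val_injective
  rw [frac, val_mk, val_one]
  exact Localization.mk_self ⟨_, _⟩

theorem awayMap_frac_mul (i l j : Fin (n + 1)) :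
    awayMap 𝒜 (MvPolynomial.isHomogeneous_X S l) rfl (frac n S i j) =
      awayMap 𝒜 (MvPolynomial.isHomogeneous_X S l) rfl (frac n S i l) *
        awayMap 𝒜 (MvPolynomial.isHomogeneous_X S i) (mul_comm (MvPolynomial.X i) (MvPolynomial.X l)) (frac n S l j) := by
  apply val_injective
  have key : ∀ (a b : Fin (n + 1)) (x : MvPolynomial (Fin (n + 1)) S) (c : Fin (n + 1))
      (hx : x = MvPolynomial.X a * MvPolynomial.X c),
      (awayMap 𝒜 (MvPolynomial.isHomogeneous_X S c) hx (frac n S a b)).val =
        Localization.mk (MvPolynomial.X b * MvPolynomial.X c)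
          (⟨x, Submonoid.mem_powers x⟩ : Submonoid.powers x) := by
    intro a b x c hx
    rw [show frac n S a b = HomogeneousLocalization.mk ⟨1, ⟨MvPolynomial.X b, MvPolynomial.isHomogeneous_X S b⟩,
      ⟨MvPolynomial.X a ^ 1, by rw [pow_one]; exact MvPolynomial.isHomogeneous_X S a⟩, (Submonoid.mem_powers_iff _ _).mpr ⟨1, rfl⟩⟩ by
        apply val_injective
        rw [frac, val_mk, val_mk]
        simp only [pow_one],
      val_awayMap_mk]
    simp only [pow_one]
  rw [val_mul, key, key, key, Localization.mk_mul, Localization.mk_eq_mk_iff, Localization.r_iff_exists]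
  exact ⟨1, by simp; ring⟩

theorem irrelevant_le_span :
    (HomogeneousIdeal.irrelevant 𝒜).toIdeal ≤
      Ideal.span (Set.range (MvPolynomial.X : Fin (n + 1) → MvPolynomial (Fin (n + 1)) S)) := by
  intro p hp
  have hp0 : MvPolynomial.coeff 0 p = 0 := by
    have h0 := (HomogeneousIdeal.mem_irrelevant_iff _ p).mp hp
    have h1 : MvPolynomial.homogeneousComponent 0 p = 0 := by
      rw [← MvPolynomial.decomposition.decompose'_apply p 0]
      exact h0
    simpa [MvPolynomial.homogeneousComponent_zero] using h1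
  rw [← Set.image_univ, MvPolynomial.mem_ideal_span_X_image]
  intro m hm
  by_contra! h
  obtain rfl : m = 0 := Finsupp.ext fun j => h j (Set.mem_univ j)
  exact MvPolynomial.mem_support_iff.mp hm hp0

variable {n S}
variable {k : Type u} [Field k] [Algebra k S] {A : Type u} [Ring A] [Algebra k A]
  (h : A →ₐ[k] Matrix (Fin (n + 1)) (Fin (n + 1)) S)
  (hs : Function.Surjective (extRep h)) (hd : finrank k A = (n + 1) * (n + 1))
  {X : Scheme.{u}} {f : X ⟶ Spec (CommRingCat.of k)}
  (str : BrSev.SBStr k A ((n + 1) * (n + 1) - (n + 1)) f)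

/-- The morphism of a standard open of projective space. -/
noncomputable def projPiece (i : Fin (n + 1)) :
    Spec (CommRingCat.of (HomogeneousLocalization.Away 𝒜 (MvPolynomial.X i))) ⟶ BrSev.bc f S :=
  vecXS h str hs (frac n S i) i (frac_self n S i)

include hd in
theorem isOpenImmersion_projPiece (i : Fin (n + 1)) : IsOpenImmersion (projPiece h hs str i) := by
  have := isOpenImmersion_chart h str hs hd i
  let θ : chartRing S i →+* HomogeneousLocalization.Away 𝒜 (MvPolynomial.X i) :=
    ((MvPolynomial.aeval fun j : {j // j ≠ i} => frac n S i j : chartRing S i →ₐ[S] _) : _ →+* _)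
  have hθ : Function.Bijective θ := (Groth.Agent.S9576.result n S).2 i
  have : IsIso (Spec.map (CommRingCat.ofHom θ)) :=
    have : IsIso (CommRingCat.ofHom θ) := (RingEquiv.ofBijective θ hθ).toCommRingCatIso.isIso_hom
    inferInstance
  rw [projPiece, vecXS_eq_comp_chart]
  exact inferInstanceAs (IsOpenImmersion (Spec.map (CommRingCat.ofHom θ) ≫ _))

theorem projPiece_bcTo (i : Fin (n + 1)) :
    projPiece h hs str i ≫ BrSev.bcTo f S =
      Proj.awayι 𝒜 (MvPolynomial.X i) (MvPolynomial.isHomogeneous_X S i) one_pos ≫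
        CohB1.ProjSpace.toSpec n S := by
  rw [projPiece, vecXS, toXS_bcTo, CohB1.ProjSpace.toSpec]
  refine Eq.trans ?_ (Category.assoc _ _ _)
  rw [Proj.awayι_toSpecZero, ← Spec.map_comp, ← CommRingCat.ofHom_comp, awayAlgebraMap_eq]

theorem projPiece_compat (i l : Fin (n + 1)) :
    Spec.map (CommRingCat.ofHom (awayMap 𝒜 (MvPolynomial.isHomogeneous_X S l) (rfl : MvPolynomial.X i * MvPolynomial.X l = _))) ≫
        projPiece h hs str i =
      Spec.map (CommRingCat.ofHom (awayMap 𝒜 (MvPolynomial.isHomogeneous_X S i) (mul_comm (MvPolynomial.X i) (MvPolynomial.X l)))) ≫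
        projPiece h hs str l := by
  let ψ₁ : HomogeneousLocalization.Away 𝒜 (MvPolynomial.X i : MvPolynomial (Fin (n + 1)) S) →ₐ[S]
      HomogeneousLocalization.Away 𝒜 (MvPolynomial.X i * MvPolynomial.X l : MvPolynomial (Fin (n + 1)) S) :=
    { awayMap 𝒜 (MvPolynomial.isHomogeneous_X S l) rfl with
      commutes' := fun r => awayMap_fromZeroRingHom _ _ _ _ }
  let ψ₂ : HomogeneousLocalization.Away 𝒜 (MvPolynomial.X l : MvPolynomial (Fin (n + 1)) S) →ₐ[S]
      HomogeneousLocalization.Away 𝒜 (MvPolynomial.X i * MvPolynomial.X l : MvPolynomial (Fin (n + 1)) S) :=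
    { awayMap 𝒜 (MvPolynomial.isHomogeneous_X S i) (mul_comm (MvPolynomial.X i) (MvPolynomial.X l)) with
      commutes' := fun r => awayMap_fromZeroRingHom _ _ _ _ }
  have h1 := specMap_vecXS h str hs ψ₁ (frac n S i) i (frac_self n S i)
  have h2 := specMap_vecXS h str hs ψ₂ (frac n S l) l (frac_self n S l)
  refine (h1.trans ?_).trans h2.symm
  exact vecXS_congr h str hs fun j => awayMap_frac_mul n S i l j

/-- The standard affine cover of projective space. -/
noncomputable abbrev projCover : (CohB1.ProjSpace n S).OpenCover :=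
  (Proj.affineOpenCoverOfIrrelevantLESpan 𝒜 MvPolynomial.X
    (fun i => MvPolynomial.isHomogeneous_X S i) (fun _ => one_pos) (irrelevant_le_span n S)).openCover

/-- The comparison morphism. -/
noncomputable def fromProj : CohB1.ProjSpace n S ⟶ BrSev.bc f S :=
  (projCover (n := n) (S := S)).glueMorphisms (fun i => projPiece h hs str i) fun i l => by
    refine (cancel_epi (Proj.pullbackAwayιIso 𝒜 (MvPolynomial.isHomogeneous_X S i) one_pos
      (MvPolynomial.isHomogeneous_X S l) one_pos rfl).inv).mp ?_
    refine (Category.assoc _ _ _).symm.trans (Eq.trans ?_ (Category.assoc _ _ _))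
    refine (congrArg (· ≫ projPiece h hs str i) (Proj.pullbackAwayιIso_inv_fst _ _ _ _ _ _)).trans ?_
    refine Eq.trans ?_ (congrArg (· ≫ projPiece h hs str l) (Proj.pullbackAwayιIso_inv_snd _ _ _ _ _ _)).symm
    exact projPiece_compat h hs str i l

theorem awayι_fromProj (i : Fin (n + 1)) :
    Proj.awayι 𝒜 (MvPolynomial.X i) (MvPolynomial.isHomogeneous_X S i) one_pos ≫ fromProj h hs str =
      projPiece h hs str i :=
  Scheme.Cover.ι_glueMorphisms (projCover (n := n) (S := S)) _ _ i

theorem fromProj_bcTo : fromProj h hs str ≫ BrSev.bcTo f S = CohB1.ProjSpace.toSpec n S := by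
  refine (projCover (n := n) (S := S)).hom_ext _ _ fun i => ?_
  show Proj.awayι 𝒜 _ _ _ ≫ fromProj h hs str ≫ _ = _
  rw [← Category.assoc, awayι_fromProj, projPiece_bcTo]
  rfl

include hd in
theorem fromProj_mem_range_chart_iff (x : CohB1.ProjSpace n S) (i : Fin (n + 1)) :
    fromProj h hs str x ∈ Set.range (chart h str hs i) ↔ x ∈ Proj.basicOpen 𝒜 (MvPolynomial.X i) := by
  obtain ⟨l, z, rfl⟩ : ∃ (l : Fin (n + 1)) (z : _),
      Proj.awayι 𝒜 (MvPolynomial.X l) (MvPolynomial.isHomogeneous_X S l) one_pos z = x :=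
    ⟨_, (projCover (n := n) (S := S)).covers x⟩
  have h0 : fromProj h hs str (Proj.awayι 𝒜 (MvPolynomial.X l) (MvPolynomial.isHomogeneous_X S l) one_pos z) =
      vecXS h str hs (frac n S l) l (frac_self n S l) z :=
    (Scheme.Hom.comp_apply _ _ _).symm.trans (congrArg (fun g => g z) (awayι_fromProj h hs str l))
  refine (iff_of_eq (congrArg (· ∈ Set.range (chart h str hs i)) h0)).trans
    ((vecXS_mem_range_chart_iff h str hs hd _ l (frac_self n S l) z i).trans ?_)
  have hpre := Proj.awayι_preimage_basicOpen 𝒜 (MvPolynomial.isHomogeneous_X S l) one_pos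
    (MvPolynomial.isHomogeneous_X S i) one_pos
  have hel : HomogeneousLocalization.Away.isLocalizationElem (MvPolynomial.isHomogeneous_X S l)
      (MvPolynomial.isHomogeneous_X S i) = frac n S l i := by
    apply val_injective
    simp only [HomogeneousLocalization.Away.isLocalizationElem, HomogeneousLocalization.Away.mk, frac, val_mk, pow_one]
  constructor
  · intro hz
    have : z ∈ Proj.awayι 𝒜 (MvPolynomial.X l) (MvPolynomial.isHomogeneous_X S l) one_pos ⁻¹ᵁ
        Proj.basicOpen 𝒜 (MvPolynomial.X i) := by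
      rw [hpre, hel]; exact hz
    exact this
  · intro hz
    have : z ∈ Proj.awayι 𝒜 (MvPolynomial.X l) (MvPolynomial.isHomogeneous_X S l) one_pos ⁻¹ᵁ
        Proj.basicOpen 𝒜 (MvPolynomial.X i) := hz
    rw [hpre, hel] at this
    exact this

include hd in
theorem isIso_fromProj : IsIso (fromProj h hs str) := by
  have hcov : ∀ i, IsOpenImmersion ((projCover (n := n) (S := S)).f i ≫ fromProj h hs str) := fun i => by
    show IsOpenImmersion (Proj.awayι 𝒜 _ _ _ ≫ fromProj h hs str)
    rw [awayι_fromProj]
    exact isOpenImmersion_projPiece h hs hd str i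
  have hinj : Function.Injective (fromProj h hs str) := by
    intro a b hab
    obtain ⟨i, hi⟩ := exists_mem_range_chart h str hs hd (fromProj h hs str a)
    have ha := (fromProj_mem_range_chart_iff h hs hd str a i).mp hi
    rw [hab] at hi
    have hb := (fromProj_mem_range_chart_iff h hs hd str b i).mp hi
    rw [← Proj.opensRange_awayι 𝒜 _ (MvPolynomial.isHomogeneous_X S i) one_pos] at ha hb
    obtain ⟨za, rfl⟩ := ha
    obtain ⟨zb, rfl⟩ := hb
    have hop := isOpenImmersion_projPiece h hs hd str i
    have e : za = zb := (projPiece h hs str i).isOpenEmbedding.injective (by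
      rw [← awayι_fromProj, Scheme.Hom.comp_apply, Scheme.Hom.comp_apply]
      exact hab)
    rw [e]
  have hop : IsOpenImmersion (fromProj h hs str) :=
    IsOpenImmersion.of_openCover_source _ (projCover (n := n) (S := S)) hinj hcov
  have hsur : Function.Surjective (fromProj h hs str) := by
    intro y
    obtain ⟨i, q, rfl⟩ := exists_mem_range_chart h str hs hd y
    let θ : chartRing S i →+* HomogeneousLocalization.Away 𝒜 (MvPolynomial.X i) :=
      ((MvPolynomial.aeval fun j : {j // j ≠ i} => frac n S i j : chartRing S i →ₐ[S] _) : _ →+* _)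
    have hθ : Function.Bijective θ := (Groth.Agent.S9576.result n S).2 i
    have : IsIso (Spec.map (CommRingCat.ofHom θ)) :=
      have : IsIso (CommRingCat.ofHom θ) := (RingEquiv.ofBijective θ hθ).toCommRingCatIso.isIso_hom
      inferInstance
    obtain ⟨z, hz⟩ := (Spec.map (CommRingCat.ofHom θ)).homeomorph.surjective q
    refine ⟨Proj.awayι 𝒜 _ (MvPolynomial.isHomogeneous_X S i) one_pos z, ?_⟩
    refine (Scheme.Hom.comp_apply _ _ z).symm.trans ((congrArg (fun g => g z) (awayι_fromProj h hs str i)).trans ?_)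
    rw [← hz, projPiece, vecXS_eq_comp_chart]
    exact Scheme.Hom.comp_apply _ _ _
  rw [isIso_iff_isOpenImmersion_and_epi_base]
  exact ⟨hop, (TopCat.epi_iff_surjective _).mpr hsur⟩

include h hs hd in
/-- A split Severi–Brauer scheme is a projective space. -/
theorem exists_iso_projSpace (str : BrSev.SBStr k A ((n + 1) * (n + 1) - (n + 1)) f) :
    ∃ e : BrSev.bc f S ≅ CohB1.ProjSpace n S, e.hom ≫ CohB1.ProjSpace.toSpec n S = BrSev.bcTo f S := by
  have := isIso_fromProj h hs hd str
  refine ⟨(asIso (fromProj h hs str)).symm, ?_⟩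
  rw [Iso.symm_hom, asIso_inv, IsIso.inv_comp_eq, fromProj_bcTo]

end Groth.Agent.Csa25
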