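import Groth.Agent.Csa25.SBKernel
import Groth.Agent.Csa25.SBProj
import Groth.Agent.Curves2.ProjLine
import Mathlib.AlgebraicGeometry.AffineSpace
import Mathlib.AlgebraicGeometry.Birational.Birational
import Mathlib.AlgebraicGeometry.FunctionField
import Mathlib.RingTheory.TensorProduct.MvPolynomial

/-!
# Products of Severi–Brauer schemes with projective spaces
-/

set_option autoImplicit false
open scoped TensorProduct
open Module CategoryTheory CategoryTheory.Limits AlgebraicGeometry

namespace Groth.Agent.Csa25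

universe u

variable {k : Type u} [Field k]

/-- An open immersion over a base. -/
def OpenImmOver {B U V : Scheme.{u}} (p : U ⟶ B) (q : V ⟶ B) : Prop :=
  ∃ j : U ⟶ V, IsOpenImmersion j ∧ j ≫ q = p

theorem OpenImmOver.trans {B U V W : Scheme.{u}} {p : U ⟶ B} {q : V ⟶ B} {r : W ⟶ B}
    (h : OpenImmOver p q) (h' : OpenImmOver q r) : OpenImmOver p r := by
  obtain ⟨j, hj, rfl⟩ := h
  obtain ⟨j', hj', rfl⟩ := h'
  exact ⟨j ≫ j', inferInstance, Category.assoc _ _ _⟩

theorem OpenImmOver.prod {B U V U' V' : Scheme.{u}} {p : U ⟶ B} {q : V ⟶ B} {p' : U' ⟶ B} {q' : V' ⟶ B}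
    (h : OpenImmOver p q) (h' : OpenImmOver p' q') :
    OpenImmOver (pullback.fst p p' ≫ p) (pullback.fst q q' ≫ q) := by
  obtain ⟨j, hj, e⟩ := h
  obtain ⟨j', hj', e'⟩ := h'
  refine ⟨pullback.map p p' q q' j j' (𝟙 _) (by simp [e]) (by simp [e']), inferInstance, ?_⟩
  rw [pullback.lift_fst_assoc, Category.assoc, e]

/-- The structure morphism of an affine scheme over `k`. -/
noncomputable abbrev specTo (k : Type u) [Field k] (R : Type u) [CommRing R] [Algebra k R] :
    Spec (CommRingCat.of R) ⟶ Spec (CommRingCat.of k) :=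
  Spec.map (CommRingCat.ofHom (algebraMap k R))

theorem openImmOver_of_algEquiv {R R' : Type u} [CommRing R] [Algebra k R] [CommRing R'] [Algebra k R']
    (e : R ≃ₐ[k] R') : OpenImmOver (specTo k R') (specTo k R) := by
  refine ⟨Spec.map (CommRingCat.ofHom (e : R →+* R')), ?_, ?_⟩
  · have : IsIso (CommRingCat.ofHom (e : R →+* R')) := e.toRingEquiv.toCommRingCatIso.isIso_hom
    infer_instance
  · rw [← Spec.map_comp, ← CommRingCat.ofHom_comp]
    exact congrArg (fun r => Spec.map (CommRingCat.ofHom r)) (e.toAlgHom.comp_algebraMap)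

section Poly

attribute [local instance] MvPolynomial.algebraMvPolynomial

variable (R : Type u) [CommRing R] [Algebra k R] (σ : Type)

theorem openImmOver_poly :
    OpenImmOver (specTo k (MvPolynomial σ R))
        (pullback.fst (specTo k R) (specTo k (MvPolynomial σ k)) ≫ specTo k R) ∧
      OpenImmOver (pullback.fst (specTo k R) (specTo k (MvPolynomial σ k)) ≫ specTo k R)
        (specTo k (MvPolynomial σ R)) := by
  have h := isPullback_SpecMap_of_isPushout _ _ _ _
    (CommRingCat.isPushout_of_isPushout k R (MvPolynomial σ k) (MvPolynomial σ R))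
  have e : Spec.map (CommRingCat.ofHom (algebraMap R (MvPolynomial σ R))) ≫ specTo k R =
      specTo k (MvPolynomial σ R) := by
    rw [← Spec.map_comp, ← CommRingCat.ofHom_comp, ← IsScalarTower.algebraMap_eq]
  refine ⟨⟨h.isoPullback.hom, inferInstance, ?_⟩, ⟨h.isoPullback.inv, inferInstance, ?_⟩⟩
  · rw [← Category.assoc, h.isoPullback_hom_fst, e]
  · rw [← e, ← Category.assoc, h.isoPullback_inv_fst]

theorem openImmOver_poly_succ (n : ℕ) :
    OpenImmOver (pullback.fst (specTo k (MvPolynomial (Fin n) R)) (specTo k (MvPolynomial (Fin 1) k)) ≫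
        specTo k (MvPolynomial (Fin n) R))
      (pullback.fst (specTo k R) (specTo k (MvPolynomial (Fin (n + 1)) k)) ≫ specTo k R) := by
  refine (openImmOver_poly (MvPolynomial (Fin n) R) (Fin 1)).2.trans
    ((openImmOver_of_algEquiv ?_).trans (openImmOver_poly R (Fin (n + 1))).1)
  exact (((MvPolynomial.renameEquiv R ((Equiv.sumComm (Fin 1) (Fin n)).trans finSumFinEquiv)).symm.trans
    (MvPolynomial.sumAlgEquiv R (Fin 1) (Fin n))).restrictScalars k)

end Poly

section ProjCharts

variable (k) (n : ℕ)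

theorem exists_projChart (i : Fin (n + 1)) :
    ∃ e : Spec (CommRingCat.of (MvPolynomial {j : Fin (n + 1) // j ≠ i} k)) ⟶ CohB1.ProjSpace n k,
      IsOpenImmersion e ∧ e ≫ CohB1.ProjSpace.toSpec n k = specTo k _ ∧
      Set.range e = SetLike.coe (Proj.basicOpen (CohB1.polyGrading n k) (MvPolynomial.X i)) := by
  let θ := MvPolynomial.eval₂Hom
    ((HomogeneousLocalization.fromZeroRingHom (CohB1.polyGrading n k) (Submonoid.powers (MvPolynomial.X i))).comp
      (algebraMap k (CohB1.polyGrading n k 0)))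
    (fun j : {j : Fin (n + 1) // j ≠ i} => frac n k i j)
  have hθ : Function.Bijective θ := (Groth.Agent.S9576.result n k).2 i
  have : IsIso (CommRingCat.ofHom θ) := (RingEquiv.ofBijective θ hθ).toCommRingCatIso.isIso_hom
  let ι := Proj.awayι (CohB1.polyGrading n k) (MvPolynomial.X i) (MvPolynomial.isHomogeneous_X k i) one_pos
  let e' : Spec (CommRingCat.of (MvPolynomial {j : Fin (n + 1) // j ≠ i} k)) ⟶ CohB1.ProjSpace n k :=
    inv (Spec.map (CommRingCat.ofHom θ)) ≫ ι
  refine ⟨e', inferInstanceAs (IsOpenImmersion (inv (Spec.map (CommRingCat.ofHom θ)) ≫ ι)), ?_, ?_⟩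
  · refine (Category.assoc _ _ _).trans ((IsIso.inv_comp_eq _).mpr ?_)
    rw [CohB1.ProjSpace.toSpec]
    refine (Category.assoc _ _ _).symm.trans ?_
    erw [Proj.awayι_toSpecZero]
    rw [← Spec.map_comp, ← Spec.map_comp, ← CommRingCat.ofHom_comp,
      ← CommRingCat.ofHom_comp]
    exact congrArg (fun r => Spec.map (CommRingCat.ofHom r))
      (RingHom.ext fun r => (MvPolynomial.eval₂Hom_C _ _ r).symm)
  · show Set.range (inv (Spec.map (CommRingCat.ofHom θ)) ≫ ι) = _
    rw [Scheme.Hom.comp_base, TopCat.coe_comp, Set.range_comp, Set.range_eq_univ.mpr, Set.image_univ]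
    · exact congrArg SetLike.coe (Proj.opensRange_awayι _ _ _ one_pos)
    · exact (Scheme.Hom.homeomorph _).surjective

theorem openImmOver_projSpace :
    OpenImmOver (specTo k (MvPolynomial (Fin n) k)) (CohB1.ProjSpace.toSpec n k) := by
  obtain ⟨e, he, he', -⟩ := exists_projChart k n 0
  exact (openImmOver_of_algEquiv (MvPolynomial.renameEquiv k (finSuccAboveEquiv (0 : Fin (n + 1))).symm)).trans
    ⟨e, he, he'⟩

theorem iSup_range_projChart (x : CohB1.ProjSpace n k) :
    ∃ i, x ∈ SetLike.coe (Proj.basicOpen (CohB1.polyGrading n k) (MvPolynomial.X i)) :=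
  TopologicalSpace.Opens.mem_iSup.mp ((Groth.Agent.S9576.result n k).1.ge trivial)

end ProjCharts

instance geometricallyIrreducible_poly (σ : Type u) :
    GeometricallyIrreducible (specTo k (MvPolynomial σ k)) := by
  have h := AffineSpace.SpecIso_inv_over (n := σ) (CommRingCat.of k)
  rw [show specTo k (MvPolynomial σ k) =
      Spec.map (CommRingCat.ofHom (MvPolynomial.C : k →+* MvPolynomial σ k)) from rfl]
  exact h ▸ (MorphismProperty.cancel_left_of_respectsIso @GeometricallyIrreducible _ _).mpr inferInstance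

theorem universallyOpen_poly (σ : Type) [Finite σ] : UniversallyOpen (specTo k (MvPolynomial σ k)) := by
  have : Flat (specTo k (MvPolynomial σ k)) :=
    (HasRingHomProperty.Spec_iff (P := @Flat)).mpr (RingHom.flat_algebraMap_iff.mpr inferInstance)
  have : LocallyOfFinitePresentation (specTo k (MvPolynomial σ k)) :=
    (HasRingHomProperty.Spec_iff (P := @LocallyOfFinitePresentation)).mpr
      (RingHom.finitePresentation_algebraMap.mpr inferInstance)
  infer_instance

theorem irreducibleSpace_pullback_poly {X : Scheme.{u}} [IrreducibleSpace X]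
    (f : X ⟶ Spec (CommRingCat.of k)) (σ : Type) [Finite σ] :
    IrreducibleSpace ↥(pullback f (specTo k (MvPolynomial σ k))) := by
  have := universallyOpen_poly (k := k) σ
  let r := MvPolynomial.renameEquiv k (Equiv.ulift.{u} (α := σ))
  have : IsIso (CommRingCat.ofHom (r : MvPolynomial (ULift.{u} σ) k →+* MvPolynomial σ k)) :=
    r.toRingEquiv.toCommRingCatIso.isIso_hom
  have : GeometricallyIrreducible (specTo k (MvPolynomial σ k)) := by
    have e : Spec.map (CommRingCat.ofHom (r : MvPolynomial (ULift.{u} σ) k →+* MvPolynomial σ k)) ≫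
        specTo k (MvPolynomial (ULift.{u} σ) k) = specTo k (MvPolynomial σ k) := by
      rw [← Spec.map_comp, ← CommRingCat.ofHom_comp]
      exact congrArg (fun r => Spec.map (CommRingCat.ofHom r)) (r.toAlgHom.comp_algebraMap)
    exact e ▸ (MorphismProperty.cancel_left_of_respectsIso @GeometricallyIrreducible _ _).mpr inferInstance
  infer_instance

/-- The product of an irreducible scheme with projective space is irreducible. -/
theorem irreducibleSpace_prod_projSpace {X : Scheme.{u}} [IrreducibleSpace X]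
    (f : X ⟶ Spec (CommRingCat.of k)) (a : ℕ) :
    IrreducibleSpace ↥(pullback f (CohB1.ProjSpace.toSpec a k)) := by
  classical
  let Q := CohB1.ProjSpace.toSpec a k
  have := Curves2.ProjLine.irreducibleSpace (k := k) a
  obtain ⟨z₀, hz₀, hz₀'⟩ := Scheme.Pullback.exists_preimage_pullback (f := f) (g := Q) (genericPoint X)
    (genericPoint (CohB1.ProjSpace a k)) (Subsingleton.elim _ _)
  choose e he he' her using exists_projChart k a
  let E : Fin (a + 1) → Set ↥(pullback f Q) := fun i => pullback.snd f Q ⁻¹' Set.range (e i)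
  have hEo : ∀ i, IsOpen (E i) := fun i =>
    (e i).isOpenEmbedding.isOpen_range.preimage (pullback.snd f Q).continuous
  have hEz : ∀ i, z₀ ∈ E i := fun i => by
    show pullback.snd f Q z₀ ∈ Set.range (e i)
    rw [hz₀']
    obtain ⟨y⟩ : Nonempty (Spec (CommRingCat.of (MvPolynomial {j : Fin (a + 1) // j ≠ i} k))) :=
      inferInstanceAs (Nonempty (PrimeSpectrum _))
    exact ((genericPoint_spec (CohB1.ProjSpace a k)).mem_open_set_iff (e i).isOpenEmbedding.isOpen_range).mpr
      ⟨e i y, trivial, y, rfl⟩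
  have hEirr : ∀ i, IsPreirreducible (E i) := by
    intro i
    let m := pullback.map f (specTo k (MvPolynomial {j : Fin (a + 1) // j ≠ i} k)) f Q (𝟙 _) (e i) (𝟙 _)
      (by simp) (by simp [Q, he'])
    have hm : Set.range m = E i := by
      have := he i
      simp only [m]
      rw [Scheme.Pullback.range_map]
      simp [E]
    have := universallyOpen_poly (k := k) {j : Fin (a + 1) // j ≠ i}
    have : IrreducibleSpace ↥(pullback f (specTo k (MvPolynomial {j : Fin (a + 1) // j ≠ i} k))) :=
      irreducibleSpace_pullback_poly f _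
    rw [← hm, ← Set.image_univ]
    exact (IrreducibleSpace.isIrreducible_univ _).isPreirreducible.image _ m.continuous.continuousOn
  refine @IrreducibleSpace.mk _ _ ⟨fun U V hU hV ⟨x, _, hx⟩ ⟨y, _, hy⟩ => ?_⟩ ⟨z₀⟩
  obtain ⟨i, hi⟩ := iSup_range_projChart k a (pullback.snd f Q x)
  obtain ⟨j, hj⟩ := iSup_range_projChart k a (pullback.snd f Q y)
  have hxi : x ∈ E i := by simp only [E, Set.mem_preimage, her]; exact hi
  have hyj : y ∈ E j := by simp only [E, Set.mem_preimage, her]; exact hj
  obtain ⟨w, hwi, hwU, hwj⟩ := hEirr i U (E j) hU (hEo j) ⟨x, hxi, hx⟩ ⟨z₀, hEz i, hEz j⟩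
  obtain ⟨v, -, hvU, hvV⟩ := hEirr j U V hU hV ⟨w, hwj, hwU⟩ ⟨y, hyj, hy⟩
  exact ⟨v, trivial, hvU, hvV⟩

/-- A scheme receiving a flat surjection from a reduced scheme is reduced. -/
theorem isReduced_of_flat_surjective {X Y : Scheme.{u}} (p : X ⟶ Y) [Flat p] [Surjective p] [IsReduced X] :
    IsReduced Y := by
  have : ∀ y, _root_.IsReduced (Y.presheaf.stalk y) := fun y => by
    obtain ⟨x, rfl⟩ := p.surjective y
    letI := (p.stalkMap x).hom.toAlgebra
    haveI : Module.Flat (Y.presheaf.stalk (p x)) (X.presheaf.stalk x) := Flat.stalkMap p x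
    haveI : IsLocalHom (algebraMap (Y.presheaf.stalk (p x)) (X.presheaf.stalk x)) :=
      inferInstanceAs (IsLocalHom (p.stalkMap x).hom)
    haveI := Module.FaithfullyFlat.of_flat_of_isLocalHom (A := Y.presheaf.stalk (p x)) (B := X.presheaf.stalk x)
    exact isReduced_of_injective (p.stalkMap x).hom
      (FaithfulSMul.algebraMap_injective (Y.presheaf.stalk (p x)) (X.presheaf.stalk x))
  exact isReduced_of_isReduced_stalk Y

section Chart

variable {A : Type u} [Ring A] [Algebra k A] [FiniteDimensional k A] {n : ℕ}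

/-- A representation over a fraction field is defined over a basic open. -/
theorem exists_rep_away {R : Type u} [CommRing R] [IsDomain R] [Algebra k R] (K : Type u) [Field K]
    [Algebra R K] [IsFractionRing R K] [Algebra k K] [IsScalarTower k R K]
    (φ : A →ₐ[k] Matrix (Fin (n + 1)) (Fin (n + 1)) K) (hφ : Function.Surjective (extRep φ)) :
    ∃ d : R, d ≠ 0 ∧ ∃ h : A →ₐ[k] Matrix (Fin (n + 1)) (Fin (n + 1)) (Localization.Away d),
      Function.Surjective (extRep h) := by
  classical
  let b := Module.finBasis k A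
  have hexp : ∀ p : Fin (n + 1) × Fin (n + 1), ∃ c : Fin (finrank k A) → K,
      Matrix.single p.1 p.2 (1 : K) = ∑ j, c j • φ (b j) := by
    intro p
    obtain ⟨t, ht⟩ := hφ (Matrix.single p.1 p.2 1)
    obtain ⟨c, hc⟩ := (Submodule.mem_span_range_iff_exists_fun K).mp
      (((b.baseChange K).mem_span t) : t ∈ Submodule.span K (Set.range (b.baseChange K)))
    refine ⟨c, ?_⟩
    rw [← ht, ← hc, map_sum]
    refine Finset.sum_congr rfl fun j _ => ?_
    rw [map_smul, Basis.baseChange_apply, extRep_tmul, one_smul]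
  choose c hc using hexp
  obtain ⟨⟨d, hd⟩, hint⟩ := IsLocalization.exist_integer_multiples_of_finite (nonZeroDivisors R)
    (Sum.elim (fun q : Fin (finrank k A) × Fin (n + 1) × Fin (n + 1) => φ (b q.1) q.2.1 q.2.2)
      (fun q : (Fin (n + 1) × Fin (n + 1)) × Fin (finrank k A) => c q.1 q.2))
  have hd0 : d ≠ 0 := nonZeroDivisors.ne_zero hd
  have hdK : IsUnit (algebraMap R K d) :=
    isUnit_iff_ne_zero.mpr ((map_ne_zero_iff _ (IsFractionRing.injective R K)).mpr hd0)
  refine ⟨d, hd0, ?_⟩
  let S := Localization.Away d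
  let ι₀ : S →+* K := IsLocalization.Away.lift d hdK
  have hι₀ : ∀ r, ι₀ (algebraMap R S r) = algebraMap R K r := fun r => IsLocalization.Away.lift_eq d hdK r
  let ι : S →ₐ[k] K := AlgHom.mk ι₀ fun a => by
    show ι₀ (algebraMap k S a) = _
    rw [IsScalarTower.algebraMap_apply k R S, hι₀, ← IsScalarTower.algebraMap_apply]
  have hinj : Function.Injective ι := by
    refine (injective_iff_map_eq_zero ι₀).mpr fun s hs => ?_
    obtain ⟨r, ⟨m, hm⟩, rfl⟩ := IsLocalization.exists_mk'_eq (Submonoid.powers d) s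
    have := congrArg (· * ι₀ (algebraMap R S m)) hs
    simp only [zero_mul, ← map_mul, IsLocalization.mk'_spec S r ⟨m, hm⟩] at this
    rw [hι₀, map_eq_zero_iff _ (IsFractionRing.injective R K)] at this
    rw [this, IsLocalization.mk'_zero]
  have hmemK : ∀ q, (Sum.elim (fun q : Fin (finrank k A) × Fin (n + 1) × Fin (n + 1) => φ (b q.1) q.2.1 q.2.2)
      (fun q : (Fin (n + 1) × Fin (n + 1)) × Fin (finrank k A) => c q.1 q.2) q) ∈ Set.range ι := by
    intro q
    obtain ⟨r, hr⟩ := hint q
    obtain ⟨u, hu⟩ := IsLocalization.Away.algebraMap_isUnit (S := S) d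
    refine ⟨algebraMap R S r * ↑u⁻¹, ?_⟩
    refine hdK.mul_right_cancel ?_
    rw [← hι₀ d, ← hu]
    show ι₀ _ * ι₀ (u : S) = _
    rw [← map_mul, mul_assoc, u.inv_mul, mul_one, hι₀, hr, hu, hι₀]
    exact (Algebra.smul_def _ _).trans (mul_comm _ _)
  let ιM := ι.mapMatrix (m := Fin (n + 1))
  have hιM : Function.Injective ιM := fun M N e => Matrix.ext fun i j => hinj (congrFun₂ e i j)
  have hrange : ∀ a, φ a ∈ ιM.range := by
    intro a
    rw [← b.sum_repr a, map_sum]
    refine Subalgebra.sum_mem _ fun j _ => ?_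
    rw [map_smul]
    refine Subalgebra.smul_mem _ ?_ _
    choose x hx using fun s t => hmemK (Sum.inl (j, s, t))
    exact ⟨Matrix.of x, Matrix.ext hx⟩
  let h := (AlgEquiv.ofInjective ιM hιM).symm.toAlgHom.comp (φ.codRestrict ιM.range hrange)
  have hh : ∀ a, ιM (h a) = φ a := fun a =>
    congrArg Subtype.val ((AlgEquiv.ofInjective ιM hιM).apply_symm_apply (φ.codRestrict ιM.range hrange a))
  refine ⟨h, fun M => ?_⟩
  have hsingle : ∀ s t, Matrix.single s t (1 : S) ∈ LinearMap.range (extRep h).toLinearMap := by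
    intro s t
    choose x hx using fun j => hmemK (Sum.inr ((s, t), j))
    refine ⟨∑ j, x j ⊗ₜ[k] b j, hιM ?_⟩
    rw [AlgHom.toLinearMap_apply, map_sum]
    simp only [extRep_tmul]
    rw [map_sum]
    have h1 : ∀ (s : S) (N : Matrix (Fin (n + 1)) (Fin (n + 1)) S), ιM (s • N) = ι s • ιM N := fun s N => by
      ext i j; simp [ιM]
    simp only [h1, hh, hx, Sum.elim_inr, ← hc (s, t)]
    ext i j
    simp [ιM, Matrix.single_apply, apply_ite ι]
  have : M ∈ LinearMap.range (extRep h).toLinearMap := by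
    rw [Matrix.matrix_eq_sum_single M]
    refine Submodule.sum_mem _ fun s _ => Submodule.sum_mem _ fun t _ => ?_
    rw [show Matrix.single s t (M s t) = M s t • Matrix.single s t (1 : S) by simp]
    exact Submodule.smul_mem _ _ (hsingle s t)
  exact this

variable [Algebra.IsCentral k A] [IsSimpleRing A]

/-- The Severi–Brauer scheme is integral. -/
theorem isIntegral_of_sbStr (hd : finrank k A = (n + 1) * (n + 1)) {X : Scheme.{u}}
    (f : X ⟶ Spec (CommRingCat.of k)) (str : BrSev.SBStr k A ((n + 1) * (n + 1) - (n + 1)) f) :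
    IsIntegral X := by
  obtain ⟨η, hη, -⟩ := exists_generic_point n.succ_pos hd str
  obtain ⟨L, hL, hG, ⟨N, hN, ⟨φ⟩⟩⟩ := exists_galois_splitting k A
  obtain rfl : N = n + 1 := by
    have h1 : finrank k A = N * N := by
      rw [← Module.finrank_baseChange (R := L), φ.toLinearEquiv.finrank_eq, Module.finrank_matrix]
      simp
    exact Nat.mul_self_inj.mp (h1.symm.trans hd)
  obtain ⟨e, -⟩ := exists_iso_projSpace (repOver φ L) (extRep_repOver_surjective φ L) hd str
  have := Curves2.ProjLine.isIntegral (k := L) n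
  have : IsReduced (BrSev.bc f L) := isReduced_of_isOpenImmersion e.hom
  have : Flat (Spec.map (CommRingCat.ofHom (algebraMap k L))) :=
    (HasRingHomProperty.Spec_iff (P := @Flat)).mpr (RingHom.flat_algebraMap_iff.mpr inferInstance)
  have : Surjective (Spec.map (CommRingCat.ofHom (algebraMap k L))) :=
    ⟨fun x => ⟨⟨⊥, Ideal.isPrime_bot⟩, Subsingleton.elim _ _⟩⟩
  have : IsReduced X := isReduced_of_flat_surjective (pullback.fst f (Spec.map (CommRingCat.ofHom (algebraMap k L))))
  have : IrreducibleSpace X :=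
    @IrreducibleSpace.mk _ _ ⟨fun U V hU hV ⟨x, _, hx⟩ ⟨y, _, hy⟩ =>
      ⟨η, trivial, (hη x).mem_open hU hx, (hη y).mem_open hV hy⟩⟩ ⟨η⟩
  exact isIntegral_of_irreducibleSpace_of_isReduced X

/-- Over the generic point of a base splitting the algebra, the product with the Severi–Brauer scheme
has affine space charts over opens of the base. -/
theorem exists_prod_chart (hd : finrank k A = (n + 1) * (n + 1)) {X Y : Scheme.{u}}
    (f : X ⟶ Spec (CommRingCat.of k)) (g : Y ⟶ Spec (CommRingCat.of k))
    (str : BrSev.SBStr k A ((n + 1) * (n + 1) - (n + 1)) f) [IsIntegral Y]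
    (hsplit : ∀ [Algebra k (Y.residueField (genericPoint Y))],
      Y.fromSpecResidueField (genericPoint Y) ≫ g =
          Spec.map (CommRingCat.ofHom (algebraMap k (Y.residueField (genericPoint Y)))) →
        Curves.Splits k A (Y.residueField (genericPoint Y)))
    (z : ↥(pullback f g)) (hz : pullback.snd f g z = genericPoint Y) :
    ∃ (S : Type u) (_ : CommRing S) (_ : Algebra k S) (c : Spec (CommRingCat.of (MvPolynomial (Fin n) S)) ⟶ pullback f g),
      OpenImmOver (specTo k S) g ∧ IsOpenImmersion c ∧ z ∈ Set.range c ∧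
        c ≫ pullback.fst f g ≫ f = specTo k (MvPolynomial (Fin n) S) := by
  classical
  obtain ⟨_, ⟨V, hV : IsAffineOpen V, rfl⟩, hηV, -⟩ :=
    Y.isBasis_affineOpens.exists_subset_of_mem_open (Set.mem_univ (genericPoint Y)) isOpen_univ
  haveI : Nonempty (V : Scheme.{u}) := ⟨⟨_, hηV⟩⟩
  let R : Type u := Γ(Y, V)
  let K : Type u := Y.functionField
  haveI : IsFractionRing R K := functionField_isFractionRing_of_isAffineOpen Y V hV
  letI : Algebra k R := (Spec.preimage (hV.fromSpec ≫ g)).hom.toAlgebra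
  letI : Algebra k K := ((algebraMap R K).comp (algebraMap k R)).toAlgebra
  haveI : IsScalarTower k R K := IsScalarTower.of_algebraMap_eq fun _ => rfl
  have hR : hV.fromSpec ≫ g = specTo k R := by
    show _ = Spec.map _
    rw [RingHom.algebraMap_toAlgebra, CommRingCat.ofHom_hom, Spec.map_preimage]
  letI : Algebra k (Y.residueField (genericPoint Y)) :=
    ((Y.residue (genericPoint Y)).hom.comp (algebraMap k K)).toAlgebra
  have hres : Function.Bijective (Y.residue (genericPoint Y)).hom :=
    ⟨(Y.residue (genericPoint Y)).hom.injective, Ideal.Quotient.mk_surjective⟩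
  let ρ : K ≃ₐ[k] Y.residueField (genericPoint Y) :=
    AlgEquiv.ofBijective (AlgHom.mk (Y.residue (genericPoint Y)).hom fun _ => rfl) hres
  have hsp : Curves.Splits k A K := by
    refine splits_of_algHom ρ.symm.toAlgHom (hsplit ?_)
    rw [Scheme.fromSpecResidueField, Category.assoc,
      ← hV.fromSpecStalk_eq_fromSpecStalk hηV, IsAffineOpen.fromSpecStalk, Category.assoc, hR,
      ← Spec.map_comp, ← Spec.map_comp]
    rfl
  obtain ⟨N, hN, ⟨ψ⟩⟩ := hsp
  obtain rfl : N = n + 1 := by
    have h1 : finrank k A = N * N := by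
      rw [← Module.finrank_baseChange (R := K), ψ.toLinearEquiv.finrank_eq, Module.finrank_matrix]
      simp
    exact Nat.mul_self_inj.mp (h1.symm.trans hd)
  let φ : A →ₐ[k] Matrix (Fin (n + 1)) (Fin (n + 1)) K :=
    (ψ.toAlgHom.restrictScalars k).comp Algebra.TensorProduct.includeRight
  have hφ : extRep φ = ψ.toAlgHom :=
    Algebra.TensorProduct.ext (by ext) (AlgHom.ext fun a => by simp [φ, extRep_tmul])
  obtain ⟨d, hd0, h, hs⟩ := exists_rep_away (R := R) K φ (fun M => ⟨ψ.symm M, by rw [hφ]; exact ψ.apply_symm_apply M⟩)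
  let S := Localization.Away d
  let v : Spec (CommRingCat.of S) ⟶ Y := Spec.map (CommRingCat.ofHom (algebraMap R S)) ≫ hV.fromSpec
  have : IsOpenImmersion v := inferInstance
  have hv : v ≫ g = specTo k S := by
    show (Spec.map _ ≫ hV.fromSpec) ≫ g = _
    rw [Category.assoc, hR, ← Spec.map_comp, ← CommRingCat.ofHom_comp, ← IsScalarTower.algebraMap_eq]
  obtain ⟨y, hy⟩ : genericPoint Y ∈ Set.range v := by
    have : Nontrivial S := (IsLocalization.injective S (M := Submonoid.powers d)
      (powers_le_nonZeroDivisors_of_noZeroDivisors hd0)).nontrivial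
    obtain ⟨y⟩ : Nonempty (Spec (CommRingCat.of S)) := inferInstanceAs (Nonempty (PrimeSpectrum S))
    exact ((genericPoint_spec Y).mem_open_set_iff v.isOpenEmbedding.isOpen_range).mpr ⟨v y, trivial, y, rfl⟩
  let m : BrSev.bc f S ⟶ pullback f g :=
    pullback.map f (specTo k S) f g (𝟙 _) v (𝟙 _) (by simp) (by simp [hv])
  obtain ⟨w, hw⟩ : z ∈ Set.range m := by
    simp only [m]
    rw [Scheme.Pullback.range_map]
    exact ⟨⟨_, rfl⟩, ⟨y, hy.trans hz.symm⟩⟩
  obtain ⟨i, q, hq⟩ := exists_mem_range_chart h str hs hd w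
  have := isOpenImmersion_chart h str hs hd i
  let r := (MvPolynomial.renameEquiv S (finSuccAboveEquiv i).symm).restrictScalars k
  let j := Spec.map (CommRingCat.ofHom (r : chartRing S i →+* MvPolynomial (Fin n) S))
  have : IsIso (CommRingCat.ofHom (r : chartRing S i →+* MvPolynomial (Fin n) S)) :=
    r.toRingEquiv.toCommRingCatIso.isIso_hom
  have hje : j ≫ specTo k (chartRing S i) = specTo k (MvPolynomial (Fin n) S) := by
    rw [← Spec.map_comp, ← CommRingCat.ofHom_comp]
    exact congrArg (fun r => Spec.map (CommRingCat.ofHom r)) (r.toAlgHom.comp_algebraMap)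
  have hjs : Function.Surjective j := j.surjective
  obtain ⟨q', hq'⟩ := hjs q
  refine ⟨S, inferInstance, inferInstance, j ≫ chart h str hs i ≫ m, ⟨v, inferInstance, hv⟩,
    inferInstance, ⟨q', ?_⟩, ?_⟩
  · rw [Scheme.Hom.comp_apply, Scheme.Hom.comp_apply, hq', hq, hw]
  · have e : chart h str hs i ≫ m ≫ pullback.fst f g ≫ f = specTo k (chartRing S i) := by
      show _ ≫ pullback.map _ _ _ _ _ _ _ _ _ ≫ _ = _
      rw [pullback.lift_fst_assoc, Category.comp_id, pullback.condition, ← Category.assoc, chart, vecXS,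
        show pullback.snd f (specTo k S) = BrSev.bcTo f S from rfl, toXS_bcTo, ← Spec.map_comp,
        ← CommRingCat.ofHom_comp, ← IsScalarTower.algebraMap_eq]
    rw [Category.assoc, Category.assoc, e, hje]

end Chart

/-- Two schemes with a common open piece, both irreducible, are birational. -/
theorem birationalOver_of_openImmOver {B U X Y : Scheme.{u}} [Nonempty U] [IrreducibleSpace X]
    [IrreducibleSpace Y] {p : U ⟶ B} {sX : X ⟶ B} {sY : Y ⟶ B} (hX : OpenImmOver p sX)
    (hY : OpenImmOver p sY) : Scheme.BirationalOver sX sY := by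
  obtain ⟨j, hj, e⟩ := hX
  obtain ⟨j', hj', e'⟩ := hY
  refine ⟨{ source := j.opensRange
            dense_source := j.opensRange.isOpen.dense ⟨_, ‹Nonempty U›.some, rfl⟩
            target := j'.opensRange
            dense_target := j'.opensRange.isOpen.dense ⟨_, ‹Nonempty U›.some, rfl⟩
            iso := j.isoOpensRange.symm ≪≫ j'.isoOpensRange }, ?_⟩
  show (j.isoOpensRange.inv ≫ j'.isoOpensRange.hom) ≫ j'.opensRange.ι ≫ sY = j.opensRange.ι ≫ sX
  rw [Category.assoc, Scheme.Hom.isoOpensRange_hom_ι_assoc, e', ← e, Scheme.Hom.isoOpensRange_inv_comp_assoc]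

theorem openImmOver_prod_projSpace {S : Type u} [CommRing S] [Algebra k S] {n : ℕ} {Y Z : Scheme.{u}}
    {g : Y ⟶ Spec (CommRingCat.of k)} (hv : OpenImmOver (specTo k S) g) {p : Z ⟶ Spec (CommRingCat.of k)}
    (c : Spec (CommRingCat.of (MvPolynomial (Fin n) S)) ⟶ Z) [IsOpenImmersion c]
    (hc : c ≫ p = specTo k _) (W : Z.Opens) (hW : (W : Set Z) ⊆ Set.range c) :
    OpenImmOver (pullback.fst (W.ι ≫ p) (specTo k (MvPolynomial (Fin 1) k)) ≫ W.ι ≫ p)
      (pullback.fst g (CohB1.ProjSpace.toSpec (n + 1) k) ≫ g) := by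
  have h1 : OpenImmOver (W.ι ≫ p) (specTo k (MvPolynomial (Fin n) S)) := by
    refine ⟨IsOpenImmersion.lift c W.ι (by rwa [Scheme.Opens.range_ι]), inferInstance, ?_⟩
    rw [← hc, ← Category.assoc, IsOpenImmersion.lift_fac]
  refine (h1.prod (⟨𝟙 _, inferInstance, Category.id_comp _⟩ :
    OpenImmOver (specTo k (MvPolynomial (Fin 1) k)) (specTo k (MvPolynomial (Fin 1) k)))).trans ?_
  exact (openImmOver_poly_succ S n).trans (hv.prod (openImmOver_projSpace k (n + 1)))

end Groth.Agent.Csa25
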