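import Groth.Prelude.Def_CohB1
import Groth.Agent.EGAProj74.BaseChange
import Mathlib.AlgebraicGeometry.ProjectiveSpectrum.Functor
import Mathlib.LinearAlgebra.Matrix.NonsingularInverse
import Mathlib.RingTheory.MvPolynomial.Ideal
import Mathlib.RingTheory.TensorProduct.MvPolynomial

/-!
# Semilinear substitutions of homogeneous coordinates
-/

set_option autoImplicit false
open CategoryTheory CategoryTheory.Limits AlgebraicGeometry HomogeneousLocalization

namespace Groth.Agent.Csa25

universe u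

variable {n : ℕ} {R R' R'' : Type u} [CommRing R] [CommRing R'] [CommRing R'']

/-- The linear form in the `j`th column of a matrix. -/
noncomputable def linForm (g : Matrix (Fin (n + 1)) (Fin (n + 1)) R) (j : Fin (n + 1)) :
    MvPolynomial (Fin (n + 1)) R :=
  ∑ i, MvPolynomial.C (g i j) * MvPolynomial.X i

theorem linForm_isHomogeneous (g : Matrix (Fin (n + 1)) (Fin (n + 1)) R) (j : Fin (n + 1)) :
    (linForm g j).IsHomogeneous 1 :=
  MvPolynomial.IsHomogeneous.sum _ _ _ fun i _ => by
    simpa using (MvPolynomial.isHomogeneous_C _ (g i j)).mul (MvPolynomial.isHomogeneous_X _ i)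

theorem linForm_one (j : Fin (n + 1)) : linForm (1 : Matrix (Fin (n + 1)) (Fin (n + 1)) R) j = MvPolynomial.X j := by
  rw [linForm, Finset.sum_eq_single j] <;> simp +contextual [Matrix.one_apply]

theorem linForm_diagonal (c : Fin (n + 1) → R) (j : Fin (n + 1)) :
    linForm (Matrix.diagonal c) j = MvPolynomial.C (c j) * MvPolynomial.X j := by
  rw [linForm, Finset.sum_eq_single j] <;> simp +contextual [Matrix.diagonal_apply]

theorem coeff_linForm (g : Matrix (Fin (n + 1)) (Fin (n + 1)) R) (i j : Fin (n + 1)) :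
    MvPolynomial.coeff (Finsupp.single i 1) (linForm g j) = g i j := by
  classical
  rw [linForm, MvPolynomial.coeff_sum, Finset.sum_eq_single i] <;>
    simp +contextual [MvPolynomial.coeff_C_mul, MvPolynomial.coeff_X', Finsupp.single_left_inj]

/-- The graded homomorphism substituting the columns of `g` for the variables. -/
noncomputable def linHom (θ : R →+* R') (g : Matrix (Fin (n + 1)) (Fin (n + 1)) R') :
    CohB1.polyGrading n R →+*ᵍ CohB1.polyGrading n R' where
  __ := MvPolynomial.eval₂Hom (MvPolynomial.C.comp θ) (linForm g)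
  map_mem {i x} hx := by
    have := (MvPolynomial.mem_homogeneousSubmodule _ _).mp hx
    refine (MvPolynomial.mem_homogeneousSubmodule _ _).mpr ?_
    have h := this.eval₂ (MvPolynomial.C.comp θ) (linForm g)
      (fun r => MvPolynomial.isHomogeneous_C _ (θ r)) (linForm_isHomogeneous g)
    rwa [one_mul] at h

theorem linHom_X (θ : R →+* R') (g : Matrix (Fin (n + 1)) (Fin (n + 1)) R') (j : Fin (n + 1)) :
    linHom θ g (MvPolynomial.X j) = linForm g j := MvPolynomial.eval₂Hom_X' _ _ j

theorem linHom_C (θ : R →+* R') (g : Matrix (Fin (n + 1)) (Fin (n + 1)) R') (r : R) :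
    linHom θ g (MvPolynomial.C r) = MvPolynomial.C (θ r) := MvPolynomial.eval₂Hom_C _ _ r

theorem linHom_linForm (θ : R →+* R') (g : Matrix (Fin (n + 1)) (Fin (n + 1)) R')
    (h : Matrix (Fin (n + 1)) (Fin (n + 1)) R) (j : Fin (n + 1)) :
    linHom θ g (linForm h j) = linForm (g * h.map θ) j := by
  have e : ∀ p, linHom θ g p = MvPolynomial.eval₂Hom (MvPolynomial.C.comp θ) (linForm g) p := fun _ => rfl
  rw [e, linForm, map_sum]
  simp only [map_mul, MvPolynomial.eval₂Hom_C, MvPolynomial.eval₂Hom_X', RingHom.comp_apply]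
  simp only [linForm, Finset.mul_sum]
  rw [Finset.sum_comm]
  refine Finset.sum_congr rfl fun i _ => ?_
  rw [Matrix.mul_apply, map_sum, Finset.sum_mul]
  refine Finset.sum_congr rfl fun l _ => ?_
  rw [Matrix.map_apply, map_mul]
  ring

theorem gradedRingHom_ext {f f' : CohB1.polyGrading n R →+*ᵍ CohB1.polyGrading n R'}
    (hC : ∀ r, f (MvPolynomial.C r) = f' (MvPolynomial.C r))
    (hX : ∀ j, f (MvPolynomial.X j) = f' (MvPolynomial.X j)) : f = f' := by
  refine DFunLike.ext _ _ fun x => ?_
  exact RingHom.congr_fun (MvPolynomial.ringHom_ext (f := f.toRingHom) (g := f'.toRingHom) hC hX) x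

theorem linHom_comp (θ : R →+* R') (θ' : R' →+* R'') (g : Matrix (Fin (n + 1)) (Fin (n + 1)) R')
    (g' : Matrix (Fin (n + 1)) (Fin (n + 1)) R'') :
    (linHom θ' g').comp (linHom θ g) = linHom (θ'.comp θ) (g' * g.map θ') := by
  refine gradedRingHom_ext (fun r => ?_) (fun j => ?_)
  · show linHom θ' g' (linHom θ g (MvPolynomial.C r)) = _
    rw [linHom_C, linHom_C, linHom_C]; rfl
  · show linHom θ' g' (linHom θ g (MvPolynomial.X j)) = _
    rw [linHom_X, linHom_linForm, linHom_X]

theorem linHom_id : linHom (n := n) (RingHom.id R) 1 = GradedRingHom.id _ := by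
  refine gradedRingHom_ext (fun r => ?_) (fun j => ?_)
  · exact linHom_C _ _ r
  · exact (linHom_X _ _ j).trans (linForm_one j)

theorem irrelevant_le_span_X :
    (HomogeneousIdeal.irrelevant (CohB1.polyGrading n R)).toIdeal ≤
      Ideal.span (Set.range (MvPolynomial.X : Fin (n + 1) → MvPolynomial (Fin (n + 1)) R)) := by
  intro p hp
  have hp0 : MvPolynomial.coeff 0 p = 0 := by
    have h0 := (HomogeneousIdeal.mem_irrelevant_iff _ p).mp hp
    have h1 : MvPolynomial.homogeneousComponent 0 p = 0 := by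
      rw [← MvPolynomial.decomposition.decompose'_apply p 0]
      exact h0
    simpa [MvPolynomial.homogeneousComponent_zero] using h1
  rw [← Set.image_univ, MvPolynomial.mem_ideal_span_X_image]
  intro m hm
  by_contra! h
  obtain rfl : m = 0 := Finsupp.ext fun j => h j (Set.mem_univ j)
  exact MvPolynomial.mem_support_iff.mp hm hp0

theorem irrelevant_le_map_linHom (θ : R →+* R') {g : Matrix (Fin (n + 1)) (Fin (n + 1)) R'} (hg : IsUnit g) :
    HomogeneousIdeal.irrelevant (CohB1.polyGrading n R') ≤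
      (HomogeneousIdeal.irrelevant (CohB1.polyGrading n R)).map (linHom θ g) := by
  intro p hp
  refine (irrelevant_le_span_X.trans (Ideal.span_le.mpr ?_) : _) hp
  rintro _ ⟨i, rfl⟩
  obtain ⟨u, rfl⟩ := hg
  have hL : ∀ j, linForm (u : Matrix _ _ R') j ∈
      ((HomogeneousIdeal.irrelevant (CohB1.polyGrading n R)).map (linHom θ (u : Matrix _ _ R'))).toIdeal :=
    fun j => linHom_X θ (u : Matrix _ _ R') j ▸ Ideal.mem_map_of_mem _
      (HomogeneousIdeal.mem_irrelevant_of_mem _ one_pos (MvPolynomial.isHomogeneous_X R j))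
  have he : MvPolynomial.X i = ∑ j, MvPolynomial.C ((↑u⁻¹ : Matrix _ _ R') j i) * linForm (u : Matrix _ _ R') j := by
    rw [← linForm_one i, ← u.mul_inv]
    simp only [linForm, Finset.mul_sum]
    rw [Finset.sum_comm]
    refine Finset.sum_congr rfl fun l _ => ?_
    rw [Matrix.mul_apply, map_sum, Finset.sum_mul]
    exact Finset.sum_congr rfl fun j _ => by rw [map_mul]; ring
  rw [he]
  exact Ideal.sum_mem _ fun j _ => Ideal.mul_mem_left _ _ (hL j)

/-- The semilinear substitution as a morphism of projective spaces. -/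
noncomputable def linMap (θ : R →+* R') (g : Matrix (Fin (n + 1)) (Fin (n + 1)) R') (hg : IsUnit g) :
    CohB1.ProjSpace n R' ⟶ CohB1.ProjSpace n R :=
  Proj.map (linHom θ g) (irrelevant_le_map_linHom θ hg)

theorem linMap_congr {θ θ' : R →+* R'} {g g' : Matrix (Fin (n + 1)) (Fin (n + 1)) R'} {hg : IsUnit g}
    {hg' : IsUnit g'} (h₁ : θ = θ') (h₂ : g = g') : linMap θ g hg = linMap θ' g' hg' := by
  subst h₁ h₂; rfl

theorem isUnit_mul_map {θ' : R' →+* R''} {g : Matrix (Fin (n + 1)) (Fin (n + 1)) R'}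
    {g' : Matrix (Fin (n + 1)) (Fin (n + 1)) R''} (hg : IsUnit g) (hg' : IsUnit g') :
    IsUnit (g' * g.map θ') :=
  hg'.mul (hg.map θ'.mapMatrix)

theorem linMap_comp (θ : R →+* R') (θ' : R' →+* R'') {g : Matrix (Fin (n + 1)) (Fin (n + 1)) R'}
    {g' : Matrix (Fin (n + 1)) (Fin (n + 1)) R''} (hg : IsUnit g) (hg' : IsUnit g') :
    linMap θ' g' hg' ≫ linMap θ g hg = linMap (θ'.comp θ) (g' * g.map θ') (isUnit_mul_map hg hg') := by
  refine (Proj.map_comp (linHom θ g) (linHom θ' g') (irrelevant_le_map_linHom θ hg)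
    (irrelevant_le_map_linHom θ' hg')).symm.trans ?_
  simp only [linMap, linHom_comp]

theorem linMap_id : linMap (n := n) (RingHom.id R) 1 isUnit_one = 𝟙 _ := by
  refine Eq.trans ?_ Proj.map_id
  simp only [linMap, linHom_id]

theorem isIso_linMap (σ : R ≃+* R') {g : Matrix (Fin (n + 1)) (Fin (n + 1)) R'} (hg : IsUnit g) :
    IsIso (linMap (σ : R →+* R') g hg) := by
  obtain ⟨u, rfl⟩ := hg
  have h2 : IsUnit ((↑u⁻¹ : Matrix (Fin (n + 1)) (Fin (n + 1)) R').map σ.symm) :=
    u⁻¹.isUnit.map (σ.symm : R' →+* R).mapMatrix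
  refine ⟨linMap (σ.symm : R' →+* R) _ h2, ?_, ?_⟩
  · rw [linMap_comp, ← linMap_id]
    refine linMap_congr (by ext; simp) ?_
    rw [Matrix.map_map]
    simp [Function.comp_def]
  · rw [linMap_comp, ← linMap_id]
    refine linMap_congr (by ext; simp) ?_
    show _ * (σ.symm : R' →+* R).mapMatrix (u.val) = _
    rw [show ((↑u⁻¹ : Matrix (Fin (n + 1)) (Fin (n + 1)) R').map σ.symm) =
      (σ.symm : R' →+* R).mapMatrix (↑u⁻¹ : Matrix _ _ R') from rfl, ← map_mul, u.inv_mul, map_one]

theorem awayι_linMap (θ : R →+* R') (g : Matrix (Fin (n + 1)) (Fin (n + 1)) R') (hg : IsUnit g)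
    (i : Fin (n + 1)) :
    Proj.awayι (CohB1.polyGrading n R') (linHom θ g (MvPolynomial.X i))
        ((linHom θ g).map_mem (MvPolynomial.isHomogeneous_X R i)) one_pos ≫ linMap θ g hg =
      Spec.map (CommRingCat.ofHom (Away.map (linHom θ g) (MvPolynomial.X i))) ≫
        Proj.awayι (CohB1.polyGrading n R) (MvPolynomial.X i) (MvPolynomial.isHomogeneous_X R i) one_pos :=
  Proj.awayι_comp_map _ _ one_pos _ _

theorem linMap_preimage_basicOpen (θ : R →+* R') (g : Matrix (Fin (n + 1)) (Fin (n + 1)) R') (hg : IsUnit g)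
    (i : Fin (n + 1)) :
    linMap θ g hg ⁻¹ᵁ Proj.basicOpen (CohB1.polyGrading n R) (MvPolynomial.X i) =
      Proj.basicOpen (CohB1.polyGrading n R') (linForm g i) := by
  rw [← linHom_X θ g i]
  exact Proj.map_preimage_basicOpen _ _ _

theorem linMap_toSpec_aux (θ : R →+* R') (g : Matrix (Fin (n + 1)) (Fin (n + 1)) R') (hg : IsUnit g)
    (d : ℕ) (t : MvPolynomial (Fin (n + 1)) R) (ht : t ∈ CohB1.polyGrading n R d) (hd : 0 < d) :
    Proj.awayι (CohB1.polyGrading n R') (linHom θ g t) ((linHom θ g).map_mem ht) hd ≫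
        linMap θ g hg ≫ CohB1.ProjSpace.toSpec n R =
      Proj.awayι (CohB1.polyGrading n R') (linHom θ g t) ((linHom θ g).map_mem ht) hd ≫
        CohB1.ProjSpace.toSpec n R' ≫ Spec.map (CommRingCat.ofHom θ) := by
  show _ ≫ Proj.map (linHom θ g) _ ≫ Proj.toSpecZero (CohB1.polyGrading n R) ≫
      Spec.map (CommRingCat.ofHom (algebraMap R (CohB1.polyGrading n R 0))) =
    _ ≫ (Proj.toSpecZero (CohB1.polyGrading n R') ≫
      Spec.map (CommRingCat.ofHom (algebraMap R' (CohB1.polyGrading n R' 0)))) ≫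
      Spec.map (CommRingCat.ofHom θ)
  rw [Proj.awayι_comp_map_assoc (linHom θ g) _ hd t ht, Category.assoc, Proj.awayι_toSpecZero_assoc,
    Proj.awayι_toSpecZero_assoc]
  simp only [← Spec.map_comp, ← CommRingCat.ofHom_comp]
  refine congrArg (fun r => Spec.map (CommRingCat.ofHom r)) (RingHom.ext fun r => ?_)
  apply val_injective
  change val (Away.map (linHom θ g) _ (HomogeneousLocalization.mk _)) = val (HomogeneousLocalization.mk _)
  rw [Away.map, HomogeneousLocalization.map_mk]
  simp only [val_mk, SetLike.GradeZero.coe_one, map_one]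
  exact congrArg (fun b => Localization.mk b _) (linHom_C θ g r)

theorem linMap_toSpec (θ : R →+* R') (g : Matrix (Fin (n + 1)) (Fin (n + 1)) R') (hg : IsUnit g) :
    linMap θ g hg ≫ CohB1.ProjSpace.toSpec n R =
      CohB1.ProjSpace.toSpec n R' ≫ Spec.map (CommRingCat.ofHom θ) := by
  refine (Proj.mapAffineOpenCover (linHom θ g) (irrelevant_le_map_linHom θ hg)).openCover.hom_ext _ _ fun s => ?_
  exact linMap_toSpec_aux θ g hg s.1 s.2.1 s.2.2 s.1.2

/-- Coefficient extension is a base change. -/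
theorem isPullback_linMap_one {R R' : Type u} [CommRing R] [CommRing R'] [Algebra R R'] :
    IsPullback (linMap (n := n) (algebraMap R R') 1 isUnit_one) (CohB1.ProjSpace.toSpec n R')
      (CohB1.ProjSpace.toSpec n R) (Spec.map (CommRingCat.ofHom (algebraMap R R'))) := by
  letI : Algebra (MvPolynomial (Fin (n + 1)) R) (MvPolynomial (Fin (n + 1)) R') :=
    MvPolynomial.algebraMvPolynomial
  have hf : (linHom (n := n) (algebraMap R R') 1 : MvPolynomial (Fin (n + 1)) R →+* MvPolynomial (Fin (n + 1)) R') =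
      algebraMap (MvPolynomial (Fin (n + 1)) R) (MvPolynomial (Fin (n + 1)) R') := by
    refine MvPolynomial.ringHom_ext (fun r => ?_) (fun j => ?_)
    · exact (linHom_C _ _ r).trans (MvPolynomial.map_C _ r).symm
    · exact ((linHom_X _ _ j).trans (linForm_one j)).trans (MvPolynomial.map_X _ j).symm
  have h := CommRingCat.isPushout_of_isPushout R R' (MvPolynomial (Fin (n + 1)) R) (MvPolynomial (Fin (n + 1)) R')
  rw [← hf] at h
  exact EGAProj74.isPullback_map (linHom (n := n) (algebraMap R R') 1)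
    (CommRingCat.ofHom (algebraMap R R')) (CommRingCat.ofHom (algebraMap R (CohB1.polyGrading n R 0)))
    (CommRingCat.ofHom (algebraMap R' (CohB1.polyGrading n R' 0))) h _

end Groth.Agent.Csa25
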