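import Groth.Agent.Csa25.ProjLin
import Groth.Agent.Csa25.SBProj
import Groth.Agent.Curves2.ProjLine
import Groth.Agent.Curves2.ProjLineProper
import Groth.Agent.VarGal.ProjDim
import Mathlib.Algebra.MvPolynomial.Nilpotent
import Mathlib.RingTheory.Polynomial.UniqueFactorization

/-!
# Automorphisms of projective space are linear
-/

set_option autoImplicit false
open CategoryTheory CategoryTheory.Limits AlgebraicGeometry HomogeneousLocalization
open scoped Groth.Agent.Csa25

namespace Groth.Agent.Csa25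

universe u

variable {K : Type u} [Field K] {n : ℕ}

local notation "P" => CohB1.ProjSpace n K
local notation "𝒜" => CohB1.polyGrading n K
local notation "Pol" => MvPolynomial (Fin (n + 1)) K

/-- The chart ring is a polynomial ring. -/
noncomputable def awayEquiv (i : Fin (n + 1)) :
    MvPolynomial {j : Fin (n + 1) // j ≠ i} K ≃ₐ[K] Away 𝒜 (MvPolynomial.X i) :=
  AlgEquiv.ofBijective (MvPolynomial.aeval fun j => frac n K i j.1) ((Groth.Agent.S9576.result n K).2 i)

theorem awayEquiv_X (i : Fin (n + 1)) (j : {j : Fin (n + 1) // j ≠ i}) :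
    awayEquiv i (MvPolynomial.X j) = frac n K i j.1 := MvPolynomial.aeval_X _ j

theorem exists_C_of_isHomogeneous_zero {A : Pol} (hA : A.IsHomogeneous 0) : ∃ c, A = MvPolynomial.C c :=
  ⟨_, MvPolynomial.totalDegree_eq_zero_iff_eq_C.mp ((MvPolynomial.totalDegree_zero_iff_isHomogeneous (Fin (n + 1))).2 hA)⟩

theorem degree_pos_of_not_isUnit {F : Pol} {e : ℕ} (hF : F.IsHomogeneous e) (hF0 : F ≠ 0) (hu : ¬IsUnit F) : 0 < e := by
  rcases Nat.eq_zero_or_pos e with rfl | he
  · obtain ⟨c, rfl⟩ := exists_C_of_isHomogeneous_zero hF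
    exact absurd ((isUnit_iff_ne_zero.mpr (by rintro rfl; simp at hF0)).map _) hu
  · exact he

section Degree

variable {F : MvPolynomial (Fin (n + 1)) K} {e : ℕ} (hFh : F ∈ CohB1.polyGrading n K e) (hF : Prime F)

include hFh hF in
theorem exists_reduced (x : Away 𝒜 F) :
    ∃ (r : ℕ) (A : Pol) (hA : A ∈ 𝒜 (r • e)), x = Away.mk 𝒜 hFh r A hA ∧ (r = 0 ∨ ¬F ∣ A) := by
  obtain ⟨r, A, hA, rfl⟩ := Away.mk_surjective 𝒜 hFh x
  induction r generalizing A with
  | zero => exact ⟨0, A, hA, rfl, Or.inl rfl⟩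
  | succ r ih =>
    by_cases hd : F ∣ A
    · obtain ⟨B, rfl⟩ := hd
      by_cases hB0 : B = 0
      · subst hB0
        refine ⟨0, 0, zero_mem _, ?_, Or.inl rfl⟩
        apply val_injective
        simp [Localization.mk_zero]
      have hF0 := hF.ne_zero
      obtain ⟨b, hb⟩ := VarGal.exists_isHomogeneous_of_dvd hA (mul_ne_zero hF0 hB0) (Dvd.intro_left F rfl)
      have hdeg : b = r • e := by
        have := (hFh.mul hb).inj_right hA (mul_ne_zero hF0 hB0)
        simp only [smul_eq_mul] at this ⊢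
        rw [Nat.succ_mul] at this; omega
      subst hdeg
      have hb' : B ∈ 𝒜 (r • e) := hb
      obtain ⟨r', A', hA', h1, h2⟩ := ih B hb'
      refine ⟨r', A', hA', h1 ▸ ?_, h2⟩
      apply val_injective
      rw [Away.val_mk, Away.val_mk, Localization.mk_eq_mk_iff, Localization.r_iff_exists]
      exact ⟨1, by simp [pow_succ]; ring⟩
    · exact ⟨r + 1, A, hA, rfl, Or.inr hd⟩

include hF in
theorem mk_mul_mk_eq {r s t : ℕ} {A B C : Pol} {hA : A ∈ 𝒜 (r • e)} {hB : B ∈ 𝒜 (s • e)} {hC : C ∈ 𝒜 (t • e)}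
    (h : Away.mk 𝒜 hFh r A hA * Away.mk 𝒜 hFh s B hB = Away.mk 𝒜 hFh t C hC) :
    A * B * F ^ t = C * F ^ (r + s) := by
  have := congrArg val h
  rw [val_mul, Away.val_mk, Away.val_mk, Away.val_mk, Localization.mk_mul, Localization.mk_eq_mk_iff,
    Localization.r_iff_exists] at this
  obtain ⟨⟨_, m, rfl⟩, hm⟩ := this
  simp only [Submonoid.coe_mul] at hm
  have := mul_left_cancel₀ (pow_ne_zero m hF.ne_zero) hm
  rw [pow_add]
  linear_combination this

include hF in
theorem isUnit_or_of_mul_eq {r s : ℕ} {A B C : Pol} {hA : A ∈ 𝒜 (r • e)} {hB : B ∈ 𝒜 (s • e)}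
    (hA' : r = 0 ∨ ¬F ∣ A) (hB' : s = 0 ∨ ¬F ∣ B) (hC : ¬F ∣ C)
    (h : A * B * F = C * F ^ (r + s)) :
    IsUnit (Away.mk 𝒜 hFh r A hA) ∨ IsUnit (Away.mk 𝒜 hFh s B hB) := by
  have hzero : ∀ {A : Pol} (hA : A ∈ 𝒜 (0 • e)), A ≠ 0 → IsUnit (Away.mk 𝒜 hFh 0 A hA) := by
    intro A hA hA0
    obtain ⟨c, rfl⟩ := exists_C_of_isHomogeneous_zero (A := A)
      ((MvPolynomial.mem_homogeneousSubmodule _ _).mp (by simpa using hA))
    have hc : c ≠ 0 := by rintro rfl; simp at hA0
    refine IsUnit.of_mul_eq_one (Away.mk 𝒜 hFh 0 (MvPolynomial.C c⁻¹) (by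
      simpa using MvPolynomial.isHomogeneous_C (Fin (n + 1)) c⁻¹)) ?_
    apply val_injective
    rw [val_mul, Away.val_mk, Away.val_mk, Localization.mk_mul, val_one, ← Localization.mk_one,
      Localization.mk_eq_mk_iff, Localization.r_iff_exists]
    exact ⟨1, by simp [← map_mul, mul_inv_cancel₀ hc]⟩
  have hC0 : C ≠ 0 := fun h => hC (h ▸ dvd_zero F)
  have hAB : A ≠ 0 ∧ B ≠ 0 := by
    refine mul_ne_zero_iff.mp fun h0 => ?_
    rw [h0, zero_mul] at h
    exact mul_ne_zero hC0 (pow_ne_zero _ hF.ne_zero) h.symm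
  rcases Nat.eq_zero_or_pos r with rfl | hr
  · exact Or.inl (hzero hA hAB.1)
  rcases Nat.eq_zero_or_pos s with rfl | hs
  · exact Or.inr (hzero hB hAB.2)
  exfalso
  have h2 : r + s = 1 + (1 + (r + s - 2)) := by omega
  rw [h2, pow_add, pow_one, mul_comm C, mul_comm (A * B), mul_assoc] at h
  have h3 := mul_left_cancel₀ hF.ne_zero h
  have hd : F ∣ A * B := h3 ▸ (dvd_pow_self F (by omega)).mul_right C
  rcases hF.dvd_or_dvd hd with hd | hd
  · exact (hA'.resolve_left (by omega)) hd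
  · exact (hB'.resolve_left (by omega)) hd

include hF in
theorem irreducible_mk_one {C : Pol} (hC : C ∈ 𝒜 (1 • e)) (hd : ¬F ∣ C) :
    Irreducible (Away.mk 𝒜 hFh 1 C hC) := by
  refine ⟨fun hu => ?_, fun a b hab => ?_⟩
  · obtain ⟨b, hb⟩ := hu.exists_right_inv
    obtain ⟨s, B, hB, rfl, hB'⟩ := exists_reduced hFh hF b
    have h1 : (1 : Away 𝒜 F) = Away.mk 𝒜 hFh 0 1 (by rw [zero_smul]; exact MvPolynomial.isHomogeneous_one (Fin (n + 1)) K) := by
      apply val_injective
      rw [val_one, Away.val_mk, ← Localization.mk_one, Localization.mk_eq_mk_iff, Localization.r_iff_exists]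
      exact ⟨1, by simp⟩
    rw [h1] at hb
    have h := mk_mul_mk_eq hFh hF hb
    rw [pow_zero, mul_one, one_mul] at h
    have hd' : F ∣ C * B := h ▸ dvd_pow_self F (by omega)
    rcases hF.dvd_or_dvd hd' with hd' | hd'
    · exact hd hd'
    · rcases Nat.eq_zero_or_pos s with rfl | hs
      · rw [add_zero, pow_one] at h
        obtain ⟨b, rfl⟩ := exists_C_of_isHomogeneous_zero (A := B)
          ((MvPolynomial.mem_homogeneousSubmodule _ _).mp (by simpa using hB))
        have hb0 : b ≠ 0 := by rintro rfl; simp [eq_comm] at h; exact hF.ne_zero h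
        have hu : IsUnit (MvPolynomial.C b : Pol) := (isUnit_iff_ne_zero.mpr hb0).map _
        exact hF.not_isUnit (isUnit_of_dvd_unit hd' hu)
      · exact (hB'.resolve_left (by omega)) hd'
  · obtain ⟨r, A, hA, rfl, hA'⟩ := exists_reduced hFh hF a
    obtain ⟨s, B, hB, rfl, hB'⟩ := exists_reduced hFh hF b
    have h := mk_mul_mk_eq hFh hF hab.symm
    rw [pow_one] at h
    exact isUnit_or_of_mul_eq hFh hF hA' hB' hd h

include hFh hF in
/-- The degree of a hypersurface with factorial complement is one. -/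
theorem degree_eq_one [IsDomain (Away 𝒜 F)] [UniqueFactorizationMonoid (Away 𝒜 F)] (hn : 0 < n) : e = 1 := by
  by_contra hne
  have he : 2 ≤ e := by
    have := degree_pos_of_not_isUnit hFh hF.ne_zero hF.not_isUnit
    omega
  obtain ⟨l, hl⟩ : ∃ l : Fin (n + 1), ¬F ∣ MvPolynomial.X l := by
    by_contra! h
    have h01 : (⟨0, by omega⟩ : Fin (n + 1)) ≠ ⟨1, by omega⟩ := by simp
    have ha := fun l => hF.irreducible.associated_of_dvd (MvPolynomial.X_prime (R := K) (i := l)).irreducible (h l)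
    have hass := (ha ⟨0, by omega⟩).symm.trans (ha ⟨1, by omega⟩)
    obtain ⟨u, hu⟩ := hass
    obtain ⟨c, hc, hcu⟩ := MvPolynomial.isUnit_iff_eq_C_of_isReduced.mp u.isUnit
    rw [hcu] at hu
    have h1 := congrArg (MvPolynomial.coeff (Finsupp.single (⟨1, by omega⟩ : Fin (n + 1)) 1)) hu
    rw [mul_comm, MvPolynomial.coeff_C_mul, MvPolynomial.coeff_X', MvPolynomial.coeff_X', if_pos rfl,
      if_neg (fun h => h01 (Finsupp.single_left_injective one_ne_zero h)), mul_zero] at h1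
    exact zero_ne_one h1
  obtain ⟨m, hm⟩ : ∃ m : Fin (n + 1), m ≠ l := by
    haveI : Nontrivial (Fin (n + 1)) := Fin.nontrivial_iff_two_le.mpr (by omega)
    exact exists_ne l
  have hXe : ¬F ∣ MvPolynomial.X l ^ e := fun h => hl (hF.dvd_of_dvd_pow h)
  let Cf : Pol := MvPolynomial.X l ^ e
  let Cg : Pol := MvPolynomial.X l * MvPolynomial.X m ^ (e - 1)
  have hCf : Cf ∈ 𝒜 (1 • e) := by simpa [Cf] using (MvPolynomial.isHomogeneous_X K l).pow e
  have hCg : Cg ∈ 𝒜 (1 • e) := by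
    have := (MvPolynomial.isHomogeneous_X K l).mul ((MvPolynomial.isHomogeneous_X K m).pow (e - 1))
    rw [one_mul, Nat.add_sub_cancel' (by omega)] at this
    simpa [Cg] using this
  have hCh : (MvPolynomial.X m ^ (e * (e - 1)) : Pol) ∈ 𝒜 ((e - 1) • e) := by
    have := (MvPolynomial.isHomogeneous_X K m).pow (e * (e - 1))
    rw [one_mul] at this
    rw [smul_eq_mul, mul_comm]
    exact this
  have hdvd : Away.mk 𝒜 hFh 1 Cf hCf ∣ Away.mk 𝒜 hFh 1 Cg hCg := by
    refine (irreducible_mk_one hFh hF hCf hXe).prime.dvd_of_dvd_pow (n := e)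
      ⟨Away.mk 𝒜 hFh (e - 1) _ hCh, ?_⟩
    apply val_injective
    rw [val_pow, val_mul, Away.val_mk, Away.val_mk, Away.val_mk, Localization.mk_mul, Localization.mk_pow,
      Localization.mk_eq_mk_iff, Localization.r_iff_exists]
    refine ⟨1, ?_⟩
    obtain ⟨e', rfl⟩ : ∃ e', e = e' + 1 := ⟨e - 1, by omega⟩
    simp [Cf, Cg, mul_pow, ← pow_mul]
    ring
  obtain ⟨b, hb⟩ := hdvd
  obtain ⟨s, B, hB, rfl, hB'⟩ := exists_reduced hFh hF b
  have h := mk_mul_mk_eq hFh hF hb.symm
  rw [pow_one] at h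
  rcases Nat.eq_zero_or_pos s with rfl | hs
  · obtain ⟨c, rfl⟩ := exists_C_of_isHomogeneous_zero (A := B)
      ((MvPolynomial.mem_homogeneousSubmodule _ _).mp (by simpa using hB))
    rw [add_zero, pow_one] at h
    have h := congrArg (MvPolynomial.eval fun j => if j = m then 0 else 1) (mul_right_cancel₀ hF.ne_zero h)
    simp [Cf, Cg, hm, hm.symm, show e - 1 ≠ 0 by omega] at h
    subst h
    simp at hb
    have hz : (Away.mk 𝒜 hFh 1 Cg hCg).val = 0 := by
      rw [hb, val_mul, Away.val_mk _ 0, Localization.mk_zero, mul_zero]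
    rw [Away.val_mk, ← Localization.mk_zero 1, Localization.mk_eq_mk_iff, Localization.r_iff_exists] at hz
    obtain ⟨⟨_, j, rfl⟩, hj⟩ := hz
    simp [Cg, hF.ne_zero] at hj
  · rw [show 1 + s = 1 + (1 + (s - 1)) by omega, pow_add, pow_one, mul_comm Cg, mul_comm (Cf * B), mul_assoc] at h
    have h3 := mul_left_cancel₀ hF.ne_zero h
    have hd : F ∣ Cf * B := h3 ▸ (dvd_pow_self F (by omega)).mul_right Cg
    rcases hF.dvd_or_dvd hd with hd | hd
    · exact hXe hd
    · exact (hB'.resolve_left (by omega)) hd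

end Degree

section Preimage

/-- The point cut out by a prime homogeneous polynomial. -/
theorem exists_point_span {F : Pol} {e : ℕ} (hFh : F.IsHomogeneous e) (hF : Prime F) (hn : 0 < n) :
    ∃ w : P, w.asHomogeneousIdeal.toIdeal = Ideal.span {F} := by
  refine ⟨⟨⟨Ideal.span {F},
    Ideal.homogeneous_span _ _ (by rintro _ rfl; exact ⟨e, hFh⟩)⟩,
    (Ideal.span_singleton_prime hF.ne_zero).mpr hF, fun hle => ?_⟩, rfl⟩
  have hX : ∀ l : Fin (n + 1), F ∣ MvPolynomial.X l := fun l =>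
    Ideal.mem_span_singleton.mp (hle (HomogeneousIdeal.mem_irrelevant_of_mem _ one_pos
      (MvPolynomial.isHomogeneous_X K l)))
  have ha := fun l => hF.irreducible.associated_of_dvd (MvPolynomial.X_prime (R := K) (i := l)).irreducible (hX l)
  obtain ⟨u, hu⟩ := (ha ⟨0, by omega⟩).symm.trans (ha ⟨1, by omega⟩)
  obtain ⟨c, hc, hcu⟩ := MvPolynomial.isUnit_iff_eq_C_of_isReduced.mp u.isUnit
  rw [hcu] at hu
  have h1 := congrArg (MvPolynomial.coeff (Finsupp.single (⟨1, by omega⟩ : Fin (n + 1)) 1)) hu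
  rw [mul_comm, MvPolynomial.coeff_C_mul, MvPolynomial.coeff_X', MvPolynomial.coeff_X', if_pos rfl,
    if_neg (fun h => by simpa using Finsupp.single_left_injective one_ne_zero h), mul_zero] at h1
  exact zero_ne_one h1

theorem specializes_iff_le {x y : P} :
    x ⤳ y ↔ x.asHomogeneousIdeal.toIdeal ≤ y.asHomogeneousIdeal.toIdeal :=
  (specializes_iff_mem_closure.trans (ProjectiveSpectrum.le_iff_mem_closure 𝒜 x y).symm)

theorem exists_irreducible_mem (z : P) (hz : z.asHomogeneousIdeal.toIdeal ≠ ⊥) :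
    ∃ (F : Pol) (e : ℕ), F.IsHomogeneous e ∧ Prime F ∧ F ∈ z.asHomogeneousIdeal.toIdeal := by
  classical
  obtain ⟨g, hg, hg0⟩ := Submodule.exists_mem_ne_zero_of_ne_bot hz
  obtain ⟨d, hd⟩ : ∃ d, MvPolynomial.homogeneousComponent d g ≠ 0 := by
    by_contra! h
    exact hg0 (by rw [← MvPolynomial.sum_homogeneousComponent g]; simp [h])
  have hgd : MvPolynomial.homogeneousComponent d g ∈ z.asHomogeneousIdeal.toIdeal := by
    rw [← MvPolynomial.decomposition.decompose'_apply g d]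
    exact z.asHomogeneousIdeal.isHomogeneous d hg
  obtain ⟨f, hf1, hf2⟩ := UniqueFactorizationMonoid.exists_prime_factors _ hd
  have hfm : f.prod ∈ z.asHomogeneousIdeal.toIdeal := by
    obtain ⟨u, hu⟩ := hf2
    rw [← hu] at hgd
    exact (z.isPrime.mem_or_mem hgd).resolve_right fun h =>
      z.isPrime.ne_top (Ideal.eq_top_of_isUnit_mem _ h u.isUnit)
  obtain ⟨F, hFf, hFmem⟩ := (z.isPrime.multiset_prod_mem_iff_exists_mem f).mp hfm
  have hFg := And.intro (hf1 F hFf) ((Multiset.dvd_prod hFf).trans hf2.dvd)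
  obtain ⟨e, he⟩ := VarGal.exists_isHomogeneous_of_dvd (MvPolynomial.homogeneousComponent_isHomogeneous d g) hd hFg.2
  exact ⟨F, e, he, hFg.1, hFmem⟩

theorem exists_linear_preimage (φ : P ≅ P) (i : Fin (n + 1)) :
    ∃ L : Pol, L.IsHomogeneous 1 ∧ φ.hom ⁻¹ᵁ Proj.basicOpen 𝒜 (MvPolynomial.X i) = Proj.basicOpen 𝒜 L := by
  rcases Nat.eq_zero_or_pos n with rfl | hn
  · refine ⟨MvPolynomial.X i, MvPolynomial.isHomogeneous_X K i, ?_⟩
    have : (Proj.basicOpen (CohB1.polyGrading 0 K) (MvPolynomial.X i) : (CohB1.ProjSpace 0 K).Opens) = ⊤ := by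
      rw [eq_top_iff, ← (Groth.Agent.S9576.result 0 K).1]
      exact iSup_le fun j => (Fin.subsingleton_one.elim j i) ▸ le_rfl
    rw [this]; rfl
  obtain ⟨q, hq⟩ := exists_point_span (MvPolynomial.isHomogeneous_X K i) MvPolynomial.X_prime hn
  let ψ := φ.hom.homeomorph
  let z := ψ.symm q
  have hgen : ∀ y : P, y ⤳ q → y = q ∨ y.asHomogeneousIdeal.toIdeal = ⊥ := by
    intro y hy
    rw [specializes_iff_le, hq] at hy
    by_cases hX : (MvPolynomial.X i : Pol) ∈ y.asHomogeneousIdeal.toIdeal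
    · refine Or.inl (ProjectiveSpectrum.ext (HomogeneousIdeal.toIdeal_injective ?_))
      rw [hq]
      exact le_antisymm hy ((Ideal.span_singleton_le_iff_mem _).mpr hX)
    · refine Or.inr (eq_bot_iff.mpr fun a ha => ?_)
      by_contra ha0
      obtain ⟨c, b, hb, rfl⟩ := WfDvdMonoid.max_power_factor ha0 (MvPolynomial.X_prime (R := K) (i := i)).irreducible
      rcases y.isPrime.mem_or_mem ha with h | h
      · exact hX (y.isPrime.mem_of_pow_mem _ h)
      · exact hb (Ideal.mem_span_singleton.mp (hy h))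
  have hzb : z.asHomogeneousIdeal.toIdeal ≠ ⊥ := by
    intro hz
    obtain ⟨x, hx⟩ : ∃ x : P, x.asHomogeneousIdeal.toIdeal = ⊥ :=
      ⟨z, hz⟩
    have h2 : q ⤳ ψ (ψ.symm q) := by rw [ψ.apply_symm_apply]
    have h3 : ∀ y, q ⤳ y := fun y => by
      have h := (specializes_iff_le (x := z) (y := ψ.symm y)).mpr (hz ▸ bot_le)
      have h := h.map ψ.continuous
      rwa [ψ.apply_symm_apply, ψ.apply_symm_apply] at h
    have := Curves2.ProjLine.irreducibleSpace (k := K) n
    have hgp := h3 (genericPoint P)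
    have heq : q = genericPoint P := (hgp.antisymm ((genericPoint_spec P).specializes trivial)).eq
    obtain ⟨m, hm⟩ : ∃ m : Fin (n + 1), m ≠ i := by
      haveI : Nontrivial (Fin (n + 1)) := Fin.nontrivial_iff_two_le.mpr (by omega)
      exact exists_ne i
    obtain ⟨q', hq'⟩ := exists_point_span (MvPolynomial.isHomogeneous_X K m) MvPolynomial.X_prime hn
    have h4 := (specializes_iff_le.mp (h3 q'))
    rw [hq, hq'] at h4
    have h5 := Ideal.mem_span_singleton.mp (h4 (Ideal.mem_span_singleton_self _))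
    rw [MvPolynomial.X_dvd_X] at h5
    simp [hm] at h5
  obtain ⟨F, e, hFh, hF, hFz⟩ := exists_irreducible_mem z hzb
  obtain ⟨w, hw⟩ := exists_point_span hFh hF hn
  have hwz : w ⤳ z := specializes_iff_le.mpr (hw ▸ (Ideal.span_singleton_le_iff_mem _).mpr hFz)
  have hwz' : w = z := by
    rcases hgen (ψ w) (by simpa [z] using hwz.map ψ.continuous) with h | h
    · exact ψ.injective (h.trans (ψ.apply_symm_apply q).symm)
    · exfalso
      have hall : ∀ y, w ⤳ y := fun y => by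
        have := ((specializes_iff_le (x := ψ w) (y := ψ y)).mpr (h ▸ bot_le)).map ψ.symm.continuous
        simpa using this
      have : Ideal.span {F} = ⊥ := by
        obtain ⟨g, hg⟩ : ∃ g : P, g.asHomogeneousIdeal.toIdeal = ⊥ := ⟨ψ w, h⟩
        exact eq_bot_iff.mpr (hw ▸ hg ▸ specializes_iff_le.mp (hall g))
      exact hF.ne_zero (Ideal.span_singleton_eq_bot.mp this)
  subst hwz'
  have hpre : φ.hom ⁻¹ᵁ Proj.basicOpen 𝒜 (MvPolynomial.X i) = Proj.basicOpen 𝒜 F := by
    ext y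
    show MvPolynomial.X i ∉ (φ.hom y).asHomogeneousIdeal.toIdeal ↔ F ∉ y.asHomogeneousIdeal.toIdeal
    refine not_congr ?_
    rw [← Ideal.span_singleton_le_iff_mem, ← hq, ← Ideal.span_singleton_le_iff_mem, ← hw,
      ← specializes_iff_le, ← specializes_iff_le]
    constructor
    · intro h
      have := h.map ψ.symm.continuous
      rwa [show ψ.symm (φ.hom y) = y from ψ.symm_apply_apply y] at this
    · intro h
      have := h.map ψ.continuous
      rwa [ψ.apply_symm_apply] at this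
  have he : 0 < e := degree_pos_of_not_isUnit hFh hF.ne_zero hF.not_isUnit
  have : IsIso φ.hom := inferInstance
  let U : (CohB1.ProjSpace n K).Opens := Proj.basicOpen 𝒜 (MvPolynomial.X i)
  let U' : (CohB1.ProjSpace n K).Opens := Proj.basicOpen 𝒜 F
  have hU : φ.hom ⁻¹ᵁ U = U' := hpre
  have : IsIso (φ.hom.app U) := inferInstance
  let iso : CommRingCat.of (Away 𝒜 (MvPolynomial.X i : Pol)) ≅ CommRingCat.of (Away 𝒜 F) :=
    Proj.basicOpenIsoAway 𝒜 _ (MvPolynomial.isHomogeneous_X K i) one_pos ≪≫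
      @asIso _ _ _ _ (φ.hom.app U) this ≪≫
      (CohB1.ProjSpace n K).presheaf.mapIso (eqToIso hU.symm).op ≪≫ (Proj.basicOpenIsoAway 𝒜 F hFh he).symm
  let r : MvPolynomial {j : Fin (n + 1) // j ≠ i} K ≃+* Away 𝒜 F :=
    (awayEquiv i).toRingEquiv.trans iso.commRingCatIsoToRingEquiv
  haveI : IsDomain (Away 𝒜 F) := r.symm.toMulEquiv.isDomain _
  haveI : UniqueFactorizationMonoid (Away 𝒜 F) := r.toMulEquiv.uniqueFactorizationMonoid inferInstance
  exact ⟨F, degree_eq_one hFh hF hn ▸ hFh, hpre⟩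

end Preimage

section Linear

theorem X_mem (i : Fin (n + 1)) : (MvPolynomial.X i : Pol) ∈ 𝒜 1 := MvPolynomial.isHomogeneous_X K i

theorem linForm_mem (g : Matrix (Fin (n + 1)) (Fin (n + 1)) K) (j : Fin (n + 1)) : linForm g j ∈ 𝒜 1 :=
  linForm_isHomogeneous g j

theorem isDomain_away (i : Fin (n + 1)) : IsDomain (Away 𝒜 (MvPolynomial.X i : Pol)) :=
  (awayEquiv (K := K) i).symm.toRingEquiv.toMulEquiv.isDomain _

/-- A quotient of two linear forms. -/
noncomputable def ratio {L : Pol} (hL : L ∈ 𝒜 1) {M : Pol} (hM : M ∈ 𝒜 1) : Away 𝒜 L :=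
  Away.mk 𝒜 hL 1 M (by rwa [one_smul])

theorem val_ratio {L : Pol} (hL : L ∈ 𝒜 1) {M : Pol} (hM : M ∈ 𝒜 1) :
    (ratio hL hM).val = Localization.mk M ⟨L, (Submonoid.mem_powers L : L ∈ Submonoid.powers L)⟩ := by
  rw [ratio, Away.val_mk]
  simp


/-- A point annihilating the forms vanishing at a vector. -/
theorem exists_point_of_vec (v : Fin (n + 1) → K) (hv : v ≠ 0) :
    ∃ x : P, ∀ (d : ℕ) (p : Pol), p.IsHomogeneous d →
      (p ∈ x.asHomogeneousIdeal.toIdeal ↔ MvPolynomial.eval v p = 0) := by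
  let ψ : Pol →+* Polynomial K := (Polynomial.mapRingHom (MvPolynomial.eval v)).comp
    (VarGal.scaleHom K n).toRingHom
  have hc : ∀ (p : Pol) (j : ℕ),
      (ψ p).coeff j = MvPolynomial.eval v (MvPolynomial.homogeneousComponent j p) := fun p j => by
    show (Polynomial.map _ _).coeff j = _
    rw [Polynomial.coeff_map]
    exact congrArg _ (VarGal.coeff_scaleHom p j)
  have hh : ∀ (d : ℕ) (p : Pol), p.IsHomogeneous d → (ψ p = 0 ↔ MvPolynomial.eval v p = 0) := by
    intro d p hp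
    show Polynomial.map _ _ = 0 ↔ _
    rw [show (VarGal.scaleHom K n).toRingHom p = _ from VarGal.scaleHom_of_isHomogeneous hp,
      Polynomial.map_monomial, Polynomial.monomial_eq_zero_iff]
  have hhom : (RingHom.ker ψ).IsHomogeneous 𝒜 := by
    intro i p hp
    have hd : (DirectSum.decompose 𝒜 p i : Pol) = MvPolynomial.homogeneousComponent i p :=
      MvPolynomial.decomposition.decompose'_apply p i
    rw [hd, RingHom.mem_ker, hh i _ (MvPolynomial.homogeneousComponent_isHomogeneous i p), ← hc,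
      RingHom.mem_ker.mp hp, Polynomial.coeff_zero]
  refine ⟨⟨⟨RingHom.ker ψ, hhom⟩, RingHom.ker_isPrime ψ, fun hle => hv (funext fun j => ?_)⟩, hh⟩
  have h : ψ (MvPolynomial.X j) = 0 :=
    hle (HomogeneousIdeal.mem_irrelevant_of_mem _ one_pos (MvPolynomial.isHomogeneous_X K j))
  simpa using (hh 1 _ (MvPolynomial.isHomogeneous_X K j)).mp h

theorem isHomogeneous_one_eq_sum {p : Pol} (hp : p.IsHomogeneous 1) :
    ∃ a : Fin (n + 1) → K, p = ∑ j, MvPolynomial.C (a j) * MvPolynomial.X j := by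
  classical
  have hp' : p ∈ Submodule.span K (Set.range (MvPolynomial.X : Fin (n + 1) → Pol)) := by
    rw [← MvPolynomial.homogeneousSubmodule_one_eq_span_X]
    exact hp
  obtain ⟨a, ha⟩ := (Submodule.mem_span_range_iff_exists_fun K).mp hp'
  exact ⟨a, by simp [← ha, MvPolynomial.smul_eq_C_mul]⟩

/-- A substitution fixing a coordinate, on its chart. -/
theorem exists_chart_linMap (θ : K →+* K) (g : Matrix (Fin (n + 1)) (Fin (n + 1)) K) (hg : IsUnit g)
    (i : Fin (n + 1)) (hi : linForm g i = MvPolynomial.X i) :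
    ∃ γ : Away 𝒜 (MvPolynomial.X i : Pol) →+* Away 𝒜 (MvPolynomial.X i : Pol),
      Proj.awayι 𝒜 (MvPolynomial.X i) (X_mem i) one_pos ≫ linMap θ g hg =
        Spec.map (CommRingCat.ofHom γ) ≫
          Proj.awayι 𝒜 (MvPolynomial.X i) (X_mem i) one_pos ∧
      ∀ j, γ (frac n K i j) = ratio (X_mem i) (linForm_mem g j) := by
  suffices H : ∀ (L : Pol) (hL : L ∈ 𝒜 1), linHom θ g (MvPolynomial.X i) = L →
      ∃ γ : Away 𝒜 (MvPolynomial.X i : Pol) →+* Away 𝒜 L,
        Proj.awayι 𝒜 L hL one_pos ≫ linMap θ g hg =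
          Spec.map (CommRingCat.ofHom γ) ≫
            Proj.awayι 𝒜 (MvPolynomial.X i) (X_mem i) one_pos ∧
        ∀ j, γ (frac n K i j) = ratio hL (linForm_mem g j) from
    H _ _ ((linHom_X θ g i).trans hi)
  rintro L hL rfl
  refine ⟨Away.map (linHom θ g) (MvPolynomial.X i), awayι_linMap θ g hg i, fun j => ?_⟩
  apply val_injective
  rw [frac, Away.map, HomogeneousLocalization.map_mk, val_mk, val_ratio]
  exact congrArg (fun a => Localization.mk a _) (linHom_X θ g j)

theorem awayι_toSpec (i : Fin (n + 1)) :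
    Proj.awayι 𝒜 (MvPolynomial.X i) (X_mem i) one_pos ≫ CohB1.ProjSpace.toSpec n K =
      Spec.map (CommRingCat.ofHom (algebraMap K (Away 𝒜 (MvPolynomial.X i : Pol)))) := by
  refine (Category.assoc _ _ _).symm.trans ?_
  rw [Proj.awayι_toSpecZero, ← Spec.map_comp, ← CommRingCat.ofHom_comp, awayAlgebraMap_eq]

theorem frac_ne_zero (i j : Fin (n + 1)) : frac n K i j ≠ 0 := by
  intro h
  have h := congrArg val h
  rw [frac, val_mk, val_zero, ← Localization.mk_zero 1, Localization.mk_eq_mk_iff,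
    Localization.r_iff_exists] at h
  obtain ⟨⟨_, m, rfl⟩, hm⟩ := h
  simp at hm

theorem isLocalizationElem_eq (i j : Fin (n + 1)) :
    (Away.isLocalizationElem (X_mem i) (X_mem j) : Away 𝒜 (MvPolynomial.X i : Pol)) =
      frac n K i j := by
  apply val_injective
  rw [frac, Away.val_mk, val_mk]
  simp

/-- An automorphism over the base preserving the coordinate hyperplanes is diagonal. -/
theorem eq_diagonal_of_preserves (φ : P ≅ P)
    (hφ : φ.hom ≫ CohB1.ProjSpace.toSpec n K = CohB1.ProjSpace.toSpec n K)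
    (hD : ∀ i, φ.hom ⁻¹ᵁ Proj.basicOpen 𝒜 (MvPolynomial.X i) = Proj.basicOpen 𝒜 (MvPolynomial.X i)) :
    ∃ (c : Fin (n + 1) → K) (hg : IsUnit (Matrix.diagonal c)),
      c 0 = 1 ∧ φ.hom = linMap (RingHom.id K) (Matrix.diagonal c) hg := by
  classical
  let Aw := Away 𝒜 (MvPolynomial.X (0 : Fin (n + 1)) : Pol)
  let ι₀ : Spec (CommRingCat.of Aw) ⟶ CohB1.ProjSpace n K :=
    Proj.awayι 𝒜 (MvPolynomial.X 0) (X_mem 0) one_pos
  haveI : IsDomain Aw := isDomain_away 0
  have hι₀ : IsOpenImmersion ι₀ :=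
    inferInstanceAs (IsOpenImmersion (Proj.awayι 𝒜 (MvPolynomial.X (0 : Fin (n + 1))) (X_mem 0) one_pos))
  have hr : Set.range ι₀ = SetLike.coe (Proj.basicOpen 𝒜 (MvPolynomial.X (0 : Fin (n + 1)))) :=
    congrArg SetLike.coe (Proj.opensRange_awayι 𝒜 _ (X_mem 0) one_pos)
  have hrange : Set.range (ι₀ ≫ φ.hom) = Set.range ι₀ := by
    rw [Scheme.Hom.comp_base, TopCat.coe_comp, Set.range_comp, hr]
    conv_lhs => rw [← hD 0]
    exact Set.image_preimage_eq (SetLike.coe (Proj.basicOpen 𝒜 (MvPolynomial.X (0 : Fin (n + 1))))) φ.hom.surjective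
  let β := IsOpenImmersion.isoOfRangeEq (ι₀ ≫ φ.hom) ι₀ hrange
  have hβ : β.hom ≫ ι₀ = ι₀ ≫ φ.hom := IsOpenImmersion.isoOfRangeEq_hom_fac _ _ _
  let a := Spec.preimage β.hom
  let a' := Spec.preimage β.inv
  have ha : Spec.map a = β.hom := Spec.map_preimage _
  have ha' : Spec.map a' = β.inv := Spec.map_preimage _
  let αe : Aw ≃+* Aw := RingEquiv.ofRingHom a.hom a'.hom
    (congrArg CommRingCat.Hom.hom (Spec.map_injective (a₁ := a' ≫ a) (a₂ := 𝟙 _) (by
      rw [Spec.map_comp, ha, ha', β.hom_inv_id, Spec.map_id])))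
    (congrArg CommRingCat.Hom.hom (Spec.map_injective (a₁ := a ≫ a') (a₂ := 𝟙 _) (by
      rw [Spec.map_comp, ha, ha', β.inv_hom_id, Spec.map_id])))
  have hC : ∀ r : K, a.hom (algebraMap K Aw r) = algebraMap K Aw r := by
    intro r
    have h : CommRingCat.ofHom (algebraMap K Aw) ≫ a = CommRingCat.ofHom (algebraMap K Aw) := by
      apply Spec.map_injective
      rw [Spec.map_comp, ha]
      have hs := awayι_toSpec (K := K) (0 : Fin (n + 1))
      change ι₀ ≫ _ = _ at hs
      rw [← hs, ← Category.assoc, hβ, Category.assoc, hφ]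
    exact congrArg (fun m => (CommRingCat.Hom.hom m) r) h
  have hopen : ∀ j, PrimeSpectrum.basicOpen (a.hom (frac n K 0 j)) = PrimeSpectrum.basicOpen (frac n K 0 j) := by
    intro j
    have h := Proj.awayι_preimage_basicOpen 𝒜 (f := (MvPolynomial.X (0 : Fin (n + 1)) : Pol))
      (X_mem 0) one_pos (X_mem j) one_pos
    rw [isLocalizationElem_eq] at h
    ext x
    have e1 : ∀ y, y ∈ PrimeSpectrum.basicOpen (frac n K 0 j) ↔
        ι₀ y ∈ Proj.basicOpen 𝒜 (MvPolynomial.X j) := fun y => (SetLike.ext_iff.mp h y).symm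
    have e2 : x ∈ PrimeSpectrum.basicOpen (a.hom (frac n K 0 j)) ↔
        (Spec.map a x) ∈ PrimeSpectrum.basicOpen (frac n K 0 j) := Iff.rfl
    have e3 : ι₀ (Spec.map a x) = φ.hom (ι₀ x) := by
      exact congrArg (fun m : Spec (CommRingCat.of Aw) ⟶ CohB1.ProjSpace n K => m x)
        ((congrArg (· ≫ ι₀) ha).trans hβ)
    refine e2.trans ((e1 _).trans (Iff.trans ?_ (e1 x).symm))
    rw [e3]
    exact SetLike.ext_iff.mp (hD j) (ι₀ x)
  have hdiag : ∀ j, ∃ c : K, c ≠ 0 ∧ a.hom (frac n K 0 j) = algebraMap K Aw c * frac n K 0 j := by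
    intro j
    by_cases hj : j = 0
    · subst hj; exact ⟨1, one_ne_zero, by rw [frac_self, map_one, map_one, mul_one]⟩
    have hp : Prime (frac n K 0 j) := by
      rw [← awayEquiv_X 0 ⟨j, hj⟩]
      exact (MulEquiv.prime_iff (awayEquiv (K := K) (0 : Fin (n + 1))).toRingEquiv.toMulEquiv).mpr MvPolynomial.X_prime
    have hp' : Prime (αe.toMulEquiv (frac n K 0 j)) := (MulEquiv.prime_iff αe.toMulEquiv).mpr hp
    have hle := (PrimeSpectrum.basicOpen_le_basicOpen_iff _ _).mp (hopen j).le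
    obtain ⟨m, hm⟩ := hle
    have hdvd := hp.dvd_of_dvd_pow (Ideal.mem_span_singleton.mp hm)
    obtain ⟨u, hu⟩ : Associated (frac n K 0 j) (a.hom (frac n K 0 j)) := hp.associated_of_dvd hp' hdvd
    have hun : IsUnit ((awayEquiv (0 : Fin (n + 1))).symm (u : Aw)) :=
      u.isUnit.map (awayEquiv (K := K) (0 : Fin (n + 1))).symm
    obtain ⟨c, hc, hcu⟩ := MvPolynomial.isUnit_iff_eq_C_of_isReduced.mp hun
    refine ⟨c, hc.ne_zero, ?_⟩
    rw [← hu, mul_comm]
    congr 1
    apply (awayEquiv (0 : Fin (n + 1))).symm.injective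
    rw [hcu, AlgEquiv.commutes]
    rfl
  choose c hc0 hc using hdiag
  have hc00 : c 0 = 1 := by
    have h := hc 0
    rw [frac_self, map_one, mul_one] at h
    exact ((algebraMap K Aw).injective ((map_one _).trans h)).symm
  have hg : IsUnit (Matrix.diagonal c) := by
    rw [Matrix.isUnit_iff_isUnit_det, Matrix.det_diagonal]
    exact isUnit_iff_ne_zero.mpr (Finset.prod_ne_zero_iff.mpr fun j _ => hc0 j)
  refine ⟨c, hg, hc00, ?_⟩
  obtain ⟨γ, hγ, hγf⟩ := exists_chart_linMap (RingHom.id K) _ hg 0 (by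
    rw [linForm_diagonal, hc00, map_one, one_mul])
  change ι₀ ≫ _ = Spec.map _ ≫ ι₀ at hγ
  have hγC : ∀ r : K, γ (algebraMap K Aw r) = algebraMap K Aw r := by
    intro r
    have h : CommRingCat.ofHom (algebraMap K Aw) ≫ CommRingCat.ofHom γ = CommRingCat.ofHom (algebraMap K Aw) := by
      apply Spec.map_injective
      rw [Spec.map_comp]
      have hs := awayι_toSpec (K := K) (0 : Fin (n + 1))
      change ι₀ ≫ _ = _ at hs
      rw [← hs, ← Category.assoc, ← hγ, Category.assoc, linMap_toSpec, CommRingCat.ofHom_id, Spec.map_id,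
        Category.comp_id]
    exact congrArg (fun m => (CommRingCat.Hom.hom m) r) h
  have heq : a.hom = γ := by
    have h2 : a.hom.comp (awayEquiv (0 : Fin (n + 1))).toAlgHom.toRingHom =
        γ.comp (awayEquiv (0 : Fin (n + 1))).toAlgHom.toRingHom := by
      refine MvPolynomial.ringHom_ext (fun r => ?_) (fun j => ?_)
      · show a.hom (awayEquiv 0 (MvPolynomial.C r)) = γ (awayEquiv 0 (MvPolynomial.C r))
        rw [show (MvPolynomial.C r : MvPolynomial {j : Fin (n + 1) // j ≠ 0} K) = algebraMap K _ r from rfl,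
          AlgEquiv.commutes, hC, hγC]
      · show a.hom (awayEquiv 0 (MvPolynomial.X j)) = γ (awayEquiv 0 (MvPolynomial.X j))
        rw [awayEquiv_X, hc, hγf]
        apply val_injective
        rw [val_mul, frac, val_mk, val_ratio]
        show Localization.mk _ _ * _ = _
        rw [Localization.mk_mul, Localization.mk_eq_mk_iff, Localization.r_iff_exists]
        refine ⟨1, ?_⟩
        simp [linForm_diagonal]
    refine RingHom.ext fun x => ?_
    obtain ⟨y, rfl⟩ := (awayEquiv (K := K) (0 : Fin (n + 1))).surjective x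
    exact RingHom.congr_fun h2 y
  have hag : ι₀ ≫ φ.hom = ι₀ ≫ linMap (RingHom.id K) (Matrix.diagonal c) hg := by
    rw [← hβ, hγ, ← ha, ← heq, CommRingCat.ofHom_hom]
  have := Curves2.ProjLine.isIntegral (k := K) n
  have := Curves2.ProjLine.isProper_toSpec K n
  have : Nontrivial Aw := ⟨⟨frac n K 0 0, 0, frac_ne_zero 0 0⟩⟩
  have : IsDominant ι₀ := by
    refine ⟨ι₀.isOpenEmbedding.isOpen_range.dense ?_⟩
    exact Set.range_nonempty _ (h := inferInstanceAs (Nonempty (PrimeSpectrum Aw)))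
  refine ext_of_isDominant_of_isSeparated (CohB1.ProjSpace.toSpec n K) ?_ ι₀ hag
  rw [hφ, linMap_toSpec, CommRingCat.ofHom_id, Spec.map_id, Category.comp_id]

/-- Semilinear automorphisms of projective space are substitutions. -/
theorem exists_eq_linMap (σ : K ≃+* K) (φ : P ≅ P)
    (hφ : φ.hom ≫ CohB1.ProjSpace.toSpec n K =
      CohB1.ProjSpace.toSpec n K ≫ Spec.map (CommRingCat.ofHom (σ : K →+* K))) :
    ∃ (g : Matrix (Fin (n + 1)) (Fin (n + 1)) K) (hg : IsUnit g), φ.hom = linMap (σ : K →+* K) g hg := by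
  classical
  choose L hL hD using fun i => exists_linear_preimage φ i
  choose a ha using fun i => isHomogeneous_one_eq_sum (hL i)
  let g : Matrix (Fin (n + 1)) (Fin (n + 1)) K := Matrix.of fun i j => a j i
  have hgL : ∀ j, linForm g j = L j := fun j => (ha j).symm
  have hg : IsUnit g := by
    rw [Matrix.isUnit_iff_isUnit_det, isUnit_iff_ne_zero]
    intro hdet
    obtain ⟨v, hv, hvg⟩ := Matrix.exists_vecMul_eq_zero_iff.mpr hdet
    obtain ⟨x, hx⟩ := exists_point_of_vec v hv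
    obtain ⟨i, hi⟩ : ∃ i, φ.hom x ∈ Proj.basicOpen 𝒜 (MvPolynomial.X i) :=
      TopologicalSpace.Opens.mem_iSup.mp ((Groth.Agent.S9576.result n K).1.ge trivial)
    have h1 : x ∈ Proj.basicOpen 𝒜 (L i) := (SetLike.ext_iff.mp (hD i) x).mp hi
    refine h1 ((hx 1 _ (hL i)).mpr ?_)
    rw [ha i, map_sum]
    refine Eq.trans ?_ (congrFun hvg i)
    simp [g, Matrix.vecMul, dotProduct, mul_comm]
  haveI := isIso_linMap σ hg
  let ψ := linMap (σ : K →+* K) g hg
  obtain ⟨c', hg', -, he⟩ := eq_diagonal_of_preserves ((asIso ψ).symm ≪≫ φ) (by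
    show (inv ψ ≫ φ.hom) ≫ _ = _
    rw [Category.assoc, hφ, ← linMap_toSpec (σ : K →+* K) g hg, IsIso.inv_hom_id_assoc]) (fun i => by
    ext x
    show φ.hom (inv ψ x) ∈ Proj.basicOpen 𝒜 (MvPolynomial.X i) ↔ x ∈ Proj.basicOpen 𝒜 (MvPolynomial.X i)
    have h1 : φ.hom (inv ψ x) ∈ Proj.basicOpen 𝒜 (MvPolynomial.X i) ↔ inv ψ x ∈ Proj.basicOpen 𝒜 (L i) :=
      SetLike.ext_iff.mp (hD i) _
    have h2 : ψ (inv ψ x) ∈ Proj.basicOpen 𝒜 (MvPolynomial.X i) ↔ inv ψ x ∈ Proj.basicOpen 𝒜 (linForm g i) :=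
      SetLike.ext_iff.mp (linMap_preimage_basicOpen (σ : K →+* K) g hg i) _
    have h3 : ψ (inv ψ x) = x := by rw [← Scheme.Hom.comp_apply, IsIso.inv_hom_id]; rfl
    rw [h1, ← hgL i, ← h2, h3])
  refine ⟨g * (Matrix.diagonal c').map (σ : K →+* K), isUnit_mul_map hg' hg, ?_⟩
  have he' : φ.hom = ψ ≫ linMap (RingHom.id K) (Matrix.diagonal c') hg' := by
    rw [← he]; exact (IsIso.hom_inv_id_assoc ψ φ.hom).symm
  rw [he', linMap_comp]
  exact linMap_congr (RingHom.comp_id _) rfl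

/-- Only scalar substitutions act trivially. -/
theorem eq_scalar_of_linMap_eq_id {g : Matrix (Fin (n + 1)) (Fin (n + 1)) K} (hg : IsUnit g)
    (h : linMap (RingHom.id K) g hg = 𝟙 _) : ∃ c : K, c ≠ 0 ∧ g = c • (1 : Matrix _ _ K) := by
  classical
  have hev : ∀ (M : Pol), M.IsHomogeneous 1 → ∀ v : Fin (n + 1) → K, v ≠ 0 → MvPolynomial.eval v M = 0 →
      MvPolynomial.eval v (linHom (RingHom.id K) g M) = 0 := by
    intro M hM v hv hvM
    obtain ⟨x, hx⟩ := exists_point_of_vec v hv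
    have he : linMap (RingHom.id K) g hg ⁻¹ᵁ Proj.basicOpen 𝒜 M = Proj.basicOpen 𝒜 (linHom (RingHom.id K) g M) :=
      Proj.map_preimage_basicOpen _ _ _
    rw [h] at he
    have hxM := (hx 1 M hM).mpr hvM
    refine (hx 1 _ ((linHom (RingHom.id K) g).map_mem hM)).mp ?_
    by_contra hc
    exact ((SetLike.ext_iff.mp he x).mpr hc) hxM
  have hoff : ∀ i j, i ≠ j → g i j = 0 := by
    intro i j hij
    have h1 := hev (MvPolynomial.X j) (MvPolynomial.isHomogeneous_X K j) (Pi.single i 1) (by simp)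
      (by simp [hij.symm])
    rw [linHom_X, linForm, map_sum, Finset.sum_eq_single i] at h1
    · simpa using h1
    · intro l _ hl; simp [hl]
    · simp
  have hdiag : ∀ j, g j j = g 0 0 := by
    intro j
    by_cases hj : j = 0
    · rw [hj]
    have h1 := hev (MvPolynomial.X j - MvPolynomial.X 0)
      ((MvPolynomial.isHomogeneous_X K j).sub (MvPolynomial.isHomogeneous_X K 0))
      (Pi.single j 1 + Pi.single 0 1) (fun h0 => by simpa [hj] using congrFun h0 j) (by simp [hj, Ne.symm hj])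
    have hL : ∀ l, MvPolynomial.eval (Pi.single j 1 + Pi.single 0 1) (linForm g l) = g j l + g 0 l := by
      intro l
      simp [linForm, map_sum, mul_add, Finset.sum_add_distrib, Pi.single_apply]
    rw [map_sub, map_sub, linHom_X, linHom_X, hL, hL, hoff 0 j (Ne.symm hj), hoff j 0 hj, add_zero, zero_add,
      sub_eq_zero] at h1
    exact h1
  have hgs : g = g 0 0 • (1 : Matrix _ _ K) := by
    ext i j
    by_cases hij : i = j
    · subst hij; simp [hdiag i]
    · simp [hij, hoff i j hij]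
  refine ⟨g 0 0, fun h0 => ?_, hgs⟩
  rw [h0, zero_smul] at hgs
  exact hg.ne_zero hgs

/-- Two substitutions act alike only if they are proportional. -/
theorem exists_smul_of_linMap_eq (σ : K ≃+* K) {g g' : Matrix (Fin (n + 1)) (Fin (n + 1)) K} (hg : IsUnit g)
    (hg' : IsUnit g') (h : linMap (σ : K →+* K) g hg = linMap (σ : K →+* K) g' hg') :
    ∃ c : K, c ≠ 0 ∧ g' = c • g := by
  obtain ⟨u, rfl⟩ := hg
  have hh : IsUnit ((↑u⁻¹ : Matrix (Fin (n + 1)) (Fin (n + 1)) K).map σ.symm) :=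
    u⁻¹.isUnit.map (σ.symm : K →+* K).mapMatrix
  have h1 : linMap (σ.symm : K →+* K) _ hh ≫ linMap (σ : K →+* K) (u : Matrix _ _ K) u.isUnit = 𝟙 _ := by
    rw [linMap_comp, ← linMap_id]
    refine linMap_congr (by ext; simp) ?_
    show (σ.symm : K →+* K).mapMatrix (↑u⁻¹ : Matrix _ _ K) * (σ.symm : K →+* K).mapMatrix u.val = _
    rw [← map_mul, u.inv_mul, map_one]
  have h2 : linMap (σ.symm : K →+* K) _ hh ≫ linMap (σ : K →+* K) g' hg' = 𝟙 _ := by rw [← h]; exact h1
  rw [linMap_comp] at h2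
  have hu : IsUnit ((↑u⁻¹ : Matrix (Fin (n + 1)) (Fin (n + 1)) K).map σ.symm * g'.map σ.symm) :=
    hh.mul (hg'.map (σ.symm : K →+* K).mapMatrix)
  obtain ⟨c, hc0, hc⟩ := eq_scalar_of_linMap_eq_id hu
    ((linMap_congr (hg := hu) (by ext; simp) rfl).trans h2)
  refine ⟨σ c, by simpa using hc0, ?_⟩
  have h3 := congrArg (fun M : Matrix (Fin (n + 1)) (Fin (n + 1)) K => (σ : K →+* K).mapMatrix M) hc
  simp only [RingHom.mapMatrix_apply, Matrix.map_mul, Matrix.map_map] at h3
  have h4 : (↑u⁻¹ : Matrix (Fin (n + 1)) (Fin (n + 1)) K) * g' = σ c • (1 : Matrix _ _ K) := by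
    simpa [Function.comp_def, Matrix.map_smul', Matrix.map_one] using h3
  calc g' = (u : Matrix (Fin (n + 1)) (Fin (n + 1)) K) * ((↑u⁻¹ : Matrix _ _ K) * g') := by
        rw [← mul_assoc, u.mul_inv, one_mul]
    _ = σ c • (u : Matrix (Fin (n + 1)) (Fin (n + 1)) K) := by rw [h4, Matrix.mul_smul, mul_one]

theorem isUnit_smul_matrix {c : K} (hc : c ≠ 0) {g : Matrix (Fin (n + 1)) (Fin (n + 1)) K} (hg : IsUnit g) :
    IsUnit (c • g) :=
  by
    rw [← Algebra.algebraMap_self_apply c, algebraMap_smul, Algebra.smul_def]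
    exact ((isUnit_iff_ne_zero.mpr hc).map _).mul hg

/-- Scalars act trivially. -/
theorem linMap_scalar {c : K} (hc : c ≠ 0) :
    linMap (RingHom.id K) (c • (1 : Matrix (Fin (n + 1)) (Fin (n + 1)) K)) (isUnit_smul_matrix hc isUnit_one) = 𝟙 _ := by
  classical
  have hu := isUnit_smul_matrix (n := n) hc isUnit_one
  haveI : IsIso (linMap (RingHom.id K) (c • (1 : Matrix (Fin (n + 1)) (Fin (n + 1)) K)) hu) :=
    isIso_linMap (RingEquiv.refl K) hu
  obtain ⟨d, hd, hd0, he⟩ := eq_diagonal_of_preserves (asIso (linMap (RingHom.id K) _ hu)) (by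
      rw [asIso_hom, linMap_toSpec, CommRingCat.ofHom_id, Spec.map_id, Category.comp_id]) (fun i => by
      rw [asIso_hom, linMap_preimage_basicOpen, Matrix.smul_one_eq_diagonal, linForm_diagonal, Proj.basicOpen_mul]
      refine inf_eq_right.mpr (le_trans le_top (ge_of_eq ?_))
      ext x
      refine ⟨fun _ => trivial, fun _ hx => x.isPrime.ne_top (Ideal.eq_top_of_isUnit_mem _ hx ?_)⟩
      exact (isUnit_iff_ne_zero.mpr hc).map _)
  rw [asIso_hom] at he
  suffices hd1 : d = 1 by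
    rw [he, ← linMap_id]
    exact linMap_congr rfl (by rw [hd1]; exact Matrix.diagonal_one)
  funext j
  by_cases hj : j = 0
  · rw [hj, hd0]; rfl
  let g : Matrix (Fin (n + 1)) (Fin (n + 1)) K := Matrix.transvection 0 j 1
  have hg : IsUnit g := (Matrix.isUnit_iff_isUnit_det g).mpr (by
    rw [Matrix.det_transvection_of_ne _ _ (Ne.symm hj)]; exact isUnit_one)
  have h1 : linMap (RingHom.id K) g hg ≫ linMap (RingHom.id K) (Matrix.diagonal d) hd =
      linMap (RingHom.id K) (Matrix.diagonal d) hd ≫ linMap (RingHom.id K) g hg := by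
    rw [← he, linMap_comp, linMap_comp]
    exact linMap_congr rfl (by simp)
  rw [linMap_comp, linMap_comp] at h1
  have hA : IsUnit (g * Matrix.diagonal d) := hg.mul hd
  have hB : IsUnit (Matrix.diagonal d * g) := hd.mul hg
  have h2 : linMap ((RingEquiv.refl K : K ≃+* K) : K →+* K) _ hA =
      linMap ((RingEquiv.refl K : K ≃+* K) : K →+* K) _ hB :=
    ((linMap_congr (by ext; rfl) (by simp)).trans h1).trans (linMap_congr (by ext; rfl) (by simp))
  obtain ⟨t, -, ht⟩ := exists_smul_of_linMap_eq (RingEquiv.refl K) hA hB h2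
  have h00 := congrFun₂ ht 0 0
  have h0j := congrFun₂ ht 0 j
  simp [g, Matrix.transvection, hd0, hj, Ne.symm hj, Matrix.diagonal_apply] at h00 h0j
  rw [← h00, one_mul] at h0j
  exact h0j.symm

theorem linMap_smul (θ : K →+* K) {g : Matrix (Fin (n + 1)) (Fin (n + 1)) K} (hg : IsUnit g) {c : K} (hc : c ≠ 0) :
    linMap θ (c • g) (isUnit_smul_matrix hc hg) = linMap θ g hg := by
  have h := linMap_comp θ (RingHom.id K) hg (isUnit_smul_matrix (n := n) hc isUnit_one)
  rw [linMap_scalar hc, Category.id_comp] at h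
  exact ((linMap_congr (RingHom.id_comp θ) (by simp)).trans rfl).symm.trans h.symm

end Linear

end Groth.Agent.Csa25
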