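import Groth.Agent.Csa25.FormMap
import Groth.Agent.Curves2.ProjLineProper
import Mathlib.AlgebraicGeometry.Morphisms.ClosedImmersion

/-!
# Uniqueness, functoriality and closed immersions for morphisms given by forms
-/

set_option autoImplicit false
set_option backward.isDefEq.respectTransparency.types false

open CategoryTheory CategoryTheory.Limits AlgebraicGeometry HomogeneousLocalization TopologicalSpace

noncomputable section

namespace Groth.Agent.Csa25

universe u

open Groth.Agent.EGA73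

section Map

variable {R A B : Type u} [CommRing R] [CommRing A] [Algebra R A] {𝒜 : ℕ → Submodule R A} [GradedAlgebra 𝒜]
  {R' : Type u} [CommRing R'] [CommRing B] [Algebra R' B] {ℬ : ℕ → Submodule R' B} [GradedAlgebra ℬ]

/-- Pullback of fractions along a morphism of `Proj` given by a graded map. -/
theorem map_appLE_awayToSection (f : 𝒜 →+*ᵍ ℬ) (hf) {s : A} {i : ℕ} (hs : s ∈ 𝒜 i) (hi : 0 < i)
    (W : (Proj ℬ).Opens) (hW : W ≤ Proj.basicOpen ℬ (f s)) (z : Away 𝒜 s) :
    (Proj.map f hf).appLE (Proj.basicOpen 𝒜 s) W hW (Proj.awayToSection 𝒜 s z) =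
      (Proj ℬ).presheaf.map (homOfLE hW).op (Proj.awayToSection ℬ (f s) (Away.map f s z)) := by
  have h : Proj.awayToSection 𝒜 s ≫ (Proj.map f hf).appLE (Proj.basicOpen 𝒜 s) (Proj.basicOpen ℬ (f s)) le_rfl =
      CommRingCat.ofHom (Away.map f s) ≫ Proj.awayToSection ℬ (f s) := by
    refine ProjMor.awayToSection_appLE_eq _ hs hi (Proj.basicOpen ℬ (f s)) le_rfl _ ?_
    erw [ProjMor.basicOpen_ι_eq (f.2 hs) hi]
    rw [Category.assoc, Category.assoc]
    erw [Proj.awayι_comp_map f hf hi s hs]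
    rw [Spec.map_comp, Category.assoc]
    rfl
  have h2 := congr($h z)
  simp only [CommRingCat.hom_comp, RingHom.comp_apply] at h2
  refine Eq.trans ?_ (congrArg ((Proj ℬ).presheaf.map (homOfLE hW).op) h2)
  exact (congr($(Scheme.Hom.appLE_map (Proj.map f hf)
    (le_rfl : Proj.basicOpen ℬ (f s) ≤ Proj.map f hf ⁻¹ᵁ Proj.basicOpen 𝒜 s) (homOfLE hW).op)
      (Proj.awayToSection 𝒜 s z))).symm

/-- Comparison of two fractions after restriction. -/
theorem res_awayToSection_eq {s t : A} (W : (Proj 𝒜).Opens) (hs : W ≤ Proj.basicOpen 𝒜 s)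
    (ht : W ≤ Proj.basicOpen 𝒜 t) (x : NumDenSameDeg 𝒜 (Submonoid.powers s)) (y : NumDenSameDeg 𝒜 (Submonoid.powers t))
    (h : x.num.1 * y.den.1 = y.num.1 * x.den.1) :
    (Proj 𝒜).presheaf.map (homOfLE hs).op (Proj.awayToSection 𝒜 s (HomogeneousLocalization.mk x)) =
      (Proj 𝒜).presheaf.map (homOfLE ht).op (Proj.awayToSection 𝒜 t (HomogeneousLocalization.mk y)) := by
  refine Subtype.ext (funext fun p => HomogeneousLocalization.val_injective _ ?_)
  refine (ProjectiveSpectrum.Proj.awayToSection_apply 𝒜 s _ ⟨p.1, hs p.2⟩).trans ?_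
  refine Eq.trans ?_ (ProjectiveSpectrum.Proj.awayToSection_apply 𝒜 t _ ⟨p.1, ht p.2⟩).symm
  rw [HomogeneousLocalization.val_mk, HomogeneousLocalization.val_mk, Localization.mk_eq_mk', Localization.mk_eq_mk',
    IsLocalization.map_mk', IsLocalization.map_mk', ← Localization.mk_eq_mk',
    Localization.mk_eq_mk_iff, Localization.r_iff_exists]
  exact ⟨1, by simp only [RingHom.id_apply, OneMemClass.coe_one, one_mul]; linear_combination h⟩

theorem basicOpen_mul_of_isUnit {c : A} (hc : IsUnit c) (t : A) :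
    Proj.basicOpen 𝒜 (c * t) = Proj.basicOpen 𝒜 t := by
  ext x
  rw [SetLike.mem_coe, SetLike.mem_coe, Proj.mem_basicOpen, Proj.mem_basicOpen]
  exact not_congr (Ideal.unit_mul_mem_iff_mem _ hc)

end Map

section

variable {A : Type u} [CommRing A] {K : Type u} [CommRing K] [Algebra A K] {n N d : ℕ}
  {P : Fin (N + 1) → CohB1.polyGrading n K d}

local notation "ℓ" => PolySym.linForm N

theorem form_single' (P : Fin (N + 1) → CohB1.polyGrading n K d) (a : Fin (N + 1)) :
    form P (Pi.single a (1 : A)) = P a := by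
  classical
  convert form_single P a

/-- The pullback of constants. -/
theorem appLE_fromZero {r : CohB1.ProjSpace n K ⟶ CohB1.ProjSpace N A}
    (hr : r ≫ CohB1.ProjSpace.toSpec N A =
      CohB1.ProjSpace.toSpec n K ≫ Spec.map (CommRingCat.ofHom (algebraMap A K)))
    {s : MvPolynomial (Fin (N + 1)) A} (hs : s ∈ CohB1.polyGrading N A 1) (W : (CohB1.ProjSpace n K).Opens)
    (e : W ≤ r ⁻¹ᵁ Proj.basicOpen (CohB1.polyGrading N A) s) (a : A) :
    r.appLE _ W e (Proj.awayToSection (CohB1.polyGrading N A) s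
        (fromZeroRingHom (CohB1.polyGrading N A) _ (algebraMap A (CohB1.polyGrading N A 0) a))) =
      ProjUniv.constOn (CohB1.ProjSpace.toSpec n K ≫ Spec.map (CommRingCat.ofHom (algebraMap A K))) W a := by
  have h : CommRingCat.ofHom ((fromZeroRingHom (CohB1.polyGrading N A) (Submonoid.powers s)).comp
        (algebraMap A (CohB1.polyGrading N A 0))) ≫ Proj.awayToSection (CohB1.polyGrading N A) s ≫ r.appLE _ W e =
      CommRingCat.ofHom (ProjUniv.constOn (CohB1.ProjSpace.toSpec n K ≫ Spec.map (CommRingCat.ofHom (algebraMap A K))) W) := by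
    apply ProjMor.toSpecΓ_ext (W := W)
    rw [ProjUniv.toSpecΓ_constOn, ← hr]
    show _ = W.ι ≫ r ≫ Proj.toSpecZero (CohB1.polyGrading N A) ≫ Spec.map (CommRingCat.ofHom (algebraMap A (CohB1.polyGrading N A 0)))
    rw [← Category.assoc W.ι]
    refine Eq.trans ?_ (congrArg (· ≫ _) (ProjMor.ι_comp_eq r hs one_pos W e)).symm
    have h3 : Proj.awayι (CohB1.polyGrading N A) s hs one_pos ≫ Proj.toSpecZero (CohB1.polyGrading N A) ≫
        Spec.map (CommRingCat.ofHom (algebraMap A (CohB1.polyGrading N A 0))) =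
      Spec.map (CommRingCat.ofHom (fromZeroRingHom (CohB1.polyGrading N A) (Submonoid.powers s))) ≫
        Spec.map (CommRingCat.ofHom (algebraMap A (CohB1.polyGrading N A 0))) :=
      Proj.awayι_toSpecZero_assoc _ _ _ _ _
    refine Eq.trans ?_ (((Category.assoc _ _ _).trans (congrArg (W.toSpecΓ ≫ ·)
      ((Category.assoc _ _ _).trans (congrArg (Spec.map _ ≫ ·) h3))))).symm
    rw [← Spec.map_comp, ← Spec.map_comp, CommRingCat.ofHom_comp]
    simp only [Category.assoc]
    rfl
  exact congr($h a)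

theorem exists_mem_form (hP : ∀ x : CohB1.ProjSpace n K, ∃ a, (P a).1 ∉ x.asHomogeneousIdeal)
    (x : CohB1.ProjSpace n K) : ∃ a, x ∈ Proj.basicOpen (CohB1.polyGrading n K) (form P (Pi.single a (1 : A))).1 := by
  obtain ⟨a, ha⟩ := hP x
  exact ⟨a, by rw [form_single']; exact ha⟩

theorem IsFormMap.unique {r r' : CohB1.ProjSpace n K ⟶ CohB1.ProjSpace N A}
    (hP : ∀ x : CohB1.ProjSpace n K, ∃ a, (P a).1 ∉ x.asHomogeneousIdeal)
    (h : IsFormMap P r) (h' : IsFormMap P r') : r = r' := by
  classical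
  refine Scheme.hom_ext_of_forall r r' fun x => ?_
  obtain ⟨a, ha⟩ := exists_mem_form (A := A) hP x
  let c : Fin (N + 1) → A := Pi.single a 1
  let W : (CohB1.ProjSpace n K).Opens := Proj.basicOpen (CohB1.polyGrading n K) (form P c).1
  refine ⟨W, ha, ?_⟩
  refine (ProjMor.ι_comp_eq r (PolySym.linForm_mem N A c) one_pos W (h.preimage c).ge).trans
    (Eq.trans ?_ (ProjMor.ι_comp_eq r' (PolySym.linForm_mem N A c) one_pos W (h'.preimage c).ge).symm)
  refine congrArg (fun p => W.toSpecΓ ≫ Spec.map p ≫ Proj.awayι (CohB1.polyGrading N A) _ _ one_pos) ?_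
  obtain ⟨ψ, hψs, hψA, hψι⟩ := ProjUniv.exists_frac_surjective (𝒮 := CohB1.polyGrading N A)
    (PolySym.linForm_mem N A) (PolySym.isSymmetricAlgebra_linForm N A) c
  refine CommRingCat.hom_ext ?_
  rw [← RingHom.cancel_right (g₁ := _) (g₂ := _) hψs]
  refine MvPolynomial.ringHom_ext (fun t => ?_) (fun j => ?_)
  · simp only [RingHom.comp_apply, CommRingCat.hom_comp]
    rw [show (MvPolynomial.C t : MvPolynomial (Fin (N + 1)) A) = algebraMap A _ t from rfl, hψA]
    exact (appLE_fromZero h.comm (PolySym.linForm_mem N A c) W (h.preimage c).ge t).trans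
      (appLE_fromZero h'.comm (PolySym.linForm_mem N A c) W (h'.preimage c).ge t).symm
  · simp only [RingHom.comp_apply, CommRingCat.hom_comp]
    rw [← PolySym.linForm_single N A j, hψι]
    exact (h.frac c (Pi.single j 1)).trans (h'.frac c (Pi.single j 1)).symm

/-- Composition with a semilinear substitution on the source. -/
theorem IsFormMap.comp_linMap {K' : Type u} [CommRing K'] [Algebra A K'] {r : CohB1.ProjSpace n K ⟶ CohB1.ProjSpace N A}
    (h : IsFormMap P r) (hd : 0 < d) (θ : K →+* K') (g : Matrix (Fin (n + 1)) (Fin (n + 1)) K') (hg : IsUnit g)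
    (P' : Fin (N + 1) → CohB1.polyGrading n K' d) (hθ : θ.comp (algebraMap A K) = algebraMap A K')
    (μ : K') (hμ : IsUnit μ) (hP' : ∀ a, linHom θ g (P a).1 = MvPolynomial.C μ * (P' a).1) :
    IsFormMap P' (linMap θ g hg ≫ r) := by
  have hF : ∀ c : Fin (N + 1) → A, linHom θ g (form P c).1 = MvPolynomial.C μ * (form P' c).1 := fun c => by
    rw [form_coe, form_coe, map_sum, Finset.mul_sum]
    refine Finset.sum_congr rfl fun a _ => ?_
    rw [map_mul, linHom_C, hP', ← hθ, RingHom.comp_apply]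
    ring
  have hpre : ∀ c : Fin (N + 1) → A,
      (linMap θ g hg ≫ r) ⁻¹ᵁ Proj.basicOpen (CohB1.polyGrading N A) (ℓ A c) =
        Proj.basicOpen (CohB1.polyGrading n K') (form P' c).1 := fun c => by
    rw [Scheme.Hom.comp_preimage, h.preimage c]
    refine (Proj.map_preimage_basicOpen _ _ _).trans ?_
    rw [hF]
    exact basicOpen_mul_of_isUnit (hμ.map MvPolynomial.C) _
  refine ⟨?_, hpre, fun c c' => ?_⟩
  · rw [Category.assoc, h.comm, ← Category.assoc, linMap_toSpec, Category.assoc, ← Spec.map_comp,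
      ← CommRingCat.ofHom_comp, hθ]
  let W : (CohB1.ProjSpace n K').Opens := Proj.basicOpen (CohB1.polyGrading n K') (form P' c).1
  have hW : W ≤ linMap θ g hg ⁻¹ᵁ Proj.basicOpen (CohB1.polyGrading n K) (form P c).1 := by
    show W ≤ Proj.basicOpen (CohB1.polyGrading n K') (linHom θ g (form P c).1)
    rw [hF, basicOpen_mul_of_isUnit (hμ.map MvPolynomial.C)]
  have key := congrArg ((linMap θ g hg).appLE _ W hW) (h.frac c c')
  rw [← ConcreteCategory.comp_apply (r.appLE _ _ _), Scheme.Hom.appLE_comp_appLE] at key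
  refine key.trans ?_
  refine (map_appLE_awayToSection (linHom θ g) _ (form P c).2 hd W hW _).trans ?_
  rw [Away.map, HomogeneousLocalization.map_mk]
  refine (res_awayToSection_eq W hW le_rfl _ ⟨d, form P' c', form P' c, ⟨1, pow_one _⟩⟩ ?_).trans ?_
  · show linHom θ g (form P c').1 * _ = _ * linHom θ g (form P c).1
    rw [hF, hF]; ring
  · exact congr($((Proj (CohB1.polyGrading n K')).presheaf.map_id (Opposite.op W)) _)

/-- Composition with the extension of coefficients on the target. -/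
theorem IsFormMap.comp_base {k : Type u} [CommRing k] [Algebra k A] [Algebra k K] [IsScalarTower k A K]
    {r : CohB1.ProjSpace n K ⟶ CohB1.ProjSpace N A} (h : IsFormMap P r) :
    IsFormMap (A := k) P (r ≫ linMap (algebraMap k A) 1 isUnit_one) := by
  have hℓ : ∀ c : Fin (N + 1) → k, linHom (n := N) (algebraMap k A) 1 (ℓ k c) = ℓ A (algebraMap k A ∘ c) := by
    intro c
    simp only [PolySym.linForm, Fintype.linearCombination_apply, MvPolynomial.smul_eq_C_mul, map_sum, map_mul,
      linHom_C, linHom_X, linForm_one, Function.comp_apply]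
  have hform : ∀ c : Fin (N + 1) → k, form P (algebraMap k A ∘ c) = form P c := fun c => by
    simp only [form, Function.comp_apply, ← IsScalarTower.algebraMap_apply]
  have hpre : ∀ c : Fin (N + 1) → k,
      (r ≫ linMap (algebraMap k A) 1 isUnit_one) ⁻¹ᵁ Proj.basicOpen (CohB1.polyGrading N k) (ℓ k c) =
        Proj.basicOpen (CohB1.polyGrading n K) (form P c).1 := fun c => by
    rw [Scheme.Hom.comp_preimage, ← hform c, ← h.preimage, ← hℓ]
    rfl
  refine ⟨?_, hpre, fun c c' => ?_⟩
  · rw [Category.assoc, linMap_toSpec, ← Category.assoc, h.comm, Category.assoc, ← Spec.map_comp,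
      ← CommRingCat.ofHom_comp, ← IsScalarTower.algebraMap_eq]
  let V : (CohB1.ProjSpace N A).Opens := Proj.basicOpen (CohB1.polyGrading N A) (ℓ A (algebraMap k A ∘ c))
  have hV : V ≤ linMap (algebraMap k A) 1 isUnit_one ⁻¹ᵁ Proj.basicOpen (CohB1.polyGrading N k) (ℓ k c) := by
    show V ≤ Proj.basicOpen (CohB1.polyGrading N A) (linHom (n := N) (algebraMap k A) 1 (ℓ k c))
    rw [hℓ]
  have h1 : (linMap (algebraMap k A) 1 isUnit_one).appLE _ V hV (Proj.awayToSection (CohB1.polyGrading N k) (ℓ k c)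
      (HomogeneousLocalization.mk ⟨1, ⟨_, PolySym.linForm_mem N k c'⟩, ⟨_, PolySym.linForm_mem N k c⟩, ⟨1, pow_one _⟩⟩)) =
      Proj.awayToSection (CohB1.polyGrading N A) (ℓ A (algebraMap k A ∘ c))
        (HomogeneousLocalization.mk ⟨1, ⟨_, PolySym.linForm_mem N A (algebraMap k A ∘ c')⟩,
          ⟨_, PolySym.linForm_mem N A (algebraMap k A ∘ c)⟩, ⟨1, pow_one _⟩⟩) := by
    refine (map_appLE_awayToSection (linHom (n := N) (algebraMap k A) 1) _ (PolySym.linForm_mem N k c) one_pos V hV _).trans ?_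
    rw [Away.map, HomogeneousLocalization.map_mk]
    refine (res_awayToSection_eq V hV le_rfl _
      ⟨1, ⟨_, PolySym.linForm_mem N A (algebraMap k A ∘ c')⟩, ⟨_, PolySym.linForm_mem N A (algebraMap k A ∘ c)⟩,
        ⟨1, pow_one _⟩⟩ ?_).trans ?_
    · show linHom (n := N) (algebraMap k A) 1 (ℓ k c') * _ = _ * linHom (n := N) (algebraMap k A) 1 (ℓ k c)
      rw [hℓ, hℓ]
    · exact congr($((Proj (CohB1.polyGrading N A)).presheaf.map_id (Opposite.op V)) _)
  let W : (CohB1.ProjSpace n K).Opens := Proj.basicOpen (CohB1.polyGrading n K) (form P c).1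
  have hW : W ≤ r ⁻¹ᵁ V := by show _ ≤ r ⁻¹ᵁ _; rw [h.preimage, hform]
  have key := congrArg (r.appLE V W hW) h1
  rw [← ConcreteCategory.comp_apply ((linMap (algebraMap k A) 1 isUnit_one).appLE _ _ _), Scheme.Hom.appLE_comp_appLE] at key
  refine key.trans ?_
  have h2 := congrArg ((CohB1.ProjSpace n K).presheaf.map
    (homOfLE (show W ≤ Proj.basicOpen (CohB1.polyGrading n K) (form P (algebraMap k A ∘ c)).1 by rw [hform])).op)
    (h.frac (algebraMap k A ∘ c) (algebraMap k A ∘ c'))
  rw [← ConcreteCategory.comp_apply (r.appLE _ _ _), Scheme.Hom.appLE_map] at h2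
  refine h2.trans ((res_awayToSection_eq W _ le_rfl _ ⟨d, form P c', form P c, ⟨1, pow_one _⟩⟩ ?_).trans ?_)
  · show (form P (algebraMap k A ∘ c')).1 * _ = _ * (form P (algebraMap k A ∘ c)).1
    rw [hform, hform]
  · exact congr($((Proj (CohB1.polyGrading n K)).presheaf.map_id (Opposite.op W)) _)

end

section Closed

variable {K : Type u} [Field K] {n N d : ℕ} {P : Fin (N + 1) → CohB1.polyGrading n K d}

theorem isClosedImmersion_of_isFormMap (hd : 0 < d) (hspan : ∀ F, ∃ c : Fin (N + 1) → K, form P c = F)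
    {r : CohB1.ProjSpace n K ⟶ CohB1.ProjSpace N K} (h : IsFormMap P r) : IsClosedImmersion r := by
  classical
  have hXd : ∀ i, (MvPolynomial.X i ^ d : MvPolynomial (Fin (n + 1)) K) ∈ CohB1.polyGrading n K d := fun i => by
    simpa using (MvPolynomial.isHomogeneous_X K i).pow d
  choose c hc using fun i : Fin (n + 1) => hspan ⟨_, hXd i⟩
  let V : Fin (n + 1) → (CohB1.ProjSpace N K).Opens := fun i =>
    Proj.basicOpen (CohB1.polyGrading N K) (PolySym.linForm N K (c i))
  have hV : ∀ i, r ⁻¹ᵁ V i = Proj.basicOpen (CohB1.polyGrading n K) (MvPolynomial.X i ^ d : MvPolynomial (Fin (n + 1)) K) :=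
    fun i => by rw [show r ⁻¹ᵁ V i = _ from h.preimage (c i), hc]
  haveI : UniversallyClosed r := by
    haveI : IsProper (CohB1.ProjSpace.toSpec n K) := Curves2.ProjLine.isProper_toSpec K n
    haveI : IsProper (CohB1.ProjSpace.toSpec N K) := Curves2.ProjLine.isProper_toSpec K N
    have he : r ≫ CohB1.ProjSpace.toSpec N K = CohB1.ProjSpace.toSpec n K := by
      rw [h.comm, show CommRingCat.ofHom (algebraMap K K) = 𝟙 (CommRingCat.of K) from rfl, Spec.map_id]
      exact Category.comp_id _
    haveI : UniversallyClosed (r ≫ CohB1.ProjSpace.toSpec N K) := by rw [he]; infer_instance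
    exact UniversallyClosed.of_comp_of_isSeparated r (CohB1.ProjSpace.toSpec N K)
  let C : (CohB1.ProjSpace N K).Opens := ⟨(Set.range r)ᶜ, r.isClosedMap.isClosed_range.isOpen_compl⟩
  let U : Option (Fin (n + 1)) → (CohB1.ProjSpace N K).Opens := fun o => o.elim C V
  refine IsZariskiLocalAtTarget.of_iSup_eq_top (P := @IsClosedImmersion) U (eq_top_iff.mpr fun y _ => ?_) ?_
  · by_cases hy : y ∈ Set.range r
    · obtain ⟨x, rfl⟩ := hy
      obtain ⟨i, hi⟩ := exists_X_notMem x
      refine Opens.mem_iSup.mpr ⟨some i, ?_⟩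
      show x ∈ r ⁻¹ᵁ V i
      rw [hV]
      exact fun hm => hi (x.isPrime.mem_of_pow_mem d hm)
    · exact Opens.mem_iSup.mpr ⟨none, hy⟩
  rintro (_ | i)
  · haveI : IsEmpty (r ⁻¹ᵁ C : Scheme.{u}) := ⟨fun x => x.2 ⟨x.1, rfl⟩⟩
    show IsClosedImmersion (r ∣_ C)
    infer_instance
  show IsClosedImmersion (r ∣_ V i)
  haveI : IsAffine (V i) := Proj.isAffineOpen_basicOpen _ _ (PolySym.linForm_mem N K (c i)) one_pos
  haveI : IsAffine (r ⁻¹ᵁ V i) := by
    show IsAffineOpen (r ⁻¹ᵁ V i)
    rw [hV]; exact Proj.isAffineOpen_basicOpen _ _ (hXd i) hd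
  refine IsClosedImmersion.of_surjective_of_isAffine _ ?_
  suffices hs : Function.Surjective (r.app (V i)) by
    rw [morphismRestrict_appTop]
    have hs' : Function.Surjective (r.app ((V i).ι ''ᵁ ⊤)) := by
      rw [show (V i).ι ''ᵁ ⊤ = V i from Scheme.Opens.ι_image_top _]
      exact hs
    intro z
    obtain ⟨y, hy⟩ := (ConcreteCategory.bijective_of_isIso ((CohB1.ProjSpace n K).presheaf.map
      (eqToHom (image_morphismRestrict_preimage r (V i) ⊤)).op)).surjective z
    obtain ⟨x, rfl⟩ := hs' y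
    exact ⟨x, hy⟩
  let W : (CohB1.ProjSpace n K).Opens := Proj.basicOpen (CohB1.polyGrading n K) (form P (c i)).1
  suffices hs : Function.Surjective (r.appLE (V i) W (h.preimage (c i)).ge) by
    intro z
    obtain ⟨y, hy⟩ := hs ((CohB1.ProjSpace n K).presheaf.map (eqToHom (h.preimage (c i)).symm).op z)
    refine ⟨y, (ConcreteCategory.bijective_of_isIso
      ((CohB1.ProjSpace n K).presheaf.map (eqToHom (h.preimage (c i)).symm).op)).injective ?_⟩
    refine Eq.trans ?_ hy
    rw [← ConcreteCategory.comp_apply]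
    rfl
  let F := form P (c i)
  let 𝒲 := Away (CohB1.polyGrading n K) F.1
  intro z
  obtain ⟨w, rfl⟩ := (ConcreteCategory.bijective_of_isIso
    (Proj.basicOpenIsoAway (CohB1.polyGrading n K) F.1 F.2 hd).hom).surjective z
  obtain ⟨m, G, hG, rfl⟩ := Away.mk_surjective (CohB1.polyGrading n K) F.2 w
  show Proj.awayToSection (CohB1.polyGrading n K) F.1 (Away.mk _ F.2 m G hG) ∈
    (r.appLE (V i) W (h.preimage (c i)).ge).hom.range
  let S : Subring 𝒲 := (r.appLE (V i) W (h.preimage (c i)).ge).hom.range.comap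
    (Proj.awayToSection (CohB1.polyGrading n K) F.1).hom
  show Away.mk _ F.2 m G hG ∈ S
  have hcst : ∀ a : K, fromZeroRingHom (CohB1.polyGrading n K) _ (algebraMap K (CohB1.polyGrading n K 0) a) ∈ S := by
    intro a
    refine ⟨_, (appLE_fromZero h.comm (PolySym.linForm_mem N K (c i)) W (h.preimage (c i)).ge a).trans ?_⟩
    exact awayToSection_const _ rfl F.2 hd a
  have hfr : ∀ G : CohB1.polyGrading n K d, (HomogeneousLocalization.mk ⟨d, G, F, ⟨1, pow_one _⟩⟩ : 𝒲) ∈ S := by
    intro G
    obtain ⟨c', rfl⟩ := hspan G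
    exact ⟨_, h.frac (c i) c'⟩
  let L := Localization.Away F.1
  let v : 𝒲 →+* L := algebraMap _ _
  have hFX : F.1 = MvPolynomial.X i ^ d := congrArg Subtype.val (hc i)
  have hjmem : ∀ j, (MvPolynomial.X j * MvPolynomial.X i ^ (d - 1) : MvPolynomial (Fin (n + 1)) K) ∈ CohB1.polyGrading n K d := by
    intro j
    simpa [show 1 + (d - 1) = d by omega] using
      (MvPolynomial.isHomogeneous_X K j).mul ((MvPolynomial.isHomogeneous_X K i).pow (d - 1))
  let t : Fin (n + 1) → 𝒲 := fun j => HomogeneousLocalization.mk ⟨d, ⟨_, hjmem j⟩, F, ⟨1, pow_one _⟩⟩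
  let ev : MvPolynomial (Fin (n + 1)) K →+* 𝒲 :=
    MvPolynomial.eval₂Hom ((fromZeroRingHom (CohB1.polyGrading n K) _).comp (algebraMap K (CohB1.polyGrading n K 0))) t
  have hev : ∀ p, ev p ∈ S := by
    intro p
    induction p using MvPolynomial.induction_on with
    | C a => simpa [ev] using hcst a
    | add p q hp hq => rw [map_add]; exact add_mem hp hq
    | mul_X p j hp => rw [map_mul]; exact mul_mem hp (by simpa [ev, t] using hfr ⟨_, hjmem j⟩)
  suffices Away.mk _ F.2 m G hG = ev G by rw [this]; exact hev G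
  apply val_injective
  have hu : IsUnit (algebraMap (MvPolynomial (Fin (n + 1)) K) L F.1) := IsLocalization.Away.algebraMap_isUnit _
  refine (hu.pow m).mul_right_cancel ?_
  rw [Away.val_mk, ← map_pow, Localization.mk_eq_mk']
  rw [IsLocalization.mk'_spec' L G ⟨F.1 ^ m, _⟩ |> fun hh => (mul_comm _ _).trans hh]
  have key : ∀ (D : ℕ) (p : MvPolynomial (Fin (n + 1)) K), p ∈ CohB1.polyGrading n K D →
      algebraMap (MvPolynomial (Fin (n + 1)) K) L p =
        algebraMap (MvPolynomial (Fin (n + 1)) K) L (MvPolynomial.X i) ^ D * v (ev p) := by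
    letI : Algebra K 𝒲 :=
      ((fromZeroRingHom (CohB1.polyGrading n K) (Submonoid.powers F.1)).comp (algebraMap K (CohB1.polyGrading n K 0))).toAlgebra
    have hv : ∀ a, v (algebraMap K 𝒲 a) = algebraMap (MvPolynomial (Fin (n + 1)) K) L (MvPolynomial.C a) := fun a =>
      Localization.mk_one_eq_algebraMap _
    let ρ' : MvPolynomial (Fin (n + 1)) K →ₐ[K] L :=
      { v.comp ev with
        commutes' := fun a => (congrArg v (MvPolynomial.eval₂Hom_C _ t a)).trans
          ((hv a).trans (IsScalarTower.algebraMap_apply K (MvPolynomial (Fin (n + 1)) K) L a).symm) }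
    refine ProjUniv.eq_pow_mul (PolySym.linForm_mem n K) (PolySym.isSymmetricAlgebra_linForm n K)
      (IsScalarTower.toAlgHom K (MvPolynomial (Fin (n + 1)) K) L) ρ'
      (algebraMap (MvPolynomial (Fin (n + 1)) K) L (MvPolynomial.X i)) (fun cc => ?_)
    have hlin : ∀ j, algebraMap (MvPolynomial (Fin (n + 1)) K) L (MvPolynomial.X j) =
        algebraMap (MvPolynomial (Fin (n + 1)) K) L (MvPolynomial.X i) * v (t j) := by
      intro j
      refine hu.mul_right_cancel ?_
      have e : v (t j) * algebraMap (MvPolynomial (Fin (n + 1)) K) L F.1 =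
          algebraMap (MvPolynomial (Fin (n + 1)) K) L (MvPolynomial.X j * MvPolynomial.X i ^ (d - 1)) := by
        show (t j).val * _ = _
        rw [HomogeneousLocalization.val_mk, Localization.mk_eq_mk']
        exact IsLocalization.mk'_spec L _ _
      rw [mul_assoc, e, ← map_mul, ← map_mul]
      congr 1
      refine (congrArg (MvPolynomial.X j * ·) hFX).trans ?_
      conv_lhs => rw [show d = d - 1 + 1 by omega, pow_succ]
      ring
    simp only [PolySym.linForm, Fintype.linearCombination_apply, map_sum, map_smul]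
    refine Eq.trans ?_ (Finset.mul_sum _ _ _).symm
    refine Finset.sum_congr rfl fun j _ => ?_
    refine Eq.trans ?_ (Algebra.mul_smul_comm _ _ _).symm
    congr 1
    refine (hlin j).trans (congrArg (algebraMap (MvPolynomial (Fin (n + 1)) K) L (MvPolynomial.X i) * ·) ?_)
    exact (congrArg v (MvPolynomial.eval₂Hom_X' _ t j)).symm
  rw [key (m • d) G hG, smul_eq_mul, mul_comm]
  congr 1
  refine ((map_pow (algebraMap (MvPolynomial (Fin (n + 1)) K) L) _ _).symm.trans ?_)
  refine congrArg (algebraMap (MvPolynomial (Fin (n + 1)) K) L) ?_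
  exact ((congrArg (· ^ m) hFX).trans (by rw [← pow_mul, mul_comm])).symm

end Closed

end Groth.Agent.Csa25
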