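import Groth.Agent.Csa25.ProjLin
import Groth.Agent.EGA73.ProjUnivExt
import Groth.Agent.EGA73.PolySym
import Groth.Agent.TwistGen95.Basic
import Groth.Agent.TwistGen95.Ample
import Groth.Agent.Var76.RegTools
import Groth.Agent.Var76.ProjCoord

/-!
# Morphisms of projective spaces given by forms of the same degree
-/

set_option autoImplicit false
set_option backward.isDefEq.respectTransparency.types false

open CategoryTheory CategoryTheory.Limits AlgebraicGeometry HomogeneousLocalization TopologicalSpace

noncomputable section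

namespace Groth.Agent.Csa25

universe u

open Groth.Agent.Var76.LineBundle Groth.Agent.Var76.ZeroScheme Groth.Agent.Amp73 EGA73

variable {A : Type u} [CommRing A] {K : Type u} [CommRing K] [Algebra A K] {n N d : ℕ}

/-- The form with coefficients `c` in the family `P`. -/
def form (P : Fin (N + 1) → CohB1.polyGrading n K d) (c : Fin (N + 1) → A) : CohB1.polyGrading n K d :=
  ∑ a, algebraMap A K (c a) • P a

theorem form_coe (P : Fin (N + 1) → CohB1.polyGrading n K d) (c : Fin (N + 1) → A) :
    (form P c : MvPolynomial (Fin (n + 1)) K) = ∑ a, MvPolynomial.C (algebraMap A K (c a)) * (P a).1 := by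
  rw [form, Submodule.coe_sum]
  exact Finset.sum_congr rfl fun a _ => by rw [Submodule.coe_smul, MvPolynomial.smul_eq_C_mul]

theorem form_add (P : Fin (N + 1) → CohB1.polyGrading n K d) (c c' : Fin (N + 1) → A) :
    form P (c + c') = form P c + form P c' := by
  simp [form, add_smul, Finset.sum_add_distrib]

theorem form_smul (P : Fin (N + 1) → CohB1.polyGrading n K d) (r : A) (c : Fin (N + 1) → A) :
    form P (r • c) = algebraMap A K r • form P c := by
  simp only [form, Finset.smul_sum, smul_smul, Pi.smul_apply, smul_eq_mul, map_mul]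

theorem form_single [DecidableEq (Fin (N + 1))] (P : Fin (N + 1) → CohB1.polyGrading n K d) (a : Fin (N + 1)) :
    form P (Pi.single a (1 : A)) = P a := by
  rw [form, Finset.sum_eq_single a (fun b _ hb => by rw [Pi.single_eq_of_ne hb, map_zero, zero_smul])
    (fun h => absurd (Finset.mem_univ a) h), Pi.single_eq_same, map_one, one_smul]

/-- Constants on a basic open. -/
theorem awayToSection_const (q : CohB1.ProjSpace n K ⟶ Spec (CommRingCat.of A))
    (hq : q = CohB1.ProjSpace.toSpec n K ≫ Spec.map (CommRingCat.ofHom (algebraMap A K)))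
    {m : ℕ} {F : MvPolynomial (Fin (n + 1)) K} (hF : F ∈ CohB1.polyGrading n K m) (hm : 0 < m) (r : A) :
    ProjUniv.constOn q (Proj.basicOpen (CohB1.polyGrading n K) F) r =
      Proj.awayToSection (CohB1.polyGrading n K) F
        (fromZeroRingHom (CohB1.polyGrading n K) _ (algebraMap K (CohB1.polyGrading n K 0) (algebraMap A K r))) := by
  subst hq
  let W : (Proj (CohB1.polyGrading n K)).Opens := Proj.basicOpen (CohB1.polyGrading n K) F
  let q : Proj (CohB1.polyGrading n K) ⟶ Spec (CommRingCat.of A) :=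
    (Proj.toSpecZero (CohB1.polyGrading n K) ≫
      Spec.map (CommRingCat.ofHom (algebraMap K (CohB1.polyGrading n K 0)))) ≫
        Spec.map (CommRingCat.ofHom (algebraMap A K))
  show ProjUniv.constOn q W r = _
  have e : W.ι ≫ Proj.toSpecZero (CohB1.polyGrading n K) =
      W.toSpecΓ ≫ Spec.map (Proj.awayToSection (CohB1.polyGrading n K) F) ≫
        Spec.map (CommRingCat.ofHom (fromZeroRingHom (CohB1.polyGrading n K) _)) := by
    rw [show W.ι = _ from ProjMor.basicOpen_ι_eq hF hm, Category.assoc, Category.assoc, Proj.awayι_toSpecZero]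
  have h : CommRingCat.ofHom (ProjUniv.constOn q W) =
      CommRingCat.ofHom (algebraMap A K) ≫ CommRingCat.ofHom (algebraMap K (CohB1.polyGrading n K 0)) ≫
        CommRingCat.ofHom (fromZeroRingHom (CohB1.polyGrading n K) _) ≫
          Proj.awayToSection (CohB1.polyGrading n K) F := by
    apply ProjMor.toSpecΓ_ext (W := W)
    rw [ProjUniv.toSpecΓ_constOn]
    simp only [q, ← Category.assoc, e]
    simp only [Spec.map_comp, Category.assoc]
  exact congr($h r)

theorem exists_X_notMem (x : CohB1.ProjSpace n K) :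
    ∃ i : Fin (n + 1), (MvPolynomial.X i : MvPolynomial (Fin (n + 1)) K) ∉ x.asHomogeneousIdeal := by
  by_contra! h
  exact ProjectiveSpectrum.not_irrelevant_le x fun p hp =>
    (irrelevant_le_span_X.trans (Ideal.span_le.mpr (by rintro _ ⟨i, rfl⟩; exact h i))) hp

/-- The section of `O(d)` of a form. -/
def glob (F : CohB1.polyGrading n K d) : ProjUP.Γm (Twist.twistProjSpace n K (d : ℤ)) :=
  Twist.globalOf (CohB1.polyGrading n K) F

set_option maxHeartbeats 800000 in
/-- Global constants act on sections of `O(d)` through the coefficients. -/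
theorem toGlobal_smul_globalOf (q : CohB1.ProjSpace n K ⟶ Spec (CommRingCat.of A))
    (hq : q = CohB1.ProjSpace.toSpec n K ≫ Spec.map (CommRingCat.ofHom (algebraMap A K)))
    (r : A) (F : CohB1.polyGrading n K d) :
    ProjUP.toGlobal q r • glob F = glob (algebraMap A K r • F) := by
  refine Subtype.ext (funext fun x => Subtype.ext ?_)
  refine (Twist.coe_smul_val _ _ _ _).trans ?_
  obtain ⟨i, hi⟩ := exists_X_notMem (K := K) (n := n) x.1
  have h := awayToSection_const q hq (MvPolynomial.isHomogeneous_X K i) one_pos r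
  have hv : ((ProjUP.toGlobal q r).1 x).val = Localization.mk (MvPolynomial.C (algebraMap A K r))
      (1 : x.1.asHomogeneousIdeal.toIdeal.primeCompl) := by
    refine (congrArg HomogeneousLocalization.val (congrArg (fun s => s.1 ⟨x.1, hi⟩) h)).trans ?_
    refine (ProjectiveSpectrum.Proj.awayToSection_apply (CohB1.polyGrading n K) (MvPolynomial.X i) _ ⟨x.1, hi⟩).trans ?_
    show IsLocalization.map _ _ _ (HomogeneousLocalization.mk _).val = _
    rw [HomogeneousLocalization.val_mk, Localization.mk_eq_mk', IsLocalization.map_mk', ← Localization.mk_eq_mk']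
    rfl
  rw [hv]
  show _ * Localization.mk F.1 _ = Localization.mk (algebraMap A K r • F).1 _
  rw [Localization.mk_mul, one_mul, Submodule.coe_smul, MvPolynomial.smul_eq_C_mul]

/-- The fraction `F'/F` is the coordinate of the section of `F'` in the frame of `F`. -/
theorem away_smul_globalOf (F F' : CohB1.polyGrading n K d) :
    (Proj.awayToSection (CohB1.polyGrading n K) F.1)
        (HomogeneousLocalization.mk ⟨d, F', F, ⟨1, pow_one _⟩⟩) •
      res (Twist.twist (CohB1.polyGrading n K) (d : ℤ)) (le_top : Proj.basicOpen (CohB1.polyGrading n K) F.1 ≤ ⊤)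
        (Twist.globalOf (CohB1.polyGrading n K) F) =
      res (Twist.twist (CohB1.polyGrading n K) (d : ℤ)) le_top (Twist.globalOf (CohB1.polyGrading n K) F') := by
  refine Subtype.ext (funext fun x => Subtype.ext ?_)
  refine (Twist.coe_smul_val _ _ _ _).trans ?_
  show _ * Localization.mk F.1 _ = Localization.mk F'.1 _
  refine Eq.trans (congrArg (· * _) (ProjectiveSpectrum.Proj.awayToSection_apply (CohB1.polyGrading n K) F.1 _ x)) ?_
  rw [HomogeneousLocalization.val_mk, Localization.mk_eq_mk', IsLocalization.map_mk',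
    ← Localization.mk_eq_mk', Localization.mk_mul, Localization.mk_eq_mk_iff, Localization.r_iff_exists]
  exact ⟨1, by simp only [RingHom.id_apply, Submonoid.coe_mul, OneMemClass.coe_one, one_mul, mul_one]; ring⟩

variable (P : Fin (N + 1) → CohB1.polyGrading n K d)

/-- The morphism given by the forms `P`, over `A`. -/
structure IsFormMap (r : CohB1.ProjSpace n K ⟶ CohB1.ProjSpace N A) : Prop where
  comm : r ≫ CohB1.ProjSpace.toSpec N A =
    CohB1.ProjSpace.toSpec n K ≫ Spec.map (CommRingCat.ofHom (algebraMap A K))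
  preimage : ∀ c : Fin (N + 1) → A, r ⁻¹ᵁ Proj.basicOpen (CohB1.polyGrading N A) (PolySym.linForm N A c) =
    Proj.basicOpen (CohB1.polyGrading n K) (form P c).1
  frac : ∀ c c' : Fin (N + 1) → A,
    r.appLE _ (Proj.basicOpen (CohB1.polyGrading n K) (form P c).1) (preimage c).ge
        (Proj.awayToSection (CohB1.polyGrading N A) (PolySym.linForm N A c)
          (HomogeneousLocalization.mk ⟨1, ⟨_, PolySym.linForm_mem N A c'⟩, ⟨_, PolySym.linForm_mem N A c⟩, ⟨1, pow_one _⟩⟩)) =
      Proj.awayToSection (CohB1.polyGrading n K) (form P c).1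
        (HomogeneousLocalization.mk ⟨d, form P c', form P c, ⟨1, pow_one _⟩⟩)

variable (hP : ∀ x : CohB1.ProjSpace n K, ∃ a, (P a).1 ∉ x.asHomogeneousIdeal)

include hP in
/-- Forms without common zero define a morphism with the prescribed coordinate sections. -/
theorem exists_isFormMap_sections :
    ∃ r : CohB1.ProjSpace n K ⟶ CohB1.ProjSpace N A, IsFormMap P r ∧
      ∃ τ : (Scheme.Modules.pullback r).obj (Twist.twistProjSpace N A 1) ≅ Twist.twistProjSpace n K (d : ℤ),
        ∀ c : Fin (N + 1) → A, τ.hom.app ⊤ (ProjUP.pullSec r (Twist.twistProjSpace N A 1)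
          (Twist.globalOf (CohB1.polyGrading N A) ⟨_, PolySym.linForm_mem N A c⟩)) = glob (form P c) := by
  classical
  let q := CohB1.ProjSpace.toSpec n K ≫ Spec.map (CommRingCat.ofHom (algebraMap A K))
  let T : (CohB1.ProjSpace n K).Modules := Twist.twistProjSpace n K (d : ℤ)
  have hT : PicF.IsInvertible T := Var76.Reg.isInvertible_twist (n := n) (A := K) (d : ℤ)
  let v : (Fin (N + 1) → A) →+ ProjUP.Γm T :=
    AddMonoidHom.mk' (fun c => glob (form P c)) fun c c' => by
      refine Subtype.ext (funext fun x => Subtype.ext ?_)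
      show Localization.mk (form P (c + c')).1 _ = Localization.mk (form P c).1 _ + Localization.mk (form P c').1 _
      rw [form_add, Submodule.coe_add]
      exact (Localization.add_mk_self _ _ _).symm
  have hv : ∀ (r : A) (c : Fin (N + 1) → A), v (r • c) = ProjUP.toGlobal q r • v c := fun r c => by
    show glob (form P (r • c)) = _
    rw [form_smul]
    exact (toGlobal_smul_globalOf q rfl r (form P c)).symm
  have hgen : ProjUP.GeneratedBy T v := by
    intro x
    obtain ⟨a, ha⟩ := hP x
    have hx : x ∈ CohB1.genLocus T (TwistGen95.degHom (CohB1.polyGrading n K) (P a)) := by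
      exact (TwistGen95.genLocus_degHom (fun y => by obtain ⟨b, hb⟩ := hP y; exact ⟨_, (P b).2, hb⟩) (P a)).ge ha
    have hfr := (isFrame_iff_le_genLocus _ _).2
      (le_refl (CohB1.genLocus T (TwistGen95.degHom (CohB1.polyGrading n K) (P a))))
    refine eq_top_iff.2 fun g _ => ?_
    obtain ⟨U, hxU, s, rfl⟩ := TopCat.Presheaf.exists_germ_eq T.presheaf g
    let V := U ⊓ CohB1.genLocus T (TwistGen95.degHom (CohB1.polyGrading n K) (P a))
    obtain ⟨c, hc⟩ := (hfr V inf_le_right).2 (res T (inf_le_left : V ≤ U) s)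
    dsimp only at hc
    rw [← TopCat.Presheaf.germ_res_apply T.presheaf (homOfLE (inf_le_left : V ≤ U)) x ⟨hxU, hx⟩]
    show (T.presheaf.germ V x ⟨hxU, hx⟩).hom (res T (inf_le_left : V ≤ U) s) ∈ _
    rw [← hc]
    unfold TwistGen95.degHom
    erw [Var76.Frames.val_ofSection, res_res]
    erw [PresheafOfModules.germ_smul]
    refine Submodule.smul_mem _ _ (Submodule.subset_span ⟨Pi.single a 1, ?_⟩)
    show (T.presheaf.germ ⊤ x trivial).hom (glob (form P (Pi.single a (1 : A)))) = _
    rw [form_single]
    exact (TopCat.Presheaf.germ_res_apply T.presheaf (homOfLE (le_top : V ≤ ⊤)) x ⟨hxU, hx⟩ _).symm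
  obtain ⟨r, hr, τ, hτ⟩ := ProjUniv.exists_to_proj (𝒮 := CohB1.polyGrading N A) q
    (PolySym.linForm_mem N A) (PolySym.isSymmetricAlgebra_linForm N A) T hT v hv hgen
  let O1 := Twist.twist (CohB1.polyGrading N A) (1 : ℤ)
  let Pb := (Scheme.Modules.pullback r).obj O1
  let f1 : (Fin (N + 1) → A) → CohB1.polyGrading N A 1 := fun c => ⟨_, PolySym.linForm_mem N A c⟩
  have hgen1 := ProjUniv.irrelevant_eq_span_one (PolySym.linForm_mem N A) (PolySym.isSymmetricAlgebra_linForm N A)
  have hinv : PicF.IsInvertible O1 := EGA73.isInvertible_twist hgen1 1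
  have hcov : ∀ y : CohB1.ProjSpace n K, ∃ g ∈ CohB1.polyGrading n K d, g ∉ y.asHomogeneousIdeal :=
    fun y => by obtain ⟨b, hb⟩ := hP y; exact ⟨_, (P b).2, hb⟩
  have hτW : ∀ (c : Fin (N + 1) → A) (W : (CohB1.ProjSpace n K).Opens),
      τ.hom.app W (res Pb le_top (ProjUP.pullSec r O1 (Var76.ProjFrame.sect (CohB1.polyGrading N A) (f1 c)))) =
        res T le_top (Twist.globalOf (CohB1.polyGrading n K) (form P c)) := fun c W => by
    rw [Mero90.app_res]
    exact congrArg (res T le_top) (hτ c)
  have hpre : ∀ c : Fin (N + 1) → A, r ⁻¹ᵁ Proj.basicOpen (CohB1.polyGrading N A) (PolySym.linForm N A c) =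
      Proj.basicOpen (CohB1.polyGrading n K) (form P c).1 := by
    intro c
    rw [← genLocus_degOneHom hgen1 (f1 c), ← genLocus_pullHom r hinv, ← TwistGen95.genLocus_degHom hcov (form P c),
      ← genLocus_comp_iso (pullHom r (degOneHom (CohB1.polyGrading N A) (f1 c))) τ.hom]
    congr 1
    refine (T.unitHomEquiv).injective (Subtype.ext (funext fun U => ?_))
    obtain ⟨U⟩ := U
    show val T (pullHom r (degOneHom _ (f1 c)) ≫ τ.hom) U = val T (TwistGen95.degHom _ (form P c)) U
    refine Eq.trans ?_ (Var76.Frames.val_ofSection _ _ _).symm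
    erw [← hτW c U]
    refine congrArg (τ.hom.app U) ?_
    show val _ (pullHom r (degOneHom (CohB1.polyGrading N A) (f1 c))) U = _
    rw [← res_val _ (pullHom r (degOneHom (CohB1.polyGrading N A) (f1 c))) (le_top : U ≤ r ⁻¹ᵁ ⊤)]
    erw [val_pullHom r (degOneHom (CohB1.polyGrading N A) (f1 c)) ⊤]
    have e : val O1 (degOneHom (CohB1.polyGrading N A) (f1 c)) ⊤ = Var76.ProjFrame.sect (CohB1.polyGrading N A) (f1 c) :=
      (Var76.Frames.val_ofSection _ _ _).trans (res_self _ _)
    rw [e]
    rfl
  refine ⟨r, ⟨hr, hpre, fun c c' => ?_⟩, τ, fun c => (hτ c).trans rfl⟩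
  let W : (CohB1.ProjSpace n K).Opens := Proj.basicOpen (CohB1.polyGrading n K) (form P c).1
  have hW : W ≤ r ⁻¹ᵁ Proj.basicOpen (CohB1.polyGrading N A) (PolySym.linForm N A c) := (hpre c).ge
  have h0 : ∀ k, res Pb (le_top : W ≤ ⊤) (ProjUP.pullSec r O1 (Var76.ProjFrame.sect (CohB1.polyGrading N A) (f1 k))) =
      res Pb hW (pullS r O1 (Proj.basicOpen (CohB1.polyGrading N A) (PolySym.linForm N A c))
        (res O1 le_top (Var76.ProjFrame.sect (CohB1.polyGrading N A) (f1 k)))) := fun k => by
    rw [← res_pullS, res_res]; rfl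
  have h1 : res Pb (le_top : W ≤ ⊤) (ProjUP.pullSec r O1 (Var76.ProjFrame.sect (CohB1.polyGrading N A) (f1 c'))) =
      r.appLE _ W hW (Proj.awayToSection (CohB1.polyGrading N A) (PolySym.linForm N A c)
          (HomogeneousLocalization.mk ⟨1, f1 c', f1 c, ⟨1, pow_one _⟩⟩)) •
        res Pb (le_top : W ≤ ⊤) (ProjUP.pullSec r O1 (Var76.ProjFrame.sect (CohB1.polyGrading N A) (f1 c))) := by
    rw [h0, h0, ← Var76.ProjFrame.away_smul_frame (CohB1.polyGrading N A) (f1 c) (f1 c'), pullS_smul, res_smul]
    rfl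
  have h2 := congrArg (τ.hom.app W) h1
  rw [hτW, Scheme.Modules.Hom.app_smul, hτW] at h2
  have hfr : IsFrame T W (res T le_top (Twist.globalOf (CohB1.polyGrading n K) (form P c))) := by
    have := TwistGen95.isFrame_degHom (form P c)
    rwa [TwistGen95.degHom, Var76.Frames.val_ofSection] at this
  refine (hfr W le_rfl).1 ?_
  show _ • res T le_rfl _ = _ • res T le_rfl _
  rw [res_self]
  exact h2.symm.trans (away_smul_globalOf (form P c) (form P c')).symm

include hP in
theorem exists_isFormMap :
    ∃ r : CohB1.ProjSpace n K ⟶ CohB1.ProjSpace N A, IsFormMap P r ∧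
      Nonempty ((Scheme.Modules.pullback r).obj (Twist.twistProjSpace N A 1) ≅ Twist.twistProjSpace n K (d : ℤ)) :=
  Exists.elim (exists_isFormMap_sections P hP) fun r h => ⟨r, h.1, Exists.elim h.2 fun τ _ => ⟨τ⟩⟩

end Groth.Agent.Csa25
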