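import Groth.Agent.Csa25.BrauerGroup
import Mathlib.RingTheory.PiTensorProduct
import Mathlib.Data.Fintype.Option
import Mathlib.LinearAlgebra.PiTensorProduct.Basic

/-!
# Brauer classes of tensor powers
-/

set_option autoImplicit false
open scoped TensorProduct
open Module

namespace Groth.Agent.Csa25

universe u v

section

variable {k : Type u} [Field k]

/-- Reindexing a tensor product of algebras. -/
noncomputable def piReindex {α β : Type*} (A : β → Type v) [∀ i, Ring (A i)] [∀ i, Algebra k (A i)]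
    (e : α ≃ β) : (⨂[k] i, A i) ≃ₐ[k] ⨂[k] i : α, A (e i) :=
  AlgEquiv.ofLinearEquiv (PiTensorProduct.reindex k A e.symm)
    (by
      rw [PiTensorProduct.one_def, PiTensorProduct.one_def]
      exact PiTensorProduct.reindex_tprod _ _)
    ((LinearMap.map_mul_iff _).mpr <| by
      ext x y
      simp
      rfl)

/-- Splitting a tensor product of algebras along a sum. -/
noncomputable def piSum {α β : Type*} (A : α ⊕ β → Type v) [∀ i, Ring (A i)] [∀ i, Algebra k (A i)] :
    (⨂[k] i, A i) ≃ₐ[k] (⨂[k] i, A (.inl i)) ⊗[k] (⨂[k] i, A (.inr i)) :=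
  AlgEquiv.ofLinearEquiv (PiTensorProduct.tmulEquivDep k A).symm
    (by
      rw [PiTensorProduct.one_def, PiTensorProduct.tmulEquivDep_symm_apply,
        Algebra.TensorProduct.one_def]
      rfl)
    ((LinearMap.map_mul_iff _).mpr <| by
      ext x y
      simp [Pi.mul_def])

/-- A tensor product with one factor. -/
noncomputable def piSingle {α : Type*} (A : α → Type v) [∀ i, Ring (A i)] [∀ i, Algebra k (A i)]
    [Subsingleton α] (a : α) : (⨂[k] i, A i) ≃ₐ[k] A a :=
  AlgEquiv.ofLinearEquiv (PiTensorProduct.subsingletonEquiv a)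
    (by rw [PiTensorProduct.one_def]; simp [PiTensorProduct.subsingletonEquiv])
    ((LinearMap.map_mul_iff _).mpr <| by
      ext x y
      simp [PiTensorProduct.subsingletonEquiv])

/-- The empty tensor product. -/
noncomputable def piEmpty {α : Type*} (A : α → Type v) [∀ i, Ring (A i)] [∀ i, Algebra k (A i)]
    [IsEmpty α] : (⨂[k] i, A i) ≃ₐ[k] k :=
  AlgEquiv.ofLinearEquiv (PiTensorProduct.isEmptyEquiv α)
    (by rw [PiTensorProduct.one_def]; simp [PiTensorProduct.isEmptyEquiv])
    ((LinearMap.map_mul_iff _).mpr <| by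
      ext x y
      simp [PiTensorProduct.isEmptyEquiv])

theorem cl_of_algEquiv {A B : Type*} [Ring A] [Algebra k A] [Algebra.IsCentral k A] [IsSimpleRing A]
    [FiniteDimensional k A] [Ring B] [Algebra k B] (e : A ≃ₐ[k] B) :
    ∃ (_ : Algebra.IsCentral k B) (_ : IsSimpleRing B) (_ : FiniteDimensional k B),
      finrank k B = finrank k A ∧ cl k B = cl k A := by
  have h1 := isCentral_of_algEquiv e
  have h2 : IsSimpleRing B := .of_ringEquiv e.toRingEquiv inferInstance
  have h3 := Module.Finite.equiv e.toLinearEquiv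
  exact ⟨h1, h2, h3, e.toLinearEquiv.finrank_eq.symm, cl_congr e.symm⟩

/-- The class of a finite tensor product is the product of the classes. -/
theorem pi_tensor_csa (α : Type) [Fintype α] (A : α → Type v) [∀ i, Ring (A i)]
    [∀ i, Algebra k (A i)] [∀ i, Algebra.IsCentral k (A i)] [∀ i, IsSimpleRing (A i)]
    [∀ i, FiniteDimensional k (A i)] :
    ∃ (_ : Algebra.IsCentral k (⨂[k] i, A i)) (_ : IsSimpleRing (⨂[k] i, A i))
      (_ : FiniteDimensional k (⨂[k] i, A i)),
      finrank k (⨂[k] i, A i) = ∏ i, finrank k (A i) ∧ cl k (⨂[k] i, A i) = ∏ i, cl k (A i) := by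
  refine Fintype.induction_empty_option (P := fun α h => ∀ (A : α → Type v) [∀ i, Ring (A i)]
    [∀ i, Algebra k (A i)] [∀ i, Algebra.IsCentral k (A i)] [∀ i, IsSimpleRing (A i)]
    [∀ i, FiniteDimensional k (A i)],
    ∃ (_ : Algebra.IsCentral k (⨂[k] i, A i)) (_ : IsSimpleRing (⨂[k] i, A i))
      (_ : FiniteDimensional k (⨂[k] i, A i)),
      finrank k (⨂[k] i, A i) = (@Finset.univ α h).prod (fun i => finrank k (A i)) ∧
      cl k (⨂[k] i, A i) = (@Finset.univ α h).prod (fun i => cl k (A i))) ?_ ?_ ?_ α A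
  · intro α β _ e ih A _ _ _ _ _
    let := Fintype.ofEquiv β e.symm
    obtain ⟨_, _, _, hd, hc⟩ := ih (fun i => A (e i))
    obtain ⟨i1, i2, i3, hd', hc'⟩ := cl_of_algEquiv (piReindex (k := k) A e).symm
    exact ⟨i1, i2, i3, hd'.trans (hd.trans (Equiv.prod_comp e (fun i => finrank k (A i)))),
      hc'.trans (hc.trans (Equiv.prod_comp e (fun i => cl k (A i))))⟩
  · intro A _ _ _ _ _
    obtain ⟨i1, i2, i3, hd', hc'⟩ := cl_of_algEquiv (piEmpty (k := k) A).symm
    exact ⟨i1, i2, i3, by simpa using hd', by simpa [cl_field] using hc'⟩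
  · intro α _ ih A _ _ _ _ _
    let e : α ⊕ PUnit.{1} ≃ Option α := (Equiv.optionEquivSumPUnit α).symm
    obtain ⟨_, _, _, hd, hc⟩ := ih (fun i => A (e (.inl i)))
    obtain ⟨j1, j2, j3, hd₁, hc₁⟩ := cl_of_algEquiv
      (piSingle (k := k) (fun i : PUnit.{1} => A (e (.inr i))) PUnit.unit).symm
    obtain ⟨i1, i2, i3, hd', hc'⟩ := cl_of_algEquiv
      (((piReindex (k := k) A e).trans (piSum (fun i => A (e i))))).symm
    refine ⟨i1, i2, i3, ?_, ?_⟩
    · rw [hd', Module.finrank_tensorProduct, hd, hd₁, Fintype.prod_option, mul_comm]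
      rfl
    · rw [hc', cl_tensor, hc, hc₁, Fintype.prod_option, mul_comm]
      rfl

end

section tpow

variable (k : Type u) [Field k] (A : Type v) [Ring A] [Algebra k A] [Algebra.IsCentral k A]
  [IsSimpleRing A] [FiniteDimensional k A] (e : ℕ)

scoped instance tpow_isCentral : Algebra.IsCentral k (CSAGal.tpow k A e) :=
  (pi_tensor_csa (Fin e) fun _ => A).fst

scoped instance tpow_isSimpleRing : IsSimpleRing (CSAGal.tpow k A e) :=
  (pi_tensor_csa (Fin e) fun _ => A).snd.fst

scoped instance tpow_finiteDimensional : FiniteDimensional k (CSAGal.tpow k A e) :=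
  (pi_tensor_csa (Fin e) fun _ => A).snd.snd.fst

theorem finrank_tpow : finrank k (CSAGal.tpow k A e) = finrank k A ^ e := by
  obtain ⟨_, _, _, h, -⟩ := pi_tensor_csa (k := k) (Fin e) fun _ => A
  simpa using h

theorem cl_tpow : cl k (CSAGal.tpow k A e) = cl k A ^ e := by
  obtain ⟨_, _, _, -, h⟩ := pi_tensor_csa (k := k) (Fin e) fun _ => A
  simpa using h

theorem splits_tpow_iff : Curves.Splits k (CSAGal.tpow k A e) k ↔ cl k A ^ e = 1 := by
  rw [splits_iff_cl_eq_one, cl_tpow]

/-- The period is the order of the Brauer class. -/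
theorem isPeriod_iff : CSAGal.IsPeriod k A e ↔ 0 < e ∧ orderOf (cl k A) = e := by
  unfold CSAGal.IsPeriod
  simp only [splits_tpow_iff]
  constructor
  · rintro ⟨h0, h1, h2⟩
    exact ⟨h0, (orderOf_eq_iff h0).mpr ⟨h1, fun m hm hm0 => h2 m hm0 hm⟩⟩
  · rintro ⟨h0, h⟩
    obtain ⟨h1, h2⟩ := (orderOf_eq_iff h0).mp h
    exact ⟨h0, h1, fun m hm0 hm => h2 m hm hm0⟩

end tpow

end Groth.Agent.Csa25
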