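import Groth.Agent.Csa25.CocycleSplit
import Groth.Agent.Csa25.FormMap
import Groth.Agent.Csa25.TensorPower
import Groth.Agent.Forms14.Basic

/-!
# Coboundaries and invariant forms for projective semilinear actions
-/

set_option autoImplicit false
open scoped TensorProduct
open Module

namespace Groth.Agent.Csa25

universe u

variable {k : Type u} [Field k] {K : Type u} [Field K] [Algebra k K]

/-- The twisting function of a split class is a coboundary. -/
theorem exists_coboundary_of_twisted_one {c : (K ≃ₐ[k] K) → (K ≃ₐ[k] K) → K}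
    (h : Twisted (MonoidHom.id (K ≃ₐ[k] K)) (1 : Br k) c) :
    ∃ μ : (K ≃ₐ[k] K) → K, (∀ σ, μ σ ≠ 0) ∧ ∀ σ τ, c σ τ * μ (σ * τ) = μ σ * σ (μ τ) := by
  classical
  obtain ⟨m, A, _, _, _, _, _, φ, P, hm, hd, hx, hP, hconj, hc⟩ := h
  obtain ⟨r, hr, ⟨ψ₀⟩⟩ := (splits_iff_cl_eq_one (k := k) (A := A)).mpr hx
  have ψ : A ≃ₐ[k] Matrix (Fin r) (Fin r) k := (Algebra.TensorProduct.lid k A).symm.trans ψ₀
  obtain rfl : r = m := by
    have h1 : finrank k A = r * r := by rw [ψ.toLinearEquiv.finrank_eq, Module.finrank_matrix]; simp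
    exact Nat.mul_self_inj.mp (h1.symm.trans hd)
  have : NeZero r := ⟨hr⟩
  let std : A →ₐ[k] Matrix (Fin r) (Fin r) K := (Algebra.ofId k K).mapMatrix.comp ψ.toAlgHom
  let Φ : K ⊗[k] A →ₐ[K] Matrix (Fin r) (Fin r) K :=
    Algebra.TensorProduct.lift (Algebra.ofId K _) φ fun x y => Algebra.commutes x (φ y)
  let Ψ : K ⊗[k] A →ₐ[K] Matrix (Fin r) (Fin r) K :=
    Algebra.TensorProduct.lift (Algebra.ofId K _) std fun x y => Algebra.commutes x (std y)
  have : IsSimpleRing (K ⊗[k] A) := isSimpleRing_baseChange k A K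
  obtain ⟨Q, hQ⟩ := exists_unit_conj Ψ Φ
  have hφ : ∀ a, φ a = (Q : Matrix (Fin r) (Fin r) K) * std a * (↑Q⁻¹ : Matrix (Fin r) (Fin r) K) := fun a => by
    have := hQ (1 ⊗ₜ a)
    have e1 : Φ (1 ⊗ₜ[k] a) = φ a := (Algebra.TensorProduct.lift_tmul _ _ _ _ _).trans (by rw [map_one, one_mul])
    have e2 : Ψ (1 ⊗ₜ[k] a) = std a := (Algebra.TensorProduct.lift_tmul _ _ _ _ _).trans (by rw [map_one, one_mul])
    rwa [e1, e2] at this
  let s : (K ≃ₐ[k] K) → Matrix (Fin r) (Fin r) K →+* Matrix (Fin r) (Fin r) K := fun σ => (σ : K →+* K).mapMatrix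
  have hstd : ∀ σ a, s σ (std a) = std a := fun σ a => Matrix.ext fun i j => by simp [s, std, Algebra.ofId_apply]
  have hsc : ∀ σ, ∃ μ : K, P σ = μ • ((Q : Matrix (Fin r) (Fin r) K) * s σ (↑Q⁻¹ : Matrix (Fin r) (Fin r) K)) := by
    intro σ
    let M := (↑Q⁻¹ : Matrix (Fin r) (Fin r) K) * P σ * s σ (Q : Matrix (Fin r) (Fin r) K)
    have hcomm : ∀ a, std a * M = M * std a := fun a => by
      have h1 : φ a * P σ = P σ * s σ (φ a) := hconj σ a
      rw [hφ, map_mul, map_mul, hstd] at h1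
      have h2 := congrArg (fun Z => (↑Q⁻¹ : Matrix (Fin r) (Fin r) K) * Z * s σ (Q : Matrix (Fin r) (Fin r) K)) h1
      simp only [M, ← mul_assoc, Units.inv_mul, one_mul] at h2 ⊢
      have h3 : s σ (↑Q⁻¹ : Matrix (Fin r) (Fin r) K) * s σ (Q : Matrix (Fin r) (Fin r) K) = 1 := by
        rw [← map_mul, Units.inv_mul, map_one]
      simp only [mul_assoc, h3, mul_one] at h2 ⊢
      exact h2
    obtain ⟨μ, hμ⟩ := Matrix.mem_range_scalar_of_commute_single (M := M) fun i j _ => by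
      have : Matrix.single i j (1 : K) = std (ψ.symm (Matrix.single i j 1)) := by
        ext a b; simp [std, Algebra.ofId_apply, Matrix.single, apply_ite]
      show Commute (Matrix.single i j (1 : K)) M
      rw [this]; exact hcomm _
    refine ⟨μ, ?_⟩
    calc P σ = (Q : Matrix (Fin r) (Fin r) K) * M * s σ (↑Q⁻¹ : Matrix (Fin r) (Fin r) K) := by
          simp only [M, ← mul_assoc, Units.mul_inv, one_mul]
          rw [mul_assoc, ← map_mul, Units.mul_inv, map_one, mul_one]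
      _ = _ := by rw [← hμ, Matrix.scalar_apply, ← Matrix.smul_one_eq_diagonal, Matrix.mul_smul, mul_one, Matrix.smul_mul]
  choose μ hμ using hsc
  have hμ0 : ∀ σ, μ σ ≠ 0 := fun σ h0 => not_isUnit_zero (by
    have := hP σ
    rwa [hμ, h0, zero_smul] at this)
  refine ⟨μ, hμ0, fun σ τ => ?_⟩
  have h1 : P σ * s σ (P τ) = c σ τ • P (σ * τ) := hc σ τ
  have h2 : ∀ (x : K) (Z : Matrix (Fin r) (Fin r) K), s σ (x • Z) = σ x • s σ Z := fun x Z =>
    Matrix.ext fun i j => map_mul σ x (Z i j)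
  have h3 : ∀ Z, s σ (s τ Z) = s (σ * τ) Z := fun Z => Matrix.ext fun i j => rfl
  have hcanc : (Q : Matrix (Fin r) (Fin r) K) * s σ (↑Q⁻¹ : Matrix (Fin r) (Fin r) K) *
      (s σ (Q : Matrix (Fin r) (Fin r) K) * s σ (s τ (↑Q⁻¹ : Matrix (Fin r) (Fin r) K))) =
      (Q : Matrix (Fin r) (Fin r) K) * s (σ * τ) (↑Q⁻¹ : Matrix (Fin r) (Fin r) K) := by
    rw [mul_assoc, ← mul_assoc (s σ _) (s σ (Q : Matrix (Fin r) (Fin r) K)), ← map_mul, Units.inv_mul, map_one,
      one_mul, h3]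
  rw [hμ, hμ, hμ, h2, map_mul, Matrix.smul_mul, Matrix.mul_smul, smul_smul, smul_smul, hcanc] at h1
  have hne : (Q : Matrix (Fin r) (Fin r) K) * s (σ * τ) (↑Q⁻¹ : Matrix (Fin r) (Fin r) K) ≠ 0 :=
    (Q.isUnit.mul (Q⁻¹.isUnit.map (s (σ * τ)))).ne_zero
  exact (smul_left_injective K hne h1).symm

variable {n : ℕ}

/-- Rescaling a substitution on forms of degree `d`. -/
theorem linHom_smul {d : ℕ} {p : MvPolynomial (Fin (n + 1)) K} (hp : p ∈ CohB1.polyGrading n K d)
    (θ : K →+* K) (c : K) (g : Matrix (Fin (n + 1)) (Fin (n + 1)) K) :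
    linHom θ (c • g) p = MvPolynomial.C (c ^ d) * linHom θ g p := by
  classical
  have hl : ∀ j, linForm (c • g) j = MvPolynomial.C c * linForm g j := fun j => by
    simp [linForm, Finset.mul_sum, mul_assoc]
  have hp' := (MvPolynomial.mem_homogeneousSubmodule _ _).mp hp
  rw [p.as_sum, map_sum, map_sum, Finset.mul_sum]
  refine Finset.sum_congr rfl fun m hm => ?_
  have hdeg : ∑ j, m j = d := by
    have := hp' (MvPolynomial.mem_support_iff.mp hm)
    rw [Finsupp.weight_apply] at this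
    simpa [Finsupp.sum_fintype] using this
  have e : ∀ g' : Matrix (Fin (n + 1)) (Fin (n + 1)) K, linHom θ g' (MvPolynomial.monomial m (p.coeff m)) =
      MvPolynomial.C (θ (p.coeff m)) * ∏ j, linForm g' j ^ m j := fun g' => by
    rw [MvPolynomial.monomial_eq, map_mul, linHom_C, Finsupp.prod_fintype _ _ (fun _ => pow_zero _), map_prod]
    simp [linHom_X]
  rw [e, e]
  simp only [hl, mul_pow, Finset.prod_mul_distrib, Finset.prod_pow_eq_pow_sum, hdeg, map_pow]
  ring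

variable [FiniteDimensional k K] [IsGalois k K]

/-- Invariant bases of forms. -/
theorem exists_invariant_forms (g : (K ≃ₐ[k] K) → Matrix (Fin (n + 1)) (Fin (n + 1)) K)
    (hg : ∀ σ, IsUnit (g σ)) (c : (K ≃ₐ[k] K) → (K ≃ₐ[k] K) → K)
    (hc : ∀ σ τ, g σ * (g τ).map σ = c σ τ • g (σ * τ)) {d : ℕ} (μ : (K ≃ₐ[k] K) → K) (hμ0 : ∀ σ, μ σ ≠ 0)
    (hμ : ∀ σ τ, c σ τ ^ d * μ (σ * τ) = μ σ * σ (μ τ)) :
    ∃ (N : ℕ) (P : Fin (N + 1) → CohB1.polyGrading n K d), N + 1 = Nat.choose (n + 1 + d - 1) d ∧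
      (∀ F, ∃ a : Fin (N + 1) → K, form P a = F) ∧
      ∀ (σ : K ≃ₐ[k] K) (a : Fin (N + 1)), linHom (σ : K →+* K) (g σ) (P a).1 = MvPolynomial.C (μ σ) * (P a).1 := by
  classical
  let V := CohB1.polyGrading n K d
  have hdim : finrank K V = Nat.choose (n + 1 + d - 1) d := Forms14.finrank_homogeneousSubmodule (k := K) (n + 1) d
  have hpos : 0 < Nat.choose (n + 1 + d - 1) d := Nat.choose_pos (by omega)
  obtain ⟨N, hN⟩ : ∃ N, finrank K V = N + 1 := ⟨finrank K V - 1, by omega⟩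
  haveI : FiniteDimensional K V := Module.finite_of_finrank_pos (by omega)
  let b : Basis (Fin (N + 1)) K V := Module.finBasisOfFinrankEq K V hN
  let T : (K ≃ₐ[k] K) → V → V := fun σ p => (μ σ)⁻¹ • ⟨linHom (σ : K →+* K) (g σ) p.1, (linHom _ _).map_mem p.2⟩
  have hTval : ∀ σ p, (T σ p).1 = MvPolynomial.C (μ σ)⁻¹ * linHom (σ : K →+* K) (g σ) p.1 := fun σ p => by
    simp only [T, Submodule.coe_smul, MvPolynomial.smul_eq_C_mul]
  have hTsum : ∀ σ (a : Fin (N + 1) → K) (v : Fin (N + 1) → V), T σ (∑ i, a i • v i) = ∑ i, σ (a i) • T σ (v i) := by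
    intro σ a v
    refine Subtype.ext ?_
    rw [hTval, Submodule.coe_sum, Submodule.coe_sum, map_sum, Finset.mul_sum]
    refine Finset.sum_congr rfl fun i _ => ?_
    rw [Submodule.coe_smul, Submodule.coe_smul, hTval, MvPolynomial.smul_eq_C_mul, MvPolynomial.smul_eq_C_mul,
      map_mul, linHom_C]
    show _ = MvPolynomial.C (σ (a i)) * _
    rw [show (σ : K →+* K) (a i) = σ (a i) from rfl]
    ring
  have hTmul : ∀ σ τ p, T σ (T τ p) = T (σ * τ) p := by
    intro σ τ p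
    refine Subtype.ext ?_
    rw [hTval, hTval, hTval, map_mul, linHom_C]
    have hcomp := DFunLike.congr_fun (linHom_comp (τ : K →+* K) (σ : K →+* K) (g τ) (g σ)) p.1
    rw [show linHom (σ : K →+* K) (g σ) (linHom (τ : K →+* K) (g τ) p.1) = _ from hcomp,
      show (g τ).map (σ : K →+* K) = (g τ).map σ from rfl, hc, linHom_smul p.2,
      show ((σ : K →+* K).comp (τ : K →+* K)) = ((σ * τ : K ≃ₐ[k] K) : K →+* K) from rfl, ← mul_assoc, ← mul_assoc,
      ← map_mul, ← map_mul]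
    congr 2
    show (μ σ)⁻¹ * σ (μ τ)⁻¹ * c σ τ ^ d = (μ (σ * τ))⁻¹
    have h := hμ σ τ
    have h1 := hμ0 σ
    have h2 : σ (μ τ) ≠ 0 := (map_ne_zero σ).mpr (hμ0 τ)
    have h3 := hμ0 (σ * τ)
    rw [map_inv₀]
    field_simp
    linear_combination h
  have hT1 : ∀ p, T 1 p = p := by
    intro p
    obtain ⟨u, hu⟩ := hg 1
    have h11 : g 1 = c 1 1 • 1 := by
      have h := hc 1 1
      rw [mul_one, show (g 1).map (1 : K ≃ₐ[k] K) = g 1 from Matrix.ext fun i j => rfl] at h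
      calc g 1 = (↑u⁻¹ : Matrix (Fin (n + 1)) (Fin (n + 1)) K) * (g 1 * g 1) := by
            rw [← hu, ← mul_assoc, Units.inv_mul, one_mul]
        _ = _ := by rw [h, Matrix.mul_smul, ← hu, Units.inv_mul]
    have hμ1 : c 1 1 ^ d = μ 1 := by
      have h := hμ 1 1
      rw [mul_one] at h
      exact mul_right_cancel₀ (hμ0 1) h
    refine Subtype.ext ?_
    rw [hTval, h11, linHom_smul p.2, ← mul_assoc, ← map_mul, hμ1, inv_mul_cancel₀ (hμ0 1), map_one, one_mul,
      show ((1 : K ≃ₐ[k] K) : K →+* K) = RingHom.id K from rfl, linHom_id]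
    rfl
  let B : (K ≃ₐ[k] K) → Matrix (Fin (N + 1)) (Fin (N + 1)) K := fun σ =>
    Matrix.of fun i j => b.repr (T σ (b j)) i
  have hTb : ∀ σ j, T σ (b j) = ∑ i, B σ i j • b i := fun σ j => (b.sum_repr _).symm
  let ρ : (K ≃ₐ[k] K) →* (K ≃ₐ[k] K) := MonoidHom.id _
  have hcoc : ∀ σ τ, B (σ * τ) = B σ * entAct ρ σ (B τ) := by
    intro σ τ
    ext i j
    show b.repr (T (σ * τ) (b j)) i = _
    rw [← hTmul, hTb τ, hTsum, map_sum, Finsupp.finset_sum_apply, Matrix.mul_apply]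
    refine Finset.sum_congr rfl fun l _ => ?_
    rw [map_smul, Finsupp.smul_apply, smul_eq_mul, mul_comm]
    rfl
  have hB1 : B 1 = 1 := by
    ext i j
    show b.repr (T 1 (b j)) i = _
    rw [hT1, Basis.repr_self, Finsupp.single_apply, Matrix.one_apply]
    simp [eq_comm]
  have hB : ∀ σ, IsUnit (B σ) := fun σ => by
    have h := hcoc σ σ⁻¹
    rw [mul_inv_cancel, hB1] at h
    exact IsUnit.of_mul_eq_one _ h.symm
  obtain ⟨Q, hQ, hQfix⟩ := exists_fixed_frame ρ (fun _ _ h => h) B hB hcoc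
  refine ⟨N, fun a => ∑ i, Q i a • b i, hN.symm.trans hdim, fun F => ?_, fun σ a => ?_⟩
  · obtain ⟨q, rfl⟩ := hQ
    refine ⟨Matrix.mulVec (↑q⁻¹ : Matrix (Fin (N + 1)) (Fin (N + 1)) K) fun i => b.repr F i, ?_⟩
    rw [form]
    simp only [Algebra.algebraMap_self, RingHom.id_apply, Finset.smul_sum, smul_smul]
    rw [Finset.sum_comm]
    conv_rhs => rw [← b.sum_repr F]
    refine Finset.sum_congr rfl fun i _ => ?_
    rw [← Finset.sum_smul]
    congr 1
    have h := congrFun (congrArg (fun M => Matrix.mulVec M fun i => b.repr F i) q.mul_inv) i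
    simp only [Matrix.one_mulVec, ← Matrix.mulVec_mulVec] at h
    rw [← h]
    exact Finset.sum_congr rfl fun l _ => mul_comm _ _
  · have hfix : T σ (∑ i, Q i a • b i) = ∑ i, Q i a • b i := by
      rw [hTsum]
      simp only [hTb, Finset.smul_sum, smul_smul]
      rw [Finset.sum_comm]
      refine Finset.sum_congr rfl fun i _ => ?_
      rw [← Finset.sum_smul]
      congr 1
      have h := congrFun₂ (hQfix σ) i a
      rw [Matrix.mul_apply] at h
      rw [← h]
      exact Finset.sum_congr rfl fun l _ => mul_comm _ _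
    have h2 := congrArg Subtype.val hfix
    rw [hTval] at h2
    conv_rhs => rw [← h2]
    rw [← mul_assoc, ← map_mul, mul_inv_cancel₀ (hμ0 σ), map_one, one_mul]

end Groth.Agent.Csa25
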