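import Groth.Agent.Csa25.SBFrame
import Groth.Agent.Csa25.TwistedForms
import Groth.Agent.Csa25.FormMap2
import Groth.Agent.Unr55.DescProps
import Groth.Agent.Desc59.GalMor

/-!
# The embedding of a Severi–Brauer scheme by forms of degree the period
-/

set_option autoImplicit false
open scoped TensorProduct Groth.Agent.Csa25
open Module CategoryTheory CategoryTheory.Limits AlgebraicGeometry HomogeneousLocalization

noncomputable section

namespace Groth.Agent.Csa25

universe u

variable {k : Type u} [Field k] {L : Type u} [Field L] [Algebra k L] [FiniteDimensional k L] [IsGalois k L]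
  {n : ℕ} {A : Type u} [Ring A] [Algebra k A]
  (φ : L ⊗[k] A ≃ₐ[L] Matrix (Fin (n + 1)) (Fin (n + 1)) L)
  (hd : finrank k A = (n + 1) * (n + 1))
  {X : Scheme.{u}} {f : X ⟶ Spec (CommRingCat.of k)}
  (str : BrSev.SBStr k A ((n + 1) * (n + 1) - (n + 1)) f)

include hd in
/-- The twisting function of the frame represents the class of the algebra. -/
theorem exists_twisted_frame [Algebra.IsCentral k A] [IsSimpleRing A] [FiniteDimensional k A] :
    ∃ (F : Frame (splittingOf φ hd str)) (c : (L ≃ₐ[k] L) → (L ≃ₐ[k] L) → L),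
      (∀ σ τ, F.mat σ * (F.mat τ).map σ = c σ τ • F.mat (σ * τ)) ∧
      Twisted (MonoidHom.id (L ≃ₐ[k] L)) (cl k A) c := by
  obtain ⟨F, hF⟩ := exists_frame_splittingOf φ hd str
  choose c hc0 hc using F.mul
  exact ⟨F, c, hc, n + 1, A, inferInstance, inferInstance, inferInstance, inferInstance, inferInstance,
    (φ.toAlgHom.restrictScalars k).comp Algebra.TensorProduct.includeRight, F.mat, n.succ_ne_zero, hd, rfl,
    F.isUnit, hF, hc⟩

theorem exists_notMem_of_span {N d : ℕ} {P : Fin (N + 1) → CohB1.polyGrading n L d}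
    (hspan : ∀ F, ∃ a : Fin (N + 1) → L, form P a = F) (x : CohB1.ProjSpace n L) :
    ∃ a, (P a).1 ∉ x.asHomogeneousIdeal := by
  by_contra! h
  obtain ⟨i, hi⟩ := exists_X_notMem x
  have hXd : (MvPolynomial.X i ^ d : MvPolynomial (Fin (n + 1)) L) ∈ CohB1.polyGrading n L d := by
    simpa using (MvPolynomial.isHomogeneous_X L i).pow d
  obtain ⟨c, hc⟩ := hspan ⟨_, hXd⟩
  have hmem : (MvPolynomial.X i : MvPolynomial (Fin (n + 1)) L) ^ d ∈ x.asHomogeneousIdeal.toIdeal := by
    have e := congrArg Subtype.val hc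
    simp only at e
    rw [← e, form_coe]
    exact Ideal.sum_mem _ fun a _ => Ideal.mul_mem_left _ _ (h a)
  exact hi (x.isPrime.mem_of_pow_mem d hmem)

include φ hd str in
theorem exists_embedding [Algebra.IsCentral k A] [IsSimpleRing A] [FiniteDimensional k A] {d : ℕ} (hd0 : 0 < d) (hcl : cl k A ^ d = 1) :
    ∃ (N : ℕ) (ρ : X ⟶ CohB1.ProjSpace N k), N + 1 = Nat.choose (n + 1 + d - 1) d ∧ IsClosedImmersion ρ ∧
      ρ ≫ CohB1.ProjSpace.toSpec N k = f ∧
      BrSev.IsTwPow (splittingOf φ hd str) (d : ℤ) 1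
        ((Scheme.Modules.pullback ρ).obj (Twist.twistProjSpace N k 1)) := by
  classical
  obtain ⟨F, c, hc, htw⟩ := exists_twisted_frame φ hd str
  have htd := htw.pow d
  rw [hcl] at htd
  obtain ⟨μ, hμ0, hμ⟩ := exists_coboundary_of_twisted_one htd
  obtain ⟨N, P, hN, hspan, hinv⟩ := exists_invariant_forms F.mat F.isUnit c hc μ hμ0 hμ
  have hP := exists_notMem_of_span hspan
  obtain ⟨r', hr', -⟩ := exists_isFormMap (A := L) P hP
  obtain ⟨rk, hrk, ⟨τ⟩⟩ := exists_isFormMap (A := k) P hP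
  have hcl' := isClosedImmersion_of_isFormMap hd0 hspan hr'
  have hrk' : r' ≫ linMap (algebraMap k L) 1 isUnit_one = rk := IsFormMap.unique hP hr'.comp_base hrk
  have hrkσ : ∀ σ : L ≃ₐ[k] L, linMap (σ : L →+* L) (F.mat σ) (F.isUnit σ) ≫ rk = rk := fun σ =>
    IsFormMap.unique hP (hrk.comp_linMap hd0 (σ : L →+* L) (F.mat σ) (F.isUnit σ) P
      (RingHom.ext σ.commutes) (μ σ) (isUnit_iff_ne_zero.mpr (hμ0 σ)) (hinv σ)) hrk
  let e := splittingOf φ hd str
  let q := CohB1.ProjSpace.toSpec N k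
  let str' : Spec (CommRingCat.of L) ⟶ Spec (CommRingCat.of k) := Spec.map (CommRingCat.ofHom (algebraMap k L))
  have hcond : (e.iso.hom ≫ rk) ≫ q = BrSev.bcTo f L ≫ str' := by
    rw [Category.assoc, hrk.comm, ← Category.assoc, e.comm]
  let h : BrSev.bc f L ⟶ BrSev.bc q L := pullback.lift (e.iso.hom ≫ rk) (BrSev.bcTo f L) hcond
  have h1 : h ≫ BrSev.proj q L = e.iso.hom ≫ rk := pullback.lift_fst _ _ _
  have h2 : h ≫ BrSev.bcTo q L = BrSev.bcTo f L := pullback.lift_snd _ _ _
  have heq : ∀ σ, bcAct f σ ≫ h = h ≫ bcAct q σ := by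
    intro σ
    apply pullback.hom_ext
    · show (_ ≫ h) ≫ BrSev.proj q L = (h ≫ _) ≫ BrSev.proj q L
      rw [Category.assoc, h1, Category.assoc, bcAct_proj, h1]
      have hact := F.act σ
      rw [Iso.inv_comp_eq] at hact
      rw [reassoc_of% hact, hrkσ]
    · show (_ ≫ h) ≫ BrSev.bcTo q L = (h ≫ _) ≫ BrSev.bcTo q L
      rw [Category.assoc, h2, Category.assoc, bcAct_bcTo, bcAct_bcTo, reassoc_of% h2]
  have hhcl : IsClosedImmersion h := by
    let i := (isPullback_linMap_one (n := N) (R := k) (R' := L)).isoPullback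
    have hh : h = e.iso.hom ≫ r' ≫ i.hom := by
      apply pullback.hom_ext
      · refine h1.trans ?_
        rw [Category.assoc, Category.assoc, IsPullback.isoPullback_hom_fst, hrk']
      · refine h2.trans ?_
        rw [Category.assoc, Category.assoc, IsPullback.isoPullback_hom_snd, hr'.comm,
          show CommRingCat.ofHom (algebraMap L L) = 𝟙 (CommRingCat.of L) from rfl, Spec.map_id]
        exact (e.comm.symm.trans (congrArg (e.iso.hom ≫ ·) (Category.comp_id _).symm))
    rw [hh]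
    infer_instance
  letI : X.Over (Spec (CommRingCat.of k)) := ⟨f⟩
  letI : (CohB1.ProjSpace N k).Over (Spec (CommRingCat.of k)) := ⟨q⟩
  obtain ⟨ρ, hρ, hρ'⟩ := (Desc59.GalMor.descend k L (X := X) (Y := CohB1.ProjSpace N k) h h2).mpr heq
  change ρ ≫ q = f at hρ
  change h ≫ BrSev.proj q L = BrSev.proj f L ≫ ρ at hρ'
  refine ⟨N, ρ, hN, ?_, hρ, ?_⟩
  · have hsurj : Surjective str' := ⟨fun x =>
      ⟨IsLocalRing.closedPoint L, Subsingleton.elim (α := PrimeSpectrum k) _ x⟩⟩
    have hflat : Flat str' := by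
      rw [HasRingHomProperty.Spec_iff (P := @Flat)]
      exact RingHom.flat_algebraMap_iff.mpr inferInstance
    haveI : Flat (BrSev.proj q L) := by dsimp [BrSev.proj]; infer_instance
    haveI : Surjective (BrSev.proj q L) := by dsimp [BrSev.proj]; infer_instance
    haveI : QuasiCompact (BrSev.proj q L) := by dsimp [BrSev.proj]; infer_instance
    have hbig : IsPullback (BrSev.proj f L) (h ≫ BrSev.bcTo q L) (ρ ≫ q) str' := by
      rw [h2, hρ]
      exact IsPullback.of_hasPullback _ _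
    have hsq : IsPullback (BrSev.proj f L) h ρ (BrSev.proj q L) :=
      IsPullback.of_bot hbig hρ'.symm (IsPullback.of_hasPullback _ _)
    exact Unr55.isClosedImmersion.of_isPullback hsq.flip ⟨⟨inferInstance, inferInstance⟩, inferInstance⟩ hhcl
  · refine ⟨?_ ≪≫ (coproductUniqueIso _).symm⟩
    exact (Scheme.Modules.pullbackComp (BrSev.proj f L) ρ).app _ ≪≫
      (Scheme.Modules.pullbackCongr (hρ'.symm.trans h1)).app _ ≪≫
      ((Scheme.Modules.pullbackComp e.iso.hom rk).app _).symm ≪≫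
      (Scheme.Modules.pullback e.iso.hom).mapIso τ

end Groth.Agent.Csa25
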