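import Groth.Agent.Csa25.FormMap2
import Groth.Agent.Csa25.ProjAutLinear
import Groth.Agent.Amp73.PullTensor
import Groth.Prelude.Def_BrSev

/-!
# Twists pulled back along morphisms of projective spaces
-/

set_option autoImplicit false
set_option backward.isDefEq.respectTransparency.types false

open CategoryTheory CategoryTheory.Limits AlgebraicGeometry HomogeneousLocalization

noncomputable section

namespace Groth.Agent.Csa25

universe u

open Groth.Agent.EGA73 Var76.Reg

/-- A morphism pulling `O(1)` back to `O(d)` pulls `O(j)` back to `O(dj)`. -/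
theorem nonempty_pullback_twist {A K : Type u} [CommRing A] [CommRing K] {n N : ℕ} {d : ℤ}
    {r : CohB1.ProjSpace n K ⟶ CohB1.ProjSpace N A}
    (h : Nonempty ((Scheme.Modules.pullback r).obj (Twist.twistProjSpace N A 1) ≅ Twist.twistProjSpace n K d))
    (j : ℤ) :
    Nonempty ((Scheme.Modules.pullback r).obj (Twist.twistProjSpace N A j) ≅ Twist.twistProjSpace n K (d * j)) := by
  have hadd : ∀ {a b c : ℤ} {a' b' c' : ℤ}, a + b = c → a' + b' = c' →
      Nonempty ((Scheme.Modules.pullback r).obj (Twist.twistProjSpace N A a) ≅ Twist.twistProjSpace n K a') →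
      Nonempty ((Scheme.Modules.pullback r).obj (Twist.twistProjSpace N A b) ≅ Twist.twistProjSpace n K b') →
      Nonempty ((Scheme.Modules.pullback r).obj (Twist.twistProjSpace N A c) ≅ Twist.twistProjSpace n K c') := by
    rintro a b c a' b' c' habc habc' ⟨ea⟩ ⟨eb⟩
    obtain ⟨t⟩ := nonempty_twist_add (n := N) (A := A) habc
    obtain ⟨t'⟩ := nonempty_twist_add (n := n) (A := K) habc'
    haveI := Amp73.isIso_pullTensHom r (isInvertible_twist (n := N) (A := A) a) (isInvertible_twist (n := N) (A := A) b)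
    exact ⟨(Scheme.Modules.pullback r).mapIso t.symm ≪≫ asIso (Amp73.pullTensHom r _ _) ≪≫ tensIso ea eb ≪≫ t'⟩
  have h0 : Nonempty ((Scheme.Modules.pullback r).obj (Twist.twistProjSpace N A 0) ≅ Twist.twistProjSpace n K 0) := by
    obtain ⟨a⟩ := nonempty_twist_zero (n := N) (A := A)
    obtain ⟨b⟩ := nonempty_twist_zero (n := n) (A := K)
    exact ⟨(Scheme.Modules.pullback r).mapIso a ≪≫ PicLoc.pullbackStructureIso r ≪≫ b.symm⟩
  have hneg : Nonempty ((Scheme.Modules.pullback r).obj (Twist.twistProjSpace N A (-1)) ≅ Twist.twistProjSpace n K (-d)) := by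
    obtain ⟨e1⟩ := h
    obtain ⟨e0⟩ := h0
    let R := (Scheme.Modules.pullback r).obj (Twist.twistProjSpace N A (-1))
    obtain ⟨a⟩ := nonempty_twist_zero (n := n) (A := K)
    obtain ⟨b⟩ := nonempty_twist_add (n := n) (A := K) (add_neg_cancel d)
    obtain ⟨t⟩ := nonempty_twist_add (n := N) (A := A) (show (-1 : ℤ) + 1 = 0 by ring)
    haveI := Amp73.isIso_pullTensHom r (isInvertible_twist (n := N) (A := A) (-1)) (isInvertible_twist (n := N) (A := A) 1)
    let m : CohB1.tensorMod R (Twist.twistProjSpace n K d) ≅ Twist.twistProjSpace n K 0 :=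
      tensIso (Iso.refl R) e1.symm ≪≫ (asIso (Amp73.pullTensHom r _ _)).symm ≪≫
        (Scheme.Modules.pullback r).mapIso t ≪≫ e0
    exact ⟨(tensUnitRight R).symm ≪≫ tensIso (Iso.refl R) (a.symm ≪≫ b.symm) ≪≫ (tensAssoc' R _ _).symm ≪≫
      tensIso (m ≪≫ a) (Iso.refl _) ≪≫ tensUnitLeft _⟩
  induction j using Int.induction_on with
  | zero => simpa using h0
  | succ i hi => exact hadd rfl (by ring) hi h
  | pred i hi => exact hadd (by ring) (by ring) hi hneg

variable {K : Type u} [Field K] {n : ℕ}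

/-- The coordinate forms. -/
def linForms (g : Matrix (Fin (n + 1)) (Fin (n + 1)) K) : Fin (n + 1) → CohB1.polyGrading n K 1 :=
  fun a => ⟨linForm g a, linForm_isHomogeneous g a⟩

theorem form_linForms_one (c : Fin (n + 1) → K) :
    (form (linForms (1 : Matrix (Fin (n + 1)) (Fin (n + 1)) K)) c).1 = PolySym.linForm n K c := by
  rw [form_coe]
  simp only [linForms, linForm_one, PolySym.linForm, Fintype.linearCombination_apply, MvPolynomial.smul_eq_C_mul,
    Algebra.algebraMap_self, RingHom.id_apply]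

theorem isFormMap_id : IsFormMap (linForms (1 : Matrix (Fin (n + 1)) (Fin (n + 1)) K)) (𝟙 (CohB1.ProjSpace n K)) := by
  refine ⟨?_, fun c => ?_, fun c c' => ?_⟩
  · rw [Category.id_comp, show CommRingCat.ofHom (algebraMap K K) = 𝟙 (CommRingCat.of K) from rfl, Spec.map_id]
    exact (Category.comp_id _).symm
  · rw [form_linForms_one]; rfl
  · refine (res_awayToSection_eq (𝒜 := CohB1.polyGrading n K) (Proj.basicOpen (CohB1.polyGrading n K) (form (linForms (1 : Matrix (Fin (n + 1)) (Fin (n + 1)) K)) c).1) (by rw [form_linForms_one]) le_rfl _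
      ⟨1, form (linForms (1 : Matrix (Fin (n + 1)) (Fin (n + 1)) K)) c',
        form (linForms (1 : Matrix (Fin (n + 1)) (Fin (n + 1)) K)) c, ⟨1, pow_one _⟩⟩ ?_).trans ?_
    · show PolySym.linForm n K c' * (form (linForms (1 : Matrix (Fin (n + 1)) (Fin (n + 1)) K)) c).1 =
        (form (linForms (1 : Matrix (Fin (n + 1)) (Fin (n + 1)) K)) c').1 * PolySym.linForm n K c
      rw [form_linForms_one, form_linForms_one]
    · exact congr($((Proj (CohB1.polyGrading n K)).presheaf.map_id (Opposite.op _)) _)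

/-- A linear automorphism preserves `O(j)`. -/
theorem nonempty_pullback_linMap (g : Matrix (Fin (n + 1)) (Fin (n + 1)) K) (hg : IsUnit g) (j : ℤ) :
    Nonempty ((Scheme.Modules.pullback (linMap (RingHom.id K) g hg)).obj (Twist.twistProjSpace n K j) ≅
      Twist.twistProjSpace n K j) := by
  have hP : ∀ x : CohB1.ProjSpace n K, ∃ a, (linForms g a).1 ∉ x.asHomogeneousIdeal := by
    intro x
    obtain ⟨i, hi⟩ := exists_X_notMem (linMap (RingHom.id K) g hg x)
    refine ⟨i, fun h => hi ?_⟩
    show linHom (RingHom.id K) g (MvPolynomial.X i) ∈ x.asHomogeneousIdeal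
    rw [linHom_X]
    exact h
  obtain ⟨r, hr, hτ⟩ := exists_isFormMap (A := K) (linForms g) hP
  have hl := (isFormMap_id (K := K) (n := n)).comp_linMap one_pos (RingHom.id K) g hg (linForms g)
    (by simp) 1 isUnit_one (fun a => by
      simp only [linForms, linForm_one, linHom_X, map_one, one_mul])
  rw [Category.comp_id] at hl
  rw [IsFormMap.unique hP hl hr]
  simpa using nonempty_pullback_twist (d := (1 : ℤ)) hτ j

variable {k : Type u} [Field k] [Algebra k K] {X : Scheme.{u}} {f : X ⟶ Spec (CommRingCat.of k)}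

/-- The twist does not depend on the splitting. -/
theorem nonempty_twist_iso (e e' : BrSev.Splitting f K n) (j : ℤ) : Nonempty (e.twist j ≅ e'.twist j) := by
  obtain ⟨g, hg, hθ⟩ := exists_eq_linMap (RingEquiv.refl K) (e'.iso.symm ≪≫ e.iso) (by
    show (e'.iso.inv ≫ e.iso.hom) ≫ _ = _ ≫ Spec.map (CommRingCat.ofHom (RingHom.id K))
    rw [CommRingCat.ofHom_id, Spec.map_id, Category.comp_id, Category.assoc, e.comm, ← e'.comm, Iso.inv_hom_id_assoc])
  obtain ⟨i⟩ := nonempty_pullback_linMap g hg j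
  have he : e.iso.hom = e'.iso.hom ≫ linMap (RingHom.id K) g hg := by
    rw [← Iso.inv_comp_eq]; exact hθ
  exact ⟨(Scheme.Modules.pullbackCongr he).app _ ≪≫ ((Scheme.Modules.pullbackComp _ _).app _).symm ≪≫
    (Scheme.Modules.pullback e'.iso.hom).mapIso i⟩

theorem isTwPow_one_iff (e : BrSev.Splitting f K n) (j : ℤ) (L : X.Modules) :
    BrSev.IsTwPow e j 1 L ↔ Nonempty (BrSev.bcMod f K L ≅ e.twist j) :=
  ⟨fun ⟨i⟩ => ⟨i ≪≫ coproductUniqueIso _⟩, fun ⟨i⟩ => ⟨i ≪≫ (coproductUniqueIso (fun _ : Fin 1 => e.twist j)).symm⟩⟩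

theorem isTwPow_one_congr (e e' : BrSev.Splitting f K n) (j : ℤ) (L : X.Modules)
    (h : BrSev.IsTwPow e j 1 L) : BrSev.IsTwPow e' j 1 L := by
  obtain ⟨i⟩ := (isTwPow_one_iff e j L).mp h
  obtain ⟨i'⟩ := nonempty_twist_iso e e' j
  exact (isTwPow_one_iff e' j L).mpr ⟨i ≪≫ i'⟩

end Groth.Agent.Csa25
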