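import Groth.Agent.Csa25.SecTransport
import Groth.Agent.Csa25.TwistPull
import Groth.Agent.Csa25.SBEmbed

/-!
# Descended twists force coboundaries
-/

set_option autoImplicit false
set_option backward.isDefEq.respectTransparency.types false

open CategoryTheory CategoryTheory.Limits AlgebraicGeometry HomogeneousLocalization TopologicalSpace

noncomputable section

namespace Groth.Agent.Csa25

universe u

open Var76.LineBundle Var76.ZeroScheme Amp73

variable {K : Type u} [Field K] {n : ℕ}

theorem linHom_bijective (σ : K ≃+* K) {g : Matrix (Fin (n + 1)) (Fin (n + 1)) K} (hg : IsUnit g) (m : ℕ)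
    (a : MvPolynomial (Fin (n + 1)) K) (ha : a ∈ CohB1.polyGrading n K m) :
    ∃ b ∈ CohB1.polyGrading n K m, linHom (σ : K →+* K) g b = a ∧
      ∀ b', linHom (σ : K →+* K) g b' = a → b' = b := by
  obtain ⟨u, rfl⟩ := hg
  let h : Matrix (Fin (n + 1)) (Fin (n + 1)) K := (↑u⁻¹ : Matrix (Fin (n + 1)) (Fin (n + 1)) K).map σ.symm
  have h1 : (linHom (σ : K →+* K) (u : Matrix _ _ K)).comp (linHom (σ.symm : K →+* K) h) = GradedRingHom.id _ := by
    rw [linHom_comp, ← linHom_id]
    congr 1
    · ext; simp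
    · simp only [h, Matrix.map_map]
      simp [Function.comp_def]
  have h2 : (linHom (σ.symm : K →+* K) h).comp (linHom (σ : K →+* K) (u : Matrix _ _ K)) = GradedRingHom.id _ := by
    rw [linHom_comp, ← linHom_id]
    congr 1
    · ext; simp
    · show (σ.symm : K →+* K).mapMatrix (↑u⁻¹ : Matrix (Fin (n + 1)) (Fin (n + 1)) K) * (σ.symm : K →+* K).mapMatrix u.val = _
      rw [← map_mul, u.inv_mul, map_one]
  exact ⟨linHom (σ.symm : K →+* K) h a, (linHom (σ.symm : K →+* K) h).map_mem ha, DFunLike.congr_fun h1 a,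
    fun b' hb' => by rw [← hb']; exact (DFunLike.congr_fun h2 b').symm⟩

/-- A form dividing by a power of a coordinate. -/
theorem eq_C_mul_X_pow {i : Fin (n + 1)} {m : ℕ} {b : MvPolynomial (Fin (n + 1)) K}
    (hb : b ∈ CohB1.polyGrading n K m)
    (h : ∀ l, l ≠ i → ∃ (s : ℕ) (b' : MvPolynomial (Fin (n + 1)) K), b * MvPolynomial.X l ^ s = b' * MvPolynomial.X i ^ m) :
    ∃ κ : K, b = MvPolynomial.C κ * MvPolynomial.X i ^ m := by
  classical
  have hb' : b.IsHomogeneous m := hb
  refine ⟨b.coeff (Finsupp.single i m), ?_⟩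
  by_cases hn : ∃ l, l ≠ i
  · obtain ⟨l, hl⟩ := hn
    obtain ⟨s, b', hs⟩ := h l hl
    have hprime : Prime (MvPolynomial.X i : MvPolynomial (Fin (n + 1)) K) := MvPolynomial.X_prime
    have hnd : ¬ (MvPolynomial.X i : MvPolynomial (Fin (n + 1)) K) ∣ MvPolynomial.X l ^ s := by
      intro hdvd
      have hdvd' := hprime.dvd_of_dvd_pow hdvd
      rw [MvPolynomial.X_dvd_X] at hdvd'
      exact hl hdvd'.symm
    obtain ⟨q, hq⟩ := hprime.pow_dvd_of_dvd_mul_right m hnd ⟨b', hs.trans (mul_comm _ _)⟩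
    rcases eq_or_ne q 0 with rfl | hq0
    · simp [hq]
    have hq' : q.IsHomogeneous 0 := by
      intro e he
      have hcoeff : b.coeff (Finsupp.single i m + e) = q.coeff e := by
        rw [hq, MvPolynomial.X_pow_eq_monomial, MvPolynomial.coeff_monomial_mul, one_mul]
      have := hb' (hcoeff ▸ he)
      rw [map_add, Finsupp.weight_single] at this
      simp at this
      simp [this]
    obtain ⟨c, rfl⟩ := exists_C_of_isHomogeneous_zero hq'
    rw [hq, mul_comm]
    congr 2
    rw [MvPolynomial.coeff_C_mul, MvPolynomial.X_pow_eq_monomial, MvPolynomial.coeff_monomial, if_pos rfl, mul_one]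
  · push_neg at hn
    ext e
    have he : e = Finsupp.single i (e i) := Finsupp.ext fun l => by simp [hn l]
    rw [MvPolynomial.X_pow_eq_monomial, MvPolynomial.C_mul_monomial, mul_one, MvPolynomial.coeff_monomial]
    split_ifs with hem
    · rw [hem]
    · by_contra hne
      have := hb' hne
      rw [he, Finsupp.weight_single] at this
      simp at this
      exact hem (by rw [he, this])

/-- The generic point. -/
def genericPt : CohB1.ProjSpace n K :=
  ⟨⊥, (by show (⊥ : HomogeneousIdeal (CohB1.polyGrading n K)).toIdeal.IsPrime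
          rw [HomogeneousIdeal.toIdeal_bot]; exact Ideal.bot_prime), fun h => by
    have : (MvPolynomial.X (0 : Fin (n + 1)) : MvPolynomial (Fin (n + 1)) K) ∈ (⊥ : HomogeneousIdeal (CohB1.polyGrading n K)) :=
      h (HomogeneousIdeal.mem_irrelevant_of_mem _ one_pos (MvPolynomial.isHomogeneous_X K 0))
    exact MvPolynomial.X_ne_zero 0 (Ideal.mem_bot.mp this)⟩

theorem genericPt_mem {F : MvPolynomial (Fin (n + 1)) K} (hF : F ≠ 0) :
    genericPt ∈ Proj.basicOpen (CohB1.polyGrading n K) F := fun h => hF (Ideal.mem_bot.mp h)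

theorem mk_genericPt_inj {a b : MvPolynomial (Fin (n + 1)) K}
    {s t : (genericPt (K := K) (n := n)).asHomogeneousIdeal.toIdeal.primeCompl}
    (h : (Localization.mk a s : Localization _) = Localization.mk b t) : a * t.1 = b * s.1 := by
  rw [Localization.mk_eq_mk_iff, Localization.r_iff_exists] at h
  obtain ⟨c, hc⟩ := h
  have hc0 : (c : MvPolynomial (Fin (n + 1)) K) ≠ 0 := fun h0 => c.2 (by rw [h0]; exact Ideal.zero_mem _)
  have := mul_left_cancel₀ hc0 hc
  linear_combination this

variable {j : ℕ}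

/-- The fraction acts on the frame by multiplication. -/
theorem away_mk_smul_glob (G : CohB1.polyGrading n K j) (r : ℕ) (a : MvPolynomial (Fin (n + 1)) K)
    (ha : a ∈ CohB1.polyGrading n K (r • j)) (F : CohB1.polyGrading n K j) (x : CohB1.ProjSpace n K)
    (hx : x ∈ Proj.basicOpen (CohB1.polyGrading n K) G.1) :
    ((((Proj.awayToSection (CohB1.polyGrading n K) G.1) (Away.mk _ G.2 r a ha)).1 ⟨x, hx⟩).val *
      Localization.mk F.1 (1 : x.asHomogeneousIdeal.toIdeal.primeCompl) : Localization _) =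
      Localization.mk (a * F.1) (⟨G.1 ^ r, fun h => hx (x.isPrime.mem_of_pow_mem r h)⟩ : x.asHomogeneousIdeal.toIdeal.primeCompl) := by
  refine Eq.trans (congrArg (· * _) (ProjectiveSpectrum.Proj.awayToSection_apply (CohB1.polyGrading n K) G.1 _ ⟨x, hx⟩)) ?_
  rw [Away.val_mk, Localization.mk_eq_mk', IsLocalization.map_mk', ← Localization.mk_eq_mk', Localization.mk_mul]
  congr 1
  exact Subtype.ext (mul_one _)

set_option maxHeartbeats 1600000 in
/-- A lift of a semilinear substitution to `O(j)` is a scalar multiple of the substitution of forms. -/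
theorem exists_secTr_eq {X : Scheme.{u}} {π : CohB1.ProjSpace n K ⟶ X} {L : X.Modules} (hj : 0 < j)
    (β : (Scheme.Modules.pullback π).obj L ≅ Twist.twistProjSpace n K (j : ℤ))
    (σ : K ≃+* K) {g : Matrix (Fin (n + 1)) (Fin (n + 1)) K} (hg : IsUnit g)
    (hl : linMap (σ : K →+* K) g hg ≫ π = π) :
    ∃ μ : K, μ ≠ 0 ∧ ∀ (F : CohB1.polyGrading n K j) (H : CohB1.polyGrading n K j),
      H.1 = MvPolynomial.C μ * linHom (σ : K →+* K) g F.1 →
        secTr β (linMap (σ : K →+* K) g hg) hl ⊤ (glob F) = glob H := by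
  classical
  let θ : K →+* K := σ
  let l := linMap θ g hg
  let O : (CohB1.ProjSpace n K).Modules := Twist.twistProjSpace n K (j : ℤ)
  let lin : CohB1.polyGrading n K j → CohB1.polyGrading n K j := fun F => ⟨linHom θ g F.1, (linHom θ g).map_mem F.2⟩
  let Xp : Fin (n + 1) → CohB1.polyGrading n K j := fun i =>
    ⟨MvPolynomial.X i ^ j, by simpa using (MvPolynomial.isHomogeneous_X K i).pow j⟩
  let G : Fin (n + 1) → CohB1.polyGrading n K j := fun i => lin (Xp i)
  let D : Fin (n + 1) → (CohB1.ProjSpace n K).Opens := fun i => Proj.basicOpen (CohB1.polyGrading n K) (G i).1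
  let T : ∀ (U : (CohB1.ProjSpace n K).Opens), Γ(O, U) → Γ(O, l ⁻¹ᵁ U) := fun U => secTr β l hl U
  have hframe : ∀ F : CohB1.polyGrading n K j,
      IsFrame O (Proj.basicOpen (CohB1.polyGrading n K) F.1) (Var76.LineBundle.res O le_top (glob F)) := fun F => by
    have := TwistGen95.isFrame_degHom F
    rwa [TwistGen95.degHom, Var76.Frames.val_ofSection] at this
  have hTfr : ∀ i, IsFrame O (D i) (Var76.LineBundle.res O le_top (T ⊤ (glob (Xp i)))) := fun i => by
    have h1 := isFrame_secTr β l hl (hframe (Xp i))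
    rw [secTr_res] at h1
    exact h1
  choose u hu using fun i => (hframe (G i) (D i) le_rfl).2 (Var76.LineBundle.res O le_top (T ⊤ (glob (Xp i))))
  have hu' : ∀ i, u i • Var76.LineBundle.res O le_top (glob (G i)) = Var76.LineBundle.res O le_top (T ⊤ (glob (Xp i))) := fun i => by
    have := hu i
    dsimp only at this
    rwa [res_self] at this
  have key : ∀ (F : CohB1.polyGrading n K j) (i : Fin (n + 1)),
      Var76.LineBundle.res O (le_top : D i ≤ ⊤) (T ⊤ (glob F)) = u i • Var76.LineBundle.res O le_top (glob (lin F)) := by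
    intro F i
    let U := Proj.basicOpen (CohB1.polyGrading n K) (Xp i).1
    let z : Away (CohB1.polyGrading n K) (Xp i).1 := HomogeneousLocalization.mk ⟨j, F, Xp i, ⟨1, pow_one _⟩⟩
    let fr : Γ(CohB1.ProjSpace n K, U) := Proj.awayToSection (CohB1.polyGrading n K) (Xp i).1 z
    have h0 : (Var76.LineBundle.res O (le_top : U ≤ ⊤) (glob F)) = fr • Var76.LineBundle.res O le_top (glob (Xp i)) :=
      (away_smul_globalOf (Xp i) F).symm
    have h1 := congrArg (T U) h0
    simp only [T, secTr_smul] at h1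
    have e1 := secTr_res β l hl (le_top : U ≤ ⊤) (glob F)
    have e2 := secTr_res β l hl (le_top : U ≤ ⊤) (glob (Xp i))
    refine (e1.symm.trans (h1.trans (congrArg (l.app U fr • ·) e2))).trans ?_
    let fr' : Γ(CohB1.ProjSpace n K, D i) := Proj.awayToSection (CohB1.polyGrading n K) (G i).1
      (HomogeneousLocalization.mk ⟨j, lin F, G i, ⟨1, pow_one _⟩⟩)
    have h2 : l.app U fr = fr' := by
      rw [Scheme.Hom.app_eq_appLE]
      refine (map_appLE_awayToSection (linHom θ g) _ (Xp i).2 hj (D i) le_rfl z).trans ?_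
      simp only [z, Away.map, HomogeneousLocalization.map_mk]
      refine (res_awayToSection_eq (D i) le_rfl le_rfl _ ⟨j, lin F, G i, ⟨1, pow_one _⟩⟩ rfl).trans ?_
      exact congr($((Proj (CohB1.polyGrading n K)).presheaf.map_id (Opposite.op (D i))) _)
    refine (congrArg₂ (fun (c : Γ(CohB1.ProjSpace n K, D i)) (m : Γ(O, D i)) => c • m) h2 (hu' i).symm).trans ?_
    exact (smul_comm fr' (u i) _).trans (congrArg (u i • ·) (away_smul_globalOf (G i) (lin F)))
  have hG0 : ∀ i, (G i).1 ≠ 0 := fun i h0 => by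
    obtain ⟨b, -, -, huniq⟩ := linHom_bijective σ hg j 0 (Submodule.zero_mem _)
    exact pow_ne_zero j (MvPolynomial.X_ne_zero i) ((huniq _ h0).trans (huniq 0 (map_zero _)).symm)
  have hrep : ∀ i, ∃ (r : ℕ) (a : MvPolynomial (Fin (n + 1)) K) (ha : a ∈ CohB1.polyGrading n K (r • j)),
      u i = Proj.awayToSection (CohB1.polyGrading n K) (G i).1 (Away.mk _ (G i).2 r a ha) := fun i => by
    obtain ⟨w, hw⟩ := (ConcreteCategory.bijective_of_isIso
      (Proj.basicOpenIsoAway (CohB1.polyGrading n K) (G i).1 (G i).2 hj).hom).surjective (u i)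
    obtain ⟨r, a, ha, rfl⟩ := Away.mk_surjective (CohB1.polyGrading n K) (G i).2 w
    exact ⟨r, a, ha, hw.symm⟩
  choose r a ha hua using hrep
  have hrel : ∀ i l, a i * (G l).1 ^ r l = a l * (G i).1 ^ r i := fun i l => by
    let x₀ : CohB1.ProjSpace n K := genericPt
    have h : Var76.LineBundle.res O (inf_le_left : D i ⊓ D l ≤ D i) (u i • Var76.LineBundle.res O le_top (glob (G l))) =
        Var76.LineBundle.res O (inf_le_right : D i ⊓ D l ≤ D l) (u l • Var76.LineBundle.res O le_top (glob (G l))) := by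
      rw [← key (Xp l) i, ← key (Xp l) l, res_res, res_res]
    have h3 := congrArg (fun t => (t.1 ⟨x₀, genericPt_mem (hG0 i), genericPt_mem (hG0 l)⟩).1) h
    have h4 : (((u i).1 ⟨x₀, genericPt_mem (hG0 i)⟩).val * Localization.mk (G l).1 1 : Localization _) =
        ((u l).1 ⟨x₀, genericPt_mem (hG0 l)⟩).val * Localization.mk (G l).1 1 :=
      ((Twist.coe_smul_val _ _ _ _).symm.trans h3).trans (Twist.coe_smul_val _ _ _ _)
    rw [hua i, hua l, away_mk_smul_glob, away_mk_smul_glob] at h4
    refine mul_right_cancel₀ (hG0 l) ?_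
    linear_combination mk_genericPt_inj h4
  choose b hb hba hbu using fun i => linHom_bijective σ hg (r i • j) (a i) (ha i)
  have hbrel : ∀ i l, b i * MvPolynomial.X l ^ (j * r l) = b l * MvPolynomial.X i ^ (r i • j) := fun i l => by
    obtain ⟨c, -, -, huniq⟩ := linHom_bijective σ hg (r i • j + j * r l)
      (a i * (G l).1 ^ r l) (SetLike.mul_mem_graded (ha i) (by simpa [mul_comm] using SetLike.pow_mem_graded (r l) (G l).2))
    refine (huniq _ ?_).trans (huniq _ ?_).symm
    · rw [map_mul, hba, pow_mul, map_pow (linHom _ g)]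
    · rw [map_mul, hba, smul_eq_mul, mul_comm (r i), pow_mul, map_pow (linHom _ g)]; exact (hrel i l).symm
  choose κ hκ using fun i => eq_C_mul_X_pow (i := i) (hb i) fun l _ => ⟨_, _, hbrel i l⟩
  have ha' : ∀ i, a i = MvPolynomial.C (σ (κ i)) * (G i).1 ^ r i := fun i => by
    rw [← hba i, hκ i, map_mul, linHom_C, smul_eq_mul, mul_comm (r i), pow_mul, map_pow (linHom _ g)]; rfl
  have hκ0 : ∀ i, σ (κ i) = σ (κ 0) := fun i => by
    have h := hrel i 0
    rw [ha', ha', mul_assoc, mul_assoc, mul_comm ((G 0).1 ^ r 0)] at h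
    exact MvPolynomial.C_injective _ _ (mul_right_cancel₀ (mul_ne_zero (pow_ne_zero _ (hG0 i)) (pow_ne_zero _ (hG0 0))) h)
  let μ := σ (κ 0)
  have hfin : ∀ (F H : CohB1.polyGrading n K j) (i : Fin (n + 1)), H.1 = MvPolynomial.C μ * linHom θ g F.1 →
      Var76.LineBundle.res O (le_top : D i ≤ ⊤) (T ⊤ (glob F)) = Var76.LineBundle.res O le_top (glob H) := fun F H i hH => by
    rw [key F i]
    refine Subtype.ext (funext fun x => Subtype.ext ?_)
    refine (Twist.coe_smul_val _ _ _ _).trans ?_
    show ((u i).1 x).val * Localization.mk (linHom θ g F.1) _ = Localization.mk H.1 _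
    rw [hua i]
    refine (away_mk_smul_glob (G i) (r i) (a i) (ha i) (lin F) x.1 x.2).trans ?_
    rw [Localization.mk_eq_mk_iff, Localization.r_iff_exists]
    refine ⟨1, ?_⟩
    simp only [OneMemClass.coe_one, one_mul]
    rw [ha' i, hκ0 i, hH]
    ring
  refine ⟨μ, fun hμ => ?_, fun F H hH => eq_of_locally O _ _ fun x _ => ?_⟩
  · have h0 := hfin (Xp 0) 0 0 (by rw [hμ, map_zero, zero_mul]; rfl)
    have h1 : Var76.LineBundle.res O (le_top : D 0 ≤ ⊤) (glob (0 : CohB1.polyGrading n K j)) = 0 := by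
      refine Subtype.ext (funext fun y => Subtype.ext ?_)
      exact Localization.mk_zero _
    rw [h1] at h0
    have hbij := (hTfr 0) (D 0) le_rfl
    rw [res_self, h0] at hbij
    haveI : Nonempty (D 0) := ⟨⟨genericPt, genericPt_mem (hG0 0)⟩⟩
    exact zero_ne_one (hbij.1 (by simp : (0 : Γ(CohB1.ProjSpace n K, D 0)) • (0 : Γ(O, D 0)) = (1 : Γ(CohB1.ProjSpace n K, D 0)) • 0))
  · obtain ⟨i, hi⟩ := exists_X_notMem (l x)
    exact ⟨D i, le_top, fun hm => hi ((l x).isPrime.mem_of_pow_mem j hm), hfin F H i hH⟩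

end Groth.Agent.Csa25
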