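import Groth.Agent.Csa25.Period
import Mathlib.GroupTheory.Sylow
import Mathlib.FieldTheory.Galois.Basic
import Mathlib.GroupTheory.OrderOfElement

/-!
# Period and index
-/

set_option autoImplicit false
open scoped TensorProduct
open Module

namespace Groth.Agent.Csa25

universe u v w

variable {k : Type u} [Field k] {A : Type v} [Ring A] [Algebra k A] [Algebra.IsCentral k A]
  [IsSimpleRing A] [FiniteDimensional k A]

/-- A Brauer class is killed by the index. -/
theorem cl_pow_index {d : ℕ} (hd : CSAGal.IsIndex k A d) : cl k A ^ d = 1 := by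
  obtain ⟨-, m, D, _, _, hm, _, _, hD, ⟨e⟩⟩ := isIndex_data hd
  have : NeZero m := ⟨hm.ne'⟩
  rw [cl_congr e, cl_matrix]
  exact cl_pow_degree hD

/-- There is a separable splitting field of degree equal to the index. -/
theorem exists_splitting_degree_index {d : ℕ} (hd : CSAGal.IsIndex k A d) :
    ∃ (L : Type v) (_ : Field L) (_ : Algebra k L), FiniteDimensional k L ∧
      Algebra.IsSeparable k L ∧ finrank k L = d ∧ Curves.Splits k A L := by
  obtain ⟨-, m, D, _, _, hm, _, _, hD, ⟨e⟩⟩ := isIndex_data hd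
  obtain ⟨L, iF, iA, ι, hfin, hsep, hL⟩ := exists_separable_maximal_subfield k D
  have hLd : finrank k L = d := Nat.mul_self_inj.mp (hL.trans hD)
  have : NeZero m := ⟨hm.ne'⟩
  refine ⟨L, iF, iA, hfin, hsep, hLd, ?_⟩
  rw [splits_iff_res_eq_one, cl_congr e, cl_matrix, ← splits_iff_res_eq_one]
  exact splits_of_subfield ι hLd hD

/-- The index of a class lying in the group generated by another divides the index of that one. -/
theorem isIndex_dvd_of_mem_zpowers {B : Type w} [Ring B] [Algebra k B] [Algebra.IsCentral k B]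
    [IsSimpleRing B] [FiniteDimensional k B] (h : cl k B ∈ Subgroup.zpowers (cl k A)) {d d' : ℕ}
    (hd : CSAGal.IsIndex k A d) (hd' : CSAGal.IsIndex k B d') : d' ∣ d := by
  obtain ⟨L, _, _, _, _, hLd, hsp⟩ := exists_splitting_degree_index hd
  obtain ⟨i, hi⟩ := Subgroup.mem_zpowers_iff.mp h
  have hB : Curves.Splits k B L := by
    rw [splits_iff_res_eq_one] at hsp ⊢
    rw [← hi, map_zpow, hsp, one_zpow]
  exact hLd ▸ isIndex_dvd_finrank_of_splits hd' L hB

theorem orderOf_pos {d : ℕ} (hd : CSAGal.IsIndex k A d) : 0 < orderOf (cl k A) :=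
  orderOf_pos_iff.mpr (isOfFinOrder_iff_pow_eq_one.mpr ⟨d, hd.1, cl_pow_index hd⟩)

theorem orderOf_dvd_index {d : ℕ} (hd : CSAGal.IsIndex k A d) : orderOf (cl k A) ∣ d :=
  orderOf_dvd_of_pow_eq_one (cl_pow_index hd)

/-- Index and period have the same prime divisors. -/
theorem prime_dvd_orderOf {d p : ℕ} (hd : CSAGal.IsIndex k A d) (hp : p.Prime) (hpd : p ∣ d) :
    p ∣ orderOf (cl k A) := by
  by_contra hcon
  obtain ⟨K, _, _, hsplit⟩ := exists_galois_splitting k A
  have : Fact p.Prime := ⟨hp⟩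
  obtain ⟨P⟩ : Nonempty (Sylow p (K ≃ₐ[k] K)) := inferInstance
  let E := IntermediateField.fixedField (P : Subgroup (K ≃ₐ[k] K))
  obtain ⟨s, hs⟩ := P.isPGroup'.exists_card_eq
  have hKE : finrank E K = p ^ s := by
    rw [IntermediateField.finrank_fixedField_eq_card]; exact hs
  have hEk : ¬ p ∣ finrank k E := by
    have h1 := Module.finrank_mul_finrank k E K
    rw [IntermediateField.finrank_fixedField_eq_card, ← IsGalois.card_aut_eq_finrank k K,
      ← Subgroup.index_mul_card (P : Subgroup (K ≃ₐ[k] K))] at h1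
    rw [Nat.eq_of_mul_eq_mul_right Nat.card_pos h1]
    exact P.not_dvd_index
  obtain ⟨d', hd'⟩ := exists_isIndex (k := E) (E ⊗[k] A)
  have hsplitE : Curves.Splits E (E ⊗[k] A) K := by
    obtain ⟨n, hn, ⟨f⟩⟩ := hsplit
    exact ⟨n, hn, ⟨(baseChangeTrans k E K A).trans f⟩⟩
  have hd'dvd : d' ∣ p ^ s := hKE ▸ isIndex_dvd_finrank_of_splits hd' K hsplitE
  have hres : cl E (E ⊗[k] A) = 1 := by
    rw [← res_cl, ← orderOf_eq_one_iff]
    apply Nat.eq_one_of_dvd_coprimes (a := orderOf (cl k A)) (b := p ^ s)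
      (((hp.coprime_iff_not_dvd.mpr hcon).symm).pow_right s) (orderOf_map_dvd (res E) (cl k A))
    rw [res_cl]
    exact dvd_trans (orderOf_dvd_index hd') hd'dvd
  have h1 : CSAGal.IsIndex E (E ⊗[k] A) 1 := splits_iff_isIndex_one.mp (splits_iff_cl_eq_one.mpr hres)
  have hdE := (isIndex_dvd_finrank_mul E hd h1).2
  rw [mul_one] at hdE
  exact hEk (dvd_trans hpd hdE)

end Groth.Agent.Csa25
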