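import Groth.Agent.Csa25.Basic
import Mathlib.RingTheory.MatrixAlgebra
import Mathlib.RingTheory.SimpleRing.Matrix
import Mathlib.Algebra.Central.Matrix
import Mathlib.FieldTheory.IsAlgClosed.AlgebraicClosure
import Mathlib.RingTheory.SimpleModule.IsAlgClosed
import Mathlib.LinearAlgebra.Dimension.Constructions
import Groth.Prelude.Def_Curves

/-!
# Base change and split algebras
-/

set_option autoImplicit false
open scoped TensorProduct
open Module

namespace Groth.Agent.Csa25

universe u v w

section

variable (k : Type u) [Field k] (A : Type v) [Ring A] [Algebra k A] [Algebra.IsCentral k A]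
  (K : Type w) [Field K] [Algebra k K]

theorem isCentral_baseChange : Algebra.IsCentral K (K ⊗[k] A) where
  out x hx := by
    classical
    let bK := Module.Free.chooseBasis k K
    let c := Algebra.TensorProduct.comm k K A
    let bb := Algebra.TensorProduct.basis A bK
    have hl : ∀ (a : A) (y : A ⊗[k] K), (a ⊗ₜ[k] (1:K)) * y = a • y := by
      intro a y
      induction y using TensorProduct.induction_on with
      | zero => simp
      | tmul p q => simp [TensorProduct.smul_tmul', smul_eq_mul]
      | add p q hp hq => simp [mul_add, hp, hq]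
    have hr : ∀ (a : A) (y : A ⊗[k] K) i, bb.repr (y * (a ⊗ₜ[k] (1:K))) i = bb.repr y i * a := by
      intro a y i
      induction y using TensorProduct.induction_on with
      | zero => simp
      | tmul p q =>
        simp only [Algebra.TensorProduct.tmul_mul_tmul, mul_one, bb,
          Algebra.TensorProduct.basis_repr_tmul, Finsupp.smul_apply, Finsupp.mapRange_apply,
          smul_eq_mul]
        rw [mul_assoc, mul_assoc, Algebra.commutes]
      | add p q hp hq => simp [add_mul, hp, hq]
    have hcent : ∀ i, bb.repr (c x) i ∈ Subalgebra.center k A := fun i => by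
      rw [Subalgebra.mem_center_iff]
      intro a
      have h := congrArg c (Subalgebra.mem_center_iff.mp hx ((1 : K) ⊗ₜ[k] a))
      simp only [map_mul, c, Algebra.TensorProduct.comm_tmul] at h
      have h' := congrArg (fun z => bb.repr z i) h
      simpa [hl, hr] using h'
    choose d hd using fun i => (Algebra.IsCentral.mem_center_iff k).mp (hcent i)
    refine Algebra.mem_bot.mpr ⟨∑ i ∈ (bb.repr (c x)).support, d i • bK i, c.injective ?_⟩
    conv_rhs => rw [← bb.linearCombination_repr (c x)]
    rw [Finsupp.linearCombination_apply, Finsupp.sum, Algebra.TensorProduct.algebraMap_apply,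
      Algebra.algebraMap_self, RingHom.id_apply, Algebra.TensorProduct.comm_tmul,
      TensorProduct.tmul_sum]
    refine Finset.sum_congr rfl fun i _ => ?_
    rw [hd i, algebraMap_smul, TensorProduct.tmul_smul]
    simp [bb]

theorem isSimpleRing_baseChange [IsSimpleRing A] : IsSimpleRing (K ⊗[k] A) := by
  have : IsSimpleRing (A ⊗[k] K) := isSimpleRing_tensor
  exact .of_ringEquiv (Algebra.TensorProduct.comm k A K).toRingEquiv this

end

/-- The base change of a matrix algebra. -/
noncomputable def baseChangeMatrixEquiv (k : Type u) [Field k] (A : Type v) [Ring A] [Algebra k A]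
    (K : Type w) [CommRing K] [Algebra k K] (n : Type*) [Fintype n] [DecidableEq n] :
    K ⊗[k] Matrix n n A ≃ₐ[K] Matrix n n (K ⊗[k] A) :=
  let e : K ⊗[k] Matrix n n A ≃ₐ[k] Matrix n n (K ⊗[k] A) :=
    (Algebra.TensorProduct.congr AlgEquiv.refl (matrixEquivTensor n k A)).trans <|
      (Algebra.TensorProduct.assoc k k k K A (Matrix n n k)).symm.trans
        (matrixEquivTensor n k (K ⊗[k] A)).symm
  AlgEquiv.ofRingEquiv (f := e.toRingEquiv) fun c => by
    ext i j
    rw [Algebra.TensorProduct.algebraMap_apply, Algebra.algebraMap_self, RingHom.id_apply]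
    change ((matrixEquivTensor n k (K ⊗[k] A)).symm ((Algebra.TensorProduct.assoc k k k K A (Matrix n n k)).symm
      (c ⊗ₜ[k] matrixEquivTensor n k A 1))) i j = _
    rw [map_one, Algebra.TensorProduct.one_def, Algebra.TensorProduct.assoc_symm_tmul,
      matrixEquivTensor_apply_symm]
    by_cases h : i = j
    · subst h; simp [Matrix.algebraMap_eq_diagonal, Algebra.TensorProduct.one_def]
    · simp [Matrix.algebraMap_eq_diagonal, h]

/-- `K ⊗ M_n(k) ≅ M_n(K)`. -/
noncomputable def baseChangeSplitEquiv (k : Type u) [Field k] (K : Type w) [CommRing K] [Algebra k K]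
    (n : Type*) [Fintype n] [DecidableEq n] : K ⊗[k] Matrix n n k ≃ₐ[K] Matrix n n K :=
  (baseChangeMatrixEquiv k k K n).trans (Algebra.TensorProduct.rid k K K).mapMatrix

/-- Transport of an algebra isomorphism to the base change. -/
noncomputable def baseChangeCongr {k : Type u} [CommRing k] {A B : Type*} [Ring A] [Algebra k A]
    [Ring B] [Algebra k B] (K : Type w) [CommRing K] [Algebra k K] (e : A ≃ₐ[k] B) :
    K ⊗[k] A ≃ₐ[K] K ⊗[k] B :=
  Algebra.TensorProduct.congr AlgEquiv.refl e

/-- Iterated base change of an algebra. -/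
noncomputable def baseChangeTrans (k : Type u) [CommRing k] (K : Type v) [CommRing K] [Algebra k K]
    (L : Type w) [CommRing L] [Algebra k L] [Algebra K L] [IsScalarTower k K L]
    (A : Type*) [Ring A] [Algebra k A] : L ⊗[K] (K ⊗[k] A) ≃ₐ[L] L ⊗[k] A :=
  AlgEquiv.ofLinearEquiv (TensorProduct.AlgebraTensorModule.cancelBaseChange k K L L A)
    (by simp [Algebra.TensorProduct.one_def])
    ((LinearMap.map_mul_iff _).mpr <| by
      ext a b
      simp)

theorem baseChangeTrans_tmul (k : Type u) [CommRing k] (K : Type v) [CommRing K] [Algebra k K]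
    (L : Type w) [CommRing L] [Algebra k L] [Algebra K L] [IsScalarTower k K L]
    (A : Type*) [Ring A] [Algebra k A] (l : L) (x : K) (a : A) :
    baseChangeTrans k K L A (l ⊗ₜ[K] (x ⊗ₜ[k] a)) = (x • l) ⊗ₜ[k] a := rfl

section Dimension

variable (k : Type u) [Field k] (A : Type v) [Ring A] [Algebra k A] [Algebra.IsCentral k A]
  [IsSimpleRing A] [FiniteDimensional k A]

/-- The dimension of a central simple algebra is a square. -/
theorem exists_finrank_eq_mul_self : ∃ n : ℕ, 0 < n ∧ finrank k A = n * n := by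
  let K := AlgebraicClosure k
  have := isSimpleRing_baseChange k A K
  obtain ⟨n, hn, ⟨e⟩⟩ := IsSimpleRing.exists_algEquiv_matrix_of_isAlgClosed K (K ⊗[k] A)
  refine ⟨n, Nat.pos_of_neZero n, ?_⟩
  rw [← Module.finrank_baseChange (R := K) (S := k) (M' := A), e.toLinearEquiv.finrank_eq,
    Module.finrank_matrix, Fintype.card_fin, Module.finrank_self, mul_one]

end Dimension

section Splits

variable {k : Type u} [Field k] {A : Type v} [Ring A] [Algebra k A]
  {K : Type w} [Field K] [Algebra k K]

theorem splits_self_iff :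
    Curves.Splits k A k ↔ ∃ n : ℕ, n ≠ 0 ∧ Nonempty (A ≃ₐ[k] Matrix (Fin n) (Fin n) k) :=
  ⟨fun ⟨n, hn, ⟨e⟩⟩ => ⟨n, hn, ⟨(Algebra.TensorProduct.lid k A).symm.trans e⟩⟩,
    fun ⟨n, hn, ⟨e⟩⟩ => ⟨n, hn, ⟨(Algebra.TensorProduct.lid k A).trans e⟩⟩⟩

theorem splits_congr {B : Type*} [Ring B] [Algebra k B] (e : A ≃ₐ[k] B) :
    Curves.Splits k A K ↔ Curves.Splits k B K :=
  ⟨fun ⟨n, hn, ⟨f⟩⟩ => ⟨n, hn, ⟨(baseChangeCongr K e.symm).trans f⟩⟩,
    fun ⟨n, hn, ⟨f⟩⟩ => ⟨n, hn, ⟨(baseChangeCongr K e).trans f⟩⟩⟩

theorem splits_matrix (n : ℕ) (hn : n ≠ 0) : Curves.Splits k (Matrix (Fin n) (Fin n) k) K :=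
  ⟨n, hn, ⟨baseChangeSplitEquiv k K (Fin n)⟩⟩

/-- A field containing a splitting field is a splitting field. -/
theorem splits_mono (L : Type*) [Field L] [Algebra k L] [Algebra K L] [IsScalarTower k K L]
    (h : Curves.Splits k A K) : Curves.Splits k A L := by
  obtain ⟨n, hn, ⟨e⟩⟩ := h
  exact ⟨n, hn, ⟨((baseChangeTrans k K L A).symm.trans
    (baseChangeCongr L e)).trans (baseChangeSplitEquiv K L (Fin n))⟩⟩

theorem splits_of_algHom {L : Type*} [Field L] [Algebra k L] (i : K →ₐ[k] L)
    (h : Curves.Splits k A K) : Curves.Splits k A L := by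
  let := i.toRingHom.toAlgebra
  have : IsScalarTower k K L := .of_algebraMap_eq fun x => (i.commutes x).symm
  exact splits_mono L h

end Splits

end Groth.Agent.Csa25
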