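import Groth.Agent.Csa25.Wedderburn
import Mathlib.LinearAlgebra.Matrix.Module
import Mathlib.RingTheory.SimpleRing.Matrix
import Mathlib.LinearAlgebra.Matrix.Reindex

/-!
# Uniqueness of the division algebra part
-/

set_option autoImplicit false
open Module Matrix
open scoped Matrix.Module

namespace Groth.Agent.Csa25

universe u v w

theorem nonempty_linearEquiv_of_simple {R : Type u} [Ring R] [IsSimpleRing R] [IsArtinianRing R]
    (S : Type v) [AddCommGroup S] [Module R S] [IsSimpleModule R S]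
    (T : Type w) [AddCommGroup T] [Module R T] [IsSimpleModule R T] : Nonempty (S ≃ₗ[R] T) := by
  let i₁ : S ≃ₗ[R] LinearMap.range (LinearMap.inl R S T) :=
    LinearEquiv.ofInjective _ LinearMap.inl_injective
  let i₂ : T ≃ₗ[R] LinearMap.range (LinearMap.inr R S T) :=
    LinearEquiv.ofInjective _ LinearMap.inr_injective
  have := IsSimpleModule.congr i₁.symm
  have := IsSimpleModule.congr i₂.symm
  obtain ⟨e⟩ := IsSimpleRing.isIsotypic R (S × T) (LinearMap.range (LinearMap.inr R S T))
    (LinearMap.range (LinearMap.inl R S T))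
  exact ⟨i₁ ≪≫ₗ e ≪≫ₗ i₂.symm⟩

section

variable {D : Type u} [DivisionRing D] {N : ℕ}

theorem matrixModule_smul (M : Matrix (Fin N) (Fin N) D) (v : Fin N → D) : M • v = M *ᵥ v := by
  ext i
  simp [mulVec, dotProduct]

theorem exists_mulVec_eq {v : Fin N → D} (hv : v ≠ 0) (w : Fin N → D) :
    ∃ M : Matrix (Fin N) (Fin N) D, M *ᵥ v = w := by
  obtain ⟨j, hj⟩ : ∃ j, v j ≠ 0 := by
    by_contra h; push Not at h; exact hv (funext h)
  refine ⟨Matrix.of fun i l => if l = j then w i * (v j)⁻¹ else 0, ?_⟩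
  ext i
  simp [mulVec, dotProduct, hj]

theorem isSimpleModule_vec [NeZero N] : IsSimpleModule (Matrix (Fin N) (Fin N) D) (Fin N → D) := by
  have : Nontrivial (Fin N → D) := inferInstance
  rw [isSimpleModule_iff_toSpanSingleton_surjective]
  refine ⟨this, fun v hv w => ?_⟩
  obtain ⟨M, hM⟩ := exists_mulVec_eq hv w
  exact ⟨M, by simp [matrixModule_smul, hM]⟩

/-- An additive map commuting with all matrices is a right scalar. -/
theorem exists_right_mul_of_comm [NeZero N] (g : (Fin N → D) → (Fin N → D))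
    (hg : ∀ (M : Matrix (Fin N) (Fin N) D) (v : Fin N → D), g (M *ᵥ v) = M *ᵥ g v) :
    ∃ d : D, ∀ v i, g v i = v i * d := by
  refine ⟨g (Pi.single 0 1) 0, fun v i => ?_⟩
  have h : (Matrix.of fun (a b : Fin N) => if b = 0 then v a else 0) *ᵥ (Pi.single 0 1) = v := by
    ext a; simp
  conv_lhs => rw [← h, hg]
  simp [mulVec, dotProduct]

end

variable {k : Type u} [Field k] {D : Type v} [DivisionRing D] [Algebra k D]
  {D' : Type w} [DivisionRing D'] [Algebra k D'] [FiniteDimensional k D] [FiniteDimensional k D']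

/-- The division ring and the size of a matrix algebra are unique. -/
theorem matrix_divisionRing_unique {N M : ℕ} (hN : 0 < N) (hM : 0 < M)
    (ψ : Matrix (Fin N) (Fin N) D ≃ₐ[k] Matrix (Fin M) (Fin M) D') :
    N = M ∧ Nonempty (D ≃ₐ[k] D') := by
  have : NeZero N := ⟨hN.ne'⟩
  have : NeZero M := ⟨hM.ne'⟩
  let R := Matrix (Fin N) (Fin N) D
  have : IsArtinianRing R := IsArtinianRing.of_finite k R
  let : Module R (Fin M → D') := Module.compHom (Fin M → D') ψ.toAlgHom.toRingHom
  have hsmul : ∀ (r : R) (v : Fin M → D'), r • v = ψ r *ᵥ v := fun r v => matrixModule_smul (ψ r) v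
  have hV := isSimpleModule_vec (D := D) (N := N)
  have hV' : IsSimpleModule R (Fin M → D') := by
    rw [isSimpleModule_iff_toSpanSingleton_surjective]
    refine ⟨inferInstance, fun v hv w => ?_⟩
    obtain ⟨r, hr⟩ := exists_mulVec_eq hv w
    exact ⟨ψ.symm r, by rw [LinearMap.toSpanSingleton_apply, hsmul, ψ.apply_symm_apply, hr]⟩
  obtain ⟨φ⟩ := nonempty_linearEquiv_of_simple (R := R) (Fin N → D) (Fin M → D')
  have hφ : ∀ (r : R) v, φ (r *ᵥ v) = ψ r *ᵥ φ v := fun r v => by
    rw [← matrixModule_smul r v, map_smul, hsmul]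
  have comm1 : ∀ (r : R) (v : Fin N → D) (d : D), r *ᵥ (fun i => v i * d) = fun i => (r *ᵥ v) i * d :=
    fun r v d => by ext i; simp [mulVec, dotProduct, Finset.sum_mul, mul_assoc]
  have comm2 : ∀ (r : Matrix (Fin M) (Fin M) D') (v : Fin M → D') (d : D'),
      r *ᵥ (fun i => v i * d) = fun i => (r *ᵥ v) i * d :=
    fun r v d => by ext i; simp [mulVec, dotProduct, Finset.sum_mul, mul_assoc]
  have hex : ∀ d : D, ∃ d' : D', ∀ v i, φ (fun j => φ.symm v j * d) i = v i * d' := fun d =>
    exists_right_mul_of_comm (fun v => φ (fun j => φ.symm v j * d)) fun r v => by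
      obtain ⟨r, rfl⟩ := ψ.surjective r
      have : φ.symm (ψ r *ᵥ v) = r *ᵥ φ.symm v := φ.injective (by simp [hφ])
      rw [this, ← comm1, hφ]
  choose F hF using hex
  have huniq : ∀ d d' e : D', (∀ (v : Fin M → D') i, v i * d = v i * d') → e = e → d = d' :=
    fun d d' _ h _ => by simpa using h 1 0
  have hmulk : ∀ (c : k) (v : Fin N → D), φ (fun j => v j * algebraMap k D c) =
      fun j => φ v j * algebraMap k D' c := by
    intro c v
    have h1 : (fun j => v j * algebraMap k D c) = (algebraMap k R c) *ᵥ v := by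
      ext j; simp [R, Matrix.algebraMap_eq_diagonal, mulVec_diagonal, Algebra.commutes]
    rw [h1, hφ, AlgEquiv.commutes]
    ext j; simp [Matrix.algebraMap_eq_diagonal, mulVec_diagonal, Algebra.commutes]
  let f : D →ₐ[k] D' :=
    { toFun := F
      map_one' := huniq _ _ 0 (fun v i => by rw [← hF 1 v i]; simp) rfl
      map_zero' := huniq _ _ 0 (fun v i => by
        rw [← hF 0 v i]
        simp [show (fun _ : Fin N => (0 : D)) = 0 from rfl]) rfl
      map_add' := fun a b => huniq _ _ 0 (fun v i => by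
        rw [← hF (a + b) v i, mul_add, ← hF a v i, ← hF b v i, ← Pi.add_apply, ← map_add]
        simp [mul_add, Pi.add_def]) rfl
      map_mul' := fun a b => huniq _ _ 0 (fun v i => by
        have h2 := hF b (φ (fun j => φ.symm v j * a)) i
        simp only [LinearEquiv.symm_apply_apply] at h2
        rw [← mul_assoc, ← hF a v i, ← h2, ← hF (a * b) v i]
        simp [mul_assoc]) rfl
      commutes' := fun c => huniq _ _ 0 (fun v i => by
        rw [← hF (algebraMap k D c) v i, hmulk]; simp) rfl }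
  have hf : Function.Surjective f := by
    intro d'
    obtain ⟨d, hd⟩ := exists_right_mul_of_comm (fun v => φ.symm (fun j => φ v j * d')) fun r v => by
      apply φ.injective
      simp [hφ, comm2]
    refine ⟨d, huniq _ _ 0 (fun v i => ?_) rfl⟩
    change v i * F d = _
    rw [← hF d v i]
    have : (fun j => φ.symm v j * d) = φ.symm (fun j => v j * d') := by
      ext j; simpa using (hd (φ.symm v) j).symm
    rw [this, LinearEquiv.apply_symm_apply]
  let eD : D ≃ₐ[k] D' := AlgEquiv.ofBijective f ⟨f.toRingHom.injective, hf⟩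
  refine ⟨?_, ⟨eD⟩⟩
  have h := ψ.toLinearEquiv.finrank_eq
  simp only [Module.finrank_matrix, Fintype.card_fin, eD.toLinearEquiv.finrank_eq] at h
  exact Nat.mul_self_inj.mp (Nat.eq_of_mul_eq_mul_right Module.finrank_pos h)

/-- Cancellation of matrix algebras for central simple algebras. -/
theorem nonempty_algEquiv_of_matrix {k : Type u} [Field k]
    {A : Type v} [Ring A] [Algebra k A] [Algebra.IsCentral k A] [IsSimpleRing A] [FiniteDimensional k A]
    {A' : Type w} [Ring A'] [Algebra k A'] [Algebra.IsCentral k A'] [IsSimpleRing A']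
    [FiniteDimensional k A'] {n : ℕ} (hn : n ≠ 0)
    (e : Matrix (Fin n) (Fin n) A ≃ₐ[k] Matrix (Fin n) (Fin n) A') : Nonempty (A ≃ₐ[k] A') := by
  obtain ⟨a, D, _, _, ha, _, _, ⟨eA⟩⟩ := exists_division k A
  obtain ⟨b, D', _, _, hb, _, _, ⟨eA'⟩⟩ := exists_division k A'
  let ψ : Matrix (Fin (n * a)) (Fin (n * a)) D ≃ₐ[k] Matrix (Fin (n * b)) (Fin (n * b)) D' :=
    (Matrix.reindexAlgEquiv k D finProdFinEquiv.symm).trans <|
    ((Matrix.compAlgEquiv (Fin n) (Fin a) D k).symm.trans eA.symm.mapMatrix).trans <|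
    e.trans <| eA'.mapMatrix.trans <| (Matrix.compAlgEquiv (Fin n) (Fin b) D' k).trans <|
    Matrix.reindexAlgEquiv k D' finProdFinEquiv
  obtain ⟨h, ⟨eD⟩⟩ := matrix_divisionRing_unique (by positivity) (by positivity) ψ
  obtain rfl : a = b := Nat.eq_of_mul_eq_mul_left (Nat.pos_of_ne_zero hn) h
  exact ⟨eA.trans <| eD.mapMatrix.trans eA'.symm⟩

end Groth.Agent.Csa25
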