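import Groth.Agent.Csa25.Subfield
import Groth.Agent.Csa25.Division
import Mathlib.Algebra.Field.ULift
import Mathlib.FieldTheory.Normal.Closure
import Mathlib.FieldTheory.Galois.Basic
import Groth.Prelude.Def_GSzCSA

/-!
# Finite Galois splitting fields; the index
-/

set_option autoImplicit false
open scoped TensorProduct
open Module

namespace Groth.Agent.Csa25

universe u v w

section

variable {k : Type u} [Field k]

/-- A separable finite extension of `k` can be embedded in a finite Galois extension in the universe of `k`. -/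
theorem exists_galois_of_separable (L : Type v) [Field L] [Algebra k L] [FiniteDimensional k L]
    [Algebra.IsSeparable k L] :
    ∃ K : IntermediateField k (AlgebraicClosure k), FiniteDimensional k K ∧ IsGalois k K ∧
      Nonempty (L →ₐ[k] K) := by
  let K := IntermediateField.normalClosure k L (AlgebraicClosure k)
  let i : L →ₐ[k] AlgebraicClosure k := IsAlgClosed.lift
  have hle : i.fieldRange ≤ K := AlgHom.fieldRange_le_normalClosure i
  have hsepK : K ≤ separableClosure k (AlgebraicClosure k) :=
    normalClosure_le_iff.mpr fun f => by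
      rintro _ ⟨x, rfl⟩
      rw [mem_separableClosure_iff]
      unfold IsSeparable
      rw [AlgHom.toRingHom_eq_coe, RingHom.coe_coe, minpoly.algHom_eq f f.toRingHom.injective]
      exact Algebra.IsSeparable.isSeparable k x
  have : Algebra.IsSeparable k K := ⟨fun x => by
    have h := mem_separableClosure_iff.mp (hsepK x.2)
    unfold IsSeparable at h ⊢
    rwa [← minpoly.algHom_eq K.val Subtype.val_injective]⟩
  have : Normal k K := normalClosure.normal k L (AlgebraicClosure k)
  refine ⟨K, inferInstance, ⟨⟩, ⟨?_⟩⟩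
  exact (IntermediateField.inclusion hle).comp (AlgEquiv.ofInjectiveField i).toAlgHom

variable (k) in
theorem exists_galois_splitting (A : Type v) [Ring A] [Algebra k A] [Algebra.IsCentral k A]
    [IsSimpleRing A] [FiniteDimensional k A] :
    ∃ K : IntermediateField k (AlgebraicClosure k), FiniteDimensional k K ∧ IsGalois k K ∧
      Curves.Splits k A K := by
  obtain ⟨m, D, _, _, hm, _, _, ⟨e⟩⟩ := exists_division k A
  obtain ⟨d, hd, hdim⟩ := exists_finrank_eq_mul_self k D
  obtain ⟨L, _, _, ι, _, _, hL⟩ := exists_separable_maximal_subfield k D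
  have hLd : finrank k L = d := Nat.mul_self_inj.mp (hL.trans hdim)
  have hsplit : Curves.Splits k D L := splits_of_subfield ι hLd hdim
  obtain ⟨K, hK1, hK2, ⟨j⟩⟩ := exists_galois_of_separable (k := k) L
  obtain ⟨t, ht, ⟨f⟩⟩ := splits_of_algHom j hsplit
  refine ⟨K, hK1, hK2, m * t, by positivity, ⟨?_⟩⟩
  exact (baseChangeCongr K e).trans <| (baseChangeMatrixEquiv k D K (Fin m)).trans <|
    f.mapMatrix.trans <| (Matrix.compAlgEquiv (Fin m) (Fin t) K K).trans <|
    Matrix.reindexAlgEquiv K K finProdFinEquiv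

end

section Index

variable {k : Type u} [Field k]

/-- Any isomorphism with a matrix algebra over a division algebra computes the index. -/
theorem isIndex_of_algEquiv {A : Type v} [Ring A] [Algebra k A] {D : Type v} [DivisionRing D]
    [Algebra k D] {m d : ℕ} (hm : 0 < m) (hd : 0 < d) (hD : finrank k D = d ^ 2)
    (e : A ≃ₐ[k] Matrix (Fin m) (Fin m) D) : CSAGal.IsIndex k A d :=
  ⟨hd, m, D, inferInstance, inferInstance, hm, hD, ⟨e⟩⟩

theorem exists_isIndex (A : Type v) [Ring A] [Algebra k A] [Algebra.IsCentral k A] [IsSimpleRing A]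
    [FiniteDimensional k A] : ∃ d, CSAGal.IsIndex k A d := by
  obtain ⟨m, D, _, _, hm, _, _, ⟨e⟩⟩ := exists_division k A
  obtain ⟨d, hd, hdim⟩ := exists_finrank_eq_mul_self k D
  exact ⟨d, isIndex_of_algEquiv hm hd (by rw [hdim, pow_two]) e⟩

/-- The division algebra in the definition of the index is central and finite-dimensional. -/
theorem isIndex_data {A : Type v} [Ring A] [Algebra k A] [Algebra.IsCentral k A] {d : ℕ}
    (h : CSAGal.IsIndex k A d) :
    0 < d ∧ ∃ (m : ℕ) (D : Type v) (_ : DivisionRing D) (_ : Algebra k D), 0 < m ∧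
      Algebra.IsCentral k D ∧ FiniteDimensional k D ∧ finrank k D = d * d ∧
      Nonempty (A ≃ₐ[k] Matrix (Fin m) (Fin m) D) := by
  obtain ⟨hd, m, D, i1, i2, hm, hD, ⟨e⟩⟩ := h
  have : NeZero m := ⟨hm.ne'⟩
  exact ⟨hd, m, D, i1, i2, hm, isCentral_of_algEquiv_matrix e,
    FiniteDimensional.of_finrank_pos (by rw [hD]; positivity), by rw [hD, pow_two], ⟨e⟩⟩

/-- Brauer equivalent algebras have the same index. -/
theorem isIndex_unique_of_matrix {A : Type v} [Ring A] [Algebra k A] [Algebra.IsCentral k A]
    {B : Type w} [Ring B] [Algebra k B] [Algebra.IsCentral k B] {a b : ℕ}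
    (ha : CSAGal.IsIndex k A a) (hb : CSAGal.IsIndex k B b) {n m : ℕ} (hn : n ≠ 0) (hm : m ≠ 0)
    (e : Matrix (Fin n) (Fin n) A ≃ₐ[k] Matrix (Fin m) (Fin m) B) : a = b := by
  obtain ⟨-, p, D, _, _, hp, _, _, hD, ⟨eA⟩⟩ := isIndex_data ha
  obtain ⟨-, q, D', _, _, hq, _, _, hD', ⟨eB⟩⟩ := isIndex_data hb
  let ψ : Matrix (Fin (n * p)) (Fin (n * p)) D ≃ₐ[k] Matrix (Fin (m * q)) (Fin (m * q)) D' :=
    (Matrix.reindexAlgEquiv k D finProdFinEquiv.symm).trans <|
    ((Matrix.compAlgEquiv (Fin n) (Fin p) D k).symm.trans eA.symm.mapMatrix).trans <|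
    e.trans <| eB.mapMatrix.trans <| (Matrix.compAlgEquiv (Fin m) (Fin q) D' k).trans <|
    Matrix.reindexAlgEquiv k D' finProdFinEquiv
  obtain ⟨-, ⟨eD⟩⟩ := matrix_divisionRing_unique (by positivity) (by positivity) ψ
  exact Nat.mul_self_inj.mp (hD.symm.trans (eD.toLinearEquiv.finrank_eq.trans hD'))

theorem isIndex_unique {A : Type v} [Ring A] [Algebra k A] [Algebra.IsCentral k A] {a b : ℕ}
    (ha : CSAGal.IsIndex k A a) (hb : CSAGal.IsIndex k A b) : a = b :=
  isIndex_unique_of_matrix ha hb one_ne_zero one_ne_zero AlgEquiv.refl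

/-- The index of an algebra divides its index after base change times the degree of the extension. -/
theorem isIndex_dvd_finrank_mul {A : Type v} [Ring A] [Algebra k A] [Algebra.IsCentral k A]
    (L : Type w) [Field L] [Algebra k L] [FiniteDimensional k L] {d d' : ℕ}
    (hd : CSAGal.IsIndex k A d) (hd' : CSAGal.IsIndex L (L ⊗[k] A) d') :
    d' ∣ d ∧ d ∣ finrank k L * d' := by
  obtain ⟨hd0, m, D, _, _, hm, _, _, hD, ⟨eA⟩⟩ := isIndex_data hd
  have := isCentral_baseChange k D L
  have := isSimpleRing_baseChange k D L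
  obtain ⟨t, E, _, _, ht, _, _, ⟨eE⟩⟩ := exists_division L (L ⊗[k] D)
  obtain ⟨e, he0, he⟩ := exists_finrank_eq_mul_self L E
  have := isCentral_baseChange k A L
  have hidx : d' = e := by
    refine isIndex_unique hd' (isIndex_of_algEquiv (D := ULift.{max v w} E) (m := m * t)
      (by positivity) he0 ?_ ?_)
    · rw [(ULift.moduleEquiv : ULift.{max v w} E ≃ₗ[L] E).finrank_eq, he, pow_two]
    · exact (baseChangeCongr L eA).trans <| (baseChangeMatrixEquiv k D L (Fin m)).trans <|
        (eE.trans (ULift.algEquiv.symm.mapMatrix)).mapMatrix.trans <|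
        (Matrix.compAlgEquiv (Fin m) (Fin t) _ L).trans <| Matrix.reindexAlgEquiv L _ finProdFinEquiv
  subst hidx
  have hdt : d = t * d' := by
    have h := eE.toLinearEquiv.finrank_eq
    rw [Module.finrank_baseChange, hD, Module.finrank_matrix, Fintype.card_fin, he] at h
    exact Nat.mul_self_inj.mp (by linarith)
  refine ⟨⟨t, by rw [hdt, mul_comm]⟩, ?_⟩
  -- the simple module `E^t` of `L ⊗ D`, as a vector space over `D`
  let : Algebra k E := ((algebraMap L E).comp (algebraMap k L)).toAlgebra' fun c x =>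
    Algebra.commutes (algebraMap k L c) x
  have : IsScalarTower k L E := .of_algebraMap_eq fun _ => rfl
  let f : D →ₐ[k] Matrix (Fin t) (Fin t) E :=
    ((eE.restrictScalars k).toAlgHom).comp Algebra.TensorProduct.includeRight
  have : NeZero t := ⟨ht.ne'⟩
  let : Module D (Fin t → E) := Module.compHom (Fin t → E) f.toRingHom
  have hsm : ∀ (x : D) (v : Fin t → E), x • v = Matrix.mulVec (f x) v := fun x v =>
    matrixModule_smul (f x) v
  have : IsScalarTower k D (Fin t → E) := ⟨fun c x v => by
    rw [hsm, hsm, map_smul, Matrix.smul_mulVec]⟩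
  have : Module.Finite L E := by infer_instance
  have : Module.Finite k E := Module.Finite.trans L E
  have : Module.Finite D (Fin t → E) := Module.Finite.of_restrictScalars_finite k D _
  have h1 := Module.finrank_mul_finrank k D (Fin t → E)
  rw [hD, Module.finrank_pi_fintype, Finset.sum_const, Finset.card_univ, Fintype.card_fin,
    smul_eq_mul, ← Module.finrank_mul_finrank k L E, he] at h1
  refine ⟨finrank D (Fin t → E), ?_⟩
  exact Nat.eq_of_mul_eq_mul_left hd0 (by
    calc d * (finrank k L * d') = t * d' * (finrank k L * d') := by rw [hdt]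
      _ = d * d * finrank D (Fin t → E) := by rw [h1]; ring
      _ = d * (d * finrank D (Fin t → E)) := by ring)

theorem splits_iff_isIndex_one {A : Type v} [Ring A] [Algebra k A] [Algebra.IsCentral k A]
    [IsSimpleRing A] [FiniteDimensional k A] : Curves.Splits k A k ↔ CSAGal.IsIndex k A 1 := by
  rw [splits_self_iff]
  constructor
  · rintro ⟨n, hn, ⟨e⟩⟩
    let β : (⊥ : Subalgebra k A) ≃ₐ[k] k := Algebra.botEquiv k A
    let : DivisionRing (⊥ : Subalgebra k A) := DivisionRing.ofIsUnitOrEqZero fun a => by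
      rcases eq_or_ne a 0 with h | h
      · exact Or.inr h
      · exact Or.inl ((MulEquiv.isUnit_map β).mp (IsUnit.mk0 _ fun h0 => h (β.injective (by simpa using h0))))
    exact isIndex_of_algEquiv (D := (⊥ : Subalgebra k A)) (Nat.pos_of_ne_zero hn) one_pos
      (by rw [β.toLinearEquiv.finrank_eq, Module.finrank_self, one_pow])
      (e.trans β.symm.mapMatrix)
  · intro h
    obtain ⟨-, m, D, _, _, hm, _, _, hD, ⟨e⟩⟩ := isIndex_data h
    exact ⟨m, hm.ne', ⟨e.trans (AlgEquiv.symm
      (AlgEquiv.ofBijective (Algebra.ofId k D)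
        ⟨(algebraMap k D).injective, fun x => Algebra.mem_bot.mp ((Subalgebra.bot_eq_top_of_finrank_eq_one
          (by simpa using hD)).symm ▸ (trivial : x ∈ (⊤ : Subalgebra k D)))⟩)).mapMatrix⟩⟩

/-- The index divides the degree of every finite splitting field. -/
theorem isIndex_dvd_finrank_of_splits {A : Type v} [Ring A] [Algebra k A] [Algebra.IsCentral k A]
    [IsSimpleRing A] [FiniteDimensional k A] {d : ℕ} (hd : CSAGal.IsIndex k A d)
    (L : Type w) [Field L] [Algebra k L] [FiniteDimensional k L] (h : Curves.Splits k A L) :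
    d ∣ finrank k L := by
  have := isCentral_baseChange k A L
  have := isSimpleRing_baseChange k A L
  have h1 : CSAGal.IsIndex L (L ⊗[k] A) 1 :=
    splits_iff_isIndex_one.mp (splits_self_iff.mpr h)
  simpa using (isIndex_dvd_finrank_mul L hd h1).2

end Index

end Groth.Agent.Csa25
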