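import Groth.Agent.Csa25.Basic
import Mathlib.LinearAlgebra.Matrix.ToLin

/-!
# Endomorphisms of modules over simple algebras, double centralizer theorem
-/

set_option autoImplicit false
open scoped TensorProduct
open Module MulOpposite

namespace Groth.Agent.Csa25

universe u v w

/-- For a module `M` over a simple algebra `R`: `dim R * dim End_R M = (dim M) ^ 2`. -/
theorem finrank_mul_finrank_end {k : Type u} [Field k] (R : Type v) [Ring R] [Algebra k R]
    [IsSimpleRing R] [FiniteDimensional k R] (M : Type w) [AddCommGroup M] [Module k M] [Module R M]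
    [IsScalarTower k R M] [FiniteDimensional k M] :
    finrank k R * finrank k (Module.End R M) = finrank k M * finrank k M := by
  set a := finrank k R
  set b := finrank k M
  obtain ⟨e⟩ := nonempty_linearEquiv_of_finrank_eq k R (Fin a → M) (Fin b → R) (by
    simp [Module.finrank_pi_fintype, a, b, mul_comm])
  have h1 : finrank k (Module.End R (Fin a → M)) = a * a * finrank k (Module.End R M) := by
    rw [(endVecAlgEquivMatrixEnd (Fin a) k R M).toLinearEquiv.finrank_eq, Module.finrank_matrix,
      Fintype.card_fin]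
  have h2 : finrank k (Module.End R (Fin b → R)) = b * b * a := by
    rw [(endVecAlgEquivMatrixEnd (Fin b) k R R).toLinearEquiv.finrank_eq, Module.finrank_matrix,
      Fintype.card_fin, ← (AlgEquiv.moduleEndSelf k (A := R)).toLinearEquiv.finrank_eq,
      ← (opLinearEquiv k : R ≃ₗ[k] Rᵐᵒᵖ).finrank_eq]
  have h3 := (e.conjAlgEquiv k).toLinearEquiv.finrank_eq
  rw [h1, h2] at h3
  have ha : 0 < a := Module.finrank_pos
  exact Nat.eq_of_mul_eq_mul_left ha (by linarith)

/-- The double centralizer theorem, dimension part. -/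
theorem finrank_mul_finrank_centralizer {k : Type u} [Field k] {A : Type v} [Ring A] [Algebra k A]
    [Algebra.IsCentral k A] [IsSimpleRing A] [FiniteDimensional k A]
    {B : Type w} [Ring B] [Algebra k B] [IsSimpleRing B] (f : B →ₐ[k] A) :
    finrank k B * finrank k (Subalgebra.centralizer k (Set.range f)) = finrank k A := by
  have : FiniteDimensional k B := Module.Finite.of_injective f.toLinearMap
    (RingHom.injective f.toRingHom)
  have : IsSimpleRing (Aᵐᵒᵖ ⊗[k] B) := isSimpleRing_tensor
  have : IsSimpleRing (B ⊗[k] Aᵐᵒᵖ) :=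
    .of_ringEquiv (Algebra.TensorProduct.comm k Aᵐᵒᵖ B).toRingEquiv this
  let : Module (B ⊗[k] Aᵐᵒᵖ) A := twistedModule f
  have hsmul : ∀ (x : B ⊗[k] Aᵐᵒᵖ) (a : A), x • a =
      (AlgHom.mulLeftRight k A) (Algebra.TensorProduct.map f (AlgHom.id k Aᵐᵒᵖ) x) a := fun _ _ => rfl
  have : IsScalarTower k (B ⊗[k] Aᵐᵒᵖ) A := ⟨fun c x a => by
    rw [hsmul, hsmul, map_smul, map_smul]; rfl⟩
  have hbc : ∀ (b : B) (c x : A), (b ⊗ₜ[k] op c : B ⊗[k] Aᵐᵒᵖ) • x = f b * x * c := by
    intro b c x; simp [hsmul]
  let C := Subalgebra.centralizer k (Set.range f)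
  let Φ : C →ₗ[k] Module.End (B ⊗[k] Aᵐᵒᵖ) A :=
    { toFun := fun c =>
        { toFun := fun x => (c : A) * x
          map_add' := mul_add _
          map_smul' := fun r x => by
            induction r using TensorProduct.induction_on with
            | zero => simp [hsmul]
            | tmul b a =>
              obtain ⟨a, rfl⟩ := op_surjective a
              simp only [RingHom.id_apply, hbc, ← mul_assoc]
              rw [← (Subalgebra.mem_centralizer_iff k).mp c.2 (f b) ⟨b, rfl⟩]
            | add r s hr hs => simp only [RingHom.id_apply, hsmul, map_add, LinearMap.add_apply, mul_add] at hr hs ⊢; rw [hr, hs] }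
      map_add' := fun c d => LinearMap.ext fun x => add_mul (c : A) d x
      map_smul' := fun r c => LinearMap.ext fun x => smul_mul_assoc r (c : A) x }
  have hinj : Function.Injective Φ := fun c d h => Subtype.ext (by
    simpa [Φ] using LinearMap.congr_fun h 1)
  have hsurj : Function.Surjective Φ := by
    intro g
    have hr : ∀ x : A, g x = g 1 * x := fun x => by
      have := map_smul g ((1 : B) ⊗ₜ[k] op x) (1 : A)
      simpa [hbc] using this
    refine ⟨⟨g 1, ?_⟩, LinearMap.ext fun x => (hr x).symm⟩
    rw [Subalgebra.mem_centralizer_iff]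
    rintro _ ⟨b, rfl⟩
    have := map_smul g (b ⊗ₜ[k] op (1 : A)) (1 : A)
    simp only [hbc, mul_one] at this
    rw [← this, hr]
  have hdim : finrank k C = finrank k (Module.End (B ⊗[k] Aᵐᵒᵖ) A) :=
    (LinearEquiv.ofBijective Φ ⟨hinj, hsurj⟩).finrank_eq
  have h := finrank_mul_finrank_end (k := k) (B ⊗[k] Aᵐᵒᵖ) A
  rw [Module.finrank_tensorProduct, ← (opLinearEquiv k : A ≃ₗ[k] Aᵐᵒᵖ).finrank_eq, ← hdim] at h
  have hA : 0 < finrank k A := Module.finrank_pos
  exact Nat.eq_of_mul_eq_mul_left hA (by linarith)

end Groth.Agent.Csa25
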