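import Groth.Agent.Csa25.Basic
import Mathlib.RingTheory.MatrixAlgebra
import Mathlib.Algebra.Central.Matrix
import Mathlib.FieldTheory.JacobsonNoether
import Mathlib.FieldTheory.IsSepClosed

/-!
# Division algebra part of a central simple algebra
-/

set_option autoImplicit false
open scoped TensorProduct
open Module

namespace Groth.Agent.Csa25

universe u v

theorem isCentral_of_algEquiv {k : Type u} [Field k] {A B : Type*} [Ring A] [Algebra k A]
    [Algebra.IsCentral k A] [Ring B] [Algebra k B] (e : A ≃ₐ[k] B) : Algebra.IsCentral k B where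
  out x hx := by
    have h : e.symm x ∈ Subalgebra.center k A := by
      rw [Subalgebra.mem_center_iff] at hx ⊢
      intro a
      apply e.injective
      simpa using hx (e a)
    obtain ⟨c, hc⟩ := (Algebra.IsCentral.mem_center_iff k).mp h
    exact Algebra.mem_bot.mpr ⟨c, by rw [← e.apply_symm_apply x, hc, e.commutes]⟩

theorem isCentral_of_algEquiv_matrix {k : Type u} [Field k] {A D : Type*} [Ring A] [Algebra k A]
    [Algebra.IsCentral k A] [Ring D] [Algebra k D] {m : ℕ} [NeZero m]
    (e : A ≃ₐ[k] Matrix (Fin m) (Fin m) D) : Algebra.IsCentral k D := by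
  have : Algebra.IsCentral k (D ⊗[k] Matrix (Fin m) (Fin m) k) :=
    isCentral_of_algEquiv (e.trans (matrixEquivTensor (Fin m) k D))
  exact Algebra.IsCentral.left_of_tensor_of_field k D (Matrix (Fin m) (Fin m) k)

/-- Wedderburn: the division algebra part of a central simple algebra. -/
theorem exists_division (k : Type u) [Field k] (A : Type v) [Ring A] [Algebra k A]
    [Algebra.IsCentral k A] [IsSimpleRing A] [FiniteDimensional k A] :
    ∃ (m : ℕ) (D : Type v) (_ : DivisionRing D) (_ : Algebra k D),
      0 < m ∧ Algebra.IsCentral k D ∧ FiniteDimensional k D ∧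
        Nonempty (A ≃ₐ[k] Matrix (Fin m) (Fin m) D) := by
  have : IsArtinianRing A := IsArtinianRing.of_finite k A
  obtain ⟨m, hm, D, iD, iA, hfin, ⟨e⟩⟩ := IsSimpleRing.exists_algEquiv_matrix_divisionRing_finite k A
  exact ⟨m, D, iD, iA, Nat.pos_of_neZero m, isCentral_of_algEquiv_matrix e, hfin, ⟨e⟩⟩

/-- A central division algebra over a separably closed field is the field. -/
theorem algebraMap_bijective_of_isSepClosed (k : Type u) [Field k] [IsSepClosed k]
    (D : Type v) [DivisionRing D] [Algebra k D] [Algebra.IsCentral k D] [FiniteDimensional k D] :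
    Function.Bijective (algebraMap k D) := by
  refine ⟨(algebraMap k D).injective, ?_⟩
  by_contra hs
  have hne : (⊥ : Subalgebra k D) ≠ ⊤ := fun h => hs fun x => Algebra.mem_bot.mp (h ▸ trivial)
  obtain ⟨x, hx, hsep⟩ := JacobsonNoether.exists_separable_and_not_isCentral' hne
  have hint : IsIntegral k x := IsIntegral.of_finite k x
  refine hx (Algebra.mem_bot.mpr ((minpoly.degree_eq_one_iff).mp ?_))
  exact IsSepClosed.degree_eq_one_of_irreducible k (minpoly.irreducible hint) hsep

theorem exists_algEquiv_matrix_of_isSepClosed (k : Type u) [Field k] [IsSepClosed k]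
    (A : Type v) [Ring A] [Algebra k A] [Algebra.IsCentral k A] [IsSimpleRing A]
    [FiniteDimensional k A] : ∃ n : ℕ, 0 < n ∧ Nonempty (A ≃ₐ[k] Matrix (Fin n) (Fin n) k) := by
  obtain ⟨m, D, _, _, hm, _, _, ⟨e⟩⟩ := exists_division k A
  exact ⟨m, hm, ⟨e.trans <| AlgEquiv.mapMatrix <| AlgEquiv.symm <|
    AlgEquiv.ofBijective (Algebra.ofId k D) (algebraMap_bijective_of_isSepClosed k D)⟩⟩

end Groth.Agent.Csa25
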