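import Groth.Agent.Csa25.BaseChange
import Groth.Agent.Csa25.Centralizer
import Groth.Agent.Csa25.Wedderburn
import Mathlib.FieldTheory.SeparableClosure

/-!
# Maximal separable subfields of division algebras
-/

set_option autoImplicit false
open scoped TensorProduct
open Module MulOpposite

namespace Groth.Agent.Csa25

universe u v w

/-- A subfield of degree `n` of a central simple algebra of degree `n` splits it. -/
theorem splits_of_subfield {k : Type u} [Field k] {A : Type v} [Ring A] [Algebra k A]
    [Algebra.IsCentral k A] [IsSimpleRing A] [FiniteDimensional k A]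
    {L : Type w} [Field L] [Algebra k L] (ι : L →ₐ[k] A) {n : ℕ} (hL : finrank k L = n)
    (hA : finrank k A = n * n) : Curves.Splits k A L := by
  have hn : 0 < n := Nat.pos_of_ne_zero fun h => by simp [h, Module.finrank_pos.ne'] at hA
  have : FiniteDimensional k L := Module.Finite.of_injective ι.toLinearMap ι.toRingHom.injective
  let : Module L A :=
    { smul := fun l v => v * ι l
      one_smul := fun v => show v * ι 1 = v by simp
      mul_smul := fun a b v => show v * ι (a * b) = v * ι b * ι a by rw [mul_comm a b, map_mul, mul_assoc]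
      smul_zero := fun a => show 0 * ι a = 0 from zero_mul _
      smul_add := fun a v w => show (v + w) * ι a = _ from add_mul _ _ _
      add_smul := fun a b v => show v * ι (a + b) = _ by rw [map_add, mul_add]; rfl
      zero_smul := fun v => show v * ι 0 = 0 by simp }
  have hsm : ∀ (l : L) (v : A), l • v = v * ι l := fun _ _ => rfl
  have : IsScalarTower k L A := ⟨fun c l v => by simp [hsm]⟩
  have : SMulCommClass L k A := ⟨fun l c v => by simp [hsm]⟩
  have : SMulCommClass k L A := SMulCommClass.symm _ _ _
  have : Module.Finite L A := Module.Finite.of_restrictScalars_finite k L A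
  let g : A →ₐ[k] Module.End L A :=
    { toFun := fun a =>
        { toFun := fun v => a * v
          map_add' := mul_add a
          map_smul' := fun l v => by simp [hsm, mul_assoc] }
      map_one' := LinearMap.ext one_mul
      map_zero' := LinearMap.ext zero_mul
      map_mul' := fun a b => LinearMap.ext fun v => mul_assoc a b v
      map_add' := fun a b => LinearMap.ext fun v => add_mul a b v
      commutes' := fun c => LinearMap.ext fun v => by simp [Algebra.smul_def] }
  let Φ : L ⊗[k] A →ₐ[L] Module.End L A :=
    Algebra.TensorProduct.lift (Algebra.ofId L _) g fun l a => Algebra.commutes l (g a)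
  have := isSimpleRing_baseChange k A L
  have hLA : finrank L A = n := by
    have h := Module.finrank_mul_finrank k L A
    rw [hL, hA] at h
    exact Nat.eq_of_mul_eq_mul_left hn h
  have : Nontrivial (Module.End L A) := by
    refine ⟨⟨0, 1, fun h => ?_⟩⟩
    have h' := LinearMap.congr_fun h (1 : A)
    simp at h'
  have hinj : Function.Injective Φ := Φ.toRingHom.injective
  have hbij : Function.Bijective Φ := ⟨hinj,
    (LinearMap.injective_iff_surjective_of_finrank_eq_finrank (f := Φ.toLinearMap) (by
      rw [Module.finrank_baseChange, hA, Module.finrank_linearMap, hLA])).mp hinj⟩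
  exact ⟨n, hn.ne', ⟨(AlgEquiv.ofBijective Φ hbij).trans
    (algEquivMatrix ((Module.finBasis L A).reindex (finCongr hLA)))⟩⟩

open Polynomial in
/-- A separable commutative subalgebra lies in a separable maximal subfield. -/
theorem exists_separable_maximal_subfield_ge (k : Type u) [Field k] (D : Type v) [DivisionRing D]
    [Algebra k D] [Algebra.IsCentral k D] [FiniteDimensional k D] (S₀ : Subalgebra k D)
    (hS₀ : (∀ x ∈ S₀, ∀ y ∈ S₀, x * y = y * x) ∧ ∀ x ∈ S₀, IsSeparable k x) :
    ∃ (L : Type v) (_ : Field L) (_ : Algebra k L) (ι : L →ₐ[k] D), S₀ ≤ ι.range ∧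
      FiniteDimensional k L ∧ Algebra.IsSeparable k L ∧ finrank k L * finrank k L = finrank k D := by
  classical
  let P : Subalgebra k D → Prop := fun S =>
    S₀ ≤ S ∧ (∀ x ∈ S, ∀ y ∈ S, x * y = y * x) ∧ ∀ x ∈ S, IsSeparable k x
  obtain ⟨m, hm, hmax⟩ : ∃ m, (∃ S, P S ∧ finrank k S = m) ∧
      ∀ S, P S → finrank k S ≤ m := by
    have hb : ∀ S : Subalgebra k D, finrank k S ≤ finrank k D := fun S =>
      Submodule.finrank_le (Subalgebra.toSubmodule S)
    let Q : ℕ → Prop := fun m => ∃ S, P S ∧ finrank k S = m
    exact ⟨Nat.findGreatest Q (finrank k D),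
      Nat.findGreatest_spec (P := Q) (hb S₀) ⟨S₀, ⟨le_rfl, hS₀⟩, rfl⟩,
      fun S hS => Nat.le_findGreatest (P := Q) (hb S) ⟨S, hS, rfl⟩⟩
  obtain ⟨S, ⟨hbase, hcomm, hsep⟩, hS⟩ := hm
  have : IsArtinianRing S := IsArtinianRing.of_finite k S
  let : Field S :=
    { (inferInstance : Ring S), IsField.toField (show IsField S from
        { exists_pair_ne := ⟨0, 1, zero_ne_one⟩
          mul_comm := fun x y => Subtype.ext (hcomm x x.2 y y.2)
          mul_inv_cancel := fun {a} ha =>
            (IsArtinianRing.isUnit_of_mem_nonZeroDivisors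
              (mem_nonZeroDivisors_of_ne_zero ha)).exists_right_inv }) with }
  have hSsep : Algebra.IsSeparable k S := ⟨fun x => by
    have h : IsSeparable k (S.val x) := hsep x x.2
    unfold IsSeparable at h ⊢
    rwa [minpoly.algHom_eq S.val Subtype.val_injective] at h⟩
  refine ⟨S, inferInstance, inferInstance, S.val, (Subalgebra.range_val S).symm ▸ hbase, inferInstance, hSsep, ?_⟩
  have hdc := finrank_mul_finrank_centralizer (k := k) S.val
  set C := Subalgebra.centralizer k (Set.range S.val) with hC
  have hSC : ∀ (s : S) (c : C), (s : D) * c = c * s := fun s c =>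
    (Subalgebra.mem_centralizer_iff k).mp c.2 _ ⟨s, rfl⟩
  have hle : S ≤ C := fun x hx => by
    rw [hC, Subalgebra.mem_centralizer_iff]
    rintro _ ⟨y, rfl⟩
    exact hcomm _ y.2 _ hx
  by_cases hCS : C ≤ S
  · have : C = S := le_antisymm hCS hle
    rwa [this] at hdc
  exfalso
  have hfin : IsArtinianRing C := IsArtinianRing.of_finite k C
  have hdom : IsDomain C := inferInstance
  let : DivisionRing C := DivisionRing.ofIsUnitOrEqZero fun a =>
    or_iff_not_imp_right.mpr fun ha =>
      IsArtinianRing.isUnit_of_mem_nonZeroDivisors (mem_nonZeroDivisors_of_ne_zero ha)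
  let : Algebra S C := (Subalgebra.inclusion hle).toRingHom.toAlgebra' fun s c => Subtype.ext (hSC s c)
  have : IsScalarTower k S C := .of_algebraMap_eq fun _ => rfl
  have : Algebra.IsAlgebraic k C := .of_finite k C
  have : Algebra.IsAlgebraic S C := .tower_top (K := k) _
  have hcC : ∀ z : C, (∀ w : C, w * z = z * w) → (z : D) ∈ S := by
    intro z hz
    have hdc' := finrank_mul_finrank_centralizer (k := k) C.val
    have hle' : S ≤ Subalgebra.centralizer k (Set.range C.val) := fun x hx => by
      rw [Subalgebra.mem_centralizer_iff]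
      rintro _ ⟨c, rfl⟩
      exact (hSC ⟨x, hx⟩ c).symm
    have hposC : 0 < finrank k C := Module.finrank_pos
    have heq : S = Subalgebra.centralizer k (Set.range C.val) := by
      apply Subalgebra.toSubmodule_injective
      exact Submodule.eq_of_le_of_finrank_eq hle'
        (Nat.eq_of_mul_eq_mul_left hposC (by rw [mul_comm]; exact hdc.trans hdc'.symm))
    rw [heq, Subalgebra.mem_centralizer_iff]
    rintro _ ⟨c, rfl⟩
    exact congrArg Subtype.val (hz c)
  have : Algebra.IsCentral S C := ⟨fun z hz => Algebra.mem_bot.mpr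
    ⟨⟨(z : D), hcC z (Subalgebra.mem_center_iff.mp hz)⟩, Subtype.ext rfl⟩⟩
  have hne : (⊥ : Subalgebra S C) ≠ ⊤ := fun h => hCS fun c hc => by
    obtain ⟨s, hs⟩ := Algebra.mem_bot.mp (h ▸ trivial : (⟨c, hc⟩ : C) ∈ (⊥ : Subalgebra S C))
    exact (show (s : D) = c from congrArg Subtype.val hs) ▸ s.2
  obtain ⟨x, hx, hxsep⟩ := JacobsonNoether.exists_separable_and_not_isCentral' hne
  let gen : Set D := insert (x : D) (S : Set D)
  let S' := Algebra.adjoin k gen
  have hgen : ∀ a ∈ gen, ∀ b ∈ gen, a * b = b * a := by
    rintro a (rfl | ha) b (rfl | hb)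
    · rfl
    · exact (hSC ⟨b, hb⟩ x).symm
    · exact hSC ⟨a, ha⟩ x
    · exact hcomm a ha b hb
  have hS'comm : ∀ a ∈ S', ∀ b ∈ S', a * b = b * a := fun a ha b hb => by
    have h1 : S' ≤ Subalgebra.centralizer k gen := Algebra.adjoin_le fun a ha => by
      rw [SetLike.mem_coe, Subalgebra.mem_centralizer_iff]; exact fun g hg => hgen g hg a ha
    have h2 : S' ≤ Subalgebra.centralizer k (S' : Set D) := Algebra.adjoin_le fun g hg => by
      rw [SetLike.mem_coe, Subalgebra.mem_centralizer_iff]
      exact fun b hb => ((Subalgebra.mem_centralizer_iff k).mp (h1 hb) g hg).symm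
    exact (Subalgebra.mem_centralizer_iff k).mp (h2 hb) a ha
  have hSS' : S ≤ S' := fun y hy => Algebra.subset_adjoin (Set.mem_insert_of_mem _ hy)
  have : IsArtinianRing S' := IsArtinianRing.of_finite k S'
  let : Field S' :=
    { (inferInstance : Ring S'), IsField.toField (show IsField S' from
        { exists_pair_ne := ⟨0, 1, zero_ne_one⟩
          mul_comm := fun x y => Subtype.ext (hS'comm x x.2 y y.2)
          mul_inv_cancel := fun {a} ha =>
            (IsArtinianRing.isUnit_of_mem_nonZeroDivisors
              (mem_nonZeroDivisors_of_ne_zero ha)).exists_right_inv }) with }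
  let : Algebra S S' := (Subalgebra.inclusion hSS').toRingHom.toAlgebra
  have : IsScalarTower k S S' := .of_algebraMap_eq fun _ => rfl
  let x' : S' := ⟨x, Algebra.subset_adjoin (Set.mem_insert _ _)⟩
  have hx' : IsSeparable S x' := by
    apply Separable.of_dvd hxsep
    apply minpoly.dvd
    apply Subtype.ext
    have key : ∀ q : S[X], (Polynomial.aeval x' q : D) = (Polynomial.aeval x q : D) := by
      intro q
      induction q using Polynomial.induction_on' with
      | add p q hp hq => simp [map_add, hp, hq]
      | monomial n s =>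
        rw [Polynomial.aeval_monomial, Polynomial.aeval_monomial]
        rfl
    rw [key, minpoly.aeval]
    rfl
  have hx'k : IsSeparable k x' := IsSeparable.of_algebra_isSeparable_of_isSeparable k hx'
  have hS'sep : ∀ y ∈ S', IsSeparable k y := by
    have : Algebra.IsAlgebraic k S' := .of_finite k S'
    have htop : (separableClosure k S').toSubalgebra = ⊤ := by
      have h : Algebra.adjoin k (S'.val ⁻¹' gen) = ⊤ := by
        apply Subalgebra.map_injective (f := S'.val) Subtype.val_injective
        rw [AlgHom.map_adjoin, Set.image_preimage_eq_of_subset, Algebra.map_top, Subalgebra.range_val]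
        intro g hg
        exact ⟨⟨g, Algebra.subset_adjoin hg⟩, rfl⟩
      rw [eq_top_iff, ← h]
      refine Algebra.adjoin_le ?_
      rintro ⟨y, hy⟩ (h' | h')
      · exact mem_separableClosure_iff.mpr (by simpa [show (⟨y, hy⟩ : S') = x' from Subtype.ext h'] using hx'k)
      · refine mem_separableClosure_iff.mpr ?_
        have h1 : IsSeparable k (⟨y, h'⟩ : S) := Algebra.IsSeparable.isSeparable k _
        unfold IsSeparable at h1 ⊢
        rwa [← minpoly.algHom_eq (Subalgebra.inclusion hSS') (Subalgebra.inclusion_injective hSS')] at h1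
    intro y hy
    have h1 : (⟨y, hy⟩ : S') ∈ (separableClosure k S').toSubalgebra := htop ▸ trivial
    have h2 := mem_separableClosure_iff.mp h1
    unfold IsSeparable at h2 ⊢
    rwa [← minpoly.algHom_eq S'.val Subtype.val_injective] at h2
  have h1 := hmax S' ⟨hbase.trans hSS', hS'comm, hS'sep⟩
  have heq : S = S' := Subalgebra.toSubmodule_injective
    (Submodule.eq_of_le_of_finrank_le hSS' (hS ▸ h1))
  refine hx (Algebra.mem_bot.mpr ⟨⟨(x : D), ?_⟩, Subtype.ext rfl⟩)
  rw [heq]
  exact x'.2

/-- A separable maximal subfield of a central division algebra. -/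
theorem exists_separable_maximal_subfield (k : Type u) [Field k] (D : Type v) [DivisionRing D]
    [Algebra k D] [Algebra.IsCentral k D] [FiniteDimensional k D] :
    ∃ (L : Type v) (_ : Field L) (_ : Algebra k L) (_ : L →ₐ[k] D),
      FiniteDimensional k L ∧ Algebra.IsSeparable k L ∧ finrank k L * finrank k L = finrank k D := by
  obtain ⟨L, _, _, ι, -, h⟩ := exists_separable_maximal_subfield_ge k D ⊥ ⟨fun x hx y _ => by
    obtain ⟨c, rfl⟩ := Algebra.mem_bot.mp hx
    exact Algebra.commutes c y, fun x hx => by
    obtain ⟨c, rfl⟩ := Algebra.mem_bot.mp hx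
    exact isSeparable_algebraMap c⟩
  exact ⟨L, _, _, ι, h⟩

end Groth.Agent.Csa25
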