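import Groth.Agent.Csa25.SBPicTwist

/-!
# Which twists descend to a Severi–Brauer scheme
-/

set_option autoImplicit false
set_option backward.isDefEq.respectTransparency.types false
open scoped TensorProduct Groth.Agent.Csa25
open Module CategoryTheory CategoryTheory.Limits AlgebraicGeometry HomogeneousLocalization TopologicalSpace

noncomputable section

namespace Groth.Agent.Csa25

universe u

open Var76.LineBundle

theorem glob_injective {K : Type u} [Field K] {n j : ℕ} :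
    Function.Injective (glob : CohB1.polyGrading n K j → ProjUP.Γm (Twist.twistProjSpace n K (j : ℤ))) := by
  intro F F' h
  refine Subtype.ext ?_
  have h3 := congrArg (fun t => (t.1 ⟨genericPt, trivial⟩).1) h
  have := mk_genericPt_inj (a := F.1) (b := F'.1) (s := 1) (t := 1) h3
  simpa using this

theorem eq_of_secTr_comp {P X : Scheme.{u}} {π : P ⟶ X} {L : X.Modules} {O : P.Modules}
    (β : (Scheme.Modules.pullback π).obj L ≅ O) (hL : PicF.IsInvertible L) (l₁ l₂ l₃ : P ⟶ P)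
    (h₁ : l₁ ≫ π = π) (h₂ : l₂ ≫ π = π) (h₃ : l₃ ≫ π = π) (h : l₁ ≫ l₂ = l₃) (t a b c : Γ(O, ⊤))
    (ha : secTr β l₂ h₂ ⊤ t = a) (hb : secTr β l₁ h₁ ⊤ a = b) (hc : secTr β l₃ h₃ ⊤ t = c) : b = c := by
  have h1 := secTr_comp β hL l₁ l₂ l₃ h₁ h₂ h₃ h ⊤ t
  refine hb.symm.trans (Eq.trans ?_ hc)
  refine Eq.trans ?_ (h1.trans (Amp73.res_self _ _))
  exact congrArg (secTr β l₁ h₁ ⊤) ha.symm

attribute [local irreducible] secTr glob linMap

variable {k : Type u} [Field k] {K : Type u} [Field K] [Algebra k K] [FiniteDimensional k K] [IsGalois k K]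
  {n : ℕ} {A : Type u} [Ring A] [Algebra k A] [Algebra.IsCentral k A] [IsSimpleRing A] [FiniteDimensional k A]
  (φ : K ⊗[k] A ≃ₐ[K] Matrix (Fin (n + 1)) (Fin (n + 1)) K)
  (hd : finrank k A = (n + 1) * (n + 1))
  {X : Scheme.{u}} {f : X ⟶ Spec (CommRingCat.of k)}
  (str : BrSev.SBStr k A ((n + 1) * (n + 1) - (n + 1)) f)

set_option maxHeartbeats 3200000 in
include hd in
theorem cl_pow_eq_one_of_twist {j : ℕ} (hj : 0 < j) {L : X.Modules} (hL : PicF.IsInvertible L)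
    (h : BrSev.IsTwPow (splittingOf φ hd str) (j : ℤ) 1 L) : cl k A ^ j = 1 := by
  obtain ⟨i⟩ := (isTwPow_one_iff _ _ _).mp h
  obtain ⟨F, c, hc, htw⟩ := exists_twisted_frame φ hd str
  let e := splittingOf φ hd str
  let π := e.iso.inv ≫ BrSev.proj f K
  let β : (Scheme.Modules.pullback π).obj L ≅ Twist.twistProjSpace n K (j : ℤ) :=
    ((Scheme.Modules.pullbackComp e.iso.inv (BrSev.proj f K)).app L).symm ≪≫
      (Scheme.Modules.pullback e.iso.inv).mapIso i ≪≫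
      (Scheme.Modules.pullbackComp e.iso.inv e.iso.hom).app _ ≪≫
      (Scheme.Modules.pullbackCongr e.iso.inv_hom_id).app _ ≪≫ (Scheme.Modules.pullbackId _).app _
  have hl : ∀ σ : K ≃ₐ[k] K, linMap (σ : K →+* K) (F.mat σ) (F.isUnit σ) ≫ π = π := fun σ => by
    simp only [π]
    rw [← F.act σ, Category.assoc, Category.assoc, Iso.hom_inv_id_assoc, bcAct_proj]
  choose μ hμ0 hμ using fun σ : K ≃ₐ[k] K => exists_secTr_eq hj β (σ : K ≃+* K) (F.isUnit σ) (hl σ)
  have hrel : ∀ σ τ : K ≃ₐ[k] K, μ σ * σ (μ τ) * c σ τ ^ j = μ (σ * τ) := by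
    intro σ τ
    have hcs : c σ τ ≠ 0 := by
      intro h0
      have hu : IsUnit (F.mat σ * (F.mat τ).map σ) :=
        (F.isUnit σ).mul ((F.isUnit τ).map (σ : K →+* K).mapMatrix)
      rw [hc, h0, zero_smul] at hu
      exact not_isUnit_zero hu
    have hcomp : linMap (σ : K →+* K) (F.mat σ) (F.isUnit σ) ≫ linMap (τ : K →+* K) (F.mat τ) (F.isUnit τ) =
        linMap ((σ * τ : K ≃ₐ[k] K) : K →+* K) (F.mat (σ * τ)) (F.isUnit _) := by
      rw [linMap_comp]
      exact (linMap_congr (by ext; rfl) (hc σ τ)).trans (linMap_smul _ (F.isUnit _) hcs)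
    let m : ℕ := j
    let Xp : CohB1.polyGrading n K j :=
      ⟨MvPolynomial.X 0 ^ j, by simpa using (MvPolynomial.isHomogeneous_X K (0 : Fin (n + 1))).pow j⟩
    have hH : ∀ (ρ : K ≃ₐ[k] K) (G : CohB1.polyGrading n K j), ∃ H : CohB1.polyGrading n K j,
        H.1 = MvPolynomial.C (μ ρ) * linHom (ρ : K →+* K) (F.mat ρ) G.1 := fun ρ G =>
      ⟨⟨_, by rw [← MvPolynomial.smul_eq_C_mul]
              exact Submodule.smul_mem _ _ ((linHom (ρ : K →+* K) (F.mat ρ)).map_mem G.2)⟩, rfl⟩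
    choose H hH using hH
    have h2 : glob (H σ (H τ Xp)) = glob (H (σ * τ) Xp) :=
      eq_of_secTr_comp β hL _ _ _ (hl σ) (hl τ) (hl (σ * τ)) hcomp (glob Xp) _ _ _
        (hμ τ Xp _ (hH τ Xp)) (hμ σ _ _ (hH σ _)) (hμ (σ * τ) Xp _ (hH (σ * τ) Xp))
    have h3' := congrArg Subtype.val (glob_injective h2)
    have h3 := (hH σ (H τ Xp)).symm.trans (h3'.trans (hH (σ * τ) Xp))
    rw [(congrArg (linHom (σ : K →+* K) (F.mat σ)) (hH τ Xp)).trans (map_mul _ _ _), linHom_C] at h3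
    have hcomp' := DFunLike.congr_fun (linHom_comp (τ : K →+* K) (σ : K →+* K) (F.mat τ) (F.mat σ)) Xp.1
    rw [show linHom (σ : K →+* K) (F.mat σ) (linHom (τ : K →+* K) (F.mat τ) Xp.1) = _ from hcomp',
      show (F.mat τ).map (σ : K →+* K) = (F.mat τ).map σ from rfl, hc, linHom_smul Xp.2,
      show ((σ : K →+* K).comp (τ : K →+* K)) = ((σ * τ : K ≃ₐ[k] K) : K →+* K) from rfl,
      ← mul_assoc, ← mul_assoc, ← map_mul, ← map_mul] at h3
    have hne : linHom ((σ * τ : K ≃ₐ[k] K) : K →+* K) (F.mat (σ * τ)) Xp.1 ≠ 0 := fun h0 => by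
      obtain ⟨b, -, -, huniq⟩ := linHom_bijective ((σ * τ : K ≃ₐ[k] K) : K ≃+* K) (F.isUnit (σ * τ)) j 0 (Submodule.zero_mem _)
      exact pow_ne_zero j (MvPolynomial.X_ne_zero (0 : Fin (n + 1)))
        ((huniq Xp.1 h0).trans (huniq 0 (map_zero _)).symm)
    exact MvPolynomial.C_injective _ _ (mul_right_cancel₀ hne h3)
  refine (htw.pow j).splits (fun _ _ h => h) (fun σ => (μ σ)⁻¹) (fun σ => inv_ne_zero (hμ0 σ)) (fun σ τ => ?_)
    fun z hz => IntermediateField.mem_bot.mp ((IsGalois.mem_bot_iff_fixed (F := k) z).mpr hz)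
  have h := hrel σ τ
  have h2 : σ (μ τ) ≠ 0 := (map_ne_zero σ).mpr (hμ0 τ)
  have h1 := hμ0 σ
  show c σ τ ^ j = (μ σ)⁻¹ * σ (μ τ)⁻¹ / (μ (σ * τ))⁻¹
  rw [map_inv₀]
  field_simp
  linear_combination h

include φ hd str in
/-- The twists which descend are the multiples of the period. -/
theorem exists_invertible_twist_iff {d : ℕ} (hd0 : 0 < d) (hord : orderOf (cl k A) = d) (e : BrSev.Splitting f K n)
    (j : ℤ) : (∃ L : X.Modules, PicF.IsInvertible L ∧ BrSev.IsTwPow e j 1 L) ↔ (d : ℤ) ∣ j := by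
  obtain ⟨N, ρ, -, -, -, hρ⟩ := exists_embedding φ hd str hd0 (hord ▸ pow_orderOf_eq_one _)
  let e' := splittingOf φ hd str
  obtain ⟨i₁⟩ := (isTwPow_one_iff e' d _).mp hρ
  let π := e'.iso.inv ≫ BrSev.proj f K
  let M : ℤ → X.Modules := fun t => (Scheme.Modules.pullback ρ).obj (Twist.twistProjSpace N k t)
  have hMinv : ∀ t, PicF.IsInvertible (M t) := fun t =>
    Amp73.isInvertible_pullback ρ (Var76.Reg.isInvertible_twist t)
  have hM : ∀ t : ℤ, Nonempty (BrSev.bcMod f K (M t) ≅ e'.twist ((d : ℤ) * t)) := by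
    intro t
    let r := π ≫ ρ
    have hr : e'.iso.hom ≫ r = BrSev.proj f K ≫ ρ := by simp [r, π]
    obtain ⟨it⟩ := nonempty_pullback_twist (r := r) (d := (d : ℤ))
      ⟨((Scheme.Modules.pullbackComp π ρ).app _).symm ≪≫
        ((Scheme.Modules.pullbackComp e'.iso.inv (BrSev.proj f K)).app _).symm ≪≫
        (Scheme.Modules.pullback e'.iso.inv).mapIso i₁ ≪≫
        (Scheme.Modules.pullbackComp e'.iso.inv e'.iso.hom).app _ ≪≫
        (Scheme.Modules.pullbackCongr e'.iso.inv_hom_id).app _ ≪≫ (Scheme.Modules.pullbackId _).app _⟩ t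
    exact ⟨(Scheme.Modules.pullbackComp (BrSev.proj f K) ρ).app _ ≪≫
      (Scheme.Modules.pullbackCongr hr.symm).app _ ≪≫ ((Scheme.Modules.pullbackComp e'.iso.hom r).app _).symm ≪≫
      (Scheme.Modules.pullback e'.iso.hom).mapIso it⟩
  constructor
  · rintro ⟨L, hL, hiso⟩
    obtain ⟨iL⟩ := (isTwPow_one_iff e' j L).mp (isTwPow_one_congr e e' j L hiso)
    let t : ℤ := j.natAbs + 1
    obtain ⟨jn, hjn, hjn0⟩ : ∃ jn : ℕ, j + (d : ℤ) * t = jn ∧ 0 < jn := by
      have hd1 : (1 : ℤ) ≤ d := by exact_mod_cast hd0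
      have h1 : (j.natAbs : ℤ) + 1 ≤ (d : ℤ) * t := le_mul_of_one_le_left (by positivity) hd1
      exact ⟨(j + (d : ℤ) * t).toNat, by omega, by omega⟩
    obtain ⟨iM⟩ := hM t
    obtain ⟨add⟩ := Var76.Reg.nonempty_twist_add (n := n) (A := K) hjn
    haveI := Amp73.isIso_pullTensHom (BrSev.proj f K) hL (hMinv t)
    haveI := Amp73.isIso_pullTensHom e'.iso.hom (Var76.Reg.isInvertible_twist (n := n) (A := K) j)
      (Var76.Reg.isInvertible_twist (n := n) (A := K) ((d : ℤ) * t))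
    have htw : BrSev.IsTwPow e' (jn : ℤ) 1 (CohB1.tensorMod L (M t)) :=
      (isTwPow_one_iff e' _ _).mpr ⟨asIso (Amp73.pullTensHom (BrSev.proj f K) L (M t)) ≪≫ EGA73.tensIso iL iM ≪≫
        (asIso (Amp73.pullTensHom e'.iso.hom _ _)).symm ≪≫ (Scheme.Modules.pullback e'.iso.hom).mapIso add⟩
    have h1 := orderOf_dvd_of_pow_eq_one
      (cl_pow_eq_one_of_twist φ hd str hjn0 (EGA73.isInvertible_tensorMod hL (hMinv t)) htw)
    rw [hord] at h1
    have h2 : (d : ℤ) ∣ j + (d : ℤ) * t := hjn ▸ Int.natCast_dvd_natCast.mpr h1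
    exact (Int.dvd_add_left (dvd_mul_right _ _)).mp h2
  · rintro ⟨t, rfl⟩
    exact ⟨M t, hMinv t, isTwPow_one_congr e' e _ _ ((isTwPow_one_iff e' _ _).mpr (hM t))⟩

end Groth.Agent.Csa25
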