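import Groth.Agent.Csa25.GaloisFix
import Groth.Agent.Csa25.TensorPower
import Mathlib.LinearAlgebra.Matrix.Determinant.Basic
import Mathlib.RingTheory.Flat.Basic
import Mathlib.LinearAlgebra.TensorProduct.RightExactness

/-!
# The `n`-th tensor power of an algebra of degree `n` is split
-/

set_option autoImplicit false
open scoped TensorProduct
open Module Matrix

namespace Groth.Agent.Csa25

universe u v w

section Kron

variable {R : Type u} [CommRing R] (n : ℕ)

/-- The Kronecker product of `n` square matrices of size `n`. -/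
def kronPi (M : Fin n → Matrix (Fin n) (Fin n) R) :
    Matrix (Fin n → Fin n) (Fin n → Fin n) R :=
  Matrix.of fun I J => ∏ i, M i (I i) (J i)

theorem kronPi_mul (M N : Fin n → Matrix (Fin n) (Fin n) R) :
    kronPi n M * kronPi n N = kronPi n (fun i => M i * N i) := by
  ext I J
  simp only [kronPi, Matrix.mul_apply, Matrix.of_apply, ← Finset.prod_mul_distrib]
  exact (Fintype.prod_sum fun i l => M i (I i) l * N i l (J i)).symm

theorem kronPi_one : kronPi n (fun _ => (1 : Matrix (Fin n) (Fin n) R)) = 1 := by
  ext I J
  simp only [kronPi, Matrix.of_apply, Matrix.one_apply]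
  by_cases h : I = J
  · simp [h]
  · rw [if_neg h]
    obtain ⟨i, hi⟩ := Function.ne_iff.mp h
    exact Finset.prod_eq_zero (Finset.mem_univ i) (if_neg hi)

/-- The alternating vector. -/
def altVec (I : Fin n → Fin n) : R := ((1 : Matrix (Fin n) (Fin n) R).submatrix I id).det

theorem altVec_id : (altVec n id : R) = 1 := by simp [altVec]

theorem kronPi_mulVec_altVec (g : Matrix (Fin n) (Fin n) R) :
    kronPi n (fun _ => g) *ᵥ altVec n = g.det • altVec n := by
  classical
  ext I
  simp only [kronPi, Matrix.mulVec, dotProduct, Matrix.of_apply, Pi.smul_apply, smul_eq_mul, altVec]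
  have h1 : g.submatrix I id = ((1 : Matrix (Fin n) (Fin n) R).submatrix I id) * g := by
    conv_lhs => rw [← Matrix.one_mul g]
    rw [Matrix.submatrix_mul _ _ _ id _ Function.bijective_id, Matrix.submatrix_id_id]
  rw [mul_comm, ← Matrix.det_mul, ← h1]
  have h2 : ∀ i, (g.submatrix I id) i = ∑ j, g (I i) j • (1 : Matrix (Fin n) (Fin n) R) j := by
    intro i
    ext l
    simp [Matrix.one_apply, Finset.sum_apply]
  have h3 : (g.submatrix I id).det =
      Matrix.detRowAlternating.toMultilinearMap
        (fun i => ∑ j, g (I i) j • (1 : Matrix (Fin n) (Fin n) R) j) :=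
    congrArg Matrix.det (funext h2 : g.submatrix I id = Matrix.of fun i => ∑ j, g (I i) j • _)
  rw [h3, MultilinearMap.map_sum]
  refine Finset.sum_congr rfl fun J _ => ?_
  rw [MultilinearMap.map_smul_univ]
  rfl

theorem altVec_vecMul_kronPi (g : Matrix (Fin n) (Fin n) R) :
    altVec n ᵥ* kronPi n (fun _ => g) = g.det • altVec n := by
  have h : (kronPi n (fun _ => g))ᵀ = kronPi n (fun _ => gᵀ) := by
    ext I J; simp [kronPi]
  rw [← Matrix.mulVec_transpose, h, kronPi_mulVec_altVec, Matrix.det_transpose]

/-- The rank-one antisymmetrizer. -/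
def altMat : Matrix (Fin n → Fin n) (Fin n → Fin n) R := vecMulVec (altVec n) (altVec n)

theorem kronPi_comm_altMat (g : Matrix (Fin n) (Fin n) R) :
    kronPi n (fun _ => g) * altMat n = altMat n * kronPi n (fun _ => g) := by
  rw [altMat, Matrix.mul_vecMulVec, Matrix.vecMulVec_mul, kronPi_mulVec_altVec, altVec_vecMul_kronPi,
    Matrix.smul_vecMulVec, Matrix.vecMulVec_smul]

theorem map_altMat {S : Type v} [CommRing S] (f : R →+* S) :
    (altMat n : Matrix _ _ R).map f = altMat n := by
  ext I J
  simp [altMat, altVec, vecMulVec_apply, RingHom.map_det, RingHom.mapMatrix_apply,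
    ← Matrix.submatrix_map, Matrix.map_one]

end Kron

variable {k : Type u} [Field k] {A : Type v} [Ring A] [Algebra k A] [Algebra.IsCentral k A]
  [IsSimpleRing A] [FiniteDimensional k A]

set_option maxHeartbeats 1600000 in
/-- The `n`-th tensor power of a central simple algebra of degree `n` is split. -/
theorem cl_pow_degree {n : ℕ} (hA : finrank k A = n * n) : cl k A ^ n = 1 := by
  have hn : 0 < n := Nat.pos_of_ne_zero fun h => by simp [h, Module.finrank_pos.ne'] at hA
  have : NeZero n := ⟨hn.ne'⟩
  obtain ⟨K, hfin, hgal, t, ht, ⟨φ₀⟩⟩ := exists_galois_splitting k A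
  have htn : t = n := by
    have h := φ₀.toLinearEquiv.finrank_eq
    rw [Module.finrank_baseChange, hA, Module.finrank_matrix, Fintype.card_fin, Module.finrank_self,
      mul_one] at h
    exact (Nat.mul_self_inj.mp h).symm
  subst htn
  let φ := φ₀
  let a1 : A →ₐ[k] Matrix (Fin t) (Fin t) K :=
    (φ.toAlgHom.restrictScalars k).comp Algebra.TensorProduct.includeRight
  let q : (I J : Fin t → Fin t) → MultilinearMap k (fun _ : Fin t => A) K := fun I J =>
    (MultilinearMap.mkPiAlgebra k (Fin t) K).compLinearMap fun i =>
      ((LinearMap.proj (J i)).comp (LinearMap.proj (I i))).comp a1.toLinearMap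
  let μ : MultilinearMap k (fun _ : Fin t => A) (Matrix (Fin t → Fin t) (Fin t → Fin t) K) :=
    { toFun := fun a => kronPi t (fun i => a1 (a i))
      map_update_add' := fun a i x y => Matrix.ext fun I J => (q I J).map_update_add a i x y
      map_update_smul' := fun a i c x => Matrix.ext fun I J => (q I J).map_update_smul a i c x }
  have hμ : ∀ a, μ a = kronPi t (fun i => a1 (a i)) := fun _ => rfl
  let Φ₀ : CSAGal.tpow k A t →ₐ[k] Matrix (Fin t → Fin t) (Fin t → Fin t) K :=
    PiTensorProduct.liftAlgHom μ
      (by rw [hμ]; simp [kronPi_one])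
      (fun x y => by simp [hμ, kronPi_mul])
  let Φ : K ⊗[k] CSAGal.tpow k A t →ₐ[K] Matrix (Fin t → Fin t) (Fin t → Fin t) K :=
    Algebra.TensorProduct.lift (Algebra.ofId K _) Φ₀ fun c x => Algebra.commutes c (Φ₀ x)
  let N := Fintype.card (Fin t → Fin t)
  have hdimR : finrank k (CSAGal.tpow k A t) = N * N := by
    rw [finrank_tpow, hA]; simp [N, mul_pow]
  have : Nonempty (Fin t → Fin t) := ⟨id⟩
  have : IsSimpleRing (↥K ⊗[k] CSAGal.tpow k A t) := isSimpleRing_baseChange k _ ↥K
  have hinj' := RingHom.injective (R := ↥K ⊗[k] CSAGal.tpow k A t) Φ.toRingHom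
  have hinj : Function.Injective Φ.toLinearMap := hinj'
  have hsurj : Function.Surjective Φ.toLinearMap :=
    (LinearMap.injective_iff_surjective_of_finrank_eq_finrank (f := Φ.toLinearMap) (by
      rw [Module.finrank_baseChange, hdimR, Module.finrank_matrix, Module.finrank_self, mul_one])).mp hinj
  obtain ⟨s, hs⟩ := hsurj (altMat t)
  replace hs : Φ s = altMat t := hs
  have hΦ : ∀ (c : K) a, Φ (c ⊗ₜ[k] PiTensorProduct.tprod k a) = c • kronPi t (fun i => a1 (a i)) := by
    intro c a
    refine (Algebra.TensorProduct.lift_tmul _ _ _ c _).trans ?_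
    rw [Algebra.smul_def]
    congr 1
    exact PiTensorProduct.lift.tprod a
  have hfix : ∀ σ : K ≃ₐ[k] K, galAct σ _ s = s := by
    intro σ
    obtain ⟨g, hg⟩ := exists_twist φ σ
    have key : ∀ x, Φ (galAct σ _ x) * kronPi t (fun _ => (g : Matrix (Fin t) (Fin t) K)) =
        kronPi t (fun _ => (g : Matrix (Fin t) (Fin t) K)) * (Φ x).map σ := by
      intro x
      induction x using TensorProduct.induction_on with
      | zero => simp
      | tmul c r =>
        induction r using PiTensorProduct.induction_on with
        | smul_tprod q a =>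
          rw [TensorProduct.tmul_smul, map_smul, galAct_tmul, ← TensorProduct.tmul_smul,
            ← TensorProduct.smul_tmul, ← TensorProduct.tmul_smul, ← TensorProduct.smul_tmul, hΦ, hΦ,
            ← map_smul, smul_mul_assoc, kronPi_mul]
          have e1 : ∀ i, a1 (a i) * (g : Matrix (Fin t) (Fin t) K) =
              (g : Matrix (Fin t) (Fin t) K) * (a1 (a i)).map σ := fun i => by
            have h := hg (1 ⊗ₜ[k] a i)
            simpa [a1, φ] using h
          simp only [e1]
          rw [← kronPi_mul]
          ext I J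
          simp [Matrix.mul_apply, kronPi, map_prod, Finset.mul_sum, mul_left_comm]
        | add x y hx hy =>
          rw [TensorProduct.tmul_add, map_add, map_add, map_add, add_mul, hx, hy,
            Matrix.map_add _ (map_add σ), mul_add]
      | add x y hx hy =>
        rw [map_add, map_add, map_add, add_mul, hx, hy, Matrix.map_add _ (map_add σ), mul_add]
    have hG : IsUnit (kronPi t fun _ => (g : Matrix (Fin t) (Fin t) K)) :=
      ⟨⟨kronPi t fun _ => (g : Matrix (Fin t) (Fin t) K),
        kronPi t fun _ => ((g⁻¹ : (Matrix (Fin t) (Fin t) K)ˣ) : Matrix (Fin t) (Fin t) K),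
        by simp [kronPi_mul, kronPi_one], by simp [kronPi_mul, kronPi_one]⟩, rfl⟩
    have hm : (altMat t : Matrix _ _ K).map σ = altMat t := map_altMat t σ.toAlgHom.toRingHom
    apply hinj
    refine hG.mul_left_injective ?_
    change Φ _ * _ = Φ _ * _
    rw [key, hs, hm, kronPi_comm_altMat]
  obtain ⟨s₀, rfl⟩ := mem_of_galAct_fixed s hfix
  -- the left ideal generated by `s₀`
  let R := CSAGal.tpow k A t
  let ρ : R →ₗ[R] R := LinearMap.toSpanSingleton R R s₀
  let I := LinearMap.range ρ
  have hρ : ∀ x : R, ρ x = x * s₀ := fun x => rfl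
  let f : R →ₗ[k] I := ρ.rangeRestrict.restrictScalars k
  let j : I →ₗ[k] R := I.subtype.restrictScalars k
  have hI : finrank k I = N := by
    have hf : Function.Surjective (f.baseChange K) :=
      LinearMap.lTensor_surjective K ρ.surjective_rangeRestrict
    have hj : Function.Injective (j.baseChange K) :=
      Module.Flat.lTensor_preserves_injective_linearMap j Subtype.val_injective
    have hcomp : ∀ x : K ⊗[k] R, Φ (j.baseChange K (f.baseChange K x)) = Φ x * altMat t := by
      intro x
      induction x using TensorProduct.induction_on with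
      | zero => simp
      | tmul c r =>
        have : (c ⊗ₜ[k] (r * s₀) : K ⊗[k] R) = (c ⊗ₜ[k] r) * (1 ⊗ₜ[k] s₀) := by simp
        simp only [LinearMap.baseChange_tmul]
        change Φ (c ⊗ₜ[k] (r * s₀)) = _
        rw [this, map_mul, hs]
      | add x y hx hy => simp only [map_add, hx, hy, add_mul]
    let T : ((Fin t → Fin t) → K) →ₗ[K] Matrix (Fin t → Fin t) (Fin t → Fin t) K :=
      { toFun := fun v => vecMulVec v (altVec t)
        map_add' := fun v w => Matrix.add_vecMulVec v w _
        map_smul' := fun c v => Matrix.smul_vecMulVec c v _ }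
    have hT : Function.Injective T := fun v w h => funext fun I => by
      have := congrFun (congrFun h I) id
      simpa [T, vecMulVec_apply, altVec_id] using this
    let J : K ⊗[k] I →ₗ[K] Matrix (Fin t → Fin t) (Fin t → Fin t) K :=
      Φ.toLinearMap.comp (j.baseChange K)
    have hJ : Function.Injective J := hinj.comp hj
    have heq : LinearMap.range J = LinearMap.range T := by
      apply le_antisymm
      · rintro _ ⟨y, rfl⟩
        obtain ⟨x, rfl⟩ := hf y
        refine ⟨Φ x *ᵥ altVec t, ?_⟩
        change vecMulVec (Φ x *ᵥ altVec t) (altVec t) = Φ (j.baseChange K (f.baseChange K x))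
        rw [hcomp, altMat, Matrix.mul_vecMulVec]
      · rintro _ ⟨v, rfl⟩
        obtain ⟨x, hx⟩ := hsurj (vecMulVec v (Pi.single (fun i => i) 1))
        refine ⟨f.baseChange K x, ?_⟩
        change Φ (j.baseChange K (f.baseChange K x)) = vecMulVec v (altVec t)
        rw [hcomp, show Φ x = _ from hx, altMat, Matrix.mul_vecMulVec]
        congr 1
        ext I'
        simp [Matrix.mulVec, dotProduct, vecMulVec_apply, Pi.single_apply,
          show (altVec t (fun i : Fin t => i) : K) = 1 from altVec_id t]
    rw [← Module.finrank_baseChange (R := K), (LinearEquiv.ofInjective J hJ).finrank_eq, heq,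
      ← (LinearEquiv.ofInjective T hT).finrank_eq, Module.finrank_fintype_fun_eq_card]
  have hN : 0 < N := Fintype.card_pos
  let Ψ : R →ₐ[k] Module.End k I := Algebra.lsmul k k I
  have : Nontrivial I := Module.nontrivial_of_finrank_pos (R := k) (hI ▸ hN)
  have hΨ : Function.Injective Ψ.toLinearMap := Ψ.toRingHom.injective
  have hdim : finrank k R = finrank k (Module.End k I) := by
    rw [show finrank k R = N * N from hdimR, Module.finrank_linearMap, hI]
  have : FiniteDimensional k R := tpow_finiteDimensional k A t
  have : FiniteDimensional k I := FiniteDimensional.of_finrank_pos (hI ▸ hN)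
  have : FiniteDimensional k (Module.End k I) := inferInstance
  have hΨs := (LinearMap.injective_iff_surjective_of_finrank_eq_finrank
    (K := k) (V := R) (V₂ := Module.End k I) hdim (f := Ψ.toLinearMap)).mp hΨ
  have hΨb : Function.Bijective Ψ := ⟨hΨ, hΨs⟩
  rw [← cl_tpow, ← cl_field]
  exact cl_eq_cl_field_of_algEquiv hN.ne' ((AlgEquiv.ofBijective Ψ hΨb).trans
    (algEquivMatrix ((Module.finBasis k I).reindex (finCongr hI))))

end Groth.Agent.Csa25
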