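import Groth.Agent.Csa25.SBPoint
import Groth.Prelude.Def_CurvBase

/-!
# The kernel of restriction to the function field of a Severi–Brauer scheme
-/

set_option autoImplicit false
open scoped TensorProduct Groth.Agent.Csa25
open Module CategoryTheory AlgebraicGeometry

namespace Groth.Agent.Csa25

universe u

variable {k : Type u} [Field k] {A : Type u} [Ring A] [Algebra k A] [Algebra.IsCentral k A]
  [IsSimpleRing A] [FiniteDimensional k A] {X : Scheme.{u}} {f : X ⟶ Spec (CommRingCat.of k)}

/-- A field-valued point of the Severi–Brauer scheme splits the algebra. -/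
theorem splits_of_pts {n : ℕ} (hn : 0 < n) (hd : finrank k A = n * n)
    (str : BrSev.SBStr k A (n * n - n) f) {F : Type u} [Field F] [Algebra k F] (g : BrSev.Pts f F) :
    Curves.Splits k A F := by
  let J := str.bij F g
  let N := J.1.toSubmodule
  have hN : finrank F N = n := by
    have h1 := Submodule.finrank_quotient_add_finrank N
    have h2 := J.1.rankAtStalk_eq ⟨⊥, Ideal.isPrime_bot⟩
    rw [Module.rankAtStalk_eq_finrank_of_free, Pi.natCast_apply, Nat.cast_id] at h2
    have h0 : finrank F (F ⊗[k] A) = n * n := by rw [Module.finrank_baseChange, hd]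
    simp only [N] at h1 ⊢
    have h3 : n ≤ n * n := Nat.le_mul_self _
    omega
  let lmul : F ⊗[k] A →ₐ[F] Module.End F N :=
    { toFun := fun a => (LinearMap.mulLeft F a).restrict fun x hx => J.2 a x hx
      map_one' := by ext x; simp
      map_mul' := fun a b => LinearMap.ext fun x => Subtype.ext (mul_assoc a b _)
      map_zero' := by ext x; simp
      map_add' := fun a b => LinearMap.ext fun x => Subtype.ext (add_mul a b _)
      commutes' := fun c => LinearMap.ext fun x => Subtype.ext (by simp [Algebra.smul_def]) }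
  let b : Basis (Fin n) F N := Module.finBasisOfFinrankEq F N hN
  exact splits_of_rep k A F hn.ne' hd
    ((((LinearMap.toMatrixAlgEquiv b).toAlgHom.comp lmul).restrictScalars k).comp
      Algebra.TensorProduct.includeRight)

/-- Brauer equivalence with some tensor power. -/
theorem exists_tpow_iff {B : Type u} [Ring B] [Algebra k B] [Algebra.IsCentral k B] [IsSimpleRing B]
    [FiniteDimensional k B] :
    (∃ (m p q : ℕ), p ≠ 0 ∧ q ≠ 0 ∧
      Nonempty (Matrix (Fin p) (Fin p) B ≃ₐ[k] Matrix (Fin q) (Fin q) (CSAGal.tpow k A m))) ↔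
    cl k B ∈ Subgroup.zpowers (cl k A) := by
  constructor
  · rintro ⟨m, p, q, hp, hq, he⟩
    have := cl_eq_iff.mpr ⟨p, q, hp, hq, he⟩
    rw [cl_tpow] at this
    exact ⟨m, this.symm⟩
  · intro h
    classical
    obtain ⟨d, hd⟩ := exists_isIndex (k := k) A
    rw [(isOfFinOrder_iff_pow_eq_one.mpr ⟨_, orderOf_pos hd, pow_orderOf_eq_one _⟩).mem_zpowers_iff_mem_range_orderOf] at h
    simp only [Finset.mem_image, Finset.mem_range] at h
    obtain ⟨m, -, hm⟩ := h
    obtain ⟨p, q, hp, hq, he⟩ := cl_eq_iff.mp (hm.symm.trans (cl_tpow k A m).symm)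
    exact ⟨m, p, q, hp, hq, he⟩

/-- Powers of a split class are split. -/
theorem splits_of_cl_mem (F : Type u) [Field F] [Algebra k F] (hA : Curves.Splits k A F) {B : Type u} [Ring B]
    [Algebra k B] [Algebra.IsCentral k B] [IsSimpleRing B] [FiniteDimensional k B]
    (hB : cl k B ∈ Subgroup.zpowers (cl k A)) : Curves.Splits k B F := by
  rw [splits_iff_res_eq_one] at hA ⊢
  obtain ⟨i, hi⟩ := hB
  rw [← hi]
  exact (map_zpow (res F) (cl k A) i).trans (by rw [hA, one_zpow])

/-- A field-valued point induces a map on residue fields. -/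
theorem exists_hom_of_pts {F : Type u} [Field F] [Algebra k F] (g : BrSev.Pts f F)
    (z : Spec (CommRingCat.of F)) (x : X) (hx : g.1 z = x) [Algebra k (X.residueField x)]
    (hη : X.fromSpecResidueField x ≫ f = Spec.map (CommRingCat.ofHom (algebraMap k (X.residueField x)))) :
    Nonempty (X.residueField x →ₐ[k] F) := by
  obtain ⟨⟨x', ι⟩, hxι⟩ : ∃ p, p = Scheme.SpecToEquivOfField F X g.1 := ⟨_, rfl⟩
  have hg1 : g.1 = Spec.map ι ≫ X.fromSpecResidueField x' := by
    have : g.1 = (Scheme.SpecToEquivOfField F X).symm ⟨x', ι⟩ := by rw [hxι, Equiv.symm_apply_apply]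
    exact this
  have hx' : g.1 z = x' := by rw [hg1, Scheme.Hom.comp_apply, Scheme.fromSpecResidueField_apply]
  obtain rfl : x = x' := hx.symm.trans hx'
  have h := g.2
  rw [hg1, Category.assoc, hη, ← Spec.map_comp] at h
  exact ⟨AlgHom.mk ι.hom fun a => RingHom.congr_fun (congrArg CommRingCat.Hom.hom (Spec.map_injective h)) a⟩

/-- Amitsur: the Brauer classes split by the residue field of the generic point of the Severi–Brauer
scheme are the powers of the class of the algebra; such a point exists. -/
theorem exists_generic_point {n : ℕ} (hn : 0 < n) (hd : finrank k A = n * n)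
    (str : BrSev.SBStr k A (n * n - n) f) :
    ∃ η : X, (∀ y, η ⤳ y) ∧ ∀ [Algebra k (X.residueField η)],
      X.fromSpecResidueField η ≫ f = Spec.map (CommRingCat.ofHom (algebraMap k (X.residueField η))) →
      ∀ (B : Type u) [Ring B] [Algebra k B] [Algebra.IsCentral k B] [IsSimpleRing B] [FiniteDimensional k B],
        Curves.Splits k B (X.residueField η) ↔ cl k B ∈ Subgroup.zpowers (cl k A) := by
  obtain ⟨m, rfl⟩ : ∃ m, n = m + 1 := ⟨n - 1, by omega⟩
  obtain ⟨L, hL, hG, hsplit⟩ := exists_galois_splitting k A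
  obtain ⟨m', hm', ⟨φ'⟩⟩ := hsplit
  have : m' = m + 1 := by
    have h1 : finrank k A = m' * m' := by
      rw [← Module.finrank_baseChange (R := L), φ'.toLinearEquiv.finrank_eq, Module.finrank_matrix]
      simp
    exact Nat.mul_self_inj.mp (h1.symm.trans hd)
  subst this
  obtain ⟨D, hφ⟩ := exists_splitData (k := k) (A := A) φ'
  obtain ⟨g, hg⟩ := exists_pts_genField D φ' hφ str
  let z : Spec (CommRingCat.of D.genField) := ⟨⊥, Ideal.isPrime_bot⟩
  refine ⟨g.1 z, fun y => hg z y, fun {alg} hη B _ _ _ _ _ => ⟨fun hB => ?_, fun hB => ?_⟩⟩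
  · obtain ⟨i⟩ := exists_hom_of_pts g z _ rfl hη
    exact cl_mem_zpowers_of_splits D φ' hφ (splits_of_algHom i hB)
  · exact @splits_of_cl_mem k _ A _ _ _ _ _ (X.residueField (g.1 z)) _ alg (@splits_of_pts k _ A _ _ _ _ _ X f _ hn hd str (X.residueField (g.1 z)) _ alg ⟨_, hη⟩) B _ _ _ _ _ hB

/-- The structure map of the residue field at a point. -/
theorem fromSpecResidueField_over (X : Scheme.{u}) [X.Over (Spec (CommRingCat.of k))] (x : X) :
    X.fromSpecResidueField x ≫ (X ↘ Spec (CommRingCat.of k)) =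
      Spec.map (CommRingCat.ofHom (Curv2.resMap k X x)) := by
  have h : (X ↘ Spec (CommRingCat.of k)) = X.toSpecΓ ≫
      Spec.map ((Scheme.ΓSpecIso (CommRingCat.of k)).inv ≫ (X ↘ Spec (CommRingCat.of k)).appTop) := by
    rw [Spec.map_comp, ← Category.assoc, ← Scheme.toSpecΓ_naturality, Category.assoc,
      toSpecΓ_SpecMap_ΓSpecIso_inv, Category.comp_id]
  conv_lhs => rw [h]
  rw [Scheme.fromSpecResidueField, Category.assoc, ← Category.assoc (X.fromSpecStalk x),
    Scheme.fromSpecStalk_toSpecΓ, ← Spec.map_comp, ← Spec.map_comp]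
  rfl

end Groth.Agent.Csa25
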