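import Groth.Agent.Csa25.BaseChange
import Groth.Agent.CAlg1.Regular
import Mathlib.RingTheory.DiscreteValuationRing.TFAE
import Mathlib.RingTheory.Localization.AtPrime.Basic
import Mathlib.LinearAlgebra.FreeModule.PID

/-!
# Specialising split central simple algebras

A central simple `k`-algebra split by the fraction field of a regular local `k`-algebra with residue field
`k` is split.
-/

set_option autoImplicit false
open scoped TensorProduct
open Module IsLocalRing

namespace Groth.Agent.Csa25

universe u v w

variable (k : Type u) [Field k] (B : Type v) [Ring B] [Algebra k B] [Algebra.IsCentral k B]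
  [IsSimpleRing B] [FiniteDimensional k B]

/-- A representation of dimension the degree splits. -/
theorem splits_of_rep (κ : Type w) [Field κ] [Algebra k κ] {n : ℕ} (hn : n ≠ 0)
    (hd : finrank k B = n * n) (φ : B →ₐ[k] Matrix (Fin n) (Fin n) κ) : Curves.Splits k B κ := by
  let Φ : κ ⊗[k] B →ₐ[κ] Matrix (Fin n) (Fin n) κ :=
    Algebra.TensorProduct.lift (Algebra.ofId κ _) φ fun x y => Algebra.commutes x (φ y)
  have : IsSimpleRing (κ ⊗[k] B) := isSimpleRing_baseChange k B κ
  have : NeZero n := ⟨hn⟩
  have hinj : Function.Injective Φ := RingHom.injective Φ.toRingHom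
  have hdim : finrank κ (κ ⊗[k] B) = finrank κ (Matrix (Fin n) (Fin n) κ) := by
    rw [Module.finrank_baseChange, hd, Module.finrank_matrix]; simp
  exact ⟨n, hn, ⟨AlgEquiv.ofBijective Φ
    ⟨hinj, (LinearMap.injective_iff_surjective_of_finrank_eq_finrank hdim
      (f := Φ.toLinearMap)).mp hinj⟩⟩⟩

omit [Algebra.IsCentral k B] [IsSimpleRing B] in
/-- A representation over the fraction field of a PID has an invariant lattice. -/
theorem exists_lattice_rep (O : Type w) [CommRing O] [IsDomain O] [IsPrincipalIdealRing O]
    [Algebra k O] (K : Type w) [Field K] [Algebra O K] [IsFractionRing O K] [Algebra k K]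
    [IsScalarTower k O K] {n : ℕ} (φ : B →ₐ[k] Matrix (Fin n) (Fin n) K) :
    Nonempty (B →ₐ[k] Matrix (Fin n) (Fin n) O) := by
  classical
  let bB := Module.finBasis k B
  let gen : Fin (finrank k B) × Fin n → (Fin n → K) := fun p =>
    (φ (bB p.1)).mulVec (Pi.single p.2 1)
  let Λ : Submodule O (Fin n → K) := Submodule.span O (Set.range gen)
  have hmem : ∀ (b : B) (i : Fin n), (φ b).mulVec (Pi.single i 1) ∈ Λ := by
    intro b i
    rw [← bB.sum_repr b, map_sum, Matrix.sum_mulVec]
    refine Submodule.sum_mem _ fun j _ => ?_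
    rw [map_smul, Matrix.smul_mulVec, ← IsScalarTower.algebraMap_smul O]
    exact Submodule.smul_mem _ _ (Submodule.subset_span ⟨(j, i), rfl⟩)
  have hstab : ∀ (b : B) (v : Fin n → K), v ∈ Λ → (φ b).mulVec v ∈ Λ := by
    intro b v hv
    induction hv using Submodule.span_induction with
    | mem x hx =>
      obtain ⟨⟨j, i⟩, rfl⟩ := hx
      simp only [gen, Matrix.mulVec_mulVec, ← map_mul]
      exact hmem _ _
    | zero => rw [Matrix.mulVec_zero]; exact Λ.zero_mem
    | add x y _ _ hx hy => rw [Matrix.mulVec_add]; exact Λ.add_mem hx hy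
    | smul a x _ hx => rw [Matrix.mulVec_smul]; exact Λ.smul_mem a hx
  have : Module.Finite O Λ := Module.Finite.span_of_finite O (Set.finite_range gen)
  have : Module.Free O Λ := Module.free_of_finite_type_torsion_free'
  let bΛ := Module.Free.chooseBasis O Λ
  let c : Module.Free.ChooseBasisIndex O Λ → (Fin n → K) := fun i => (bΛ i : Fin n → K)
  have hli : LinearIndependent K c :=
    (LinearIndependent.iff_fractionRing O K).mp (bΛ.linearIndependent.map' Λ.subtype (Submodule.ker_subtype _))
  have hsp : Submodule.span O (Set.range c) = Λ := by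
    have : Set.range c = Λ.subtype '' Set.range bΛ := by rw [← Set.range_comp]; rfl
    rw [this, Submodule.span_image, bΛ.span_eq, Submodule.map_top, Submodule.range_subtype]
  have hspan : ⊤ ≤ Submodule.span K (Set.range c) := by
    rw [← (Pi.basisFun K (Fin n)).span_eq, Submodule.span_le]
    rintro _ ⟨i, rfl⟩
    have h1 : (Pi.basisFun K (Fin n)) i ∈ Λ := by
      rw [Pi.basisFun_apply]
      simpa only [map_one, Matrix.one_mulVec] using hmem 1 i
    rw [← hsp] at h1
    exact Submodule.span_le_restrictScalars O K (Set.range c) h1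
  let c0 : Basis (Module.Free.ChooseBasisIndex O Λ) K (Fin n → K) := Basis.mk hli hspan
  let eι : Module.Free.ChooseBasisIndex O Λ ≃ Fin n := c0.indexEquiv (Pi.basisFun K (Fin n))
  let cb := c0.reindex eι
  let Φ : B →ₐ[k] Matrix (Fin n) (Fin n) K :=
    (((Matrix.toLinAlgEquiv' (R := K)).trans (LinearMap.toMatrixAlgEquiv cb)).toAlgHom.restrictScalars k).comp φ
  have hent : ∀ b i j, ∃ o : O, algebraMap O K o = Φ b i j := by
    intro b i j
    have h1 : Φ b i j = cb.repr ((φ b).mulVec (cb j)) i := by
      simp [Φ, LinearMap.toMatrixAlgEquiv_apply]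
    rw [h1]
    have h2 : (φ b).mulVec (cb j) ∈ Submodule.span O (Set.range cb) := by
      have hr : Set.range cb = Set.range c := by
        rw [Basis.coe_reindex]
        simp [c0, Basis.coe_mk, EquivLike.range_comp]
      rw [hr, hsp]
      refine hstab b _ ?_
      simp [cb, c0, c]
    obtain ⟨o, ho⟩ := (Submodule.mem_span_range_iff_exists_fun O).mp h2
    refine ⟨o i, ?_⟩
    rw [← ho, map_sum, Finset.sum_apply']
    simp [← IsScalarTower.algebraMap_smul K, Finsupp.single_apply]
  let ι : Matrix (Fin n) (Fin n) O →ₐ[k] Matrix (Fin n) (Fin n) K :=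
    (IsScalarTower.toAlgHom k O K).mapMatrix
  have hι : Function.Injective ι := Matrix.map_injective (IsFractionRing.injective O K)
  have hrange : ∀ b, Φ b ∈ ι.range := by
    intro b
    choose o ho using hent b
    exact ⟨Matrix.of o, Matrix.ext fun i j => ho i j⟩
  exact ⟨(AlgEquiv.ofInjective ι hι).symm.toAlgHom.comp (Φ.codRestrict ι.range hrange)⟩

/-- Specialisation along a PID. -/
theorem splits_of_splits_fractionRing (O : Type w) [CommRing O] [IsDomain O] [IsPrincipalIdealRing O]
    [Algebra k O] (K : Type w) [Field K] [Algebra O K] [IsFractionRing O K] [Algebra k K]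
    [IsScalarTower k O K] (κ : Type*) [Field κ] [Algebra k κ] (π : O →ₐ[k] κ)
    (h : Curves.Splits k B K) : Curves.Splits k B κ := by
  obtain ⟨n, hn, ⟨e⟩⟩ := h
  have hd : finrank k B = n * n := by
    rw [← Module.finrank_baseChange (R := K), e.toLinearEquiv.finrank_eq, Module.finrank_matrix]
    simp
  obtain ⟨ψ⟩ := exists_lattice_rep k B O K
    ((e.toAlgHom.restrictScalars k).comp Algebra.TensorProduct.includeRight)
  exact splits_of_rep k B κ hn hd (π.mapMatrix.comp ψ)

/-- Split over the fraction field of a regular local ring with residue field `k` implies split. -/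
theorem splits_of_splits_regular (R : Type w) [CommRing R] [IsRegularLocalRing R] [Algebra k R]
    (hres : ∀ y : R, ∃ a : k, y - algebraMap k R a ∈ maximalIdeal R)
    (K : Type w) [Field K] [Algebra R K] [IsFractionRing R K] [Algebra k K] [IsScalarTower k R K]
    (h : Curves.Splits k B K) : Curves.Splits k B k := by
  obtain ⟨d, hd⟩ : ∃ d, (maximalIdeal R).spanFinrank = d := ⟨_, rfl⟩
  induction d generalizing R K with
  | zero =>
    have : IsDomain R := CAlg1.isDomain_regular R
    have hbot : maximalIdeal R = ⊥ :=
      (Submodule.spanFinrank_eq_zero_iff_eq_bot (maximalIdeal R).fg_of_isNoetherianRing).mp hd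
    have hbij : Function.Bijective (Algebra.ofId k R) := by
      refine ⟨(algebraMap k R).injective, fun y => ?_⟩
      obtain ⟨a, ha⟩ := hres y
      rw [hbot, Submodule.mem_bot, sub_eq_zero] at ha
      exact ⟨a, ha.symm⟩
    have : IsPrincipalIdealRing R := ⟨fun I => by
      by_cases hI : I = ⊤
      · subst hI; exact top_isPrincipal
      · have := le_maximalIdeal hI
        rw [hbot, le_bot_iff] at this
        subst this; exact bot_isPrincipal⟩
    exact splits_of_splits_fractionRing k B R K k (AlgEquiv.ofBijective _ hbij).symm.toAlgHom h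
  | succ d ih =>
    have : IsDomain R := CAlg1.isDomain_regular R
    have hne : maximalIdeal R ≠ ⊥ := by
      intro h0; rw [h0, Submodule.spanFinrank_bot] at hd; omega
    obtain ⟨x, hx, hx2⟩ : ∃ x ∈ maximalIdeal R, x ∉ maximalIdeal R ^ 2 := by
      by_contra hcon
      push Not at hcon
      refine hne (Submodule.eq_bot_of_le_smul_of_le_jacobson_bot _ _
        (maximalIdeal R).fg_of_isNoetherianRing ?_ (maximalIdeal_le_jacobson _))
      rw [smul_eq_mul, ← pow_two]
      exact fun y hy => hcon y hy
    have hreg := (CAlg1.regular_quotient_singleton hx hx2).1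
    have := CAlg1.isLocalRing_quotient_singleton hx
    have hrank := CAlg1.spanFinrank_quotient_succ hx hx2
    set p : Ideal R := Ideal.span {x} with hp
    have : IsDomain (R ⧸ p) := CAlg1.isDomain_regular _
    have hpp : p.IsPrime := (Ideal.Quotient.isDomain_iff_prime p).mp inferInstance
    have hres' : ∀ y : R ⧸ p, ∃ a : k, y - algebraMap k (R ⧸ p) a ∈ maximalIdeal (R ⧸ p) := by
      intro y
      obtain ⟨y, rfl⟩ := Ideal.Quotient.mk_surjective y
      obtain ⟨a, ha⟩ := hres y
      refine ⟨a, ?_⟩
      rw [← Ideal.Quotient.mk_algebraMap, ← map_sub]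
      rwa [← Ideal.mem_comap, CAlg1.comap_maximalIdeal_of_surjective _ Ideal.Quotient.mk_surjective]
    refine ih (R ⧸ p) hres' (FractionRing (R ⧸ p)) ?_ (Nat.succ.inj (hrank.trans hd))
    let g : R →ₐ[k] FractionRing (R ⧸ p) :=
      (IsScalarTower.toAlgHom k (R ⧸ p) _).comp (Ideal.Quotient.mkₐ k p)
    have hg : ∀ s : p.primeCompl, IsUnit (g s) := fun s => by
      refine isUnit_iff_ne_zero.mpr fun h0 => s.2 ?_
      have : Ideal.Quotient.mk p (s : R) = 0 :=
        IsFractionRing.injective (R ⧸ p) (FractionRing (R ⧸ p)) (by simpa [g] using h0)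
      exact Ideal.Quotient.eq_zero_iff_mem.mp this
    let Rp := Localization.AtPrime p
    let π : Rp →ₐ[k] FractionRing (R ⧸ p) := IsLocalization.liftAlgHom (M := p.primeCompl) hg
    have hle : p.primeCompl ≤ nonZeroDivisors R := p.primeCompl_le_nonZeroDivisors
    have hunit : ∀ s : p.primeCompl, IsUnit (algebraMap R K s) := fun s =>
      IsLocalization.map_units K (⟨s, hle s.2⟩ : nonZeroDivisors R)
    letI : Algebra Rp K := (IsLocalization.lift (S := Rp) hunit).toAlgebra
    have : IsScalarTower R Rp K := IsScalarTower.of_algebraMap_eq fun r =>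
      (IsLocalization.lift_eq hunit r).symm
    have : IsScalarTower k Rp K := IsScalarTower.of_algebraMap_eq fun a => by
      rw [IsScalarTower.algebraMap_apply k R Rp, ← IsScalarTower.algebraMap_apply R Rp K,
        ← IsScalarTower.algebraMap_apply k R K]
    have : IsFractionRing Rp K :=
      IsFractionRing.isFractionRing_of_isDomain_of_isLocalization p.primeCompl Rp K
    have hprinc : (maximalIdeal Rp).IsPrincipal := by
      refine ⟨algebraMap R Rp x, ?_⟩
      rw [← Localization.AtPrime.map_eq_maximalIdeal]
      refine (congrArg (Ideal.map (algebraMap R Rp)) hp).trans ?_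
      rw [Ideal.map_span, Set.image_singleton]
    have : IsNoetherianRing Rp := IsLocalization.isNoetherianRing p.primeCompl Rp inferInstance
    have : IsPrincipalIdealRing Rp :=
      ((tfae_of_isNoetherianRing_of_isLocalRing_of_isDomain (R := Rp)).out 4 0).mp hprinc
    exact splits_of_splits_fractionRing k B Rp K _ π h

end Groth.Agent.Csa25
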