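import Groth.Agent.Csa25.ProjAutLinear
import Groth.Agent.Desc59.GalMor
import Groth.Agent.GalH1.GLn
import Groth.Prelude.Def_BrSev
import Mathlib.FieldTheory.Finite.GaloisField

/-!
# Galois descent of splittings of Severi–Brauer schemes
-/

set_option autoImplicit false
open CategoryTheory CategoryTheory.Limits AlgebraicGeometry

namespace Groth.Agent.Csa25

universe u

variable {k : Type u} [Field k] {K : Type u} [Field K] [Algebra k K] {n : ℕ}
variable {X : Scheme.{u}} {f : X ⟶ Spec (CommRingCat.of k)}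

/-- The Galois action on a base change. -/
noncomputable def bcAct (f : X ⟶ Spec (CommRingCat.of k)) (σ : K ≃ₐ[k] K) : BrSev.bc f K ⟶ BrSev.bc f K :=
  letI : X.Over (Spec (CommRingCat.of k)) := ⟨f⟩
  Curv2.galAct k X K σ

theorem bcAct_proj (f : X ⟶ Spec (CommRingCat.of k)) (σ : K ≃ₐ[k] K) :
    bcAct f σ ≫ BrSev.proj f K = BrSev.proj f K :=
  letI : X.Over (Spec (CommRingCat.of k)) := ⟨f⟩
  VarGal.galAct_fst σ

theorem bcAct_bcTo (f : X ⟶ Spec (CommRingCat.of k)) (σ : K ≃ₐ[k] K) :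
    bcAct f σ ≫ BrSev.bcTo f K = BrSev.bcTo f K ≫ Spec.map (CommRingCat.ofHom (σ : K →ₐ[k] K).toRingHom) :=
  letI : X.Over (Spec (CommRingCat.of k)) := ⟨f⟩
  VarGal.galAct_snd σ

theorem bcAct_mul (f : X ⟶ Spec (CommRingCat.of k)) (σ τ : K ≃ₐ[k] K) :
    bcAct f σ ≫ bcAct f τ = bcAct f (σ * τ) :=
  letI : X.Over (Spec (CommRingCat.of k)) := ⟨f⟩
  VarGal.galAct_trans σ τ

theorem isIso_bcAct (f : X ⟶ Spec (CommRingCat.of k)) (σ : K ≃ₐ[k] K) : IsIso (bcAct f σ) :=
  letI : X.Over (Spec (CommRingCat.of k)) := ⟨f⟩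
  VarGal.isIso_galAct σ

/-- The matrices describing the Galois action through a splitting. -/
structure Frame (e : BrSev.Splitting f K n) where
  mat : (K ≃ₐ[k] K) → Matrix (Fin (n + 1)) (Fin (n + 1)) K
  isUnit : ∀ σ, IsUnit (mat σ)
  act : ∀ σ, e.iso.inv ≫ bcAct f σ ≫ e.iso.hom = linMap (σ : K →+* K) (mat σ) (isUnit σ)

theorem exists_frame (e : BrSev.Splitting f K n) : Nonempty (Frame e) := by
  have h : ∀ σ : K ≃ₐ[k] K, ∃ (g : Matrix (Fin (n + 1)) (Fin (n + 1)) K) (hg : IsUnit g),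
      e.iso.inv ≫ bcAct f σ ≫ e.iso.hom = linMap (σ : K →+* K) g hg := by
    intro σ
    haveI := isIso_bcAct f σ
    refine exists_eq_linMap (σ : K ≃+* K) (e.iso.symm ≪≫ asIso (bcAct f σ) ≪≫ e.iso) ?_
    show (e.iso.inv ≫ bcAct f σ ≫ e.iso.hom) ≫ _ = _
    rw [Category.assoc, Category.assoc, e.comm, bcAct_bcTo, ← e.comm, Category.assoc, Iso.inv_hom_id_assoc]
    rfl
  choose g hg he using h
  exact ⟨⟨g, hg, he⟩⟩

theorem Frame.mul {e : BrSev.Splitting f K n} (F : Frame e) (σ τ : K ≃ₐ[k] K) :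
    ∃ c : K, c ≠ 0 ∧ F.mat σ * (F.mat τ).map σ = c • F.mat (σ * τ) := by
  have hu : IsUnit (F.mat σ * (F.mat τ).map σ) := isUnit_mul_map (θ' := (σ : K →+* K)) (F.isUnit τ) (F.isUnit σ)
  have h := F.act (σ * τ)
  rw [← bcAct_mul] at h
  have h' : e.iso.inv ≫ (bcAct f σ ≫ bcAct f τ) ≫ e.iso.hom =
      (e.iso.inv ≫ bcAct f σ ≫ e.iso.hom) ≫ (e.iso.inv ≫ bcAct f τ ≫ e.iso.hom) := by simp
  rw [h', F.act, F.act, linMap_comp] at h
  obtain ⟨c, hc, hc'⟩ := exists_smul_of_linMap_eq ((σ * τ : K ≃ₐ[k] K) : K ≃+* K) hu (F.isUnit (σ * τ))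
    ((linMap_congr (by ext; rfl) rfl).trans h)
  refine ⟨c⁻¹, inv_ne_zero hc, ?_⟩
  rw [hc', inv_smul_smul₀ hc]

/-- Rescaling a frame. -/
def Frame.smul {e : BrSev.Splitting f K n} (F : Frame e) (c : (K ≃ₐ[k] K) → K) (hc : ∀ σ, c σ ≠ 0) : Frame e where
  mat σ := c σ • F.mat σ
  isUnit σ := isUnit_smul_matrix (hc σ) (F.isUnit σ)
  act σ := (F.act σ).trans (linMap_smul _ (F.isUnit σ) (hc σ)).symm

theorem effectiveEpi_proj [FiniteDimensional k K] (f : X ⟶ Spec (CommRingCat.of k)) : EffectiveEpi (BrSev.proj f K) := by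
  let str : Spec (CommRingCat.of K) ⟶ Spec (CommRingCat.of k) :=
    Spec.map (CommRingCat.ofHom (algebraMap k K))
  have hsurj : Surjective str := ⟨fun x =>
    ⟨IsLocalRing.closedPoint K, Subsingleton.elim (α := PrimeSpectrum k) _ x⟩⟩
  have hflat : Flat str := by
    rw [HasRingHomProperty.Spec_iff (P := @Flat)]
    exact RingHom.flat_algebraMap_iff.mpr inferInstance
  have : Flat (BrSev.proj f K) := MorphismProperty.of_isPullback (P := @Flat) (IsPullback.of_hasPullback f str).flip hflat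
  have : Surjective (BrSev.proj f K) := MorphismProperty.of_isPullback (P := @Surjective) (IsPullback.of_hasPullback f str).flip hsurj
  have : QuasiCompact (BrSev.proj f K) :=
    MorphismProperty.of_isPullback (P := @QuasiCompact) (IsPullback.of_hasPullback f str).flip inferInstance
  infer_instance

/-- Equivariant isomorphisms of base changes descend. -/
theorem exists_iso_of_bcAct_comm [FiniteDimensional k K] [IsGalois k K] {Y : Scheme.{u}}
    {q : Y ⟶ Spec (CommRingCat.of k)} (g : BrSev.bc f K ≅ BrSev.bc q K)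
    (hg : g.hom ≫ BrSev.bcTo q K = BrSev.bcTo f K) (hgact : ∀ σ, bcAct f σ ≫ g.hom = g.hom ≫ bcAct q σ) :
    ∃ i : X ≅ Y, i.hom ≫ q = f := by
  letI : X.Over (Spec (CommRingCat.of k)) := ⟨f⟩
  letI : Y.Over (Spec (CommRingCat.of k)) := ⟨q⟩
  have hgact' : ∀ σ : K ≃ₐ[k] K, bcAct q σ ≫ g.inv = g.inv ≫ bcAct f σ := by
    intro σ
    rw [Iso.comp_inv_eq, Category.assoc, hgact, Iso.inv_hom_id_assoc]
  obtain ⟨F₁, hF₁, hF₁'⟩ := (Desc59.GalMor.descend k K (X := X) (Y := Y) g.hom hg).mpr hgact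
  obtain ⟨G₁, hG₁, hG₁'⟩ := (Desc59.GalMor.descend k K (X := Y) (Y := X) g.inv ((Iso.inv_comp_eq g).mpr hg.symm)).mpr hgact'
  change g.hom ≫ BrSev.proj q K = BrSev.proj f K ≫ F₁ at hF₁'
  change g.inv ≫ BrSev.proj f K = BrSev.proj q K ≫ G₁ at hG₁'
  refine ⟨⟨F₁, G₁, ?_, ?_⟩, hF₁⟩
  · haveI := effectiveEpi_proj (K := K) f
    rw [← cancel_epi (BrSev.proj f K), Category.comp_id, ← Category.assoc, ← hF₁', Category.assoc, ← hG₁',
      Iso.hom_inv_id_assoc]
  · haveI := effectiveEpi_proj (K := K) q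
    rw [← cancel_epi (BrSev.proj q K), Category.comp_id, ← Category.assoc, ← hG₁', Category.assoc, ← hF₁',
      Iso.inv_hom_id_assoc]

theorem linMap_bcAct (σ : K ≃ₐ[k] K) :
    linMap (n := n) (σ : K →+* K) 1 isUnit_one ≫ (isPullback_linMap_one (n := n) (R := k) (R' := K)).isoPullback.hom =
      (isPullback_linMap_one (n := n) (R := k) (R' := K)).isoPullback.hom ≫
        bcAct (CohB1.ProjSpace.toSpec n k) σ := by
  apply pullback.hom_ext
  · rw [Category.assoc, Category.assoc, bcAct_proj, IsPullback.isoPullback_hom_fst, linMap_comp]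
    exact linMap_congr (σ : K →ₐ[k] K).comp_algebraMap (by simp)
  · rw [Category.assoc, Category.assoc, bcAct_bcTo, IsPullback.isoPullback_hom_snd,
      IsPullback.isoPullback_hom_snd_assoc, linMap_toSpec]
    rfl

/-- A splitting equivariant for an exact cocycle descends. -/
theorem splitting_of_cocycle [FiniteDimensional k K] [IsGalois k K] {e : BrSev.Splitting f K n} (F : Frame e)
    (hF : ∀ σ τ : K ≃ₐ[k] K, F.mat σ * (F.mat τ).map σ = F.mat (σ * τ)) :
    Nonempty (BrSev.Splitting f k n) := by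
  classical
  obtain ⟨A, hA⟩ := GalH1.exists_eq_inv_mul_map (fun σ => (F.isUnit σ).unit)
    (fun σ τ => by simpa using (hF σ τ).symm)
  let H : Matrix (Fin (n + 1)) (Fin (n + 1)) K := (↑A⁻¹ : Matrix _ _ K)
  have hH : IsUnit H := A⁻¹.isUnit
  let ℓ := linMap (RingHom.id K) H hH
  haveI : IsIso ℓ := isIso_linMap (RingEquiv.refl K) hH
  have hfix : ∀ σ : K ≃ₐ[k] K, F.mat σ * H.map σ = H := by
    intro σ
    have h := hA σ
    rw [IsUnit.unit_spec] at h
    rw [h, mul_assoc]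
    show H * ((σ : K →+* K).mapMatrix A.val * (σ : K →+* K).mapMatrix (↑A⁻¹ : Matrix _ _ K)) = H
    rw [← map_mul, A.mul_inv, map_one, mul_one]
  have hact : ∀ σ : K ≃ₐ[k] K, bcAct f σ ≫ e.iso.hom ≫ ℓ =
      (e.iso.hom ≫ ℓ) ≫ linMap (σ : K →+* K) 1 isUnit_one := by
    intro σ
    have h1 : bcAct f σ ≫ e.iso.hom = e.iso.hom ≫ linMap (σ : K →+* K) (F.mat σ) (F.isUnit σ) :=
      (Iso.hom_inv_id_assoc e.iso _).symm.trans (congrArg (e.iso.hom ≫ ·) (F.act σ))
    have h2 : linMap (σ : K →+* K) (F.mat σ) (F.isUnit σ) ≫ ℓ = ℓ ≫ linMap (σ : K →+* K) 1 isUnit_one :=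
      (linMap_comp _ _ _ _).trans (((linMap_congr (by ext; rfl)
        (show F.mat σ * H.map (σ : K →+* K) = H * (1 : Matrix _ _ K).map (RingHom.id K) by
          rw [Matrix.map_one _ (map_zero _) (map_one _), mul_one]; exact hfix σ))).trans (linMap_comp _ _ _ _).symm)
    exact (Category.assoc _ _ _).symm.trans ((congrArg (· ≫ ℓ) h1).trans
      ((Category.assoc _ _ _).trans ((congrArg (e.iso.hom ≫ ·) h2).trans (Category.assoc _ _ _).symm)))
  let q := CohB1.ProjSpace.toSpec n k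
  have hpb := isPullback_linMap_one (n := n) (R := k) (R' := K)
  let g : BrSev.bc f K ≅ BrSev.bc q K := (e.iso ≪≫ asIso ℓ) ≪≫ hpb.isoPullback
  have hℓ : ℓ ≫ CohB1.ProjSpace.toSpec n K = CohB1.ProjSpace.toSpec n K := by
    rw [linMap_toSpec, CommRingCat.ofHom_id, Spec.map_id, Category.comp_id]
  have hg : g.hom ≫ BrSev.bcTo q K = BrSev.bcTo f K := by
    show ((e.iso.hom ≫ ℓ) ≫ hpb.isoPullback.hom) ≫ _ = _
    rw [Category.assoc, hpb.isoPullback_hom_snd, Category.assoc, hℓ, e.comm]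
  obtain ⟨i, hi⟩ := exists_iso_of_bcAct_comm g hg (fun σ => by
    show bcAct f σ ≫ (e.iso.hom ≫ ℓ) ≫ hpb.isoPullback.hom = ((e.iso.hom ≫ ℓ) ≫ hpb.isoPullback.hom) ≫ _
    rw [← Category.assoc, hact σ, Category.assoc, linMap_bcAct, ← Category.assoc])
  have : IsIso (Spec.map (CommRingCat.ofHom (algebraMap k k))) := by
    rw [Algebra.algebraMap_self, CommRingCat.ofHom_id, Spec.map_id]; infer_instance
  refine ⟨⟨asIso (BrSev.proj f k) ≪≫ i, ?_⟩⟩
  show (BrSev.proj f k ≫ i.hom) ≫ q = _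
  rw [Category.assoc, hi, pullback.condition]
  have hid : Spec.map (CommRingCat.ofHom (algebraMap k k)) = 𝟙 _ := by
    rw [Algebra.algebraMap_self, CommRingCat.ofHom_id, Spec.map_id]
  exact (congrArg (BrSev.bcTo f k ≫ ·) hid).trans (Category.comp_id _)

/-- Over a finite field every frame can be made an exact cocycle. -/
theorem exists_cocycle_of_finite [Finite k] [FiniteDimensional k K] [IsGalois k K] {e : BrSev.Splitting f K n}
    (F : Frame e) :
    ∃ F' : Frame e, ∀ σ τ : K ≃ₐ[k] K, F'.mat σ * (F'.mat τ).map σ = F'.mat (σ * τ) := by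
  classical
  haveI : Finite K := Module.finite_of_finite k
  obtain ⟨s, hs⟩ := IsCyclic.exists_generator (α := K ≃ₐ[k] K)
  let d := orderOf s
  have hd : 0 < d := _root_.orderOf_pos s
  let M (σ : K ≃ₐ[k] K) : Matrix (Fin (n + 1)) (Fin (n + 1)) K →+* Matrix (Fin (n + 1)) (Fin (n + 1)) K :=
    (σ : K →+* K).mapMatrix
  have hM : ∀ σ τ x, M σ (M τ x) = M (σ * τ) x := fun σ τ x => by ext i j; rfl
  have hM1 : ∀ x, M 1 x = x := fun x => by ext i j; rfl
  let P : ℕ → Matrix (Fin (n + 1)) (Fin (n + 1)) K := fun j =>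
    Nat.rec (motive := fun _ => Matrix (Fin (n + 1)) (Fin (n + 1)) K) 1 (fun j p => p * M (s ^ j) (F.mat s)) j
  have hP0 : P 0 = 1 := rfl
  have hPs : ∀ j, P (j + 1) = P j * M (s ^ j) (F.mat s) := fun _ => rfl
  have hPadd : ∀ a b, P (a + b) = P a * M (s ^ a) (P b) := by
    intro a b
    induction b with
    | zero => rw [add_zero, hP0, map_one, mul_one]
    | succ b ih => rw [← add_assoc, hPs, hPs, ih, map_mul, hM, ← pow_add, mul_assoc]
  have hPc : ∀ j, ∃ c : K, c ≠ 0 ∧ P j = c • F.mat (s ^ j) := by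
    intro j
    induction j with
    | zero =>
      obtain ⟨c, hc, hc'⟩ := F.mul 1 1
      rw [mul_one] at hc'
      have h1 : F.mat 1 = c • 1 := (F.isUnit 1).mul_left_cancel (by
        rw [mul_smul_comm, mul_one, ← hc']
        exact congrArg (F.mat 1 * ·) (hM1 (F.mat 1)).symm)
      refine ⟨c⁻¹, inv_ne_zero hc, ?_⟩
      rw [hP0, pow_zero, h1, inv_smul_smul₀ hc]
    | succ j ih =>
      obtain ⟨c, hc, hc'⟩ := ih
      obtain ⟨c₂, hc₂, hc₂'⟩ := F.mul (s ^ j) s
      refine ⟨c * c₂, mul_ne_zero hc hc₂, ?_⟩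
      rw [hPs, hc', pow_succ, smul_mul_assoc, mul_smul, ← hc₂']
      rfl
  obtain ⟨lam, hlam, hPd⟩ : ∃ lam : K, lam ≠ 0 ∧ P d = lam • 1 := by
    obtain ⟨c, hc, hc'⟩ := hPc d
    obtain ⟨c0, hc0, hc0'⟩ := hPc 0
    rw [pow_orderOf_eq_one] at hc'
    rw [hP0, pow_zero] at hc0'
    refine ⟨c * c0⁻¹, mul_ne_zero hc (inv_ne_zero hc0), ?_⟩
    rw [hc', hc0', smul_smul, mul_assoc, inv_mul_cancel₀ hc0, mul_one]
  have hfix : s lam = lam := by
    have h1 := hPadd 1 d
    have h2 := hPadd d 1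
    rw [add_comm 1 d, h2, hPd, pow_orderOf_eq_one, hM1] at h1
    have h3 : M (s ^ 1) (lam • 1 : Matrix (Fin (n + 1)) (Fin (n + 1)) K) = s lam • 1 := by
      rw [Matrix.smul_one_eq_diagonal, Matrix.smul_one_eq_diagonal]; simp [M, Matrix.diagonal_map]
    rw [h3, smul_mul_assoc, one_mul, mul_smul_comm, mul_one] at h1
    have hu : IsUnit (P 1) := by
      show IsUnit (P (0 + 1))
      rw [hPs, hP0, one_mul]; exact (F.isUnit s).map (M _)
    by_contra hne
    have h4 : (lam - s lam) • P 1 = 0 := by rw [sub_smul, h1, sub_self]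
    exact hu.ne_zero ((smul_eq_zero.mp h4).resolve_left (sub_ne_zero.mpr (Ne.symm hne)))
  obtain ⟨a, ha⟩ : ∃ a : k, algebraMap k K a = lam := by
    refine IsGalois.mem_bot_iff_fixed (F := k) lam |>.mpr (fun σ => ?_) |> IntermediateField.mem_bot.mp
    obtain ⟨z, rfl⟩ := Subgroup.mem_zpowers_iff.mp (hs σ)
    have : ∀ m : ℕ, (s ^ m) lam = lam := fun m => by
      induction m with
      | zero => rfl
      | succ m ih => rw [pow_succ, AlgEquiv.mul_apply, hfix, ih]
    obtain ⟨m, hm⟩ := (isOfFinOrder_of_finite s).mem_powers_iff_mem_zpowers.mpr (Subgroup.mem_zpowers_iff.mpr ⟨z, rfl⟩)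
    rw [← hm]; exact this m
  obtain ⟨μ, hμ⟩ := FiniteField.norm_surjective k K a⁻¹
  have ha0 : a ≠ 0 := by rintro rfl; exact hlam (by rw [← ha, map_zero])
  have hμ0 : μ ≠ 0 := by
    rintro rfl
    rw [Algebra.norm_zero] at hμ
    exact inv_ne_zero ha0 hμ.symm
  let N : ℕ → K := fun j => ∏ l ∈ Finset.range j, (s ^ l) μ
  have hN0 : ∀ j, N j ≠ 0 := fun j => Finset.prod_ne_zero_iff.mpr fun l _ =>
    (map_ne_zero (s ^ l : K ≃ₐ[k] K)).mpr hμ0
  have hNadd : ∀ i j, N (i + j) = N i * (s ^ i) (N j) := fun i j => by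
    simp only [N, Finset.prod_range_add, map_prod, pow_add, AlgEquiv.mul_apply]
  have hNd : N d * lam = 1 := by
    have hnorm : algebraMap k K (Algebra.norm k μ) = N d := by
      rw [Algebra.norm_eq_prod_automorphisms]
      let e : Fin d ≃ (K ≃ₐ[k] K) := (finEquivZPowers (isOfFinOrder_of_finite s)).trans
        ((Equiv.setCongr (Set.eq_univ_of_forall hs)).trans (Equiv.Set.univ _))
      have he : ∀ l : Fin d, e l = s ^ (l : ℕ) := fun l => rfl
      rw [← e.prod_comp]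
      simp only [he, N]
      rw [Fin.prod_univ_eq_prod_range (fun l => (s ^ l) μ) d]
    rw [← hnorm, hμ, ← ha, ← map_mul, inv_mul_cancel₀ ha0, map_one]
  let Q : ℕ → Matrix (Fin (n + 1)) (Fin (n + 1)) K := fun j => N j • P j
  have hQadd : ∀ i j, Q (i + j) = Q i * M (s ^ i) (Q j) := by
    intro i j
    have : M (s ^ i) (N j • P j) = (s ^ i) (N j) • M (s ^ i) (P j) := by ext; simp [M]
    simp only [Q, this, smul_mul_smul_comm, hNadd, hPadd]
  have hQd : Q d = 1 := by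
    show N d • P d = 1
    rw [hPd, smul_smul, hNd, one_smul]
  have hQmod : ∀ i, Q i = Q (i % d) := by
    intro i
    induction i using Nat.strong_induction_on with
    | _ i ih =>
      by_cases h : i < d
      · rw [Nat.mod_eq_of_lt h]
      · push Not at h
        obtain ⟨r, rfl⟩ := Nat.exists_eq_add_of_le h
        rw [hQadd, hQd, one_mul, pow_orderOf_eq_one, hM1, ih r (by omega), Nat.add_mod_left]
  have hex : ∀ σ : K ≃ₐ[k] K, ∃ i : ℕ, s ^ i = σ := fun σ =>
    (isOfFinOrder_of_finite s).mem_powers_iff_mem_zpowers.mpr (hs σ)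
  choose idx hidx using hex
  have hQs : ∀ σ i, s ^ i = σ → Q i = Q (idx σ) := by
    intro σ i hi
    rw [hQmod i, hQmod (idx σ), pow_eq_pow_iff_modEq.mp (hi.trans (hidx σ).symm)]
  have hQc : ∀ σ, ∃ c : K, c ≠ 0 ∧ Q (idx σ) = c • F.mat σ := fun σ => by
    obtain ⟨c, hc, hc'⟩ := hPc (idx σ)
    refine ⟨N (idx σ) * c, mul_ne_zero (hN0 _) hc, ?_⟩
    rw [hidx] at hc'
    simp only [Q, hc', smul_smul]
  choose c hc0 hc using hQc
  refine ⟨F.smul c hc0, fun σ τ => ?_⟩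
  show c σ • F.mat σ * M σ (c τ • F.mat τ) = c (σ * τ) • F.mat (σ * τ)
  rw [← hc, ← hc, ← hc]
  conv_lhs => rw [show M σ = M (s ^ idx σ) by rw [hidx], ← hQadd]
  exact hQs _ _ (by rw [pow_add, hidx, hidx])

end Groth.Agent.Csa25
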