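import Groth.Agent.Csa25.Roquette
import Groth.Agent.Csa25.Index

/-!
# Amitsur's theorem for Roquette's generic splitting field
-/

set_option autoImplicit false
open scoped TensorProduct
open Module MvPolynomial

namespace Groth.Agent.Csa25

universe u

variable {k : Type u} [Field k] {L : Type u} [Field L] [Algebra k L] [FiniteDimensional k L] [IsGalois k L]
  {n : ℕ}

namespace SplitData

variable (D : SplitData k L n)

local notation "S" => MvPolynomial (Fin (n + 1)) L
local notation "G" => L ≃ₐ[k] L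

/-- A family of homogeneous polynomials with the cocycle relation is a coboundary up to scalars. -/
theorem exists_scalar_relation [DecidableEq (L ≃ₐ[k] L)] (b : G → G → L) (hb : ∀ σ τ, b σ τ ≠ 0) {e : ℕ} (a : G → S)
    (d : S) (hd : d.IsHomogeneous e) (hd0 : d ≠ 0) (ha : ∀ σ, (a σ).IsHomogeneous e) (ha0 : ∀ σ, a σ ≠ 0)
    (hrel : ∀ σ τ, a σ * D.act σ (a τ) = C (b σ τ) * a (σ * τ) * D.act σ d) :
    ∃ (f : ℕ) (lam : G → L), (∀ σ, lam σ ≠ 0) ∧
      ∀ σ τ, b σ τ * D.c σ τ ^ f * lam (σ * τ) = lam σ * σ (lam τ) * D.c σ τ ^ e := by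
  classical
  obtain ⟨inst⟩ : Nonempty (NormalizedGCDMonoid S) := inferInstance
  letI := inst
  let H : S := Finset.univ.gcd a
  have hH1 : H ∣ a 1 := Finset.gcd_dvd (Finset.mem_univ 1)
  have hH0 : H ≠ 0 := fun h => ha0 1 (by rw [h] at hH1; exact zero_dvd_iff.mp hH1)
  obtain ⟨f, hf⟩ : ∃ f, H.IsHomogeneous f :=
    Groth.Agent.VarGal.exists_isHomogeneous_of_dvd (ha 1) (ha0 1) hH1
  have hact0 : ∀ (σ : G) {x : S}, x ≠ 0 → D.act σ x ≠ 0 := fun σ x hx h =>
    hx ((D.act σ).injective (h.trans (map_zero _).symm))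
  have hassoc : ∀ σ, Associated (a σ * D.act σ H) (D.act σ d * H) := by
    intro σ
    have hgcd : ∀ x : S, x ∣ D.act σ H ↔ ∀ τ, x ∣ D.act σ (a τ) := by
      intro x
      constructor
      · exact fun h τ => h.trans (map_dvd (D.act σ) (Finset.gcd_dvd (Finset.mem_univ τ)))
      · intro h
        have : (D.act σ).symm x ∣ H := Finset.dvd_gcd fun τ _ => by
          simpa using map_dvd (D.act σ).symm (h τ)
        simpa using map_dvd (D.act σ) this
    refine associated_of_dvd_dvd ?_ ?_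
    · have h1 : ∀ τ, a σ * D.act σ H ∣ D.act σ d * a (σ * τ) := fun τ => by
        have h2 : a σ * D.act σ H ∣ a σ * D.act σ (a τ) := mul_dvd_mul_left _ ((hgcd _).1 dvd_rfl τ)
        rw [hrel, mul_assoc, IsUnit.dvd_mul_left ((hb σ τ).isUnit.map C)] at h2
        exact h2.trans (mul_comm _ _).dvd
      have h3 : a σ * D.act σ H ∣ Finset.univ.gcd fun τ => D.act σ d * a (σ * τ) :=
        Finset.dvd_gcd fun τ _ => h1 τ
      refine (h3.trans (Finset.gcd_mul_left' _ _ _).dvd).trans (mul_dvd_mul_left _ (Finset.dvd_gcd fun τ _ => ?_))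
      exact (Finset.gcd_dvd (Finset.mem_univ (σ⁻¹ * τ))).trans (by rw [mul_inv_cancel_left])
    · have h1 : ∀ τ, D.act σ d * H ∣ a σ * D.act σ (a τ) := fun τ => by
        rw [hrel, mul_assoc]
        refine Dvd.dvd.mul_left ?_ _
        rw [mul_comm (a (σ * τ))]
        exact mul_dvd_mul_left _ (Finset.gcd_dvd (Finset.mem_univ _))
      have h3 : D.act σ d * H ∣ Finset.univ.gcd fun τ => a σ * D.act σ (a τ) :=
        Finset.dvd_gcd fun τ _ => h1 τ
      refine (h3.trans (Finset.gcd_mul_left' _ _ _).dvd).trans (mul_dvd_mul_left _ ((hgcd _).2 fun τ => ?_))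
      exact Finset.gcd_dvd (Finset.mem_univ τ)
  have hlam : ∀ σ, ∃ l : L, l ≠ 0 ∧ a σ * D.act σ H = C l * (D.act σ d * H) := by
    intro σ
    obtain ⟨w, hw⟩ := (hassoc σ).symm
    obtain ⟨l, hl, hwl⟩ := MvPolynomial.isUnit_iff_eq_C_of_isReduced.mp w.isUnit
    exact ⟨l, hl.ne_zero, by rw [← hw, hwl, mul_comm]⟩
  choose lam hl0 hl using hlam
  refine ⟨f, lam, hl0, fun σ τ => ?_⟩
  have h1 := congrArg (D.act σ) (hl τ)
  rw [map_mul, map_mul, map_mul, D.act_C, D.act_act σ τ hf, D.act_act σ τ hd] at h1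
  have h2 := hl σ
  have h3 := hl (σ * τ)
  have h4 := hrel σ τ
  have hne : D.act σ d * D.act (σ * τ) d * H ≠ 0 :=
    mul_ne_zero (mul_ne_zero (hact0 σ hd0) (hact0 _ hd0)) hH0
  apply C_injective (Fin (n + 1)) L
  refine mul_right_cancel₀ hne ?_
  simp only [map_mul, map_pow] at h1 h4 ⊢
  linear_combination (a σ) * h1 - (C (D.c σ τ) ^ f * D.act (σ * τ) H) * h4 -
    (C (b σ τ) * C (D.c σ τ) ^ f * D.act σ d) * h3 +
    (C (σ (lam τ)) * C (D.c σ τ) ^ e * D.act (σ * τ) d) * h2

theorem exists_fraction {x : deg0 L n} :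
    ∃ (e : ℕ) (a b : S), a.IsHomogeneous e ∧ b.IsHomogeneous e ∧ b ≠ 0 ∧
      (x : FractionRing S) = algebraMap S (FractionRing S) a / algebraMap S (FractionRing S) b := x.2

/-- A scalar factor set that is a coboundary over the generic field is a power of `c` up to coboundaries. -/
theorem exists_of_coboundary (b : G → G → L) (hb : ∀ σ τ, b σ τ ≠ 0) (ν : G → deg0 L n) (hν : ∀ σ, ν σ ≠ 0)
    (h : ∀ σ τ, algebraMap L (deg0 L n) (b σ τ) = ν σ * D.rho σ (ν τ) / ν (σ * τ)) :
    ∃ (e f : ℕ) (lam : G → L), (∀ σ, lam σ ≠ 0) ∧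
      ∀ σ τ, b σ τ * D.c σ τ ^ f * lam (σ * τ) = lam σ * σ (lam τ) * D.c σ τ ^ e := by
  classical
  choose e a den ha hden hden0 hval using fun σ => exists_fraction (x := ν σ)
  let d : S := ∏ σ, den σ
  let a' : G → S := fun σ => a σ * ∏ τ ∈ Finset.univ.erase σ, den τ
  have hd : d.IsHomogeneous (∑ σ, e σ) := IsHomogeneous.prod _ _ _ fun σ _ => hden σ
  have hd0 : d ≠ 0 := Finset.prod_ne_zero_iff.mpr fun σ _ => hden0 σ
  have ha' : ∀ σ, (a' σ).IsHomogeneous (∑ τ, e τ) := fun σ => by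
    rw [← Finset.add_sum_erase _ _ (Finset.mem_univ σ)]
    exact (ha σ).mul (IsHomogeneous.prod _ _ _ fun τ _ => hden τ)
  have hval' : ∀ σ, (ν σ : FractionRing S) = algebraMap S (FractionRing S) (a' σ) /
      algebraMap S (FractionRing S) d := fun σ => by
    rw [hval σ, ← Finset.mul_prod_erase _ _ (Finset.mem_univ σ) |>.trans (rfl : _ = d)]
    simp only [a', map_mul]
    rw [mul_div_mul_right]
    simpa [Finset.prod_ne_zero_iff] using fun τ _ => hden0 τ
  have ha0 : ∀ σ, a' σ ≠ 0 := fun σ h0 => hν σ (Subtype.ext (by simp [hval' σ, h0]))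
  obtain ⟨f, lam, hl, hrel⟩ := D.exists_scalar_relation b hb a' d hd hd0 ha' ha0 fun σ τ => by
    have h1 := h σ τ
    rw [eq_div_iff (hν _)] at h1
    have h2 := congrArg Subtype.val h1
    change algebraMap L (FractionRing S) (b σ τ) * (ν (σ * τ) : FractionRing S) =
      (ν σ : FractionRing S) * D.actFrac σ (ν τ) at h2
    rw [hval', hval', hval', map_div₀, actFrac_algebraMap, actFrac_algebraMap,
      SplitData.algebraMap_L_eq, div_mul_div_comm, ← mul_div_assoc, div_eq_div_iff] at h2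
    · refine IsFractionRing.injective S (FractionRing S) ?_
      have hd' : algebraMap S (FractionRing S) d ≠ 0 := by simpa using hd0
      refine mul_right_cancel₀ hd' ?_
      simp only [map_mul]
      linear_combination -h2
    · simpa using hd0
    · simp [hd0]
  exact ⟨_, f, lam, hl, hrel⟩

end SplitData

/-- The twisting data of a splitting of a central simple algebra of degree `n + 1`. -/
theorem exists_splitData {A : Type u} [Ring A] [Algebra k A]
    (φ : L ⊗[k] A ≃ₐ[L] Matrix (Fin (n + 1)) (Fin (n + 1)) L) :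
    ∃ D : SplitData k L n, ∀ σ a, φ (1 ⊗ₜ[k] a) * D.P σ = D.P σ * (φ (1 ⊗ₜ[k] a)).map σ := by
  obtain ⟨g, c, h1, h2, h3⟩ := exists_twist_matrices φ
  exact ⟨⟨fun σ => g σ, fun σ => (↑(g σ)⁻¹ : Matrix (Fin (n + 1)) (Fin (n + 1)) L),
    fun σ => (g σ).mul_inv, fun σ => (g σ).inv_mul, c, h2, h3⟩, h1⟩

variable (D : SplitData k L n) {A : Type u} [Ring A] [Algebra k A] [Algebra.IsCentral k A] [IsSimpleRing A]
  [FiniteDimensional k A] (φ : L ⊗[k] A ≃ₐ[L] Matrix (Fin (n + 1)) (Fin (n + 1)) L)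
  (hφ : ∀ σ a, φ (1 ⊗ₜ[k] a) * D.P σ = D.P σ * (φ (1 ⊗ₜ[k] a)).map σ)

include φ in
theorem finrank_eq_of_splitting : finrank k A = (n + 1) * (n + 1) := by
  rw [← Module.finrank_baseChange (R := L), φ.toLinearEquiv.finrank_eq, Module.finrank_matrix]
  simp

include hφ in
theorem twisted_splitData : Twisted (MonoidHom.id (L ≃ₐ[k] L)) (cl k A) D.c :=
  ⟨n + 1, A, inferInstance, inferInstance, inferInstance, inferInstance, inferInstance,
    (φ.toAlgHom.restrictScalars k).comp Algebra.TensorProduct.includeRight, D.P, n.succ_ne_zero,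
    finrank_eq_of_splitting φ, rfl, fun σ => ⟨⟨D.P σ, D.Pi σ, D.mul_inv σ, D.inv_mul σ⟩, rfl⟩,
    hφ, D.cocycle⟩

include hφ in
/-- The generic field splits. -/
theorem splits_genField : Curves.Splits k A D.genField := by
  obtain ⟨m, A', _, _, _, _, _, ψ, P, hm, hd, hx, hP, hconj, hc⟩ :=
    (twisted_splitData D φ hφ).map D.rho (IsScalarTower.toAlgHom k L (SplitData.deg0 L n))
      (fun σ l => (D.rho_algebraMap σ l).symm)
  have h := splits_of_coboundary D.rho D.rho_injective A' hm hd ψ P hP hconj D.alpha D.alpha_ne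
    (fun σ τ => by
      rw [hc]
      exact congrArg (· • P (σ * τ)) (D.coboundary_c σ τ)) D.genField D.fixed_mem_range
  rw [splits_iff_res_eq_one] at h ⊢
  rwa [← hx]

include hφ in
/-- Amitsur's theorem: the relative Brauer group of the generic field is generated by the algebra. -/
theorem cl_mem_zpowers_of_splits {B : Type u} [Ring B] [Algebra k B] [Algebra.IsCentral k B] [IsSimpleRing B]
    [FiniteDimensional k B] (h : Curves.Splits k B D.genField) :
    cl k B ∈ Subgroup.zpowers (cl k A) := by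
  classical
  let K := SplitData.deg0 L n
  have hK : Curves.Splits k B K := splits_of_algHom D.genField.val h
  have hL : Curves.Splits k B L := splits_of_splits_rationalFunctions (n + 1)
    (splits_of_algHom ((IntermediateField.val K).restrictScalars k) hK)
  obtain ⟨b, hB⟩ := exists_twisted B hL
  have hb := fun σ τ => hB.ne_zero σ τ
  have hBK := hB.map D.rho (IsScalarTower.toAlgHom k L K) (fun σ l => (D.rho_algebraMap σ l).symm)
  obtain ⟨m, B', _, _, _, _, _, ψ, Q, hm, hd, hx, hQ, hconj, hc⟩ := hBK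
  have h' : Curves.Splits k B' D.genField := by
    rw [splits_iff_res_eq_one] at h ⊢
    rwa [hx]
  obtain ⟨m', hm', ⟨e⟩⟩ := h'
  have hmm : m' = m := by
    have h1 : finrank k B' = m' * m' := by
      rw [← Module.finrank_baseChange (R := D.genField), e.toLinearEquiv.finrank_eq, Module.finrank_matrix]
      simp
    exact Nat.mul_self_inj.mp (h1.symm.trans hd)
  subst hmm
  let θ : B' →ₐ[k] Matrix (Fin m') (Fin m') K :=
    (D.genField.val.mapMatrix).comp ((e.toAlgHom.restrictScalars k).comp Algebra.TensorProduct.includeRight)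
  have hθ : ∀ σ x, entAct D.rho σ (θ x) = θ x := fun σ x => by
    ext i j : 1
    exact (D.mem_genField.mp ((e (1 ⊗ₜ[k] x)) i j).2) σ
  let Ψ : K ⊗[k] B' →ₐ[K] Matrix (Fin m') (Fin m') K :=
    Algebra.TensorProduct.lift (Algebra.ofId K _) ψ fun x y => Algebra.commutes x (ψ y)
  let Θ : K ⊗[k] B' →ₐ[K] Matrix (Fin m') (Fin m') K :=
    Algebra.TensorProduct.lift (Algebra.ofId K _) θ fun x y => Algebra.commutes x (θ y)
  have : IsSimpleRing (K ⊗[k] B') := isSimpleRing_baseChange k B' K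
  have : NeZero m' := ⟨hm⟩
  obtain ⟨u, hu⟩ := exists_unit_conj Θ Ψ
  have hu' : ∀ x, ψ x = (u : Matrix (Fin m') (Fin m') K) * θ x * (↑u⁻¹ : Matrix (Fin m') (Fin m') K) := fun x => by
    simpa [Ψ, Θ] using hu (1 ⊗ₜ[k] x)
  have hΘsurj : Function.Surjective Θ := by
    have hdim : finrank K (K ⊗[k] B') = finrank K (Matrix (Fin m') (Fin m') K) := by
      rw [Module.finrank_baseChange, hd, Module.finrank_matrix]; simp
    exact (LinearMap.injective_iff_surjective_of_finrank_eq_finrank hdim (f := Θ.toLinearMap)).mp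
      (RingHom.injective Θ.toRingHom)
  let T := fun σ => (↑u⁻¹ : Matrix (Fin m') (Fin m') K) * Q σ * entAct D.rho σ (u : Matrix (Fin m') (Fin m') K)
  have hT : ∀ σ x, θ x * T σ = T σ * θ x := fun σ x => by
    have h1 : θ x * (↑u⁻¹ : Matrix (Fin m') (Fin m') K) = (↑u⁻¹ : Matrix (Fin m') (Fin m') K) * ψ x := by
      rw [hu', ← mul_assoc, ← mul_assoc, Units.inv_mul, one_mul]
    have h2 : ψ x * (u : Matrix (Fin m') (Fin m') K) = (u : Matrix (Fin m') (Fin m') K) * θ x := by
      rw [hu', mul_assoc, Units.inv_mul, mul_one]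
    calc θ x * T σ = (↑u⁻¹ : Matrix (Fin m') (Fin m') K) * (ψ x * Q σ) * entAct D.rho σ (u : Matrix (Fin m') (Fin m') K) := by
          simp only [T, ← mul_assoc]; rw [h1]
      _ = (↑u⁻¹ : Matrix (Fin m') (Fin m') K) * Q σ * entAct D.rho σ (ψ x * (u : Matrix (Fin m') (Fin m') K)) := by
          rw [hconj, map_mul]; simp only [mul_assoc]
      _ = T σ * θ x := by
          rw [h2, map_mul, hθ]; simp only [T, mul_assoc]
  have hTscal : ∀ σ, ∃ s : K, T σ = Matrix.scalar (Fin m') s := by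
    intro σ
    have hTx : ∀ x : K ⊗[k] B', Commute (Θ x) (T σ) := by
      intro x
      induction x using TensorProduct.induction_on with
      | zero => rw [map_zero]; exact Commute.zero_left _
      | tmul l a =>
        have : Θ (l ⊗ₜ[k] a) = l • θ a := by simp [Θ, Algebra.smul_def, Algebra.ofId_apply]
        rw [this]
        exact Commute.smul_left (hT σ a) l
      | add p q hp hq => rw [map_add]; exact hp.add_left hq
    obtain ⟨s, hs⟩ := Matrix.mem_range_scalar_of_commute_single (M := T σ) fun i j _ => by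
      obtain ⟨x, hx⟩ := hΘsurj (Matrix.single i j 1)
      rw [← hx]; exact hTx x
    exact ⟨s, hs.symm⟩
  choose ν hν using hTscal
  have hν0 : ∀ σ, ν σ ≠ 0 := fun σ h0 => by
    have hu1 : IsUnit (T σ) := ((u⁻¹).isUnit.mul (hQ σ)).mul (u.isUnit.map _)
    rw [hν, h0, map_zero] at hu1
    exact not_isUnit_zero hu1
  have hQu : ∀ σ, Q σ * entAct D.rho σ (u : Matrix (Fin m') (Fin m') K) = ν σ • (u : Matrix (Fin m') (Fin m') K) := fun σ => by
    have := congrArg ((u : Matrix (Fin m') (Fin m') K) * ·) (hν σ)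
    simp only [T, ← mul_assoc, Units.mul_inv, one_mul] at this
    rw [this, ← Matrix.scalar_commute _ (fun r => Commute.all _ r), Matrix.scalar_apply, ← Matrix.smul_eq_diagonal_mul]
  have hbν : ∀ σ τ, algebraMap L K (b σ τ) = ν σ * D.rho σ (ν τ) / ν (σ * τ) := by
    intro σ τ
    rw [eq_div_iff (hν0 _)]
    have h1 : (algebraMap L K (b σ τ) * ν (σ * τ)) • (u : Matrix (Fin m') (Fin m') K) =
        (ν σ * D.rho σ (ν τ)) • (u : Matrix (Fin m') (Fin m') K) := by
      rw [mul_smul, ← hQu, ← entAct_entAct, ← Matrix.smul_mul]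
      refine (congrArg (· * entAct D.rho σ (entAct D.rho τ (u : Matrix (Fin m') (Fin m') K))) (hc σ τ).symm).trans ?_
      show Q σ * entAct D.rho σ (Q τ) * _ = _
      rw [mul_assoc, ← map_mul, hQu, entAct_smul, Matrix.mul_smul, hQu, smul_smul, mul_comm]
    by_contra hne
    have h2 := sub_ne_zero.mpr hne
    have h3 : (algebraMap L K (b σ τ) * ν (σ * τ) - ν σ * D.rho σ (ν τ)) • (u : Matrix (Fin m') (Fin m') K) = 0 := by
      rw [sub_smul, h1, sub_self]
    exact u.ne_zero ((smul_eq_zero.mp h3).resolve_left h2)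
  obtain ⟨e', f, lam, hl, hrel⟩ := D.exists_of_coboundary b hb ν hν0 hbν
  have hA := twisted_splitData D φ hφ
  have key : cl k B * cl k A ^ f * (cl k A ^ e')⁻¹ = 1 := by
    refine ((hB.mul (hA.pow f)).mul (hA.pow e').inv).splits Function.injective_id lam hl
      (fun σ τ => ?_) fun z hz => (IsGalois.mem_range_algebraMap_iff_fixed z).mpr hz
    have hce : D.c σ τ ^ e' ≠ 0 := pow_ne_zero _ (D.c_ne σ τ)
    rw [eq_div_iff (hl _)]
    show b σ τ * D.c σ τ ^ f * (D.c σ τ ^ e')⁻¹ * lam (σ * τ) = lam σ * σ (lam τ)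
    rw [mul_right_comm _ _ (lam _), ← div_eq_mul_inv, div_eq_iff hce]
    exact hrel σ τ
  rw [mul_inv_eq_one, ← eq_mul_inv_iff_mul_eq] at key
  rw [key]
  exact mul_mem (pow_mem (Subgroup.mem_zpowers _) _) (inv_mem (pow_mem (Subgroup.mem_zpowers _) _))

end Groth.Agent.Csa25
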