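import Groth.Agent.Csa25.Splitting
import Mathlib.Algebra.BrauerGroup.Defs
import Mathlib.RingTheory.Finiteness.Small
import Mathlib.Algebra.Algebra.Shrink
import Mathlib.LinearAlgebra.Matrix.ToLin

/-!
# The Brauer group of a field
-/

set_option autoImplicit false
open scoped TensorProduct
open Module MulOpposite

namespace Groth.Agent.Csa25

universe u v w

section Instances

variable {k : Type u} [Field k] {A : Type v} [Ring A] [Algebra k A] {B : Type w} [Ring B] [Algebra k B]

scoped instance tensor_isCentral [Algebra.IsCentral k A] [Algebra.IsCentral k B] :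
    Algebra.IsCentral k (A ⊗[k] B) where
  out x hx := by
    classical
    let bB := Module.Free.chooseBasis k B
    let bb := Algebra.TensorProduct.basis A bB
    have hl : ∀ (a : A) (y : A ⊗[k] B), (a ⊗ₜ[k] (1:B)) * y = a • y := by
      intro a y
      induction y using TensorProduct.induction_on with
      | zero => simp
      | tmul p q => simp [TensorProduct.smul_tmul', smul_eq_mul]
      | add p q hp hq => simp [mul_add, hp, hq]
    have hr : ∀ (a : A) (y : A ⊗[k] B) i, bb.repr (y * (a ⊗ₜ[k] (1:B))) i = bb.repr y i * a := by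
      intro a y i
      induction y using TensorProduct.induction_on with
      | zero => simp
      | tmul p q =>
        simp only [Algebra.TensorProduct.tmul_mul_tmul, mul_one, bb,
          Algebra.TensorProduct.basis_repr_tmul, Finsupp.smul_apply, Finsupp.mapRange_apply,
          smul_eq_mul]
        rw [mul_assoc, mul_assoc, Algebra.commutes]
      | add p q hp hq => simp [add_mul, hp, hq]
    have hcent : ∀ i, bb.repr x i ∈ Subalgebra.center k A := fun i => by
      rw [Subalgebra.mem_center_iff]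
      intro a
      have h' := congrArg (fun z => bb.repr z i) (Subalgebra.mem_center_iff.mp hx (a ⊗ₜ[k] (1 : B)))
      simpa [hl, hr] using h'
    choose d hd using fun i => (Algebra.IsCentral.mem_center_iff k).mp (hcent i)
    set b := ∑ i ∈ (bb.repr x).support, d i • bB i
    have hxb : x = (1 : A) ⊗ₜ[k] b := by
      conv_lhs => rw [← bb.linearCombination_repr x]
      rw [Finsupp.linearCombination_apply, Finsupp.sum, TensorProduct.tmul_sum]
      refine Finset.sum_congr rfl fun i _ => ?_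
      rw [hd i, algebraMap_smul, TensorProduct.tmul_smul]
      simp [bb]
    rcases subsingleton_or_nontrivial A with hA | hA
    · exact Algebra.mem_bot.mpr ⟨0, by
        rw [hxb, Subsingleton.elim (1 : A) 0, TensorProduct.zero_tmul, map_zero]⟩
    have hb : b ∈ Subalgebra.center k B := by
      rw [Subalgebra.mem_center_iff]
      intro c
      have h := Subalgebra.mem_center_iff.mp hx ((1 : A) ⊗ₜ[k] c)
      rw [hxb, Algebra.TensorProduct.tmul_mul_tmul, Algebra.TensorProduct.tmul_mul_tmul] at h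
      exact Algebra.TensorProduct.includeRight_injective (A := A) (algebraMap k A).injective
        (by simpa using h)
    obtain ⟨c, hc⟩ := (Algebra.IsCentral.mem_center_iff k).mp hb
    exact Algebra.mem_bot.mpr ⟨c, by
      rw [hxb, hc, Algebra.TensorProduct.algebraMap_apply']⟩

scoped instance tensor_isSimpleRing [Algebra.IsCentral k A] [IsSimpleRing A] [IsSimpleRing B] :
    IsSimpleRing (A ⊗[k] B) := isSimpleRing_tensor

end Instances

/-- The Brauer group of a field. -/
def Br (k : Type u) [Field k] : Type (u + 1) := BrauerGroup.{u, u} k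

variable {k : Type u} [Field k]

section cl

variable (k) (A : Type v) [Ring A] [Algebra k A] [Algebra.IsCentral k A] [IsSimpleRing A]
  [FiniteDimensional k A]

/-- A copy of a central simple algebra in the universe of the field. -/
noncomputable def toCSA : CSA.{u, u} k :=
  haveI : Small.{u} A := Module.Finite.small.{u} k A
  haveI := isCentral_of_algEquiv (Shrink.algEquiv (R := k) (α := A)).symm
  haveI : IsSimpleRing (Shrink.{u} A) :=
    .of_ringEquiv (Shrink.algEquiv (R := k) (α := A)).symm.toRingEquiv inferInstance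
  haveI : FiniteDimensional k (Shrink.{u} A) :=
    Module.Finite.equiv (Shrink.algEquiv (R := k) (α := A)).symm.toLinearEquiv
  ⟨AlgCat.of k (Shrink.{u} A)⟩

theorem toCSA_equiv : Nonempty (toCSA k A ≃ₐ[k] A) :=
  haveI : Small.{u} A := Module.Finite.small.{u} k A
  ⟨(Shrink.algEquiv (R := k) (α := A) : Shrink.{u} A ≃ₐ[k] A)⟩

/-- The Brauer class of a finite-dimensional central simple algebra. -/
noncomputable def cl : Br k := Quotient.mk (Brauer.CSA_Setoid k) (toCSA k A)

end cl

theorem cl_eq_iff {A : Type v} [Ring A] [Algebra k A] [Algebra.IsCentral k A] [IsSimpleRing A]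
    [FiniteDimensional k A] {B : Type w} [Ring B] [Algebra k B] [Algebra.IsCentral k B]
    [IsSimpleRing B] [FiniteDimensional k B] :
    cl k A = cl k B ↔ ∃ n m : ℕ, n ≠ 0 ∧ m ≠ 0 ∧
      Nonempty (Matrix (Fin n) (Fin n) A ≃ₐ[k] Matrix (Fin m) (Fin m) B) := by
  obtain ⟨eA⟩ := toCSA_equiv k A
  obtain ⟨eB⟩ := toCSA_equiv k B
  refine Quotient.eq.trans ⟨?_, ?_⟩
  · rintro ⟨n, m, hn, hm, ⟨e⟩⟩
    exact ⟨n, m, hn, hm, ⟨eA.symm.mapMatrix.trans (e.trans eB.mapMatrix)⟩⟩
  · rintro ⟨n, m, hn, hm, ⟨e⟩⟩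
    exact ⟨n, m, hn, hm, ⟨eA.mapMatrix.trans (e.trans eB.symm.mapMatrix)⟩⟩

theorem cl_congr {A : Type v} [Ring A] [Algebra k A] [Algebra.IsCentral k A] [IsSimpleRing A]
    [FiniteDimensional k A] {B : Type w} [Ring B] [Algebra k B] [Algebra.IsCentral k B]
    [IsSimpleRing B] [FiniteDimensional k B] (e : A ≃ₐ[k] B) : cl k A = cl k B :=
  cl_eq_iff.mpr ⟨1, 1, one_ne_zero, one_ne_zero, ⟨e.mapMatrix⟩⟩

theorem cl_toCSA (X : CSA.{u, u} k) : cl k X = Quotient.mk (Brauer.CSA_Setoid k) X := by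
  obtain ⟨e⟩ := toCSA_equiv k X
  exact Quotient.sound ⟨1, 1, one_ne_zero, one_ne_zero, ⟨e.mapMatrix⟩⟩

theorem cl_surjective (x : Br k) : ∃ X : CSA.{u, u} k, x = cl k X := by
  induction x using Quotient.inductionOn with
  | _ X => exact ⟨X, (cl_toCSA X).symm⟩

theorem cl_matrix (A : Type v) [Ring A] [Algebra k A] [Algebra.IsCentral k A] [IsSimpleRing A]
    [FiniteDimensional k A] (n : ℕ) [NeZero n] : cl k (Matrix (Fin n) (Fin n) A) = cl k A :=
  cl_eq_iff.mpr ⟨1, n, one_ne_zero, NeZero.ne n,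
    ⟨(Matrix.compAlgEquiv (Fin 1) (Fin n) A k).trans
      ((Matrix.reindexAlgEquiv k A ((Equiv.uniqueProd (Fin n) (Fin 1)))))⟩⟩

/-- Tensor product of matrix algebras. -/
noncomputable def matrixTensorEquiv (A : Type v) [Ring A] [Algebra k A] (B : Type w) [Ring B]
    [Algebra k B] (n p : ℕ) :
    Matrix (Fin n) (Fin n) A ⊗[k] Matrix (Fin p) (Fin p) B ≃ₐ[k]
      Matrix (Fin (n * p)) (Fin (n * p)) (A ⊗[k] B) :=
  (Matrix.kroneckerTMulAlgEquiv (Fin n) (Fin p) k k A B).trans
    (Matrix.reindexAlgEquiv k _ finProdFinEquiv)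

/-- The product of Brauer classes. -/
noncomputable def brMul : Br k → Br k → Br k :=
  Quotient.map₂ (fun X Y : CSA.{u, u} k => toCSA k (X ⊗[k] Y)) fun X X' hX Y Y' hY => by
    obtain ⟨n, m, hn, hm, ⟨e⟩⟩ := hX
    obtain ⟨p, q, hp, hq, ⟨f⟩⟩ := hY
    obtain ⟨g⟩ := toCSA_equiv k (X ⊗[k] Y)
    obtain ⟨g'⟩ := toCSA_equiv k (X' ⊗[k] Y')
    exact ⟨n * p, m * q, by positivity, by positivity, ⟨g.mapMatrix.trans <|
      ((matrixTensorEquiv X Y n p).symm.trans <| (Algebra.TensorProduct.congr e f).trans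
        (matrixTensorEquiv X' Y' m q)).trans g'.symm.mapMatrix⟩⟩

theorem brMul_cl (A : Type v) [Ring A] [Algebra k A] [Algebra.IsCentral k A] [IsSimpleRing A]
    [FiniteDimensional k A] (B : Type w) [Ring B] [Algebra k B] [Algebra.IsCentral k B]
    [IsSimpleRing B] [FiniteDimensional k B] : brMul (cl k A) (cl k B) = cl k (A ⊗[k] B) := by
  obtain ⟨eA⟩ := toCSA_equiv k A
  obtain ⟨eB⟩ := toCSA_equiv k B
  exact cl_congr (Algebra.TensorProduct.congr eA eB)

/-- The class of the opposite algebra. -/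
noncomputable def brInv : Br k → Br k :=
  Quotient.map (fun X : CSA.{u, u} k => toCSA k Xᵐᵒᵖ) fun X X' hX => by
    obtain ⟨n, m, hn, hm, ⟨e⟩⟩ := hX
    obtain ⟨g⟩ := toCSA_equiv k Xᵐᵒᵖ
    obtain ⟨g'⟩ := toCSA_equiv k X'ᵐᵒᵖ
    exact ⟨n, m, hn, hm, ⟨g.mapMatrix.trans <| (AlgEquiv.mopMatrix.trans <| e.op.trans
      AlgEquiv.mopMatrix.symm).trans g'.symm.mapMatrix⟩⟩

theorem cl_eq_cl_field_of_algEquiv {A : Type v} [Ring A] [Algebra k A] [Algebra.IsCentral k A]
    [IsSimpleRing A] [FiniteDimensional k A] {n : ℕ} (hn : n ≠ 0)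
    (e : A ≃ₐ[k] Matrix (Fin n) (Fin n) k) : cl k A = cl k k := by
  have : NeZero n := ⟨hn⟩
  rw [cl_congr e, cl_matrix]

noncomputable instance instCommGroupBr : CommGroup (Br k) where
  mul := brMul
  one := cl k k
  inv := brInv
  mul_assoc x y z := by
    obtain ⟨X, rfl⟩ := cl_surjective x
    obtain ⟨Y, rfl⟩ := cl_surjective y
    obtain ⟨Z, rfl⟩ := cl_surjective z
    change brMul (brMul _ _) _ = brMul _ (brMul _ _)
    simp only [brMul_cl]
    exact cl_congr (Algebra.TensorProduct.assoc k k k X Y Z)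
  one_mul x := by
    obtain ⟨X, rfl⟩ := cl_surjective x
    change brMul (cl k k) _ = _
    rw [brMul_cl]
    exact cl_congr (Algebra.TensorProduct.lid k X)
  mul_one x := by
    obtain ⟨X, rfl⟩ := cl_surjective x
    change brMul _ (cl k k) = _
    rw [brMul_cl]
    exact cl_congr (Algebra.TensorProduct.rid k k X)
  mul_comm x y := by
    obtain ⟨X, rfl⟩ := cl_surjective x
    obtain ⟨Y, rfl⟩ := cl_surjective y
    change brMul _ _ = brMul _ _
    simp only [brMul_cl]
    exact cl_congr (Algebra.TensorProduct.comm k X Y)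
  inv_mul_cancel x := by
    obtain ⟨X, rfl⟩ := cl_surjective x
    have h : brInv (cl k X) = cl k Xᵐᵒᵖ := by
      obtain ⟨eX⟩ := toCSA_equiv k X
      exact cl_congr eX.op
    change brMul (brInv _) _ = cl k k
    rw [h, brMul_cl]
    exact cl_eq_cl_field_of_algEquiv (Module.finrank_pos (R := k) (M := X)).ne'
      ((Algebra.TensorProduct.comm k _ _).trans <|
        (AlgEquiv.ofBijective _ (mulLeftRight_bijective k X)).trans
          (algEquivMatrix (Module.finBasis k X)))

theorem cl_tensor (A : Type v) [Ring A] [Algebra k A] [Algebra.IsCentral k A] [IsSimpleRing A]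
    [FiniteDimensional k A] (B : Type w) [Ring B] [Algebra k B] [Algebra.IsCentral k B]
    [IsSimpleRing B] [FiniteDimensional k B] : cl k (A ⊗[k] B) = cl k A * cl k B :=
  (brMul_cl A B).symm

theorem cl_op (A : Type v) [Ring A] [Algebra k A] [Algebra.IsCentral k A] [IsSimpleRing A]
    [FiniteDimensional k A] : cl k Aᵐᵒᵖ = (cl k A)⁻¹ := by
  obtain ⟨eA⟩ := toCSA_equiv k A
  exact (cl_congr eA.op).symm

theorem cl_field : cl k k = (1 : Br k) := rfl

section

variable {A : Type v} [Ring A] [Algebra k A] [Algebra.IsCentral k A] [IsSimpleRing A]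
  [FiniteDimensional k A] {B : Type w} [Ring B] [Algebra k B] [Algebra.IsCentral k B]
  [IsSimpleRing B] [FiniteDimensional k B]

theorem isIndex_of_cl_eq (h : cl k A = cl k B) {d : ℕ} (hd : CSAGal.IsIndex k A d) :
    CSAGal.IsIndex k B d := by
  obtain ⟨n, m, hn, hm, ⟨e⟩⟩ := cl_eq_iff.mp h
  obtain ⟨d', hd'⟩ := exists_isIndex (k := k) B
  rwa [isIndex_unique_of_matrix hd hd' hn hm e]

theorem splits_iff_cl_eq_one : Curves.Splits k A k ↔ cl k A = 1 := by
  rw [← cl_field]
  constructor
  · intro h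
    obtain ⟨n, hn, ⟨e⟩⟩ := splits_self_iff.mp h
    exact cl_eq_cl_field_of_algEquiv hn e
  · intro h
    exact splits_iff_isIndex_one.mpr (isIndex_of_cl_eq h.symm
      (splits_iff_isIndex_one.mp (splits_self_iff.mpr
        ⟨1, one_ne_zero, ⟨(AlgEquiv.ofBijective (Matrix.scalarAlgHom (Fin 1) k)
          ⟨fun a b h => by simpa using congrFun (congrFun h 0) 0,
           fun M => ⟨M 0 0, by ext i j; fin_cases i; fin_cases j; simp⟩⟩)⟩⟩)))

/-- Brauer equivalent algebras of the same dimension are isomorphic. -/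
theorem nonempty_algEquiv_of_cl_eq (h : cl k A = cl k B) (hdim : finrank k A = finrank k B) :
    Nonempty (A ≃ₐ[k] B) := by
  obtain ⟨n, m, hn, hm, ⟨e⟩⟩ := cl_eq_iff.mp h
  have h' := e.toLinearEquiv.finrank_eq
  simp only [Module.finrank_matrix, Fintype.card_fin, hdim] at h'
  obtain rfl : n = m := Nat.mul_self_inj.mp (Nat.eq_of_mul_eq_mul_right Module.finrank_pos h')
  exact nonempty_algEquiv_of_matrix hn e

end

section Res

variable (K : Type w) [Field K] [Algebra k K]

scoped instance baseChange_isCentral (A : Type v) [Ring A] [Algebra k A] [Algebra.IsCentral k A] :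
    Algebra.IsCentral K (K ⊗[k] A) := isCentral_baseChange k A K

scoped instance baseChange_isSimpleRing (A : Type v) [Ring A] [Algebra k A] [Algebra.IsCentral k A]
    [IsSimpleRing A] : IsSimpleRing (K ⊗[k] A) := isSimpleRing_baseChange k A K

/-- Base change commutes with tensor products. -/
theorem nonempty_baseChangeTensor (A : Type*) [Ring A] [Algebra k A] [Algebra.IsCentral k A]
    [IsSimpleRing A] [FiniteDimensional k A] (B : Type*) [Ring B] [Algebra k B]
    [Algebra.IsCentral k B] [IsSimpleRing B] [FiniteDimensional k B] :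
    Nonempty (K ⊗[k] (A ⊗[k] B) ≃ₐ[K] (K ⊗[k] A) ⊗[K] (K ⊗[k] B)) := by
  let f : A →ₐ[k] (K ⊗[k] A) ⊗[K] (K ⊗[k] B) :=
    ((Algebra.TensorProduct.includeLeft (R := K) (S := K) :
      K ⊗[k] A →ₐ[K] (K ⊗[k] A) ⊗[K] (K ⊗[k] B)).restrictScalars k).comp
      Algebra.TensorProduct.includeRight
  let g : B →ₐ[k] (K ⊗[k] A) ⊗[K] (K ⊗[k] B) :=
    ((Algebra.TensorProduct.includeRight :
      K ⊗[k] B →ₐ[K] (K ⊗[k] A) ⊗[K] (K ⊗[k] B)).restrictScalars k).comp
      Algebra.TensorProduct.includeRight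
  let h : A ⊗[k] B →ₐ[k] (K ⊗[k] A) ⊗[K] (K ⊗[k] B) :=
    Algebra.TensorProduct.lift f g fun a b => by simp [f, g, Commute, SemiconjBy]
  let Φ : K ⊗[k] (A ⊗[k] B) →ₐ[K] (K ⊗[k] A) ⊗[K] (K ⊗[k] B) :=
    Algebra.TensorProduct.lift (Algebra.ofId K _) h fun c x => Algebra.commutes c (h x)
  have hinj : Function.Injective Φ.toLinearMap := Φ.toRingHom.injective
  exact ⟨AlgEquiv.ofBijective Φ ⟨hinj,
    (LinearMap.injective_iff_surjective_of_finrank_eq_finrank (f := Φ.toLinearMap)
      (by simp [Module.finrank_tensorProduct])).mp hinj⟩⟩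

/-- Restriction of Brauer classes to an extension field. -/
noncomputable def res : Br k →* Br K where
  toFun := Quotient.map (fun X : CSA.{u, u} k => toCSA K (K ⊗[k] X)) fun X X' hX => by
    obtain ⟨n, m, hn, hm, ⟨e⟩⟩ := hX
    obtain ⟨g⟩ := toCSA_equiv K (K ⊗[k] X)
    obtain ⟨g'⟩ := toCSA_equiv K (K ⊗[k] X')
    exact ⟨n, m, hn, hm, ⟨g.mapMatrix.trans <| ((baseChangeMatrixEquiv k X K (Fin n)).symm.trans <|
      (baseChangeCongr K e).trans (baseChangeMatrixEquiv k X' K (Fin m))).trans g'.symm.mapMatrix⟩⟩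
  map_one' := by
    obtain ⟨e⟩ := toCSA_equiv k k
    exact cl_congr ((baseChangeCongr K e).trans (Algebra.TensorProduct.rid k K K))
  map_mul' x y := by
    obtain ⟨X, rfl⟩ := cl_surjective x
    obtain ⟨Y, rfl⟩ := cl_surjective y
    obtain ⟨eX⟩ := toCSA_equiv k X
    obtain ⟨eY⟩ := toCSA_equiv k Y
    obtain ⟨eXY⟩ := toCSA_equiv k (X ⊗[k] Y)
    obtain ⟨f⟩ := nonempty_baseChangeTensor (k := k) K X Y
    rw [← cl_tensor]
    change cl K (K ⊗[k] (toCSA k (X ⊗[k] Y))) = cl K (K ⊗[k] (toCSA k X)) * cl K (K ⊗[k] (toCSA k Y))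
    rw [cl_congr (baseChangeCongr K eX), cl_congr (baseChangeCongr K eY), ← cl_tensor]
    exact cl_congr ((baseChangeCongr K eXY).trans f)

theorem res_cl (A : Type v) [Ring A] [Algebra k A] [Algebra.IsCentral k A] [IsSimpleRing A]
    [FiniteDimensional k A] : res K (cl k A) = cl K (K ⊗[k] A) := by
  obtain ⟨eA⟩ := toCSA_equiv k A
  exact cl_congr (baseChangeCongr K eA)

theorem splits_iff_res_eq_one {A : Type v} [Ring A] [Algebra k A] [Algebra.IsCentral k A]
    [IsSimpleRing A] [FiniteDimensional k A] : Curves.Splits k A K ↔ res K (cl k A) = 1 := by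
  rw [res_cl, ← splits_iff_cl_eq_one, splits_self_iff]
  rfl

end Res

end Groth.Agent.Csa25
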