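import Groth.Agent.Props58.PullTensor
import Mathlib.AlgebraicGeometry.Modules.Sheaf

/-!
# The action of deck transformations on sections of a pulled back invertible module
-/

set_option autoImplicit false
set_option backward.isDefEq.respectTransparency.types false

open CategoryTheory CategoryTheory.Limits AlgebraicGeometry TopologicalSpace

noncomputable section

namespace Groth.Agent.Csa25

universe u

open Var76.LineBundle Var76.ZeroScheme Amp73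

variable {P X : Scheme.{u}}

theorem pullbackCongr_app_pullS {Y : Scheme.{u}} {a b : P ⟶ Y} (h : a = b) (M : Y.Modules) (U : Y.Opens) (m : Γ(M, U)) :
    ((Scheme.Modules.pullbackCongr h).hom.app M).app (a ⁻¹ᵁ U) (pullS a M U m) =
      res _ (by rw [h]) (pullS b M U m) := by
  subst h
  rw [res_self]
  rfl

variable {π : P ⟶ X} {L : X.Modules} {O : P.Modules} (β : (Scheme.Modules.pullback π).obj L ≅ O)

/-- The action of `l` on sections. -/
def secTr (l : P ⟶ P) (hl : l ≫ π = π) (U : P.Opens) (t : Γ(O, U)) : Γ(O, l ⁻¹ᵁ U) :=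
  β.hom.app (l ⁻¹ᵁ U) (((Scheme.Modules.pullbackCongr hl).hom.app L).app (l ⁻¹ᵁ U)
    (((Scheme.Modules.pullbackComp l π).hom.app L).app (l ⁻¹ᵁ U)
      (pullS l ((Scheme.Modules.pullback π).obj L) U (β.inv.app U t))))

variable (l : P ⟶ P) (hl : l ≫ π = π)

theorem secTr_res {U V : P.Opens} (h : V ≤ U) (t : Γ(O, U)) :
    secTr β l hl V (res O h t) = res O (l.preimage_mono h) (secTr β l hl U t) := by
  let φ₁ := ((Scheme.Modules.pullbackComp l π).hom.app L)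
  let φ₂ := ((Scheme.Modules.pullbackCongr hl).hom.app L)
  have e1 : pullS l ((Scheme.Modules.pullback π).obj L) V (β.inv.app V (res O h t)) =
      res _ (l.preimage_mono h) (pullS l ((Scheme.Modules.pullback π).obj L) U (β.inv.app U t)) :=
    (congrArg (pullS l ((Scheme.Modules.pullback π).obj L) V) (Mero90.app_res β.inv h t)).trans
      (res_pullS l _ h _).symm
  have e2 := (congrArg (φ₁.app (l ⁻¹ᵁ V)) e1).trans (Mero90.app_res φ₁ (l.preimage_mono h) _)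
  have e3 := (congrArg (φ₂.app (l ⁻¹ᵁ V)) e2).trans (Mero90.app_res φ₂ (l.preimage_mono h) _)
  exact (congrArg (β.hom.app (l ⁻¹ᵁ V)) e3).trans (Mero90.app_res β.hom (l.preimage_mono h) _)

theorem secTr_smul (U : P.Opens) (a : Γ(P, U)) (t : Γ(O, U)) :
    secTr β l hl U (a • t) = l.app U a • secTr β l hl U t := by
  simp only [secTr, Scheme.Modules.Hom.app_smul, pullS_smul]

theorem isFrame_secTr {U : P.Opens} {t : Γ(O, U)} (ht : IsFrame O U t) :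
    IsFrame O (l ⁻¹ᵁ U) (secTr β l hl U t) := by
  refine (isFrame_app_iff _ _).2 ((isFrame_app_iff _ _).2 ((isFrame_app_iff _ _).2 ?_))
  exact Props58.PullTensor.isFrame_pullS l ((isFrame_app_iff _ _).2 ht)

/-- Sections coming from below are fixed. -/
theorem secTr_pullS (U : X.Opens) (s : Γ(L, U)) :
    secTr β l hl (π ⁻¹ᵁ U) (β.hom.app (π ⁻¹ᵁ U) (pullS π L U s)) =
      res O (le_of_eq (congrArg (fun g : P ⟶ X => g ⁻¹ᵁ U) hl)) (β.hom.app (π ⁻¹ᵁ U) (pullS π L U s)) := by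
  have e1 : β.inv.app (π ⁻¹ᵁ U) (β.hom.app (π ⁻¹ᵁ U) (pullS π L U s)) = pullS π L U s :=
    ConcreteCategory.congr_hom (congrArg (fun g => Scheme.Modules.Hom.app g (π ⁻¹ᵁ U)) β.hom_inv_id) _
  have e2 : ((Scheme.Modules.pullbackComp l π).hom.app L).app (l ⁻¹ᵁ (π ⁻¹ᵁ U))
      (pullS l ((Scheme.Modules.pullback π).obj L) (π ⁻¹ᵁ U) (pullS π L U s)) = pullS (l ≫ π) L U s := by
    rw [← Props58.PullTensor.pullS_comp]
    exact ConcreteCategory.congr_hom (congrArg (fun g => Scheme.Modules.Hom.app g ((l ≫ π) ⁻¹ᵁ U))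
      ((Scheme.Modules.pullbackComp l π).inv_hom_id_app L)) _
  rw [secTr, e1, e2, ← Mero90.app_res]
  exact congrArg (β.hom.app _) (pullbackCongr_app_pullS hl L U s)

/-- The action is multiplicative. -/
theorem secTr_comp (hL : PicF.IsInvertible L) (l₁ l₂ l₃ : P ⟶ P) (h₁ : l₁ ≫ π = π) (h₂ : l₂ ≫ π = π) (h₃ : l₃ ≫ π = π)
    (h : l₁ ≫ l₂ = l₃) (U : P.Opens) (t : Γ(O, U)) :
    secTr β l₁ h₁ (l₂ ⁻¹ᵁ U) (secTr β l₂ h₂ U t) =
      res O (le_of_eq (congrArg (fun g : P ⟶ P => g ⁻¹ᵁ U) h)) (secTr β l₃ h₃ U t) := by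
  subst h
  rw [res_self]
  refine eq_of_locally O _ _ fun x hx => ?_
  obtain ⟨V, hxV, s, hs⟩ := Mero90.exists_frame' hL (π x)
  let f := β.hom.app (π ⁻¹ᵁ V) (pullS π L V s)
  have hf : IsFrame O (π ⁻¹ᵁ V) f := (isFrame_app_iff _ _).2 (Props58.PullTensor.isFrame_pullS π hs)
  let W := U ⊓ π ⁻¹ᵁ V
  obtain ⟨a, ha⟩ := (hf W inf_le_right).2 (res O inf_le_left t)
  dsimp only at ha
  have hπ : ∀ (l : P ⟶ P), l ≫ π = π → π ⁻¹ᵁ V ≤ l ⁻¹ᵁ (π ⁻¹ᵁ V) := fun l hl =>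
    le_of_eq (congrArg (fun g : P ⟶ X => g ⁻¹ᵁ V) hl).symm
  have hfix : ∀ (l : P ⟶ P) (hl : l ≫ π = π) (W' : P.Opens) (hW' : W' ≤ π ⁻¹ᵁ V),
      secTr β l hl W' (res O hW' f) =
        res O ((l.preimage_mono hW').trans (le_of_eq (congrArg (fun g : P ⟶ X => g ⁻¹ᵁ V) hl))) f :=
    fun l hl W' hW' => by
      rw [secTr_res, secTr_pullS]
      exact res_res _ _ _ _
  have hxW : x ∈ (l₁ ≫ l₂) ⁻¹ᵁ W := ⟨hx, by
    have := hπ (l₁ ≫ l₂) h₃ (show x ∈ π ⁻¹ᵁ V from hxV)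
    exact this⟩
  refine ⟨(l₁ ≫ l₂) ⁻¹ᵁ W, (l₁ ≫ l₂).preimage_mono inf_le_left, hxW, ?_⟩
  refine Eq.trans ?_ (secTr_res β (l₁ ≫ l₂) h₃ (inf_le_left : W ≤ U) t)
  refine Eq.trans ((secTr_res β l₁ h₁ (l₂.preimage_mono (inf_le_left : W ≤ U)) _).symm) ?_
  rw [← secTr_res β l₂ h₂ (inf_le_left : W ≤ U) t, ← ha]
  rw [secTr_smul, hfix l₂ h₂ W inf_le_right, secTr_smul,
    hfix l₁ h₁ (l₂ ⁻¹ᵁ W) ((l₂.preimage_mono inf_le_right).trans (le_of_eq (congrArg (fun g : P ⟶ X => g ⁻¹ᵁ V) h₂))),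
    secTr_smul, hfix (l₁ ≫ l₂) h₃ W inf_le_right]
  rfl

end Groth.Agent.Csa25
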