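import Groth.Agent.Csa25.Cyclic
import Groth.Agent.Csa25.BrauerGroup
import Groth.Agent.Csa25.TensorPower
import Groth.Agent.Csa77.SplittingIff
import Mathlib.RingTheory.Unramified.Finite
import Mathlib.RingTheory.Unramified.Field
import Mathlib.RingTheory.Flat.Basic

/-!
# Brauer classes of cyclic algebras
-/

set_option autoImplicit false
set_option linter.unusedSectionVars false
set_option linter.style.haveILetI false
open scoped TensorProduct Groth.Agent.Csa25
open Module

namespace Groth.Agent.Csa25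

universe u v w x y

section General

variable {k : Type u} [Field k]

/-- A central simple algebra acting on a space `M` with `(dim M)² ≤` its dimension is split. -/
theorem cl_eq_one_of_action {X : Type v} [Ring X] [Algebra k X] [Algebra.IsCentral k X] [IsSimpleRing X]
    [FiniteDimensional k X] {M : Type w} [AddCommGroup M] [Module k M] [FiniteDimensional k M]
    [Nontrivial M] (ρ : X →ₐ[k] Module.End k M) (h : finrank k M * finrank k M ≤ finrank k X) :
    cl k X = 1 := by
  have hinj : Function.Injective ρ := ρ.toRingHom.injective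
  have hdim : finrank k X = finrank k (Module.End k M) := by
    apply le_antisymm (LinearMap.finrank_le_finrank_of_injective (f := ρ.toLinearMap) hinj)
    rwa [Module.finrank_linearMap]
  have hbij : Function.Bijective ρ := ⟨hinj,
    (LinearMap.injective_iff_surjective_of_finrank_eq_finrank (f := ρ.toLinearMap) hdim).1 hinj⟩
  refine splits_iff_cl_eq_one.1 (splits_self_iff.2 ⟨finrank k M, Module.finrank_pos.ne', ⟨?_⟩⟩)
  exact (AlgEquiv.ofBijective ρ hbij).trans (algEquivMatrix (Module.finBasis k M))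

end General

variable {k : Type u} [Field k] {K : Type v} [Field K] [Algebra k K] [FiniteDimensional k K]
  [IsGalois k K] {σ : K ≃ₐ[k] K}

/-- The separability element is fixed by the diagonal Galois action. -/
theorem elem_fixed (σ : K ≃ₐ[k] K) :
    haveI : Algebra.FormallyUnramified k K := Algebra.FormallyUnramified.of_isSeparable k K
    Algebra.TensorProduct.map σ.toAlgHom σ.toAlgHom (Algebra.FormallyUnramified.elem k K) =
      Algebra.FormallyUnramified.elem k K := by
  haveI : Algebra.FormallyUnramified k K := Algebra.FormallyUnramified.of_isSeparable k K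
  set e := Algebra.FormallyUnramified.elem k K with he
  set e' := Algebra.TensorProduct.map σ.toAlgHom σ.toAlgHom e with he'
  have h1 : ∀ s : K, ((1 : K) ⊗ₜ[k] s) * e = (s ⊗ₜ[k] (1 : K)) * e :=
    Algebra.FormallyUnramified.one_tmul_mul_elem
  have hl : Algebra.TensorProduct.lmul' k e = 1 := Algebra.FormallyUnramified.lmul_elem
  have h1' : ∀ s : K, ((1 : K) ⊗ₜ[k] s) * e' = (s ⊗ₜ[k] (1 : K)) * e' := by
    intro s
    obtain ⟨s, rfl⟩ := σ.surjective s
    have := congrArg (Algebra.TensorProduct.map σ.toAlgHom σ.toAlgHom) (h1 s)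
    simpa [map_mul] using this
  have hl' : Algebra.TensorProduct.lmul' k e' = 1 := by
    have : ∀ z : K ⊗[k] K, Algebra.TensorProduct.lmul' k (Algebra.TensorProduct.map σ.toAlgHom σ.toAlgHom z) =
        σ (Algebra.TensorProduct.lmul' k z) := fun z => by
      induction z using TensorProduct.induction_on with
      | zero => simp
      | tmul a b => simp
      | add a b ha hb => simp [ha, hb]
    rw [he', this, hl, map_one]
  have key : ∀ f : K ⊗[k] K, (∀ s : K, ((1 : K) ⊗ₜ[k] s) * f = (s ⊗ₜ[k] (1 : K)) * f) →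
      ∀ z : K ⊗[k] K, z * f = (Algebra.TensorProduct.lmul' k z ⊗ₜ[k] (1 : K)) * f := by
    intro f hf z
    induction z using TensorProduct.induction_on with
    | zero => simp
    | tmul a b =>
      rw [Algebra.TensorProduct.lmul'_apply_tmul,
        show a ⊗ₜ[k] b = (a ⊗ₜ[k] (1 : K)) * ((1 : K) ⊗ₜ[k] b) by simp, mul_assoc, hf, ← mul_assoc]
      congr 1
      simp
    | add a b ha hb => simp [add_mul, ha, hb, map_add, TensorProduct.add_tmul]
  have a1 := key e h1 e'
  have a2 := key e' h1' e
  rw [hl', ← Algebra.TensorProduct.one_def, one_mul] at a1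
  rw [hl, ← Algebra.TensorProduct.one_def, one_mul] at a2
  rw [← a2, mul_comm, a1]

variable {b b' : kˣ}

/-- The class of a tensor product of cyclic algebras is the class of the product. -/
theorem cl_cyc_mul (hσ : ∀ τ : K ≃ₐ[k] K, τ ∈ Subgroup.zpowers σ)
    {A : Type w} [Ring A] [Algebra k A] {ι : K →ₐ[k] A} {yA : A} (h : CycPres σ b ι yA)
    {A' : Type x} [Ring A'] [Algebra k A'] {ι' : K →ₐ[k] A'} {y' : A'} (h' : CycPres σ b' ι' y')
    {C : Type y} [Ring C] [Algebra k C] {ι'' : K →ₐ[k] C} {y'' : C} (h'' : CycPres σ (b * b') ι'' y'')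
    [Algebra.IsCentral k A] [IsSimpleRing A] [FiniteDimensional k A]
    [Algebra.IsCentral k A'] [IsSimpleRing A'] [FiniteDimensional k A']
    [Algebra.IsCentral k C] [IsSimpleRing C] [FiniteDimensional k C] :
    cl k A * cl k A' = cl k C := by
  classical
  haveI : Algebra.FormallyUnramified k K := Algebra.FormallyUnramified.of_isSeparable k K
  let T := A ⊗[k] A'
  let J : K ⊗[k] K →ₐ[k] T := Algebra.TensorProduct.map ι ι'
  set e0 := Algebra.FormallyUnramified.elem k K with he0
  let e : T := J e0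
  let Y : T := yA ⊗ₜ[k] y'
  let L : K →ₐ[k] T := Algebra.TensorProduct.includeLeft.comp ι
  have hY : ∀ z : K ⊗[k] K, J z * Y = Y * J (Algebra.TensorProduct.map σ.toAlgHom σ.toAlgHom z) := by
    intro z
    induction z using TensorProduct.induction_on with
    | zero => simp
    | tmul a c =>
      show (ι a ⊗ₜ[k] ι' c) * (yA ⊗ₜ[k] y') = (yA ⊗ₜ[k] y') * (ι (σ a) ⊗ₜ[k] ι' (σ c))
      rw [Algebra.TensorProduct.tmul_mul_tmul, Algebra.TensorProduct.tmul_mul_tmul, h.comm, h'.comm]
    | add a c ha hc => simp [add_mul, mul_add, ha, hc]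
  have heY : e * Y = Y * e := by rw [hY, elem_fixed]
  have hrel : CycRel σ (b * b') L Y := by
    refine ⟨?_, fun u => ?_⟩
    · rw [Algebra.TensorProduct.tmul_pow, h.pow, h'.pow, Units.val_mul, mul_comm (b : k),
        Algebra.algebraMap_eq_smul_one (A := T), mul_smul, Algebra.algebraMap_eq_smul_one (A := A),
        Algebra.algebraMap_eq_smul_one (A := A'), TensorProduct.tmul_smul, ← TensorProduct.smul_tmul',
        Algebra.TensorProduct.one_def]
    · have := hY (u ⊗ₜ[k] (1 : K))
      change (ι u ⊗ₜ[k] ι' 1) * Y = Y * (ι (σ u) ⊗ₜ[k] ι' (σ 1)) at this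
      rw [map_one, map_one, map_one] at this
      exact this
  obtain ⟨ψ, hψι, hψy⟩ := h''.exists_lift hrel
  have hLe : ∀ u, L u * e = e * L u := fun u => by
    show L u * J e0 = J e0 * L u
    rw [show L u = J (u ⊗ₜ[k] 1) from congrArg (ι u ⊗ₜ[k] ·) (map_one ι').symm, ← map_mul, ← map_mul, mul_comm]
  have hψe : ∀ c : C, ψ c * e = e * ψ c := by
    intro c
    obtain ⟨f, rfl⟩ := h''.span_bijective.2 c
    rw [CycRel.span_apply, map_sum, Finset.sum_mul, Finset.mul_sum]
    refine Finset.sum_congr rfl fun i _ => ?_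
    rw [map_mul, map_pow, hψy, hψι, mul_assoc, hLe, ← mul_assoc]
    rw [show Y ^ (i : ℕ) * e = e * Y ^ (i : ℕ) from (Commute.pow_left heY.symm _).eq, mul_assoc]
  let M : Submodule k T := LinearMap.range (LinearMap.mulRight k e)
  have hM : ∀ t : T, t * e ∈ M := fun t => ⟨t, rfl⟩
  let lft : T →ₐ[k] Module.End k M :=
    { toFun := fun t =>
        { toFun := fun m => ⟨t * (m : T), by
            obtain ⟨s, hs⟩ := m.2
            rw [← hs, LinearMap.mulRight_apply, ← mul_assoc]; exact hM _⟩
          map_add' := fun m m' => Subtype.ext (mul_add _ _ _)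
          map_smul' := fun c m => Subtype.ext (mul_smul_comm c _ _) }
      map_one' := LinearMap.ext fun m => Subtype.ext (one_mul _)
      map_mul' := fun s t => LinearMap.ext fun m => Subtype.ext (mul_assoc _ _ _)
      map_zero' := LinearMap.ext fun m => Subtype.ext (zero_mul _)
      map_add' := fun s t => LinearMap.ext fun m => Subtype.ext (add_mul _ _ _)
      commutes' := fun c => LinearMap.ext fun m => Subtype.ext (Algebra.smul_def c (m : T)).symm }
  let rgt : Cᵐᵒᵖ →ₐ[k] Module.End k M :=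
    { toFun := fun c =>
        { toFun := fun m => ⟨(m : T) * ψ c.unop, by
            obtain ⟨s, hs⟩ := m.2
            rw [← hs, LinearMap.mulRight_apply, mul_assoc, ← hψe, ← mul_assoc]; exact hM _⟩
          map_add' := fun m m' => Subtype.ext (add_mul _ _ _)
          map_smul' := fun a m => Subtype.ext (smul_mul_assoc a _ _) }
      map_one' := LinearMap.ext fun m => Subtype.ext (by simp)
      map_mul' := fun c d => LinearMap.ext fun m => Subtype.ext (by simp [mul_assoc])
      map_zero' := LinearMap.ext fun m => Subtype.ext (by simp)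
      map_add' := fun c d => LinearMap.ext fun m => Subtype.ext (by simp [mul_add])
      commutes' := fun a => LinearMap.ext fun m => Subtype.ext (by
        simp [Algebra.smul_def, Algebra.commutes]) }
  let ρ : T ⊗[k] Cᵐᵒᵖ →ₐ[k] Module.End k M := Algebra.TensorProduct.lift lft rgt
    (fun t c => LinearMap.ext fun m => Subtype.ext (mul_assoc _ _ _).symm)
  let Θ : (Fin (finrank k K) × Fin (finrank k K) → K) →ₗ[k] T :=
    ∑ p : Fin (finrank k K) × Fin (finrank k K),
      ((LinearMap.mulLeft k ((yA ^ (p.1 : ℕ)) ⊗ₜ[k] (y' ^ (p.2 : ℕ)) : T)).comp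
        ((LinearMap.mulRight k e).comp L.toLinearMap)).comp (LinearMap.proj p)
  have hΘ : M ≤ LinearMap.range Θ := by
    rintro _ ⟨t, rfl⟩
    induction t using TensorProduct.induction_on with
    | zero => simp
    | tmul a a' =>
      obtain ⟨f, rfl⟩ := h.span_bijective.2 a
      obtain ⟨g, rfl⟩ := h'.span_bijective.2 a'
      refine ⟨fun p => f p.1 * g p.2, ?_⟩
      rw [LinearMap.mulRight_apply, CycRel.span_apply, CycRel.span_apply]
      simp only [Θ, LinearMap.sum_apply, LinearMap.comp_apply, LinearMap.proj_apply,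
        LinearMap.mulLeft_apply, LinearMap.mulRight_apply, AlgHom.toLinearMap_apply]
      rw [TensorProduct.sum_tmul, Finset.sum_mul, Fintype.sum_prod_type]
      refine Finset.sum_congr rfl fun i _ => ?_
      rw [TensorProduct.tmul_sum, Finset.sum_mul]
      refine Finset.sum_congr rfl fun j _ => ?_
      rw [← Algebra.TensorProduct.tmul_mul_tmul, mul_assoc]
      congr 1
      show L (f i * g j) * J e0 = _
      rw [show L (f i * g j) = J ((f i * g j) ⊗ₜ[k] 1) from
          congrArg (ι (f i * g j) ⊗ₜ[k] ·) (map_one ι').symm]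
      show _ = J (f i ⊗ₜ[k] g j) * J e0
      rw [← map_mul, ← map_mul, show f i ⊗ₜ[k] g j = (f i ⊗ₜ[k] (1 : K)) * ((1 : K) ⊗ₜ[k] g j) by simp,
        mul_assoc, Algebra.FormallyUnramified.one_tmul_mul_elem, ← mul_assoc]
      simp [he0]
    | add s t hs ht => rw [map_add]; exact add_mem hs ht
  have hdM : finrank k M ≤ finrank k K * finrank k K * finrank k K := by
    refine (Submodule.finrank_mono hΘ).trans ((LinearMap.finrank_range_le Θ).trans (le_of_eq ?_))
    simp [Module.finrank_pi_fintype]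
  have : Nontrivial A := h.nontrivial
  have : Nontrivial A' := h'.nontrivial
  have hne : e ≠ 0 := by
    have hJ : Function.Injective J :=
      TensorProduct.map_injective_of_flat_flat ι.toLinearMap ι'.toLinearMap
        ι.toRingHom.injective ι'.toRingHom.injective
    intro h0
    have : e0 = 0 := hJ (h0.trans (map_zero J).symm)
    have := congrArg (Algebra.TensorProduct.lmul' k) this
    rw [map_zero, he0, Algebra.FormallyUnramified.lmul_elem] at this
    exact one_ne_zero this
  have : Nontrivial M := ⟨⟨⟨(1 : T) * e, hM 1⟩, 0, fun h0 => hne (by simpa using congrArg Subtype.val h0)⟩⟩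
  have hone := cl_eq_one_of_action ρ (by
    rw [Module.finrank_tensorProduct, Module.finrank_tensorProduct, h.dim, h'.dim,
      ← (MulOpposite.opLinearEquiv k : C ≃ₗ[k] Cᵐᵒᵖ).finrank_eq, h''.dim]
    refine (Nat.mul_le_mul hdM hdM).trans (le_of_eq ?_)
    ring)
  rw [cl_tensor, cl_tensor, cl_op, mul_inv_eq_one] at hone
  exact hone

/-- The trivial cyclic algebra is split. -/
theorem cl_cyc_one (hσ : ∀ τ : K ≃ₐ[k] K, τ ∈ Subgroup.zpowers σ)
    {A : Type w} [Ring A] [Algebra k A] {ι : K →ₐ[k] A} {yA : A} (h : CycPres σ 1 ι yA)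
    [Algebra.IsCentral k A] [IsSimpleRing A] [FiniteDimensional k A] : cl k A = 1 := by
  have hpow : ∀ (i : ℕ) (x : K), ((σ.symm.toLinearMap : Module.End k K) ^ i) x = (σ.symm ^ i) x := by
    intro i
    induction i with
    | zero => intro x; simp
    | succ i ih => intro x; rw [pow_succ', pow_succ', Module.End.mul_apply, ih]; rfl
  have hrel : CycRel σ 1 (Algebra.lmul k K) (σ.symm.toLinearMap : Module.End k K) := by
    refine ⟨LinearMap.ext fun x => ?_, fun u => LinearMap.ext fun x => ?_⟩
    · rw [hpow, show σ.symm = σ⁻¹ from rfl, inv_pow, pow_finrank_eq_one hσ, inv_one, Units.val_one,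
        map_one]
      rfl
    · show u * σ.symm x = σ.symm (σ u * x)
      rw [map_mul, σ.symm_apply_apply]
  obtain ⟨φ, -, -⟩ := h.exists_lift hrel
  exact cl_eq_one_of_action φ (by rw [h.dim, sq])

/-- `cl` of a cyclic algebra is one exactly for norms. -/
theorem cl_cyc_eq_one_iff (hσ : ∀ τ : K ≃ₐ[k] K, τ ∈ Subgroup.zpowers σ)
    {A : Type w} [Ring A] [Algebra k A] {ι : K →ₐ[k] A} {yA : A} (h : CycPres σ b ι yA)
    [Algebra.IsCentral k A] [IsSimpleRing A] [FiniteDimensional k A] :
    cl k A = 1 ↔ ∃ x : K, Algebra.norm k x = (b : k) := by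
  classical
  obtain ⟨ι₁, y₁, h₁⟩ := exists_cycPres_cycAlg (σ := σ) hσ (1 : kˣ)
  have := h₁.isCentral hσ
  have := h₁.isSimpleRing hσ
  have := h₁.finiteDimensional
  constructor
  · intro hA
    obtain ⟨θ⟩ := nonempty_algEquiv_of_cl_eq ((cl_cyc_one hσ h₁).trans hA.symm)
      (h₁.dim.trans h.dim.symm)
    have := h.nontrivial
    obtain ⟨g, hg⟩ := exists_unit_conj (θ.toAlgHom.comp ι₁) ι
    set z := (g : A) * θ y₁ * ((g⁻¹ : Aˣ) : A) with hz
    have hzc : ∀ u, ι u * z = z * ι (σ u) := fun u => by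
      simp only [hg, hz, AlgHom.comp_apply, mul_assoc, Units.inv_mul_cancel_left]
      rw [← mul_assoc (θ.toAlgHom (ι₁ u)), show θ.toAlgHom (ι₁ u) * θ y₁ = θ y₁ * θ.toAlgHom (ι₁ (σ u)) by
        simp [← map_mul, h₁.comm], mul_assoc]
    obtain ⟨v, hv⟩ := h.exists_eq_gen_mul hσ hzc
    have hz1 : z ^ finrank k K = 1 := by
      have hy1 : θ (y₁ ^ finrank k K) = 1 := by
        rw [h₁.pow]
        exact (θ.commutes _).trans (by simp)
      rw [hz, Units.conj_pow, ← map_pow, hy1, mul_one, Units.mul_inv]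
    rw [hv, h.toCycRel.mul_pow, h.pow, partNorm_finrank hσ, AlgHom.commutes, ← map_mul,
      ← map_one (algebraMap k A)] at hz1
    have hbv : (b : k) * Algebra.norm k v = 1 := (algebraMap k A).injective hz1
    refine ⟨v⁻¹, ?_⟩
    have hv0 : v ≠ 0 := by
      rintro rfl
      rw [Algebra.norm_zero, mul_zero] at hbv
      exact zero_ne_one hbv
    have h1 : Algebra.norm k v⁻¹ * Algebra.norm k v = 1 := by
      rw [← map_mul, inv_mul_cancel₀ hv0, map_one]
    exact mul_right_cancel₀ (right_ne_zero_of_mul_eq_one hbv) (h1.trans hbv.symm)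
  · rintro ⟨x, hx⟩
    have hrel := h.toCycRel.twist (x := x⁻¹) (c := b⁻¹) (by
      have hx0 : x ≠ 0 := by
        rintro rfl
        exact b.ne_zero (hx.symm.trans Algebra.norm_zero)
      have h1 : Algebra.norm k x⁻¹ * Algebra.norm k x = 1 := by
        rw [← map_mul, inv_mul_cancel₀ hx0, map_one]
      rw [partNorm_finrank hσ, Units.val_inv_eq_inv_val, ← hx]
      exact congrArg _ (eq_inv_of_mul_eq_one_left h1))
    rw [mul_inv_cancel] at hrel
    have := h.nontrivial
    exact cl_cyc_one hσ (CycRel.toPres hσ h₁ hrel h.dim)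

/-- Powers of a cyclic algebra. -/
theorem cl_cyc_pow (hσ : ∀ τ : K ≃ₐ[k] K, τ ∈ Subgroup.zpowers σ)
    {A : Type w} [Ring A] [Algebra k A] {ι : K →ₐ[k] A} {yA : A} (h : CycPres σ b ι yA)
    [Algebra.IsCentral k A] [IsSimpleRing A] [FiniteDimensional k A] (e : ℕ) :
    cl k A ^ e = 1 ↔ ∃ x : K, Algebra.norm k x = (b : k) ^ e := by
  have key : ∀ e : ℕ, ∀ ι' y', ∀ (_ : CycPres σ (b ^ e) (A := cycAlg σ (finrank k K) ((b ^ e : kˣ) : k)) ι' y')
      [Algebra.IsCentral k (cycAlg σ (finrank k K) ((b ^ e : kˣ) : k))]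
      [IsSimpleRing (cycAlg σ (finrank k K) ((b ^ e : kˣ) : k))]
      [FiniteDimensional k (cycAlg σ (finrank k K) ((b ^ e : kˣ) : k))],
      cl k A ^ e = cl k (cycAlg σ (finrank k K) ((b ^ e : kˣ) : k)) := by
    intro e
    induction e with
    | zero =>
      intro ι' y' h' _ _ _
      rw [pow_zero (cl k A), (cl_cyc_eq_one_iff hσ h').2 ⟨1, by simp⟩]
    | succ e ih =>
      intro ι' y' h' _ _ _
      obtain ⟨ι₀, y₀, h₀⟩ := exists_cycPres_cycAlg (σ := σ) hσ (b ^ e)
      have := h₀.isCentral hσ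
      have := h₀.isSimpleRing hσ
      have := h₀.finiteDimensional
      rw [pow_succ (cl k A), ih ι₀ y₀ h₀]
      exact cl_cyc_mul hσ h₀ h (C := cycAlg σ (finrank k K) ((b ^ (e + 1) : kˣ) : k))
        (ι'' := ι') (y'' := y') (by
          have hb : b ^ (e + 1) = b ^ e * b := pow_succ b e
          exact ⟨⟨by rw [← hb]; exact h'.pow, h'.comm⟩, h'.gen, h'.dim⟩)
  obtain ⟨ι', y', h'⟩ := exists_cycPres_cycAlg (σ := σ) hσ (b ^ e)
  have := h'.isCentral hσ
  have := h'.isSimpleRing hσ
  have := h'.finiteDimensional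
  rw [key e ι' y' h', cl_cyc_eq_one_iff hσ h', Units.val_pow_eq_pow_val]

/-- An algebra of degree `[K : k]` split by cyclic `K` is cyclic. -/
theorem exists_cycPres_of_embedding (hσ : ∀ τ : K ≃ₐ[k] K, τ ∈ Subgroup.zpowers σ)
    {A : Type w} [Ring A] [Algebra k A] [Algebra.IsCentral k A] [IsSimpleRing A] [FiniteDimensional k A]
    (hdim : finrank k A = finrank k K ^ 2) (ι : K →ₐ[k] A) :
    ∃ (b : kˣ) (yA : A), CycPres σ b ι yA := by
  obtain ⟨g, hg⟩ := exists_unit_conj ι (ι.comp σ.toAlgHom)
  set yA := ((g⁻¹ : Aˣ) : A) with hy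
  have hcomm : ∀ u, ι u * yA = yA * ι (σ u) := fun u => by
    have := hg u
    rw [show ι (σ u) = (ι.comp σ.toAlgHom) u from rfl, this, hy]
    simp [← mul_assoc]
  have hpowc : ∀ (i : ℕ) (u : K), ι u * yA ^ i = yA ^ i * ι ((σ ^ i) u) := by
    intro i
    induction i with
    | zero => intro u; simp
    | succ i ih =>
      intro u
      rw [pow_succ' yA, ← mul_assoc, hcomm, mul_assoc, ih, ← mul_assoc, pow_succ σ, AlgEquiv.mul_apply]
  set C := Subalgebra.centralizer k (Set.range ι) with hC
  have hCeq : C = ι.range := by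
    have hle : ι.range ≤ C := by
      rintro _ ⟨u, rfl⟩
      rw [hC, Subalgebra.mem_centralizer_iff]
      rintro _ ⟨v, rfl⟩
      simp [← map_mul, mul_comm]
    have hd := finrank_mul_finrank_centralizer (k := k) ι
    rw [← hC, hdim, sq] at hd
    have hr : finrank k ι.range = finrank k K :=
      ((AlgEquiv.ofInjective ι ι.toRingHom.injective).toLinearEquiv.finrank_eq).symm
    exact (Subalgebra.eq_of_le_of_finrank_eq hle
      (hr.trans (Nat.eq_of_mul_eq_mul_left Module.finrank_pos hd).symm)).symm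
  obtain ⟨w, hw⟩ : yA ^ finrank k K ∈ ι.range := by
    rw [← hCeq, hC, Subalgebra.mem_centralizer_iff]
    rintro _ ⟨u, rfl⟩
    rw [hpowc, pow_finrank_eq_one hσ]
    rfl
  change ι w = _ at hw
  have hwfix : σ w = w := by
    apply ι.toRingHom.injective
    have h1 := hcomm w
    rw [hw, (Commute.pow_self yA _).eq] at h1
    show ι (σ w) = ι w
    rw [hw]
    exact ((g⁻¹).isUnit.mul_left_cancel h1).symm
  obtain ⟨c, rfl⟩ := mem_range_of_fix hσ hwfix
  rw [AlgHom.commutes] at hw
  have hc : c ≠ 0 := by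
    rintro rfl
    rw [map_zero] at hw
    exact ((g⁻¹).isUnit.pow (finrank k K)).ne_zero hw.symm
  obtain ⟨ι₀, y₀, h₀⟩ := exists_cycPres_cycAlg (σ := σ) hσ (Units.mk0 c hc)
  exact ⟨Units.mk0 c hc, yA, CycRel.toPres hσ h₀ ⟨hw.symm, hcomm⟩ hdim⟩

/-- A degree-`[K:k]` matrix algebra over the division part contains `K`. -/
theorem exists_degree_matrix_embedding {D : Type w} [DivisionRing D] [Algebra k D]
    [Algebra.IsCentral k D] [FiniteDimensional k D] (hs : Curves.Splits k D K) :
    ∃ r : ℕ, r ≠ 0 ∧ finrank k (Matrix (Fin r) (Fin r) D) = finrank k K ^ 2 ∧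
      Nonempty (K →ₐ[k] Matrix (Fin r) (Fin r) D) := by
  obtain ⟨d, hd, ⟨e⟩⟩ := hs
  have hdim : finrank k D = d * d := by
    rw [← Module.finrank_baseChange (R := K) (S := k), e.toLinearEquiv.finrank_eq]
    simp [Module.finrank_matrix]
  obtain ⟨r, ι, hr⟩ := Csa77.exists_embedding hdim e
  refine ⟨r, fun h0 => ?_, ?_, ⟨ι⟩⟩
  · rw [h0, zero_mul] at hr; exact Module.finrank_pos.ne hr
  · rw [Module.finrank_matrix, hdim, Fintype.card_fin, ← hr]; ring

end Groth.Agent.Csa25
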