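import Mathlib.RingTheory.SimpleModule.WedderburnArtin
import Mathlib.RingTheory.SimpleModule.Isotypic
import Mathlib.RingTheory.TensorProduct.Free
import Mathlib.RingTheory.TwoSidedIdeal.Operations
import Mathlib.RingTheory.SimpleRing.Congr
import Mathlib.Algebra.Azumaya.Basic
import Mathlib.Algebra.Central.TensorProduct
import Mathlib.LinearAlgebra.FiniteDimensional.Lemmas
import Mathlib.LinearAlgebra.FreeModule.Finite.Matrix
import Mathlib.RingTheory.TensorProduct.Finite

/-!
# Basic theory of central simple algebras over a field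
-/

set_option autoImplicit false
open scoped TensorProduct
open Module MulOpposite

namespace Groth.Agent.Csa25

universe u v w

section Tensor

variable {k : Type u} [Field k] {A : Type v} [Ring A] [Algebra k A]
  {B : Type w} [Ring B] [Algebra k B]

/-- A nonzero two-sided ideal of `A ⊗ B`, `A` central simple, meets `1 ⊗ B`. -/
theorem exists_one_tmul_mem [Algebra.IsCentral k A] [IsSimpleRing A]
    {I : TwoSidedIdeal (A ⊗[k] B)} (hI : I ≠ ⊥) :
    ∃ b : B, b ≠ 0 ∧ (1 : A) ⊗ₜ[k] b ∈ I := by
  classical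
  obtain ⟨ι, ⟨bB⟩⟩ : ∃ ι : Type w, Nonempty (Basis ι k B) :=
    ⟨_, ⟨(Module.Free.chooseBasis k B)⟩⟩
  let bb := Algebra.TensorProduct.basis A bB
  let r : A ⊗[k] B →ₗ[A] ι →₀ A := bb.repr.toLinearMap
  have hr_inj : Function.Injective r := bb.repr.injective
  have hl : ∀ (a : A) (y : A ⊗[k] B), r ((a ⊗ₜ[k] (1:B)) * y) = a • r y := by
    intro a y
    have : (a ⊗ₜ[k] (1:B)) * y = a • y := by
      induction y using TensorProduct.induction_on with
      | zero => simp
      | tmul x b => simp [TensorProduct.smul_tmul', smul_eq_mul]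
      | add x y hx hy => simp [mul_add, hx, hy]
    rw [this, map_smul]
  have hrr : ∀ (a : A) (y : A ⊗[k] B) (i : ι), r (y * (a ⊗ₜ[k] (1:B))) i = r y i * a := by
    intro a y i
    induction y using TensorProduct.induction_on with
    | zero => simp
    | tmul x b =>
      simp only [Algebra.TensorProduct.tmul_mul_tmul, mul_one, r, bb, LinearEquiv.coe_coe,
        Algebra.TensorProduct.basis_repr_tmul, Finsupp.smul_apply, Finsupp.mapRange_apply,
        smul_eq_mul]
      rw [mul_assoc, mul_assoc, Algebra.commutes]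
    | add x y hx hy => simp [add_mul, hx, hy]
  have hne : ∃ n : ℕ, ∃ y ∈ I, y ≠ 0 ∧ (r y).support.card = n := by
    by_contra h
    push Not at h
    exact hI (eq_bot_iff.mpr fun y hy => by
      by_contra hy0
      exact h _ y hy (fun h0 => hy0 (by simp [h0])) rfl)
  obtain ⟨y, hy, hy0, hcard⟩ := Nat.find_spec hne
  have hmin : ∀ z ∈ I, (r z).support.card < (r y).support.card → z = 0 := by
    intro z hz hlt
    by_contra hz0
    exact Nat.find_min hne (hcard ▸ hlt) ⟨z, hz, hz0, rfl⟩
  obtain ⟨i0, hi0⟩ : (r y).support.Nonempty := by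
    rw [Finsupp.support_nonempty_iff]
    exact fun h => hy0 (hr_inj (by simpa using h))
  let J : TwoSidedIdeal A := TwoSidedIdeal.mk'
    {a | ∃ z ∈ I, (r z).support ⊆ (r y).support ∧ r z i0 = a}
    ⟨0, I.zero_mem, by simp, by simp⟩
    (by
      rintro _ _ ⟨z, hz, hzs, rfl⟩ ⟨z', hz', hz's, rfl⟩
      exact ⟨z + z', I.add_mem hz hz', by
        simpa using Finsupp.support_add.trans (Finset.union_subset hzs hz's), by simp⟩)
    (by
      rintro _ ⟨z, hz, hzs, rfl⟩
      exact ⟨-z, I.neg_mem hz, by simpa using hzs, by simp⟩)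
    (by
      rintro a _ ⟨z, hz, hzs, rfl⟩
      exact ⟨(a ⊗ₜ[k] (1:B)) * z, I.mul_mem_left _ _ hz, by
        rw [hl]; exact Finsupp.support_smul.trans hzs, by simp [hl]⟩)
    (by
      rintro _ a ⟨z, hz, hzs, rfl⟩
      exact ⟨z * (a ⊗ₜ[k] (1:B)), I.mul_mem_right _ _ hz, fun i hi => hzs (by
        rw [Finsupp.mem_support_iff] at hi ⊢
        intro h0; exact hi (by rw [hrr, h0, zero_mul])), hrr _ _ _⟩)
  have hJ : (1 : A) ∈ J := by
    have h1 : r y i0 ∈ J := by
      rw [TwoSidedIdeal.mem_mk']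
      exact ⟨y, hy, subset_rfl, rfl⟩
    rcases IsSimpleOrder.eq_bot_or_eq_top J with h | h
    · rw [h, TwoSidedIdeal.mem_bot] at h1
      exact absurd h1 (Finsupp.mem_support_iff.mp hi0)
    · rw [h]; exact trivial
  rw [TwoSidedIdeal.mem_mk'] at hJ
  obtain ⟨z, hz, hzs, hz1⟩ := hJ
  have hz0 : z ≠ 0 := fun h => by simp [h] at hz1
  have hcent : ∀ i, r z i ∈ Subalgebra.center k A := by
    intro i
    rw [Subalgebra.mem_center_iff]
    intro a
    have hw : (a ⊗ₜ[k] (1:B)) * z - z * (a ⊗ₜ[k] (1:B)) = 0 := by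
      apply hmin
      · exact I.sub_mem (I.mul_mem_left _ _ hz) (I.mul_mem_right _ _ hz)
      · refine lt_of_le_of_lt (Finset.card_le_card (t := (r y).support.erase i0) ?_)
          (Finset.card_erase_lt_of_mem hi0)
        intro j hj
        rw [Finsupp.mem_support_iff, map_sub, Finsupp.sub_apply, hl, hrr] at hj
        refine Finset.mem_erase.mpr ⟨fun h => hj (by simp [h, hz1]), hzs ?_⟩
        rw [Finsupp.mem_support_iff]
        intro h0; exact hj (by simp [h0])
    have := congrArg (fun w => r w i) hw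
    simpa [hl, hrr, sub_eq_zero] using this
  choose c hc using fun i => (Algebra.IsCentral.mem_center_iff k).mp (hcent i)
  refine ⟨∑ i ∈ (r z).support, c i • bB i, fun h0 => hz0 ?_, ?_⟩
  all_goals
    have hzb : z = (1:A) ⊗ₜ[k] (∑ i ∈ (r z).support, c i • bB i) := by
      conv_lhs => rw [← bb.linearCombination_repr z]
      rw [Finsupp.linearCombination_apply, TensorProduct.tmul_sum, Finsupp.sum]
      refine Finset.sum_congr rfl fun i _ => ?_
      change r z i • bb i = _
      rw [hc i, algebraMap_smul, TensorProduct.tmul_smul]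
      simp [bb]
  · rw [hzb, h0, TensorProduct.tmul_zero]
  · rwa [← hzb]

/-- The tensor product of a central simple algebra with a simple algebra is simple. -/
theorem isSimpleRing_tensor [Algebra.IsCentral k A] [IsSimpleRing A] [IsSimpleRing B] :
    IsSimpleRing (A ⊗[k] B) := by
  have : Nontrivial (A ⊗[k] B) :=
    Algebra.TensorProduct.nontrivial_of_algebraMap_injective_of_flat_left k A B
      (algebraMap k B).injective
  refine .of_eq_bot_or_eq_top fun I => or_iff_not_imp_left.mpr fun hI => ?_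
  obtain ⟨b, hb, hmem⟩ := exists_one_tmul_mem hI
  let J : TwoSidedIdeal B := I.comap (Algebra.TensorProduct.includeRight : B →ₐ[k] A ⊗[k] B)
  have hJ : J = ⊤ := (IsSimpleOrder.eq_bot_or_eq_top J).resolve_left fun h => hb (by
    have : b ∈ J := by simpa [J, TwoSidedIdeal.mem_comap] using hmem
    rwa [h, TwoSidedIdeal.mem_bot] at this)
  apply TwoSidedIdeal.eq_top
  have : (1 : B) ∈ J := hJ ▸ trivial
  simpa [J, TwoSidedIdeal.mem_comap, Algebra.TensorProduct.one_def] using this

end Tensor

section FiniteDim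

variable (k : Type u) [Field k] (A : Type v) [Ring A] [Algebra k A] [FiniteDimensional k A]

/-- `A ⊗ Aᵒᵖ → End A` is bijective for a finite-dimensional central simple algebra. -/
theorem mulLeftRight_bijective [Algebra.IsCentral k A] [IsSimpleRing A] :
    Function.Bijective (AlgHom.mulLeftRight k A) := by
  have : IsSimpleRing (A ⊗[k] Aᵐᵒᵖ) := isSimpleRing_tensor
  have inj : Function.Injective (AlgHom.mulLeftRight k A) :=
    RingHom.injective (AlgHom.mulLeftRight k A).toRingHom
  refine ⟨inj, (LinearMap.injective_iff_surjective_of_finrank_eq_finrank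
    (f := (AlgHom.mulLeftRight k A).toLinearMap) ?_).mp inj⟩
  rw [finrank_tensorProduct, ← (opLinearEquiv k : A ≃ₗ[k] Aᵐᵒᵖ).finrank_eq, finrank_linearMap]

theorem isAzumaya_of_centralSimple [Algebra.IsCentral k A] [IsSimpleRing A] :
    IsAzumaya k A where
  eq_of_smul_eq_smul {a b} h := (algebraMap k A).injective (by
    simpa [Algebra.algebraMap_eq_smul_one] using h 1)
  bij := mulLeftRight_bijective k A

/-- Modules over a simple finite-dimensional algebra are determined by their dimension. -/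
theorem nonempty_linearEquiv_of_finrank_eq [IsSimpleRing A]
    (M : Type w) [AddCommGroup M] [Module k M] [Module A M] [IsScalarTower k A M] [FiniteDimensional k M]
    (N : Type*) [AddCommGroup N] [Module k N] [Module A N] [IsScalarTower k A N] [FiniteDimensional k N]
    (h : finrank k M = finrank k N) : Nonempty (M ≃ₗ[A] N) := by
  have : IsArtinianRing A := IsArtinianRing.of_finite k A
  have : Module.Finite A M := Module.Finite.of_restrictScalars_finite k A M
  have : Module.Finite A N := Module.Finite.of_restrictScalars_finite k A N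
  rcases subsingleton_or_nontrivial M with hM | hM
  · have : Subsingleton N := finrank_zero_iff.mp (h ▸ finrank_zero_of_subsingleton)
    exact ⟨0, 0, fun _ => Subsingleton.elim _ _, fun _ => Subsingleton.elim _ _⟩
  have : Nontrivial N := nontrivial_of_finrank_pos (R := k) (h ▸ Module.finrank_pos)
  obtain ⟨m, hm, S, hS, ⟨eM⟩⟩ := (IsSimpleRing.isIsotypic A M).linearEquiv_fun
  obtain ⟨n, hn, T, hT, ⟨eN⟩⟩ := (IsSimpleRing.isIsotypic A N).linearEquiv_fun
  let i₁ : S ≃ₗ[A] LinearMap.range (LinearMap.inl A S T) :=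
    LinearEquiv.ofInjective _ LinearMap.inl_injective
  let i₂ : T ≃ₗ[A] LinearMap.range (LinearMap.inr A S T) :=
    LinearEquiv.ofInjective _ LinearMap.inr_injective
  have := IsSimpleModule.congr i₁.symm
  have := IsSimpleModule.congr i₂.symm
  obtain ⟨e⟩ := IsSimpleRing.isIsotypic A (↥S × ↥T) (LinearMap.range (LinearMap.inl A S T))
    (LinearMap.range (LinearMap.inr A S T))
  let f : T ≃ₗ[A] S := i₂ ≪≫ₗ e ≪≫ₗ i₁.symm
  let eN' : N ≃ₗ[A] Fin n → S := eN ≪≫ₗ LinearEquiv.piCongrRight fun _ => f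
  have : FiniteDimensional k S := Module.Finite.of_injective (S.subtype.restrictScalars k) Subtype.val_injective
  have h1 := (eM.restrictScalars k).finrank_eq
  have h2 := (eN'.restrictScalars k).finrank_eq
  rw [Module.finrank_pi_fintype, Finset.sum_const, Finset.card_univ, Fintype.card_fin,
    smul_eq_mul] at h1 h2
  have hSn : Nontrivial S := IsSimpleModule.nontrivial A S
  have hS0 : 0 < finrank k S := Module.finrank_pos
  obtain rfl : m = n := Nat.eq_of_mul_eq_mul_right hS0 (h1.symm.trans (h.trans h2))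
  exact ⟨eM ≪≫ₗ eN'.symm⟩

end FiniteDim

section SkolemNoether

variable {k : Type u} [Field k] {A : Type v} [Ring A] [Algebra k A]
  {B : Type w} [Ring B] [Algebra k B]

/-- `A` with `B` acting on the left through `f` and `A` acting on the right. -/
@[reducible] noncomputable def twistedModule (f : B →ₐ[k] A) : Module (B ⊗[k] Aᵐᵒᵖ) A :=
  Module.compHom A ((AlgHom.mulLeftRight k A).comp
    (Algebra.TensorProduct.map f (AlgHom.id k Aᵐᵒᵖ))).toRingHom

/-- The Skolem--Noether theorem. -/
theorem exists_unit_conj [Algebra.IsCentral k A] [IsSimpleRing A] [FiniteDimensional k A]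
    [IsSimpleRing B] (f g : B →ₐ[k] A) :
    ∃ u : Aˣ, ∀ b : B, g b = u * f b * (u⁻¹ : Aˣ) := by
  have : FiniteDimensional k B := Module.Finite.of_injective f.toLinearMap
    (RingHom.injective f.toRingHom)
  have : IsSimpleRing (Aᵐᵒᵖ ⊗[k] B) := isSimpleRing_tensor
  have : IsSimpleRing (B ⊗[k] Aᵐᵒᵖ) :=
    .of_ringEquiv (Algebra.TensorProduct.comm k Aᵐᵒᵖ B).toRingEquiv this
  let Mf := twistedModule f
  let Mg := twistedModule g
  have tf : @IsScalarTower k (B ⊗[k] Aᵐᵒᵖ) A _ Mf.toSMul _ :=
    @IsScalarTower.mk k (B ⊗[k] Aᵐᵒᵖ) A _ Mf.toSMul _ fun c x a => by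
      change ((AlgHom.mulLeftRight k A).comp
          (Algebra.TensorProduct.map f (AlgHom.id k Aᵐᵒᵖ))) (c • x) a =
        c • ((AlgHom.mulLeftRight k A).comp
          (Algebra.TensorProduct.map f (AlgHom.id k Aᵐᵒᵖ))) x a
      rw [map_smul]; rfl
  have tg : @IsScalarTower k (B ⊗[k] Aᵐᵒᵖ) A _ Mg.toSMul _ :=
    @IsScalarTower.mk k (B ⊗[k] Aᵐᵒᵖ) A _ Mg.toSMul _ fun c x a => by
      change ((AlgHom.mulLeftRight k A).comp
          (Algebra.TensorProduct.map g (AlgHom.id k Aᵐᵒᵖ))) (c • x) a =
        c • ((AlgHom.mulLeftRight k A).comp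
          (Algebra.TensorProduct.map g (AlgHom.id k Aᵐᵒᵖ))) x a
      rw [map_smul]; rfl
  obtain ⟨φ⟩ := @nonempty_linearEquiv_of_finrank_eq k _ (B ⊗[k] Aᵐᵒᵖ) _ _ _ _ A _ _ Mf tf _
    A _ _ Mg tg _ rfl
  let φ' : A → A := @DFunLike.coe _ A (fun _ => A) _ φ
  have hφ : ∀ (b : B) (c x : A), φ' (f b * x * c) = g b * φ' x * c := by
    intro b c x
    have hs1 : @SMul.smul _ _ Mf.toSMul (b ⊗ₜ[k] op c) x = f b * x * c := by
      change (AlgHom.mulLeftRight k A) (f b ⊗ₜ[k] op c) x = _
      simp
    have hs2 : ∀ y, @SMul.smul _ _ Mg.toSMul (b ⊗ₜ[k] op c) y = g b * y * c := by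
      intro y
      change (AlgHom.mulLeftRight k A) (g b ⊗ₜ[k] op c) y = _
      simp
    have h := @LinearEquiv.map_smul _ A A _ _ _ Mf Mg φ (b ⊗ₜ[k] op c) x
    rw [← hs1, ← hs2]
    exact h
  have hr : ∀ c, φ' c = φ' 1 * c := fun c => by simpa using hφ 1 c 1
  have hinj : Function.Injective (LinearMap.mulLeft k (φ' 1)) := by
    intro a b hab
    have : φ' a = φ' b := by rw [hr a, hr b]; simpa using hab
    exact (EquivLike.injective φ) this
  obtain ⟨c, hc⟩ := LinearMap.injective_iff_surjective.mp hinj 1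
  rw [LinearMap.mulLeft_apply] at hc
  have hc' : c * φ' 1 = 1 := hinj (by simp [← mul_assoc, hc])
  refine ⟨⟨φ' 1, c, hc, hc'⟩, fun b => ?_⟩
  change g b = φ' 1 * f b * c
  rw [← hr (f b), show φ' (f b) = g b * φ' 1 by simpa using hφ b 1 1, mul_assoc, hc, mul_one]

/-- Every automorphism of a finite-dimensional central simple algebra is inner. -/
theorem exists_unit_conj_algEquiv [Algebra.IsCentral k A] [IsSimpleRing A] [FiniteDimensional k A]
    (e : A ≃ₐ[k] A) : ∃ u : Aˣ, ∀ a : A, e a = u * a * (u⁻¹ : Aˣ) :=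
  exists_unit_conj (AlgHom.id k A) e.toAlgHom

end SkolemNoether

end Groth.Agent.Csa25
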