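import Groth.Agent.Csa25.AzuRing
import Mathlib.RingTheory.PicardGroup
import Mathlib.RingTheory.Flat.FaithfullyFlat.Basic
import Mathlib.LinearAlgebra.TensorPower.Basic
import Mathlib.LinearAlgebra.Matrix.ToLin

/-! Isomorphisms of endomorphism algebras and invertible modules. -/

set_option autoImplicit false

open scoped TensorProduct

namespace Groth.Agent.Csa25

universe u v w

variable {A : Type u} [CommRing A] {F : Type v} [AddCommGroup F] [Module A F]
  {G : Type w} [AddCommGroup G] [Module A G]

/-- Intertwiners of an isomorphism of endomorphism algebras. -/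
def inter (φ : Module.End A F ≃ₐ[A] Module.End A G) : Submodule A (F →ₗ[A] G) where
  carrier := {ψ | ∀ f x, ψ (f x) = φ f (ψ x)}
  zero_mem' := by intro f x; simp
  add_mem' := by intro a b ha hb f x; simp [ha f x, hb f x]
  smul_mem' := by intro c a ha f x; simp [ha f x]

theorem exists_trace [Module.Finite A F] [Module.Projective A F] [Module.FaithfullyFlat A F] :
    ∃ (m : ℕ) (χ : Fin m × Fin m → (F →ₗ[A] A)) (x : Fin m × Fin m → F), ∑ j, χ j (x j) = 1 := by
  obtain ⟨m, g, f, -, -, hfg⟩ := Module.Finite.exists_comp_eq_id_of_projective A F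
  have hsum : ∀ e : F, ∑ i, f e i • g (Pi.single i 1) = e := by
    intro e
    conv_rhs => rw [← LinearMap.id_apply (R := A) e, ← hfg, LinearMap.comp_apply,
      pi_eq_sum_univ' (f e), map_sum]
    exact Finset.sum_congr rfl fun i _ => by rw [map_smul]
  let v : Fin m × Fin m → A := fun p => f (g (Pi.single p.2 1)) p.1
  have h1 : (1 : A) ∈ Submodule.span A (Set.range v) := by
    by_contra h
    obtain ⟨M, hM, hle⟩ := Ideal.exists_le_maximal (Submodule.span A (Set.range v))
      (fun h' => h (h'.symm ▸ trivial))
    refine Module.FaithfullyFlat.submodule_ne_top (R := A) (M := F) hM (eq_top_iff.2 fun e _ => ?_)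
    have he : ∀ k, g (Pi.single k 1) ∈ M • (⊤ : Submodule A F) := by
      intro k
      rw [← hsum (g (Pi.single k 1))]
      exact Submodule.sum_mem _ fun i _ =>
        Submodule.smul_mem_smul (hle (Submodule.subset_span ⟨(i, k), rfl⟩)) trivial
    rw [← hsum e]
    exact Submodule.sum_mem _ fun i _ => Submodule.smul_mem _ _ (he i)
  obtain ⟨c, hc⟩ := (Submodule.mem_span_range_iff_exists_fun A).1 h1
  refine ⟨m, fun p => c p • ((LinearMap.proj p.1).comp f), fun p => g (Pi.single p.2 1), ?_⟩
  simpa [v] using hc

theorem exists_scalar [Module.Finite A F] [Module.Projective A F] [Module.FaithfullyFlat A F]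
    (h : F →ₗ[A] F) (hh : ∀ (f : Module.End A F) x, h (f x) = f (h x)) :
    ∃ c : A, ∀ x, h x = c • x := by
  obtain ⟨m, χ, x₀, h1⟩ := exists_trace (A := A) (F := F)
  refine ⟨∑ j, χ j (h (x₀ j)), fun x => ?_⟩
  conv_lhs => rw [← one_smul A x, ← h1, Finset.sum_smul, map_sum]
  rw [Finset.sum_smul]
  refine Finset.sum_congr rfl fun j _ => ?_
  have := hh ((χ j).smulRight x) (x₀ j)
  simpa using this

variable [Module.Finite A F] [Module.Projective A F] [Module.FaithfullyFlat A F]
  [Module.Finite A G] [Module.Projective A G] [Module.FaithfullyFlat A G]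
  (φ : Module.End A F ≃ₐ[A] Module.End A G)

/-- Evaluation. -/
noncomputable def interEval : F ⊗[A] inter φ →ₗ[A] G :=
  TensorProduct.lift ((inter φ).subtype.flip)

omit [Module.Finite A F] [Module.Projective A F] [Module.FaithfullyFlat A F]
  [Module.Finite A G] [Module.Projective A G] [Module.FaithfullyFlat A G] in
@[simp] theorem interEval_tmul (x : F) (ψ : inter φ) : interEval φ (x ⊗ₜ[A] ψ) = (ψ : F →ₗ[A] G) x :=
  rfl

omit [Module.Finite A G] [Module.Projective A G] [Module.FaithfullyFlat A G] [Module.FaithfullyFlat A F] in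
theorem interEval_bijective : Function.Bijective (interEval φ) := by
  obtain ⟨m, g, f, -, -, hfg⟩ := Module.Finite.exists_comp_eq_id_of_projective A F
  have hsum : ∀ e : F, ∑ i, f e i • g (Pi.single i 1) = e := by
    intro e
    conv_rhs => rw [← LinearMap.id_apply (R := A) e, ← hfg, LinearMap.comp_apply,
      pi_eq_sum_univ' (f e), map_sum]
    exact Finset.sum_congr rfl fun i _ => by rw [map_smul]
  let χ : Fin m → (F →ₗ[A] A) := fun i => (LinearMap.proj i).comp f
  let ψ : Fin m → G →ₗ[A] inter φ := fun i =>
    { toFun := fun y =>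
        ⟨{ toFun := fun x => φ ((χ i).smulRight x) y
           map_add' := fun a b => by
             rw [show (χ i).smulRight (a + b) = (χ i).smulRight a + (χ i).smulRight b by ext; simp,
               map_add, LinearMap.add_apply]
           map_smul' := fun c a => by
             rw [show (χ i).smulRight (c • a) = c • (χ i).smulRight a by
               ext z; simp [smul_comm (χ i z) c a], map_smul, LinearMap.smul_apply, RingHom.id_apply] },
          fun h x => by
            change φ ((χ i).smulRight (h x)) y = φ h (φ ((χ i).smulRight x) y)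
            rw [← Module.End.mul_apply, ← map_mul]
            congr 2
            ext z; simp⟩
      map_add' := fun a b => by ext x; simp
      map_smul' := fun c a => by ext x; simp }
  have hψ : ∀ i y x, (ψ i y : F →ₗ[A] G) x = φ ((χ i).smulRight x) y := fun _ _ _ => rfl
  let inv : G →ₗ[A] F ⊗[A] inter φ :=
    ∑ i, (TensorProduct.mk A F (inter φ) (g (Pi.single i 1))).comp (ψ i)
  refine Function.bijective_iff_has_inverse.2 ⟨inv, fun z => ?_, fun y => ?_⟩
  · induction z using TensorProduct.induction_on with
    | zero => simp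
    | add a b ha hb => rw [map_add, map_add, ha, hb]
    | tmul x p =>
      have hp : ∀ i, ψ i ((p : F →ₗ[A] G) x) = χ i x • p := by
        intro i
        ext x'
        rw [hψ, ← p.2]
        simp
      simp only [inv, LinearMap.sum_apply, LinearMap.comp_apply, TensorProduct.mk_apply, interEval_tmul,
        hp, ← TensorProduct.smul_tmul, ← TensorProduct.sum_tmul]
      simp [χ, hsum]
  · simp only [inv, LinearMap.sum_apply, LinearMap.comp_apply, TensorProduct.mk_apply, map_sum,
      interEval_tmul, hψ]
    rw [← LinearMap.sum_apply, ← map_sum]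
    rw [show ∑ i, (χ i).smulRight (g (Pi.single i 1)) = (1 : Module.End A F) by
      ext z; simp [LinearMap.sum_apply, χ, hsum], map_one]
    rfl

theorem inter_invertible : Module.Invertible A (inter φ) := by
  obtain ⟨m, χ, x₀, h1⟩ := exists_trace (A := A) (F := F)
  let c : inter φ.symm →ₗ[A] inter φ →ₗ[A] A :=
    LinearMap.mk₂ A (fun a b => ∑ j, χ j ((a : G →ₗ[A] F) ((b : F →ₗ[A] G) (x₀ j))))
      (fun a a' b => by simp [Finset.sum_add_distrib])
      (fun r a b => by simp [Finset.mul_sum])
      (fun a b b' => by simp [Finset.sum_add_distrib])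
      (fun r a b => by simp [Finset.mul_sum])
  have hc : ∀ (a : inter φ.symm) (b : inter φ) x,
      (a : G →ₗ[A] F) ((b : F →ₗ[A] G) x) = c a b • x := by
    intro a b x
    obtain ⟨d, hd⟩ := exists_scalar ((a : G →ₗ[A] F).comp (b : F →ₗ[A] G)) (fun f x => by
      simp only [LinearMap.comp_apply]
      rw [b.2, a.2, φ.symm_apply_apply])
    have hcd : c a b = d := by
      simp only [LinearMap.comp_apply] at hd
      simp [c, hd, ← Finset.mul_sum, h1]
    rw [hcd]
    exact hd x
  let μ : inter φ.symm ⊗[A] inter φ →ₗ[A] A := TensorProduct.lift c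
  have hsurj : LinearMap.range μ = ⊤ := by
    have hle : ∀ x : F, x ∈ LinearMap.range μ • (⊤ : Submodule A F) := by
      intro x
      obtain ⟨z, rfl⟩ := (interEval_bijective φ.symm).2 x
      induction z using TensorProduct.induction_on with
      | zero => simp
      | add a b ha hb => rw [map_add]; exact add_mem ha hb
      | tmul y a =>
        obtain ⟨w, rfl⟩ := (interEval_bijective φ).2 y
        rw [interEval_tmul]
        induction w using TensorProduct.induction_on with
        | zero => simp
        | add p q hp hq => rw [map_add, map_add]; exact add_mem hp hq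
        | tmul x' b =>
          rw [interEval_tmul, hc]
          exact Submodule.smul_mem_smul ⟨a ⊗ₜ[A] b, rfl⟩ trivial
    by_contra hne
    obtain ⟨M, hM, hM'⟩ := Ideal.exists_le_maximal (LinearMap.range μ) hne
    exact Module.FaithfullyFlat.submodule_ne_top (R := A) (M := F) hM
      (eq_top_iff.2 fun x _ => Submodule.smul_mono_left hM' (hle x))
  obtain ⟨z₀, hz₀⟩ : (1 : A) ∈ LinearMap.range μ := hsurj.symm ▸ trivial
  obtain ⟨k, a, b, hab⟩ := TensorProduct.exists_sum_tmul_eq z₀
  have hone : ∀ x : F, ∑ i, (a i : G →ₗ[A] F) ((b i : F →ₗ[A] G) x) = x := by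
    intro x
    simp only [hc, ← Finset.sum_smul]
    rw [hab, map_sum] at hz₀
    simp only [μ, TensorProduct.lift.tmul] at hz₀
    rw [hz₀, one_smul]
  have hall : ∀ w, w = μ w • z₀ := by
    intro w
    induction w using TensorProduct.induction_on with
    | zero => simp
    | add p q hp hq => rw [map_add, add_smul, ← hp, ← hq]
    | tmul p q =>
      choose d hd using fun i => exists_scalar ((q : F →ₗ[A] G).comp (a i : G →ₗ[A] F)) (fun f y => by
        simp only [LinearMap.comp_apply]
        rw [(a i).2, q.2, φ.apply_symm_apply])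
      simp only [LinearMap.comp_apply] at hd
      have hq : q = ∑ i, d i • b i := by
        ext x
        simp only [AddSubmonoidClass.coe_finsetSum, LinearMap.sum_apply, SetLike.val_smul,
          LinearMap.smul_apply, ← hd]
        rw [← map_sum, hone]
      have hp : ∀ i, d i • p = c p q • a i := by
        intro i
        ext y
        simp only [SetLike.val_smul, LinearMap.smul_apply, ← map_smul, ← hd]
        rw [hc, map_smul]
      conv_lhs => rw [hq, TensorProduct.tmul_sum]
      rw [hab, Finset.smul_sum]
      refine Finset.sum_congr rfl fun i _ => ?_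
      rw [TensorProduct.tmul_smul, TensorProduct.smul_tmul', hp, ← TensorProduct.smul_tmul']
      rfl
  have hbij : Function.Bijective μ := by
    refine ⟨fun p q h => by rw [hall p, hall q, h], LinearMap.range_eq_top.1 hsurj⟩
  exact Module.Invertible.right (LinearEquiv.ofBijective μ hbij)

theorem exists_invertible_conj :
    ∃ ξ : F ⊗[A] inter φ ≃ₗ[A] G, ∀ f : Module.End A F, φ f = ξ.conj (TensorProduct.map f LinearMap.id) := by
  refine ⟨LinearEquiv.ofBijective _ (interEval_bijective φ), fun f => LinearMap.ext fun y => ?_⟩
  obtain ⟨z, rfl⟩ := (interEval_bijective φ).2 y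
  rw [LinearEquiv.conj_apply, LinearMap.comp_apply, LinearMap.comp_apply, LinearEquiv.coe_coe,
    LinearEquiv.coe_coe, LinearEquiv.ofBijective_symm_apply_apply]
  induction z using TensorProduct.induction_on with
  | zero => simp
  | tmul x p => simpa using (p.2 f x).symm
  | add a b ha hb => simp only [map_add, ha, hb]

end Groth.Agent.Csa25
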