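import Groth.Agent.Csa25.AzuLG
import Groth.Agent.Csa25.AzuMorita

/-! Representatives without idempotents of Brauer classes over connected rings. -/

set_option autoImplicit false

open scoped TensorProduct
open MulOpposite

namespace Groth.Agent.Csa25

universe u v w

section Commutant

variable {R : Type u} [CommRing R] {A : Type v} [Ring A] [Algebra R A] [IsAzumaya R A]
  {M : Type w} [AddCommGroup M] [Module A M] [Module R M] [IsScalarTower R A M] [SMulCommClass A R M]
  [Module.Finite R M] [Module.Projective R M]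

/-- The double centraliser map. -/
noncomputable def doubleCent : A ⊗[R] Module.End A M →ₐ[R] Module.End R M :=
  Algebra.TensorProduct.lift (Algebra.lsmul R R M)
    { toFun := fun g => g.restrictScalars R
      map_one' := rfl
      map_mul' := fun _ _ => rfl
      map_zero' := rfl
      map_add' := fun _ _ => rfl
      commutes' := fun r => by ext x; simp }
    (fun a g => LinearMap.ext fun x => (g.map_smul a x).symm)

omit [IsAzumaya R A] [Module.Finite R M] [Module.Projective R M] in
theorem doubleCent_tmul (a : A) (g : Module.End A M) (x : M) : doubleCent (a ⊗ₜ[R] g) x = a • g x := rfl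

theorem commutant_spec :
    Module.Finite R (Module.End A M) ∧ Module.Projective R (Module.End A M) ∧
      Function.Bijective (doubleCent : A ⊗[R] Module.End A M →ₐ[R] Module.End R M) := by
  haveI : SMulCommClass R A M := IsScalarTower.to_smulCommClass
  let L : A →ₐ[R] Module.End R M := Algebra.lsmul R R M
  let T : A ⊗[R] Aᵐᵒᵖ →ₗ[R] (Module.End R M →ₗ[R] Module.End R M) :=
    TensorProduct.lift (LinearMap.mk₂ R
      (fun (a : A) (b : Aᵐᵒᵖ) => (LinearMap.mulLeft R (L a)).comp (LinearMap.mulRight R (L (unop b))))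
      (fun a a' b => by
        refine LinearMap.ext fun f => ?_
        simp [map_add, add_mul])
      (fun r a b => by
        refine LinearMap.ext fun f => ?_
        simp [map_smul])
      (fun a b b' => by
        refine LinearMap.ext fun f => ?_
        simp [map_add, mul_add])
      (fun r a b => by
        refine LinearMap.ext fun f => ?_
        simp [map_smul]))
  have hT : ∀ (a : A) (b : Aᵐᵒᵖ) f (x : M), T (a ⊗ₜ[R] b) f x = a • f (unop b • x) := fun a b f x => rfl
  have hleft : ∀ (c : A) w f x, T ((c ⊗ₜ[R] op (1 : A)) * w) f x = c • T w f x := by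
    intro c w f x
    induction w using TensorProduct.induction_on with
    | zero => simp
    | tmul a b => simp [hT, mul_smul]
    | add a b ha hb => simp only [mul_add, map_add, LinearMap.add_apply, smul_add, ha, hb]
  have hright : ∀ (c : A) w f x, T (((1 : A) ⊗ₜ[R] op c) * w) f x = T w f (c • x) := by
    intro c w f x
    induction w using TensorProduct.induction_on with
    | zero => simp
    | tmul a b => simp [hT, mul_smul]
    | add a b ha hb => simp only [mul_add, map_add, LinearMap.add_apply, ha, hb]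
  obtain ⟨n, φ, e, he⟩ := Azu26.exists_dualBasis R A
  choose zE hzE hzEc using fun χ : A →ₗ[R] R => exists_funct_elem R A χ
  let proj : (A →ₗ[R] R) → (Module.End R M →ₗ[R] Module.End A M) := fun χ =>
    { toFun := fun f =>
        { toFun := fun x => T (zE χ) f x
          map_add' := map_add _
          map_smul' := fun c x => by rw [RingHom.id_apply, ← hleft, hzEc, hright] }
      map_add' := fun f g => by ext x; simp
      map_smul' := fun r f => by ext x; simp }
  have hproj : ∀ χ f x, proj χ f x = T (zE χ) f x := fun _ _ _ => rfl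
  have hTg : ∀ χ (a : A) (g : Module.End A M), proj χ (doubleCent (a ⊗ₜ[R] g)) = χ a • g := by
    intro χ a g
    ext x
    have key : ∀ w, T w (doubleCent (a ⊗ₜ[R] g)) x = AlgHom.mulLeftRight R A w a • g x := by
      intro w
      induction w using TensorProduct.induction_on with
      | zero => simp
      | tmul p q => simp [hT, doubleCent_tmul, map_smul, mul_smul]
      | add a b ha hb => simp only [map_add, LinearMap.add_apply, add_smul, ha, hb]
    rw [hproj, key, hzE]
    simp
  obtain ⟨χ, hχ⟩ := Azu26.exists_functional_one R A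
  haveI : Module.Finite R (Module.End R M) := Module.Finite.equiv (dualTensorHomEquiv R M M)
  haveI : Module.Projective R (Module.End R M) := Module.Projective.of_equiv (dualTensorHomEquiv R M M)
  let ι : Module.End A M →ₗ[R] Module.End R M :=
    { toFun := fun g => doubleCent ((1 : A) ⊗ₜ[R] g)
      map_add' := fun g g' => by rw [TensorProduct.tmul_add, map_add]
      map_smul' := fun r g => by rw [TensorProduct.tmul_smul, map_smul]; rfl }
  have hπι : ∀ g, proj χ (ι g) = g := fun g => by
    change proj χ (doubleCent ((1 : A) ⊗ₜ[R] g)) = g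
    rw [hTg, hχ, one_smul]
  refine ⟨Module.Finite.of_surjective (proj χ) fun g => ⟨ι g, hπι g⟩,
    Module.Projective.of_split ι (proj χ) (LinearMap.ext hπι), ?_⟩
  let inv : Module.End R M →ₗ[R] A ⊗[R] Module.End A M :=
    ∑ i, (TensorProduct.mk R A (Module.End A M) (e i)).comp (proj (φ i))
  refine Function.bijective_iff_has_inverse.2 ⟨inv, fun w => ?_, fun f => ?_⟩
  · induction w using TensorProduct.induction_on with
    | zero => simp
    | add a b ha hb => rw [map_add, map_add, ha, hb]
    | tmul a g =>
      simp only [inv, LinearMap.sum_apply, LinearMap.comp_apply, hTg, TensorProduct.mk_apply,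
        TensorProduct.tmul_smul, TensorProduct.smul_tmul', ← TensorProduct.sum_tmul, he]
  · have h : ∑ i, (e i ⊗ₜ[R] op (1 : A)) * zE (φ i) = 1 := by
      apply (IsAzumaya.bij (R := R) (A := A)).1
      rw [map_sum, map_one]
      refine LinearMap.ext fun x => ?_
      simp [LinearMap.sum_apply, map_mul, hzE, he]
    refine LinearMap.ext fun x => ?_
    simp only [inv, LinearMap.sum_apply, LinearMap.comp_apply, TensorProduct.mk_apply, map_sum,
      doubleCent_tmul, hproj, ← hleft]
    rw [← LinearMap.sum_apply, ← LinearMap.sum_apply, ← map_sum, h, Algebra.TensorProduct.one_def, hT]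
    simp

end Commutant

theorem isAzumaya_right_factor (R : Type u) [CommRing R] (A : Type v) [Ring A] [Algebra R A] [IsAzumaya R A]
    (B : Type w) [Ring B] [Algebra R B] [Module.Finite R B] [Module.Projective R B] [FaithfulSMul R B]
    [IsAzumaya R (A ⊗[R] B)] : IsAzumaya R B := by
  let μA : A ⊗[R] Aᵐᵒᵖ ≃ₗ[R] (A →ₗ[R] A) :=
    LinearEquiv.ofBijective (AlgHom.mulLeftRight R A).toLinearMap IsAzumaya.bij
  let μB : B ⊗[R] Bᵐᵒᵖ →ₗ[R] (B →ₗ[R] B) := (AlgHom.mulLeftRight R B).toLinearMap
  let o : (A ⊗[R] B)ᵐᵒᵖ ≃ₗ[R] Aᵐᵒᵖ ⊗[R] Bᵐᵒᵖ :=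
    (opLinearEquiv R).symm ≪≫ₗ TensorProduct.congr (opLinearEquiv R) (opLinearEquiv R)
  let pre := TensorProduct.congr (LinearEquiv.refl R (A ⊗[R] B)) o ≪≫ₗ
    TensorProduct.tensorTensorTensorComm R A B Aᵐᵒᵖ Bᵐᵒᵖ
  let post := TensorProduct.congr μA (LinearEquiv.refl R (B →ₗ[R] B)) ≪≫ₗ homTensorHomEquiv R A B A B
  let G := LinearMap.lTensor (A ⊗[R] Aᵐᵒᵖ) μB
  have hcomp : post.toLinearMap ∘ₗ G ∘ₗ pre.toLinearMap = (AlgHom.mulLeftRight R (A ⊗[R] B)).toLinearMap := by
    refine TensorProduct.ext' fun x y => ?_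
    induction y using MulOpposite.rec' with
    | _ y =>
      induction x using TensorProduct.induction_on with
      | zero => simp
      | add x x' hx hx' => simp only [TensorProduct.add_tmul, map_add, hx, hx']
      | tmul a b =>
        induction y using TensorProduct.induction_on with
        | zero => simp
        | add y y' hy hy' => simp only [op_add, TensorProduct.tmul_add, map_add, hy, hy']
        | tmul c d =>
          refine TensorProduct.ext' fun p q => ?_
          simp [pre, post, G, o, μA, μB]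
  have hG : Function.Bijective G := by
    have h1 : Function.Bijective (post.toLinearMap ∘ₗ G ∘ₗ pre.toLinearMap) := by
      rw [hcomp]; exact IsAzumaya.bij
    rw [LinearMap.coe_comp, LinearMap.coe_comp] at h1
    exact (Function.Bijective.of_comp_iff' post.bijective _).1 h1 |>
      (Function.Bijective.of_comp_iff _ pre.bijective).1
  haveI := isAzumaya_op R A
  haveI := isAzumaya_tensor R A Aᵐᵒᵖ
  obtain ⟨χ, hχ⟩ := Azu26.exists_functional_one R (A ⊗[R] Aᵐᵒᵖ)
  refine { bij := ⟨fun x y h => ?_, fun g => ?_⟩ }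
  · have h1 : G ((1 : A ⊗[R] Aᵐᵒᵖ) ⊗ₜ[R] x) = G ((1 : A ⊗[R] Aᵐᵒᵖ) ⊗ₜ[R] y) := by
      simp only [G, LinearMap.lTensor_tmul, μB, AlgHom.toLinearMap_apply, h]
    have := congrArg (fun z => TensorProduct.lid R (B ⊗[R] Bᵐᵒᵖ) (LinearMap.rTensor _ χ z)) (hG.1 h1)
    simpa [hχ] using this
  · obtain ⟨w, hw⟩ := hG.2 ((1 : A ⊗[R] Aᵐᵒᵖ) ⊗ₜ[R] g)
    have h1 : ∀ w, μB (TensorProduct.lid R (B ⊗[R] Bᵐᵒᵖ) (LinearMap.rTensor _ χ w)) =
        TensorProduct.lid R (B →ₗ[R] B) (LinearMap.rTensor _ χ (G w)) := by
      intro w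
      induction w using TensorProduct.induction_on with
      | zero => simp
      | tmul a b => simp [G, map_smul]
      | add a b ha hb => simp only [map_add, ha, hb]
    exact ⟨_, (h1 w).trans (by rw [hw]; simp [hχ])⟩

theorem exists_idempotentFree {R : Type u} [CommRing R] [ConnectedSpace (PrimeSpectrum R)]
    (A : Type u) [Ring A] [Algebra R A] [IsAzumaya R A] :
    ∃ (B : Type u) (_ : Ring B) (_ : Algebra R B) (_ : IsAzumaya R B) (P Q : Type u) (_ : AddCommGroup P)
      (_ : Module R P) (_ : AddCommGroup Q) (_ : Module R Q),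
      (∀ b : B, IsIdempotentElem b → b = 0 ∨ b = 1) ∧ Module.Finite R P ∧ Module.Projective R P ∧
      FaithfulSMul R P ∧ Module.Finite R Q ∧ Module.Projective R Q ∧ FaithfulSMul R Q ∧
      Nonempty (A ⊗[R] Module.End R P ≃ₐ[R] B ⊗[R] Module.End R Q) := by
  classical
  obtain ⟨p₀⟩ : Nonempty (PrimeSpectrum R) := inferInstance
  obtain ⟨m₀, hm₀, -⟩ := Ideal.exists_le_maximal p₀.asIdeal p₀.isPrime.ne_top
  let Pr : ℕ → Prop := fun d => ∃ (M : Type u) (_ : AddCommGroup M) (_ : Module A M) (_ : Module R M)
    (_ : IsScalarTower R A M), Module.Finite R M ∧ Module.Projective R M ∧ 0 < d ∧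
      ∀ p : PrimeSpectrum R, Module.rankAtStalk (R := R) M p = d
  have hex : ∃ d, Pr d :=
    ⟨_, A, inferInstance, inferInstance, inferInstance, inferInstance, inferInstance, inferInstance,
      rankAtStalk_azumaya_pos A m₀, fun p => rankAtStalk_const A p _⟩
  obtain ⟨M, _, _, _, _, hfin, hproj, hd, hrk⟩ := Nat.find_spec hex
  haveI := hfin; haveI := hproj
  haveI : SMulCommClass R A M := IsScalarTower.to_smulCommClass
  haveI : SMulCommClass A R M := SMulCommClass.symm R A M
  have hidem : ∀ e : Module.End A M, IsIdempotentElem e → e = 0 ∨ e = 1 := by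
    intro e he
    by_contra hne
    push Not at hne
    have hee : ∀ x, e (e x) = e x := fun x => LinearMap.congr_fun he x
    let K₁ := LinearMap.ker e
    let K₂ := LinearMap.range e
    let π₂ : M →ₗ[R] K₂ := (LinearMap.rangeRestrict e).restrictScalars R
    let π₁ : M →ₗ[R] K₁ :=
      (LinearMap.codRestrict K₁ (LinearMap.id - e) fun x => by simp [K₁, hee]).restrictScalars R
    let i₁ : K₁ →ₗ[R] M := K₁.subtype.restrictScalars R
    let i₂ : K₂ →ₗ[R] M := K₂.subtype.restrictScalars R
    have h₁ : ∀ y, π₁ (i₁ y) = y := fun y => Subtype.ext (by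
      have : e (y : M) = 0 := y.2
      simp [π₁, i₁, this])
    have h₂ : ∀ y, π₂ (i₂ y) = y := fun y => Subtype.ext (by
      obtain ⟨x, hx⟩ := y.2
      change e (y : M) = y
      rw [← hx, hee])
    haveI : Module.Finite R K₁ := Module.Finite.of_surjective π₁ fun y => ⟨i₁ y, h₁ y⟩
    haveI : Module.Finite R K₂ := Module.Finite.of_surjective π₂ fun y => ⟨i₂ y, h₂ y⟩
    haveI : Module.Projective R K₁ := Module.Projective.of_split i₁ π₁ (LinearMap.ext h₁)
    haveI : Module.Projective R K₂ := Module.Projective.of_split i₂ π₂ (LinearMap.ext h₂)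
    let E : M ≃ₗ[R] K₁ × K₂ := LinearEquiv.ofLinearMap (π₁.prod π₂) (i₁.coprod i₂)
      (LinearMap.ext fun y => by
        have e₁ : e (y.1 : M) = 0 := y.1.2
        have e₂ : e (y.2 : M) = y.2 := congrArg Subtype.val (h₂ y.2)
        refine Prod.ext (Subtype.ext ?_) (Subtype.ext ?_)
        · simp [π₁, i₁, i₂, map_add, e₁, e₂]
        · change e ((y.1 : M) + y.2) = y.2
          rw [map_add, e₁, e₂, zero_add])
      (LinearMap.ext fun x => by simp [π₁, π₂, i₁, i₂])
    have hsum : Module.rankAtStalk (R := R) M p₀ =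
        Module.rankAtStalk (R := R) K₁ p₀ + Module.rankAtStalk (R := R) K₂ p₀ := by
      rw [congrFun (Module.rankAtStalk_eq_of_equiv E) p₀, Module.rankAtStalk_prod]
      rfl
    have hpos : ∀ (K : Submodule A M) [Module.Finite R K] [Module.Projective R K], K ≠ ⊥ →
        0 < Module.rankAtStalk (R := R) K p₀ := by
      intro K _ _ hK
      by_contra h0
      haveI : Subsingleton K := (Module.rankAtStalk_eq_zero_iff_subsingleton (R := R)).1 (funext fun p => by
        rw [rankAtStalk_const K p p₀]; exact Nat.eq_zero_of_not_pos h0)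
      exact hK (Submodule.subsingleton_iff_eq_bot.1 this)
    have hK₂ : K₂ ≠ ⊥ := fun h => hne.1 (LinearMap.range_eq_bot.1 h)
    have hK₁ : K₁ ≠ ⊥ := fun h => hne.2 (LinearMap.ext fun x => by
      have : x - e x ∈ K₁ := by simp [K₁, hee]
      rw [h, Submodule.mem_bot, sub_eq_zero] at this
      exact this.symm)
    refine Nat.find_min hex (m := Module.rankAtStalk (R := R) K₂ p₀) ?_
      ⟨K₂, inferInstance, inferInstance, inferInstance, inferInstance, inferInstance, inferInstance,
        hpos K₂ hK₂, fun p => rankAtStalk_const K₂ p p₀⟩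
    rw [← hrk p₀, hsum]
    exact Nat.lt_add_of_pos_left (hpos K₁ hK₁)
  haveI : Module.FaithfullyFlat R M :=
    { submodule_ne_top := fun {m} hm htop => by
        letI := Ideal.Quotient.field m
        haveI : Subsingleton (M ⧸ (m • ⊤ : Submodule R M)) := Submodule.Quotient.subsingleton_iff.2 htop
        haveI : Subsingleton ((R ⧸ m) ⊗[R] M) :=
          (TensorProduct.quotTensorEquivQuotSMul M m).injective.subsingleton
        have h1 := LG97.fib_rank M m
        rw [Module.finrank_zero_of_subsingleton, hrk] at h1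
        omega }
  obtain ⟨k, χ, x₀, hχ⟩ := exists_trace (A := R) (F := M)
  haveI : FaithfulSMul R M := ⟨fun {r s} h => by
    rw [← mul_one r, ← mul_one s, ← hχ, Finset.mul_sum, Finset.mul_sum]
    exact Finset.sum_congr rfl fun j _ => by rw [← smul_eq_mul, ← smul_eq_mul, ← map_smul, ← map_smul, h]⟩
  haveI : FaithfulSMul R (Module.End A M) := ⟨fun {r s} h => eq_of_smul_eq_smul (α := M) fun x => by
    simpa using LinearMap.congr_fun (h 1) x⟩
  obtain ⟨hBf, hBp, hbij⟩ := commutant_spec (R := R) (A := A) (M := M)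
  haveI := hBf; haveI := hBp
  haveI := Azu26.isAzumaya_end R M
  let Φ : A ⊗[R] Module.End A M ≃ₐ[R] Module.End R M := AlgEquiv.ofBijective doubleCent hbij
  haveI : IsAzumaya R (A ⊗[R] Module.End A M) :=
    IsAzumaya.of_AlgEquiv R (Module.End R M) _ Φ.symm
  haveI := isAzumaya_right_factor R A (Module.End A M)
  haveI := isAzumaya_op R (Module.End A M)
  let μ : Module.End A M ⊗[R] (Module.End A M)ᵐᵒᵖ ≃ₐ[R] Module.End R (Module.End A M) :=
    AlgEquiv.ofBijective (AlgHom.mulLeftRight R (Module.End A M)) IsAzumaya.bij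
  let θ : A ⊗[R] Module.End R (Module.End A M) ≃ₐ[R] (Module.End A M)ᵐᵒᵖ ⊗[R] Module.End R M :=
    ((Algebra.TensorProduct.congr AlgEquiv.refl μ.symm).trans
      (Algebra.TensorProduct.assoc R R R A (Module.End A M) (Module.End A M)ᵐᵒᵖ).symm).trans
      ((Algebra.TensorProduct.congr Φ AlgEquiv.refl).trans (Algebra.TensorProduct.comm R _ _))
  refine ⟨(Module.End A M)ᵐᵒᵖ, inferInstance, inferInstance, inferInstance, Module.End A M, M,
    inferInstance, inferInstance, inferInstance, inferInstance, fun b hb => ?_, hBf, hBp, inferInstance,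
    hfin, hproj, inferInstance, ⟨θ⟩⟩
  rcases hidem (unop b) (by have := congrArg unop hb; simpa [IsIdempotentElem] using this) with h | h
  · exact Or.inl (unop_injective (by simpa using h))
  · exact Or.inr (unop_injective (by simpa using h))

end Groth.Agent.Csa25
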