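import Groth.Agent.Csa25.AzuTensorPower
import Groth.Agent.S17356
import Mathlib.RingTheory.Flat.EquationalCriterion
import Mathlib.RingTheory.Finiteness.Descent
import Mathlib.RingTheory.Spectrum.Prime.FreeLocus

/-! The n-th tensor power of an Azumaya algebra of rank n² is an endomorphism algebra. -/

set_option autoImplicit false

open scoped TensorProduct
open Matrix

namespace Groth.Agent.Csa25

universe u v w

section Descent

variable {R : Type u} [CommRing R] (S : Type v) [CommRing S] [Algebra R S] [Module.FaithfullyFlat R S]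
  {M : Type w} [AddCommGroup M] [Module R M]

/-- Amitsur exactness in degree zero. -/
theorem exists_descent (x : S ⊗[R] M)
    (h : LinearMap.rTensor M (Algebra.TensorProduct.includeLeft : S →ₐ[R] S ⊗[R] S).toLinearMap x =
      LinearMap.rTensor M (Algebra.TensorProduct.includeRight : S →ₐ[R] S ⊗[R] S).toLinearMap x) :
    ∃ y : M, (1 : S) ⊗ₜ[R] y = x := by
  let ι : M →ₗ[R] S ⊗[R] M := TensorProduct.mk R S M 1
  let Q := LinearMap.range ι
  let F : (S ⊗[R] S) ⊗[R] M →ₗ[R] S ⊗[R] ((S ⊗[R] M) ⧸ Q) :=
    (LinearMap.lTensor S Q.mkQ).comp (TensorProduct.assoc R S S M).toLinearMap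
  have h1 : ∀ z, F (LinearMap.rTensor M
      (Algebra.TensorProduct.includeLeft : S →ₐ[R] S ⊗[R] S).toLinearMap z) = 0 := by
    intro z
    induction z using TensorProduct.induction_on with
    | zero => simp
    | tmul s m =>
      have h0 : Q.mkQ ((1 : S) ⊗ₜ[R] m) = 0 := (Submodule.Quotient.mk_eq_zero _).2 ⟨m, rfl⟩
      simp only [Submodule.mkQ_apply] at h0
      simp [F, h0]
    | add a b ha hb => simp only [map_add, ha, hb, add_zero]
  have h2 : ∀ z, F (LinearMap.rTensor M
      (Algebra.TensorProduct.includeRight : S →ₐ[R] S ⊗[R] S).toLinearMap z) = (1 : S) ⊗ₜ[R] Q.mkQ z := by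
    intro z
    induction z using TensorProduct.induction_on with
    | zero => simp
    | tmul s m => simp [F]
    | add a b ha hb => simp only [map_add, ha, hb, TensorProduct.tmul_add]
  have h3 : (1 : S) ⊗ₜ[R] Q.mkQ x = 0 := by rw [← h2, ← h, h1]
  have := Module.FaithfullyFlat.tensorProduct_mk_injective (A := R) (B := S) ((S ⊗[R] M) ⧸ Q)
    (a₁ := Q.mkQ x) (a₂ := 0) (by simpa using h3)
  obtain ⟨y, hy⟩ := (Submodule.Quotient.mk_eq_zero _).1 this
  exact ⟨y, hy⟩

theorem projective_of_faithfullyFlat [Module.Finite S (S ⊗[R] M)] [Module.Projective S (S ⊗[R] M)] :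
    Module.Finite R M ∧ Module.Projective R M := by
  haveI : Module.Finite R M := Module.Finite.of_finite_tensorProduct_of_faithfullyFlat S
  haveI : Module.Flat R M := Module.Flat.of_flat_tensorProduct R M S
  obtain ⟨n, f, hf⟩ := Module.Finite.exists_fin' R M
  haveI : Module.Finite R (LinearMap.ker f) := by
    let fS := f.baseChange S
    have hfS : Function.Surjective fS := LinearMap.lTensor_surjective S hf
    haveI : Module.FinitePresentation S (S ⊗[R] M) := Module.finitePresentation_of_projective S _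
    have hfg := Module.FinitePresentation.fg_ker fS hfS
    let ι := (LinearMap.ker f).subtype.baseChange S
    have hι : Function.Injective ι :=
      Module.Flat.lTensor_preserves_injective_linearMap _ Subtype.val_injective
    have hr : LinearMap.range ι = LinearMap.ker fS :=
      SetLike.ext fun z => ((lTensor_exact S (LinearMap.exact_subtype_ker_map f) hf) z).symm
    haveI : Module.Finite S (LinearMap.ker fS) := Module.Finite.iff_fg.2 hfg
    haveI : Module.Finite S (S ⊗[R] LinearMap.ker f) :=
      Module.Finite.equiv ((LinearEquiv.ofInjective ι hι).trans (LinearEquiv.ofEq _ _ hr)).symm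
    exact Module.Finite.of_finite_tensorProduct_of_faithfullyFlat S
  haveI : Module.FinitePresentation R M :=
    Module.finitePresentation_of_surjective f hf (Module.Finite.iff_fg.1 inferInstance)
  exact ⟨inferInstance, Module.Flat.projective_of_finitePresentation⟩

end Descent

section Model

variable {R : Type v} [CommRing R] {A : Type w} [Ring A] [Algebra R A] {n : ℕ}

theorem asymMat_indep [NeZero n] {T : Type u} [CommRing T] [Algebra R T]
    (Φ₁ Φ₂ : (T ⊗[R] A) ≃ₐ[T] Matrix (Fin n) (Fin n) T)
    (K₁ K₂ : T ⊗[R] (⨂[R] _ : Fin n, A) ≃ₐ[T] Matrix (KIdx n) (KIdx n) T)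
    (hK₁ : ∀ a : Fin n → A, K₁ ((1 : T) ⊗ₜ[R] PiTensorProduct.tprod R a) =
      kron T n (fun k => Φ₁ ((1 : T) ⊗ₜ[R] a k)))
    (hK₂ : ∀ a : Fin n → A, K₂ ((1 : T) ⊗ₜ[R] PiTensorProduct.tprod R a) =
      kron T n (fun k => Φ₂ ((1 : T) ⊗ₜ[R] a k))) :
    K₁.symm (asymMat T n) = K₂.symm (asymMat T n) := by
  apply K₂.injective
  rw [K₂.apply_symm_apply, ← sub_eq_zero]
  set D := K₂ (K₁.symm (asymMat T n)) - asymMat T n with hD
  let I : Ideal T := LinearMap.ker (LinearMap.toSpanSingleton T _ D)
  suffices h : (1 : T) ∈ I by simpa [I] using h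
  by_contra h
  obtain ⟨m, hm, hle⟩ := Ideal.exists_le_maximal I (fun h' => h (h' ▸ trivial))
  haveI : IsAzumaya T (Matrix (Fin n) (Fin n) T) := IsAzumaya.matrix T (Fin n)
  obtain ⟨f, hf, u, b, hub, -, hu⟩ := exists_local_conj (Φ₁.symm.trans Φ₂) m
  set U := kron T n fun _ => u with hU
  have key : ∀ z, K₂ z * U = U * K₁ z := by
    intro z
    induction z using TensorProduct.induction_on with
    | zero => simp
    | add x y hx hy => rw [map_add, map_add, add_mul, mul_add, hx, hy]
    | tmul t z =>
      induction z using PiTensorProduct.induction_on with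
      | smul_tprod r a =>
        have h1 : t ⊗ₜ[R] (r • PiTensorProduct.tprod R a) =
            (r • t) • ((1 : T) ⊗ₜ[R] PiTensorProduct.tprod R a) := by
          rw [TensorProduct.smul_tmul', smul_eq_mul, mul_one, TensorProduct.smul_tmul]
        rw [h1, map_smul, map_smul, smul_mul_assoc, mul_smul_comm]
        congr 1
        rw [hK₁, hK₂, hU, ← kron_mul, ← kron_mul]
        congr 1
        funext k
        have := hu (Φ₁ ((1 : T) ⊗ₜ[R] a k))
        simpa using this
      | add x y hx hy => rw [TensorProduct.tmul_add, map_add, map_add, add_mul, mul_add, hx, hy]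
  have h2 : D * U = 0 := by
    rw [hD, sub_mul, key, K₁.apply_symm_apply, hU, asymMat_comm, sub_self]
  have h3 : f ^ n • D = 0 := by
    have h4 : U * (kron T n fun _ => b) = f ^ n • 1 := by
      rw [hU, ← kron_mul, ← kron_smul_one]
      congr 1
      funext k
      exact hub
    calc f ^ n • D = D * (f ^ n • 1) := by rw [mul_smul_comm, mul_one]
      _ = 0 := by rw [← h4, ← mul_assoc, h2, zero_mul]
  exact hf (hm.isPrime.mem_of_pow_mem n (hle (by simpa [I] using h3)))

theorem kronEquiv_map {R' : Type*} [CommRing R'] [Algebra R R'] {T : Type u} [CommRing T] [Algebra R T]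
    (φ : (R' ⊗[R] A) ≃ₐ[R'] Matrix (Fin n) (Fin n) R')
    (Φ : (T ⊗[R] A) ≃ₐ[T] Matrix (Fin n) (Fin n) T) (g : R' →ₐ[R] T)
    (hΦ : ∀ a, Φ ((1 : T) ⊗ₜ[R] a) = (φ ((1 : R') ⊗ₜ[R] a)).map g)
    (K : R' ⊗[R] (⨂[R] _ : Fin n, A) ≃ₐ[R'] Matrix (KIdx n) (KIdx n) R')
    (hK : ∀ a : Fin n → A, K ((1 : R') ⊗ₜ[R] PiTensorProduct.tprod R a) =
      kron R' n (fun k => φ ((1 : R') ⊗ₜ[R] a k)))
    (K' : T ⊗[R] (⨂[R] _ : Fin n, A) ≃ₐ[T] Matrix (KIdx n) (KIdx n) T)
    (hK' : ∀ a : Fin n → A, K' ((1 : T) ⊗ₜ[R] PiTensorProduct.tprod R a) =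
      kron T n (fun k => Φ ((1 : T) ⊗ₜ[R] a k))) (z) :
    K' (LinearMap.rTensor _ g.toLinearMap z) = (K z).map g := by
  induction z using TensorProduct.induction_on with
  | zero => simp
  | add x y hx hy => rw [map_add, map_add, hx, hy, map_add, Matrix.map_add _ (map_add g)]
  | tmul t z =>
    induction z using PiTensorProduct.induction_on with
    | smul_tprod r a =>
      have h1 : ∀ (S : Type _) [CommRing S] [Algebra R S] (s : S),
          s ⊗ₜ[R] (r • PiTensorProduct.tprod R a) = (r • s) • ((1 : S) ⊗ₜ[R] PiTensorProduct.tprod R a) := by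
        intro S _ _ s
        rw [TensorProduct.smul_tmul', smul_eq_mul, mul_one, TensorProduct.smul_tmul]
      rw [LinearMap.rTensor_tmul]
      conv_rhs => rw [show t ⊗ₜ[R] (r • PiTensorProduct.tprod R a) =
        (r • t) • ((1 : R') ⊗ₜ[R] PiTensorProduct.tprod R a) by
          rw [TensorProduct.smul_tmul', smul_eq_mul, mul_one, TensorProduct.smul_tmul]]
      rw [h1 T, map_smul, map_smul, hK, hK', Matrix.map_smul' _ _ _ (map_mul g),
        AlgHom.toLinearMap_apply, ← map_smul g]
      congr 1
      rw [← AlgHom.coe_toRingHom, kron_map]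
      simp only [AlgHom.coe_toRingHom, hΦ]
    | add x y hx hy =>
      simp only [TensorProduct.tmul_add, map_add, hx, hy, Matrix.map_add _ (map_add g)]

end Model

section Main

variable (R : Type u) [CommRing R]

theorem baseChangeHom_injective (S : Type u) [CommRing S] [Algebra R S]
    (E : Type u) [AddCommGroup E] [Module R E] [Module.Finite R E] [Module.Projective R E] :
    Function.Injective (LinearMap.liftBaseChange S (LinearMap.baseChangeHom R S E E)) := by
  let N : S ⊗[R] Module.End R E →ₗ[S] Module.End S (S ⊗[R] E) :=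
    LinearMap.liftBaseChange S (LinearMap.baseChangeHom R S E E)
  change Function.Injective N
  rw [injective_iff_map_eq_zero]
  intro z hz
  obtain ⟨m, g, f, -, -, hfg⟩ := Module.Finite.exists_comp_eq_id_of_projective R E
  let c : Fin m → Fin m → (Module.End R E →ₗ[R] R) := fun i k =>
    (LinearMap.proj k).comp (f.comp (LinearMap.applyₗ (g (Pi.single i 1))))
  let θ : Fin m → Fin m → Module.End R E := fun i k =>
    ((LinearMap.proj i).comp f).smulRight (g (Pi.single k 1))
  have hsum : ∀ e : E, ∑ i, f e i • g (Pi.single i 1) = e := by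
    intro e
    conv_rhs => rw [← LinearMap.id_apply (R := R) e, ← hfg, LinearMap.comp_apply,
      pi_eq_sum_univ' (f e), map_sum]
    exact Finset.sum_congr rfl fun i _ => by rw [map_smul]
  have hθ : ∀ a : Module.End R E, ∑ i, ∑ k, c i k a • θ i k = a := by
    intro a
    ext e
    simp only [LinearMap.sum_apply, LinearMap.smul_apply, θ, c, LinearMap.smulRight_apply,
      LinearMap.comp_apply, LinearMap.proj_apply, LinearMap.applyₗ_apply_apply]
    conv_rhs => rw [← hsum e, map_sum]
    refine Finset.sum_congr rfl fun i _ => ?_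
    rw [map_smul]
    conv_rhs => rw [← hsum (a (g (Pi.single i 1))), Finset.smul_sum]
    exact Finset.sum_congr rfl fun k _ => smul_comm _ _ _
  have hc : ∀ z, ∑ i, ∑ k, (TensorProduct.rid R S (LinearMap.lTensor S (c i k) z)) • ((1 : S) ⊗ₜ[R] θ i k) = z := by
    intro z
    induction z using TensorProduct.induction_on with
    | zero => simp
    | add a b ha hb => simp only [map_add, add_smul, Finset.sum_add_distrib, ha, hb]
    | tmul t a =>
      conv_rhs => rw [← hθ a, TensorProduct.tmul_sum]
      refine Finset.sum_congr rfl fun i _ => ?_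
      rw [TensorProduct.tmul_sum]
      refine Finset.sum_congr rfl fun k _ => ?_
      rw [LinearMap.lTensor_tmul, TensorProduct.rid_tmul, TensorProduct.smul_tmul', smul_eq_mul, mul_one,
        TensorProduct.smul_tmul]
  rw [← hc z]
  refine Finset.sum_eq_zero fun i _ => Finset.sum_eq_zero fun k _ => ?_
  have hck : ∀ z, TensorProduct.rid R S (LinearMap.lTensor S (c i k) z) =
      TensorProduct.rid R S (LinearMap.lTensor S ((LinearMap.proj k).comp f)
        (N z ((1 : S) ⊗ₜ[R] g (Pi.single i 1)))) := by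
    intro z
    induction z using TensorProduct.induction_on with
    | zero => simp
    | add a b ha hb => simp only [map_add, LinearMap.add_apply, ha, hb]
    | tmul t a => simp [N, c, LinearMap.baseChangeHom, TensorProduct.smul_tmul']
  rw [hck, hz, LinearMap.zero_apply, map_zero, map_zero, zero_smul]

theorem bijective_of_splitting (S : Type u) [CommRing S] [Algebra R S] [Module.FaithfullyFlat R S]
    {B : Type u} [Ring B] [Algebra R B] {ι : Type} [Fintype ι] [DecidableEq ι]
    (K : S ⊗[R] B ≃ₐ[S] Matrix ι ι S)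
    {E : Type u} [AddCommGroup E] [Module R E] [Module.Finite R E] [Module.Projective R E]
    (lm : B →ₐ[R] Module.End R E) (W : (S ⊗[R] E) ≃ₗ[S] (ι → S))
    (hW : ∀ b x, W ((lm b).baseChange S x) = K ((1 : S) ⊗ₜ[R] b) *ᵥ W x) :
    Function.Bijective lm := by
  let N : S ⊗[R] Module.End R E →ₗ[S] Module.End S (S ⊗[R] E) :=
    LinearMap.liftBaseChange S (LinearMap.baseChangeHom R S E E)
  have hN : Function.Injective N := baseChangeHom_injective R S E
  have hN1 : ∀ (t : S) (g : Module.End R E) x, N (t ⊗ₜ[R] g) x = t • g.baseChange S x := by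
    intro t g x
    simp [N, LinearMap.baseChangeHom]
  have hact : ∀ (z : S ⊗[R] B) x, W (N (LinearMap.lTensor S lm.toLinearMap z) x) = K z *ᵥ W x := by
    intro z x
    induction z using TensorProduct.induction_on with
    | zero => simp only [map_zero, LinearMap.zero_apply, Matrix.zero_mulVec]
    | add a b ha hb => simp only [map_add, LinearMap.add_apply, ha, hb, Matrix.add_mulVec]
    | tmul t b =>
      rw [LinearMap.lTensor_tmul, AlgHom.toLinearMap_apply, hN1, map_smul, hW,
        show t ⊗ₜ[R] b = t • ((1 : S) ⊗ₜ[R] b) by rw [TensorProduct.smul_tmul', smul_eq_mul, mul_one],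
        map_smul, Matrix.smul_mulVec]
  refine ⟨(injective_iff_map_eq_zero _).2 fun b hb => ?_, ?_⟩
  · apply Module.FaithfullyFlat.tensorProduct_mk_injective (A := R) (B := S) B
    rw [map_zero]
    apply K.injective
    rw [map_zero]
    refine Matrix.toLin'.injective (LinearMap.ext fun v => ?_)
    obtain ⟨x, rfl⟩ := W.surjective v
    rw [map_zero, LinearMap.zero_apply, Matrix.toLin'_apply, TensorProduct.mk_apply, ← hW, hb,
      LinearMap.baseChange_zero, LinearMap.zero_apply, map_zero]
  · suffices h : Function.Surjective (LinearMap.lTensor S lm.toLinearMap) from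
      (Module.FaithfullyFlat.lTensor_surjective_iff_surjective R S lm.toLinearMap).1 h
    intro y
    refine ⟨K.symm (LinearMap.toMatrix' (W.toLinearMap ∘ₗ N y ∘ₗ W.symm.toLinearMap)),
      hN (LinearMap.ext fun x => W.injective ?_)⟩
    rw [hact, K.apply_symm_apply, ← Matrix.toLin'_apply, Matrix.toLin'_toMatrix']
    simp

theorem exists_end_of_rank_one (S : Type u) [CommRing S] [Algebra R S] [Module.FaithfullyFlat R S]
    {B : Type u} [Ring B] [Algebra R B] {ι : Type} [Fintype ι] [DecidableEq ι] (i₀ : ι)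
    (d : ι → S) (hd : d i₀ = 1) (K : S ⊗[R] B ≃ₐ[S] Matrix ι ι S) (s : B)
    (hKs : K ((1 : S) ⊗ₜ[R] s) = Matrix.vecMulVec d d) :
    ∃ (E : Type u) (_ : AddCommGroup E) (_ : Module R E), Module.Finite R E ∧ Module.Projective R E ∧
      (∀ p : PrimeSpectrum R, Module.rankAtStalk (R := R) E p = Fintype.card ι) ∧
      Nonempty (B ≃ₐ[R] Module.End R E) := by
  let E := LinearMap.range (LinearMap.mulRight R s)
  let j : S ⊗[R] E →ₗ[S] S ⊗[R] B := E.subtype.baseChange S
  have hj : Function.Injective j :=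
    Module.Flat.lTensor_preserves_injective_linearMap _ Subtype.val_injective
  have hjr : ∀ x, ∃ y, j x = y * ((1 : S) ⊗ₜ[R] s) := by
    intro x
    induction x using TensorProduct.induction_on with
    | zero => exact ⟨0, by simp⟩
    | tmul t e =>
      obtain ⟨_, b, rfl⟩ := e
      exact ⟨t ⊗ₜ[R] b, by simp [j]⟩
    | add x y hx hy =>
      obtain ⟨a, ha⟩ := hx; obtain ⟨b, hb⟩ := hy
      exact ⟨a + b, by rw [map_add, ha, hb, add_mul]⟩
  have hjr' : ∀ y, y * ((1 : S) ⊗ₜ[R] s) ∈ LinearMap.range j := by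
    intro y
    induction y using TensorProduct.induction_on with
    | zero => simp
    | tmul t b =>
      exact ⟨t ⊗ₜ[R] ⟨b * s, ⟨b, rfl⟩⟩, by simp [j]⟩
    | add x y hx hy => rw [add_mul]; exact add_mem hx hy
  let W₀ : S ⊗[R] E →ₗ[S] ι → S :=
    { toFun := fun x => K (j x) *ᵥ Pi.single i₀ (1 : S)
      map_add' := fun x y => by rw [map_add, map_add, Matrix.add_mulVec]
      map_smul' := fun c x => by rw [map_smul, map_smul, Matrix.smul_mulVec, RingHom.id_apply] }
  have hcol : ∀ Y : Matrix ι ι S,
      (Y * Matrix.vecMulVec d d) *ᵥ Pi.single i₀ (1 : S) = Y *ᵥ d := by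
    intro Y
    rw [← Matrix.mulVec_mulVec]
    congr 1
    ext f
    simp [Matrix.mulVec_single, Matrix.vecMulVec_apply, hd]
  have hW₀ : Function.Bijective W₀ := by
    refine ⟨(injective_iff_map_eq_zero _).2 fun x hx => hj ?_, fun v => ?_⟩
    · obtain ⟨y, hy⟩ := hjr x
      have h0 : K y *ᵥ d = 0 := by
        rw [← hcol, ← hKs, ← map_mul, ← hy]
        exact hx
      rw [map_zero, hy]
      apply K.injective
      rw [map_mul, hKs, Matrix.mul_vecMulVec, h0, map_zero]
      ext f g
      simp [Matrix.vecMulVec_apply]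
    · obtain ⟨x, hx⟩ := hjr' (K.symm (Matrix.vecMulVec v (Pi.single i₀ (1 : S))))
      refine ⟨x, ?_⟩
      change K (j x) *ᵥ _ = v
      rw [hx, map_mul, hKs, K.apply_symm_apply, hcol]
      ext f
      simp [Matrix.mulVec, dotProduct, Matrix.vecMulVec_apply, Pi.single_apply, hd]
  let W := LinearEquiv.ofBijective W₀ hW₀
  haveI : Module.Finite S (S ⊗[R] E) := Module.Finite.equiv W.symm
  haveI : Module.Projective S (S ⊗[R] E) := Module.Projective.of_equiv W.symm
  obtain ⟨hfin, hproj⟩ := projective_of_faithfullyFlat S (R := R) (M := E)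
  haveI := hfin; haveI := hproj
  let lm : B →ₐ[R] Module.End R E :=
    { toFun := fun x => LinearMap.restrict (LinearMap.mulLeft R x) (p := E) (q := E)
        (by rintro _ ⟨y, rfl⟩; exact ⟨x * y, by simp [mul_assoc]⟩)
      map_one' := by ext y; simp
      map_mul' := fun x x' => by ext y; simp [mul_assoc]
      map_zero' := by ext y; simp
      map_add' := fun x x' => by ext y; simp [add_mul]
      commutes' := fun r => by ext y; simp [Algebra.smul_def, Module.algebraMap_end_apply] }
  have hjm : ∀ (b : B) (x : S ⊗[R] E), j ((lm b).baseChange S x) = ((1 : S) ⊗ₜ[R] b) * j x := by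
    intro b x
    induction x using TensorProduct.induction_on with
    | zero => simp only [map_zero, mul_zero]
    | add x y hx hy => simp only [map_add, mul_add, hx, hy]
    | tmul c e =>
      rw [LinearMap.baseChange_tmul, LinearMap.baseChange_tmul, LinearMap.baseChange_tmul,
        Algebra.TensorProduct.tmul_mul_tmul, one_mul]
      rfl
  have hbij : Function.Bijective lm := by
    refine bijective_of_splitting R S K lm W fun b x => ?_
    change K (j _) *ᵥ _ = _
    rw [hjm, map_mul, ← Matrix.mulVec_mulVec]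
    rfl
  refine ⟨E, inferInstance, inferInstance, hfin, hproj, fun p => ?_, ⟨AlgEquiv.ofBijective lm hbij⟩⟩
  obtain ⟨q, rfl⟩ := PrimeSpectrum.comap_surjective_of_faithfullyFlat (B := S) p
  haveI : Nontrivial S := q.nontrivial
  rw [← Module.rankAtStalk_baseChange, Module.rankAtStalk_eq_of_equiv W,
    Module.rankAtStalk_eq_finrank_of_free]
  simp

variable (A : Type u) [Ring A] [Algebra R A] [IsAzumaya R A]

theorem exists_end_of_splitting {n : ℕ} [NeZero n] (S : Type u) [CommRing S] [Algebra R S]
    [Module.FaithfullyFlat R S] (φ : (S ⊗[R] A) ≃ₐ[S] Matrix (Fin n) (Fin n) S) :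
    ∃ (E : Type u) (_ : AddCommGroup E) (_ : Module R E), Module.Finite R E ∧ Module.Projective R E ∧
      (∀ p : PrimeSpectrum R, Module.rankAtStalk (R := R) E p = n ^ n) ∧
      Nonempty ((⨂[R] _ : Fin n, A) ≃ₐ[R] Module.End R E) := by
  obtain ⟨K, hK⟩ := exists_kronEquiv φ
  obtain ⟨Φ₁, hΦ₁⟩ := exists_splitting_map φ (Algebra.TensorProduct.includeLeft : S →ₐ[R] S ⊗[R] S)
  obtain ⟨Φ₂, hΦ₂⟩ := exists_splitting_map φ (Algebra.TensorProduct.includeRight : S →ₐ[R] S ⊗[R] S)
  obtain ⟨K₁, hK₁⟩ := exists_kronEquiv Φ₁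
  obtain ⟨K₂, hK₂⟩ := exists_kronEquiv Φ₂
  obtain ⟨s, hs⟩ : ∃ s : (⨂[R] _ : Fin n, A), (1 : S) ⊗ₜ[R] s = K.symm (asymMat S n) := by
    refine exists_descent S _ ?_
    have e1 := kronEquiv_map φ Φ₁ _ hΦ₁ K hK K₁ hK₁ (K.symm (asymMat S n))
    have e2 := kronEquiv_map φ Φ₂ _ hΦ₂ K hK K₂ hK₂ (K.symm (asymMat S n))
    rw [K.apply_symm_apply, ← AlgHom.coe_toRingHom, asymMat_map] at e1 e2
    exact (K₁.eq_symm_apply.2 e1).trans ((asymMat_indep Φ₁ Φ₂ K₁ K₂ hK₁ hK₂).trans
      (K₂.eq_symm_apply.2 e2).symm)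
  have hKs : K ((1 : S) ⊗ₜ[R] s) = asymMat S n := by rw [hs, K.apply_symm_apply]
  obtain ⟨E, iE, mE, h1, h2, h3, h4⟩ :=
    exists_end_of_rank_one R S (id : KIdx n) (asymVec S n) asymVec_id K s hKs
  exact ⟨E, iE, mE, h1, h2, fun p => by rw [h3 p]; simp, h4⟩

theorem exists_end_self_tensor (n : ℕ)
    (hrk : ∀ p : PrimeSpectrum R, Module.rankAtStalk (R := R) A p = n ^ 2) :
    ∃ (E : Type u) (_ : AddCommGroup E) (_ : Module R E), Module.Finite R E ∧ Module.Projective R E ∧
      (∀ p : PrimeSpectrum R, Module.rankAtStalk (R := R) E p = n ^ n) ∧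
      Nonempty ((⨂[R] _ : Fin n, A) ≃ₐ[R] Module.End R E) := by
  rcases subsingleton_or_nontrivial R with hR | hR
  · haveI : Subsingleton (⨂[R] _ : Fin n, A) := Module.subsingleton R _
    haveI : Subsingleton (Module.End R PUnit.{u+1}) := inferInstance
    refine ⟨PUnit.{u+1}, inferInstance, inferInstance, inferInstance, inferInstance,
      fun p => absurd (Subsingleton.elim (0 : R) 1) (by haveI := p.nontrivial; exact zero_ne_one), ⟨?_⟩⟩
    exact
      { toFun := fun _ => 0, invFun := fun _ => 0
        left_inv := fun _ => Subsingleton.elim _ _, right_inv := fun _ => Subsingleton.elim _ _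
        map_mul' := fun _ _ => Subsingleton.elim _ _, map_add' := fun _ _ => Subsingleton.elim _ _
        commutes' := fun _ => Subsingleton.elim _ _ }
  have hn : 0 < n := by
    obtain ⟨p⟩ : Nonempty (PrimeSpectrum R) := inferInstance
    by_contra h0
    have hz := hrk p
    rw [Nat.eq_zero_of_not_pos h0] at hz
    obtain ⟨χ, hχ⟩ := Azu26.exists_functional_one R A
    have hnt : Nontrivial (p.asIdeal.ResidueField ⊗[R] A) := by
      haveI := Azu26.isAzumaya_baseChange R p.asIdeal.ResidueField A
      exact Azu26.nontrivial_of_field p.asIdeal.ResidueField _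
    have hsupp := (Module.mem_support_iff_nontrivial_residueField_tensorProduct p (M := A)).2 hnt
    exact (Module.rankAtStalk_eq_zero_iff_notMem_support p).1 (by simpa using hz) hsupp
  haveI : NeZero n := ⟨hn.ne'⟩
  obtain ⟨S, _, _, _, _, f, -⟩ := S17356.result R R AlgEquiv.refl (fun _ => rfl)
    ⟨Function.injective_id, fun r => ⟨fun _ => ⟨r, rfl⟩, fun _ => rfl⟩⟩ A n hn ⟨inferInstance, hrk⟩
  exact exists_end_of_splitting R A S (f.trans (Algebra.TensorProduct.rid R S S).mapMatrix)

end Main

end Groth.Agent.Csa25
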