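import Groth.Agent.Csa25.AzuModules
import Groth.Agent.Csa25.AzuSelfTensor
import Mathlib.RingTheory.MatrixAlgebra

/-! Azumaya algebras over LG-rings: Skolem-Noether, cancellation, indecomposable modules. -/

set_option autoImplicit false

open scoped TensorProduct
open MulOpposite

namespace Groth.Agent.Csa25

universe u v w x

section ActMod

variable {R : Type u} [CommRing R] {E : Type v} [Ring E] [Algebra R E]
  {M : Type w} [AddCommGroup M] [Module R M]

/-- `M` as a module over `E` through `ρ`. -/
@[nolint unusedArguments]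
def ActMod (_ρ : E →ₐ[R] Module.End R M) : Type w := M

variable (ρ : E →ₐ[R] Module.End R M)

noncomputable instance ActMod.instAddCommGroup : AddCommGroup (ActMod ρ) := inferInstanceAs (AddCommGroup M)
noncomputable instance ActMod.instModuleBase : Module R (ActMod ρ) := inferInstanceAs (Module R M)
noncomputable instance ActMod.instModule : Module E (ActMod ρ) :=
  letI : Module E M := Module.compHom M ρ.toRingHom
  inferInstanceAs (Module E M)
instance ActMod.instTower : IsScalarTower R E (ActMod ρ) := ⟨fun r e m => by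
  change ρ (r • e) m = r • ρ e m
  rw [map_smul]; rfl⟩

/-- The identity map. -/
def ActMod.of : M ≃ₗ[R] ActMod ρ := LinearEquiv.refl R M

theorem ActMod.smul_of (e : E) (m : M) : e • ActMod.of ρ m = ActMod.of ρ (ρ e m) := rfl

end ActMod

variable {R : Type u} [CommRing R]

/-- Skolem-Noether over LG-rings. -/
theorem exists_unit_intertwine (hR : LGRing.IsLGRing R) {D : Type w} [Ring D] [Algebra R D] [IsAzumaya R D]
    {C : Type x} [Ring C] [Algebra R C] [IsAzumaya R C] (i j : C →ₐ[R] D) :
    ∃ u : Dˣ, ∀ c, i c * (u : D) = (u : D) * j c := by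
  haveI := isAzumaya_op R C
  haveI := isAzumaya_tensor R D Cᵐᵒᵖ
  let right : (C →ₐ[R] D) → (Cᵐᵒᵖ →ₐ[R] Module.End R D) := fun i =>
    { toFun := fun c => LinearMap.mulRight R (i (unop c))
      map_one' := by ext x; simp
      map_mul' := fun a b => by ext x; simp [mul_assoc]
      map_zero' := by ext x; simp
      map_add' := fun a b => by ext x; simp [mul_add]
      commutes' := fun r => by ext x; simp [Algebra.algebraMap_eq_smul_one] }
  let act : (C →ₐ[R] D) → (D ⊗[R] Cᵐᵒᵖ →ₐ[R] Module.End R D) := fun i =>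
    Algebra.TensorProduct.lift (Algebra.lmul R D) (right i)
      (fun a c => LinearMap.ext fun x => by simp [right, mul_assoc])
  have hact : ∀ i d c x, act i (d ⊗ₜ[R] op c) x = d * (x * i c) := by
    intro i d c x; simp [act, right]
  haveI : Module.Finite R (ActMod (act i)) := Module.Finite.equiv (ActMod.of (act i))
  haveI : Module.Projective R (ActMod (act i)) := Module.Projective.of_equiv (ActMod.of (act i))
  haveI : Module.Finite R (ActMod (act j)) := Module.Finite.equiv (ActMod.of (act j))
  haveI : Module.Projective R (ActMod (act j)) := Module.Projective.of_equiv (ActMod.of (act j))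
  obtain ⟨θ⟩ := nonempty_equiv_of_rank_eq (A := D ⊗[R] Cᵐᵒᵖ) (M := ActMod (act i)) (N := ActMod (act j)) hR
    fun m _ => congrFun (Module.rankAtStalk_eq_of_equiv ((ActMod.of (act j)).symm.trans (ActMod.of (act i)))) _
  let t : D → D := fun x => (ActMod.of (act j)).symm (θ (ActMod.of (act i) x))
  have ht : ∀ e x, t (act i e x) = act j e (t x) := by
    intro e x
    simp only [t, ← ActMod.smul_of, map_smul]
    rfl
  let u : D := t 1
  have h1 : ∀ x, t x = x * u := by
    intro x
    have := ht (x ⊗ₜ[R] op (1 : C)) 1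
    rw [hact, hact] at this
    simpa [u] using this
  obtain ⟨v, hv⟩ : ∃ v, v * u = 1 := by
    obtain ⟨x, hx⟩ := θ.surjective (ActMod.of (act j) 1)
    refine ⟨(ActMod.of (act i)).symm x, ?_⟩
    rw [← h1]
    simp [t, hx]
  have huv : u * v = 1 := by
    have hinj : Function.Injective t :=
      (ActMod.of (act j)).symm.injective.comp (θ.injective.comp (ActMod.of (act i)).injective)
    apply hinj
    rw [h1, h1, mul_assoc, hv, mul_one, one_mul]
  refine ⟨⟨u, v, huv, hv⟩, fun c => ?_⟩
  have := ht ((1 : D) ⊗ₜ[R] op c) 1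
  simp only [hact, one_mul, h1] at this
  simpa using this

/-- Cancellation of Azumaya algebras over LG-rings. -/
theorem nonempty_algEquiv_of_tensor (hR : LGRing.IsLGRing R) (A : Type v) (B : Type w) (C : Type x)
    [Ring A] [Algebra R A] [IsAzumaya R A] [Ring B] [Algebra R B] [IsAzumaya R B]
    [Ring C] [Algebra R C] [IsAzumaya R C] (e : A ⊗[R] C ≃ₐ[R] B ⊗[R] C) : Nonempty (A ≃ₐ[R] B) := by
  haveI := isAzumaya_tensor R B C
  let i : C →ₐ[R] B ⊗[R] C := Algebra.TensorProduct.includeRight
  let j : C →ₐ[R] B ⊗[R] C := e.toAlgHom.comp Algebra.TensorProduct.includeRight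
  obtain ⟨u, hu⟩ := exists_unit_intertwine hR i j
  let conj : B ⊗[R] C ≃ₐ[R] B ⊗[R] C :=
    { toFun := fun x => ↑u * x * ↑u⁻¹
      invFun := fun x => ↑u⁻¹ * x * ↑u
      left_inv := fun x => by simp [mul_assoc]
      right_inv := fun x => by simp [mul_assoc]
      map_mul' := fun x y => by simp [mul_assoc]
      map_add' := fun x y => by simp [mul_add, add_mul]
      commutes' := fun r => by
        rw [← Algebra.commutes r (↑u : B ⊗[R] C), mul_assoc, Units.mul_inv, mul_one] }
  let E : A ⊗[R] C ≃ₐ[R] B ⊗[R] C := e.trans conj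
  have hE : ∀ c : C, E ((1 : A) ⊗ₜ[R] c) = (1 : B) ⊗ₜ[R] c := by
    intro c
    change ↑u * j c * ↑u⁻¹ = i c
    rw [← hu, mul_assoc, Units.mul_inv, mul_one]
  let LA : A →ₐ[R] A ⊗[R] C := Algebra.TensorProduct.includeLeft
  let LB : B →ₐ[R] B ⊗[R] C := Algebra.TensorProduct.includeLeft
  obtain ⟨χ, hχ⟩ := Azu26.exists_functional_one R C
  have hLA : Function.Injective LA := fun a a' h => by
    simpa [LA, hχ] using congrArg (fun z => TensorProduct.rid R A (LinearMap.lTensor A χ z)) h
  have hLB : Function.Injective LB := fun a a' h => by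
    simpa [LB, hχ] using congrArg (fun z => TensorProduct.rid R B (LinearMap.lTensor B χ z)) h
  let Ψ : A →ₐ[R] B ⊗[R] C := E.toAlgHom.comp LA
  have hΨ : Function.Injective Ψ := E.injective.comp hLA
  have hr : Ψ.range = LB.range := by
    refine le_antisymm ?_ ?_
    · rintro _ ⟨a, rfl⟩
      refine commute_right_iff R C fun c => ?_
      change E (LA a) * ((1 : B) ⊗ₜ[R] c) = ((1 : B) ⊗ₜ[R] c) * E (LA a)
      rw [← hE, ← map_mul, ← map_mul]
      congr 1
      simp [LA]
    · rintro _ ⟨b, rfl⟩
      obtain ⟨a, ha⟩ := commute_right_iff R C (B := A) (x := E.symm (LB b)) fun c => by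
        apply E.injective
        rw [map_mul, map_mul, E.apply_symm_apply, hE]
        simp [LB]
      exact ⟨a, by
        change E (LA a) = _
        rw [show LA a = E.symm (LB b) from ha, E.apply_symm_apply]; rfl⟩
  exact ⟨(AlgEquiv.ofInjective Ψ hΨ).trans ((Subalgebra.equivOfEq _ _ hr).trans (AlgEquiv.ofInjective LB hLB).symm)⟩

theorem nonempty_algEquiv_of_matrix_lg (hR : LGRing.IsLGRing R) (A : Type v) (B : Type w)
    [Ring A] [Algebra R A] [IsAzumaya R A] [Ring B] [Algebra R B] [IsAzumaya R B] (n : ℕ) (hn : 0 < n)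
    (e : Matrix (Fin n) (Fin n) A ≃ₐ[R] Matrix (Fin n) (Fin n) B) : Nonempty (A ≃ₐ[R] B) := by
  haveI : NeZero n := ⟨hn.ne'⟩
  haveI : IsAzumaya R (Matrix (Fin n) (Fin n) R) := IsAzumaya.matrix R (Fin n)
  exact nonempty_algEquiv_of_tensor hR A B (Matrix (Fin n) (Fin n) R)
    ((matrixEquivTensor (Fin n) R A).symm.trans (e.trans (matrixEquivTensor (Fin n) R B)))

theorem rankAtStalk_azumaya_pos (A : Type v) [Ring A] [Algebra R A] [IsAzumaya R A]
    (m : Ideal R) [m.IsMaximal] : 0 < Module.rankAtStalk (R := R) A ⟨m, inferInstance⟩ := by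
  letI := Ideal.Quotient.field m
  haveI := LG97.nontrivial_fiber (R := R) A m
  rw [← LG97.fib_rank A m]
  exact Module.finrank_pos

theorem rankAtStalk_end {R : Type u} [CommRing R] (P : Type u) [AddCommGroup P] [Module R P] [Module.Finite R P]
    [Module.Projective R P] [FaithfulSMul R P] (m : Ideal R) [m.IsMaximal] :
    Module.rankAtStalk (R := R) (Module.End R P) ⟨m, inferInstance⟩ =
      Module.rankAtStalk (R := R) P ⟨m, inferInstance⟩ ^ 2 := by
  letI := Ideal.Quotient.field m
  haveI := Azu26.isAzumaya_end R P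
  rw [← LG97.fib_rank (Module.End R P) m, ← LG97.fib_rank P m]
  let N := LinearMap.liftBaseChange (R ⧸ m) (LinearMap.baseChangeHom R (R ⧸ m) P P)
  have hN : Function.Bijective N := by
    refine ⟨baseChangeHom_injective R (R ⧸ m) P, fun g => ?_⟩
    let mk : P →ₗ[R] (R ⧸ m) ⊗[R] P := TensorProduct.mk R (R ⧸ m) P 1
    have hmk : Function.Surjective mk := fun z => by
      obtain ⟨x, hx⟩ := Submodule.Quotient.mk_surjective _ (TensorProduct.quotTensorEquivQuotSMul P m z)
      exact ⟨x, (TensorProduct.quotTensorEquivQuotSMul P m).injective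
        (by rw [TensorProduct.mk_apply, TensorProduct.quotTensorEquivQuotSMul_mk_one_tmul, hx])⟩
    obtain ⟨f, hf⟩ := Module.projective_lifting_property mk ((g.restrictScalars R).comp mk) hmk
    refine ⟨(1 : R ⧸ m) ⊗ₜ[R] f, LinearMap.ext fun z => ?_⟩
    obtain ⟨x, rfl⟩ := hmk z
    have := LinearMap.congr_fun hf x
    simpa [N, LinearMap.baseChangeHom, mk] using this
  rw [(LinearEquiv.ofBijective N hN).finrank_eq, sq]
  exact Module.finrank_linearMap (R ⧸ m) (R ⧸ m) _ _

theorem nonempty_algEquiv_of_brauer (hR : LGRing.IsLGRing R) (A B : Type u) [Ring A] [Algebra R A]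
    [IsAzumaya R A] [Ring B] [Algebra R B] [IsAzumaya R B]
    (hdeg : ∀ p : PrimeSpectrum R, Module.rankAtStalk A p = Module.rankAtStalk B p)
    (P Q : Type u) [AddCommGroup P] [Module R P] [Module.Finite R P] [Module.Projective R P] [FaithfulSMul R P]
    [AddCommGroup Q] [Module R Q] [Module.Finite R Q] [Module.Projective R Q] [FaithfulSMul R Q]
    (e : A ⊗[R] Module.End R P ≃ₐ[R] B ⊗[R] Module.End R Q) : Nonempty (A ≃ₐ[R] B) := by
  haveI := Azu26.isAzumaya_end R P
  haveI := Azu26.isAzumaya_end R Q
  obtain ⟨θ⟩ := LG97.iso_of_rank hR Q P fun m _ => by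
    have h := congrFun (Module.rankAtStalk_eq_of_equiv e.toLinearEquiv) ⟨m, inferInstance⟩
    rw [Module.rankAtStalk_tensorProduct, Module.rankAtStalk_tensorProduct, Pi.mul_apply, Pi.mul_apply,
      ← hdeg] at h
    have h' := Nat.eq_of_mul_eq_mul_left (rankAtStalk_azumaya_pos A m) h
    rw [rankAtStalk_end P m, rankAtStalk_end Q m] at h'
    exact (Nat.pow_left_injective two_ne_zero h').symm
  exact nonempty_algEquiv_of_tensor hR A B (Module.End R P)
    (e.trans (Algebra.TensorProduct.congr AlgEquiv.refl (θ.conjAlgEquiv R)))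

section Connected

variable {A : Type v} [Ring A] [Algebra R A] [IsAzumaya R A]
  (M : Type w) [AddCommGroup M] [Module A M] [Module R M] [IsScalarTower R A M]

theorem base_finite_projective [Module.Finite A M] [Module.Projective A M] :
    Module.Finite R M ∧ Module.Projective R M := by
  obtain ⟨a, π, ι, -, -, h⟩ := Module.Finite.exists_comp_eq_id_of_projective A M
  haveI : Module.Projective R (Fin a → A) :=
    Module.Projective.of_equiv (TensorProduct.piScalarRight R R A (Fin a))
  refine ⟨Module.Finite.trans A M,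
    Module.Projective.of_split (ι.restrictScalars R) (π.restrictScalars R) ?_⟩
  ext x
  simpa using LinearMap.congr_fun h x

end Connected

theorem rankAtStalk_const [ConnectedSpace (PrimeSpectrum R)] (M : Type w) [AddCommGroup M] [Module R M]
    [Module.Finite R M] [Module.Projective R M] (p q : PrimeSpectrum R) :
    Module.rankAtStalk (R := R) M p = Module.rankAtStalk (R := R) M q := by
  haveI : Module.FinitePresentation R M := Module.finitePresentation_of_projective R M
  exact Module.isLocallyConstant_rankAtStalk.apply_eq_of_preconnectedSpace p q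

theorem iso_of_indecomposable (hR : LGRing.IsLGRing R) [ConnectedSpace (PrimeSpectrum R)]
    {A : Type v} [Ring A] [Algebra R A] [IsAzumaya R A]
    (P Q : Type w) [AddCommGroup P] [Module A P] [Module R P] [IsScalarTower R A P]
    [Module.Finite R P] [Module.Projective R P]
    [AddCommGroup Q] [Module A Q] [Module R Q] [IsScalarTower R A Q] [Module.Finite R Q] [Module.Projective R Q]
    [Nontrivial Q] (hP : ∀ e : Module.End A P, IsIdempotentElem e → e = 0 ∨ e = 1)
    (hle : ∀ (m : Ideal R) [m.IsMaximal],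
      Module.rankAtStalk Q ⟨m, inferInstance⟩ ≤ Module.rankAtStalk P ⟨m, inferInstance⟩) :
    Nonempty (P ≃ₗ[A] Q) := by
  obtain ⟨f, g, hb⟩ := exists_lifting (A := A) (M := P) (N := Q) hR hle
  let θ : Q ≃ₗ[A] Q := LinearEquiv.ofBijective (f.comp g) hb
  let g' : Q →ₗ[A] P := g.comp θ.symm.toLinearMap
  have hfg : ∀ y, f (g' y) = y := fun y => θ.apply_symm_apply y
  have he : IsIdempotentElem (g'.comp f : Module.End A P) := by
    ext x
    simp [Module.End.mul_apply, hfg]
  rcases hP _ he with h | h
  · exfalso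
    obtain ⟨y, hy⟩ := exists_ne (0 : Q)
    apply hy
    have := congrArg f (LinearMap.congr_fun h (g' y))
    simpa [hfg] using this
  · exact ⟨LinearEquiv.ofLinearMap f g' (LinearMap.ext hfg) h⟩

end Groth.Agent.Csa25
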