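import Groth.Agent.Csa25.AzuDescent
import Groth.Agent.Glue24.Milnor
import Groth.Agent.EtAlg23.MilnorFlat

/-! Azumaya algebras over Milnor squares. -/

set_option autoImplicit false

open scoped TensorProduct

namespace Groth.Agent.Csa25

universe u

variable {B' B A' A : Type u} [CommRing B'] [CommRing B] [CommRing A'] [CommRing A]
  [Algebra B' B] [Algebra B' A'] [Algebra B A] [Algebra A' A] [Algebra B' A]
  [IsScalarTower B' B A] [IsScalarTower B' A' A]

theorem exists_prime_over (hsq : EtMil.IsFibreSquare B' B A' A) (m : Ideal B') [m.IsMaximal] :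
    (∃ q : PrimeSpectrum B, q.asIdeal.comap (algebraMap B' B) = m) ∨
    (∃ q : PrimeSpectrum A', q.asIdeal.comap (algebraMap B' A') = m) := by
  have hm : ∀ (S : Type u) [CommRing S] [Algebra B' S], m.map (algebraMap B' S) ≠ ⊤ →
      ∃ q : PrimeSpectrum S, q.asIdeal.comap (algebraMap B' S) = m := by
    intro S _ _ hne
    obtain ⟨q, hq, hle⟩ := Ideal.exists_le_maximal _ hne
    exact ⟨⟨q, hq.isPrime⟩, (Ideal.IsMaximal.eq_of_le inferInstance
      (Ideal.comap_ne_top _ hq.ne_top) (Ideal.map_le_iff_le_comap.1 hle)).symm⟩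
  by_cases hJ : RingHom.ker (algebraMap B' B) ≤ m
  · refine Or.inl (hm B fun htop => ?_)
    obtain ⟨x, hx, hx1⟩ := (Ideal.mem_map_iff_of_surjective _ (Glue24.Milnor.surjective_left hsq)).1
      (show (1 : B) ∈ m.map (algebraMap B' B) by rw [htop]; trivial)
    have : x - 1 ∈ m := hJ (RingHom.mem_ker.2 (by rw [map_sub, hx1, map_one, sub_self]))
    exact Ideal.IsMaximal.ne_top inferInstance ((Ideal.eq_top_iff_one m).2 (by simpa using m.sub_mem hx this))
  · refine Or.inr (hm A' fun htop => hJ fun j hj => ?_)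
    have key : ∀ a ∈ m.map (algebraMap B' A'), ∀ j : RingHom.ker (algebraMap B' B),
        (Glue24.Milnor.actKer hsq j a : B') ∈ m := by
      intro a ha
      induction ha using Submodule.span_induction with
      | mem y hy =>
        obtain ⟨x, hx, rfl⟩ := hy
        intro j
        rw [Algebra.algebraMap_eq_smul_one, map_smul, Submodule.coe_smul, smul_eq_mul]
        exact m.mul_mem_right _ hx
      | zero => intro j; simp
      | add y z _ _ hy hz => intro j; simpa using m.add_mem (hy j) (hz j)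
      | smul c y _ hy =>
        intro j
        have : (Glue24.Milnor.actKer hsq j (c * y) : B') =
            (Glue24.Milnor.actKer hsq (Glue24.Milnor.actKer hsq j c) y : B') := by
          refine Glue24.Milnor.ext_of_images hsq ?_ ?_
          · rw [RingHom.mem_ker.1 (Glue24.Milnor.actKer hsq j (c * y)).2,
              RingHom.mem_ker.1 (Glue24.Milnor.actKer hsq _ y).2]
          · simp only [Glue24.Milnor.algebraMap_actKer]
            ring
        rw [smul_eq_mul, this]
        exact hy _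
    have := key 1 (by rw [htop]; trivial) ⟨j, hj⟩
    rwa [Glue24.Milnor.actKer_one] at this

theorem isAzumaya_of_pair (hsq : EtMil.IsFibreSquare B' B A' A) (D' : Type u) [Ring D'] [Algebra B' D']
    [IsAzumaya B (B ⊗[B'] D')] [IsAzumaya A' (A' ⊗[B'] D')] : IsAzumaya B' D' := by
  haveI : Module.Finite B (B ⊗[B'] D') := IsAzumaya.toFinite
  haveI : Module.Finite A' (A' ⊗[B'] D') := IsAzumaya.toFinite
  haveI : Module.FinitePresentation B (B ⊗[B'] D') := Module.finitePresentation_of_projective B _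
  haveI : Module.FinitePresentation A' (A' ⊗[B'] D') := Module.finitePresentation_of_projective A' _
  haveI := Glue24.Milnor.finite (L' := D') hsq
  haveI := Glue24.Milnor.flat (L' := D') hsq
  haveI := Glue24.Milnor.finitePresentation (L' := D') hsq
  haveI : Module.Projective B' D' := Module.Flat.projective_of_finitePresentation
  refine isAzumaya_of_residual B' D' fun m hm => ?_
  rcases exists_prime_over hsq m with ⟨q, hq⟩ | ⟨q, hq⟩
  · exact isAzumaya_residual B' B D' q m hq
  · exact isAzumaya_residual B' A' D' q m hq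

theorem isAzumaya_glue (hsq : EtMil.IsFibreSquare B' B A' A)
    {N : Type u} [Ring N] [Algebra B N] [Algebra B' N] [IsScalarTower B' B N] [IsAzumaya B N]
    {M' : Type u} [Ring M'] [Algebra A' M'] [Algebra B' M'] [IsScalarTower B' A' M'] [IsAzumaya A' M']
    (φ : A ⊗[B] N ≃ₐ[A] A ⊗[A'] M')
    {D' : Type u} [Ring D'] [Algebra B' D'] (π₁ : D' →ₐ[B'] N) (π₂ : D' →ₐ[B'] M')
    (hinj : ∀ d : D', π₁ d = 0 → π₂ d = 0 → d = 0)
    (himg : ∀ (n : N) (m' : M'), φ ((1 : A) ⊗ₜ[B] n) = (1 : A) ⊗ₜ[A'] m' ↔ ∃ d : D', π₁ d = n ∧ π₂ d = m') :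
    IsAzumaya B' D' := by
  have hw := EtAlg23.isWeakSquare_of_isFibreSquare hsq
  let G := EtMil.glue B' φ.toLinearEquiv
  let E₀ : D' →ₗ[B'] G := (π₁.toLinearMap.prod π₂.toLinearMap).codRestrict G
    (fun d => (himg (π₁ d) (π₂ d)).2 ⟨d, rfl, rfl⟩)
  let E : D' ≃ₗ[B'] G := LinearEquiv.ofBijective E₀ ⟨(injective_iff_map_eq_zero _).2 fun d hd =>
      hinj d (congrArg (fun x : G => x.1.1) hd) (congrArg (fun x : G => x.1.2) hd),
    fun x => by
      obtain ⟨d, h1, h2⟩ := (himg x.1.1 x.1.2).1 x.2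
      exact ⟨d, Subtype.ext (Prod.ext h1 h2)⟩⟩
  let q₁ : B ⊗[B'] D' →ₐ[B] N :=
    Algebra.TensorProduct.lift (Algebra.ofId B N) π₁ (fun b d => Algebra.commutes b (π₁ d))
  let q₂ : A' ⊗[B'] D' →ₐ[A'] M' :=
    Algebra.TensorProduct.lift (Algebra.ofId A' M') π₂ (fun b d => Algebra.commutes b (π₂ d))
  have h₁ : Function.Bijective q₁ := by
    have : q₁.toLinearMap = LinearMap.liftBaseChange B (EtMil.glueFst B' φ.toLinearEquiv) ∘ₗ
        (LinearEquiv.baseChange B' B D' G E).toLinearMap := by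
      ext d
      simp [q₁, E, E₀, G, EtMil.glueFst]
    rw [← AlgHom.coe_toLinearMap, this]
    exact (EtAlg23.liftFst_bijective hw).comp (LinearEquiv.bijective _)
  have h₂ : Function.Bijective q₂ := by
    have : q₂.toLinearMap = LinearMap.liftBaseChange A' (EtMil.glueSnd B' φ.toLinearEquiv) ∘ₗ
        (LinearEquiv.baseChange B' A' D' G E).toLinearMap := by
      ext d
      simp [q₂, E, E₀, G, EtMil.glueSnd]
    rw [← AlgHom.coe_toLinearMap, this]
    exact (EtAlg23.liftSnd_bijective hw).comp (LinearEquiv.bijective _)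
  haveI : IsAzumaya B (B ⊗[B'] D') := IsAzumaya.of_AlgEquiv B N _ (AlgEquiv.ofBijective q₁ h₁).symm
  haveI : IsAzumaya A' (A' ⊗[B'] D') := IsAzumaya.of_AlgEquiv A' M' _ (AlgEquiv.ofBijective q₂ h₂).symm
  exact isAzumaya_of_pair hsq D'

end Groth.Agent.Csa25
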