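import Groth.Agent.Csa25.AzuRing
import Groth.Agent.Csa25.Basic
import Groth.Agent.LG97.Basic

/-! Modules over Azumaya algebras: separability, projectivity, centralisers, LG-rings. -/

set_option autoImplicit false

open scoped TensorProduct
open MulOpposite

namespace Groth.Agent.Csa25

universe u v w

section Sep

variable (R : Type u) [CommRing R] (A : Type v) [Ring A] [Algebra R A] [IsAzumaya R A]

/-- Elements `z` of `A ⊗ Aᵐᵒᵖ` representing functionals. -/
theorem exists_funct_elem (χ : A →ₗ[R] R) :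
    ∃ z : A ⊗[R] Aᵐᵒᵖ, (∀ x, AlgHom.mulLeftRight R A z x = χ x • 1) ∧
      ∀ a : A, (a ⊗ₜ[R] op (1 : A)) * z = ((1 : A) ⊗ₜ[R] op a) * z := by
  obtain ⟨z, hz⟩ := (IsAzumaya.bij (R := R) (A := A)).2 (χ.smulRight 1)
  refine ⟨z, fun x => by simp [hz], fun a => ?_⟩
  apply (IsAzumaya.bij (R := R) (A := A)).1
  rw [map_mul, map_mul]
  ext x
  simp [hz]

variable {M : Type w} [AddCommGroup M] [Module R M] [Module A M] [IsScalarTower R A M]
  [Module.Finite R M] [Module.Projective R M]

include R in
/-- A finite projective `R`-module over an Azumaya algebra is a finite projective module over it. -/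
theorem finite_projective_of_base : Module.Finite A M ∧ Module.Projective A M := by
  obtain ⟨χ, hχ⟩ := Azu26.exists_functional_one R A
  obtain ⟨z, hz, hzc⟩ := exists_funct_elem R A χ
  obtain ⟨m, p, i, -, -, hpi⟩ := Module.Finite.exists_comp_eq_id_of_projective R M
  haveI : SMulCommClass R A M := IsScalarTower.to_smulCommClass
  let T : A ⊗[R] Aᵐᵒᵖ →ₗ[R] (M →ₗ[R] (Fin m → A)) :=
    TensorProduct.lift (LinearMap.mk₂ R
      (fun (a : A) (b : Aᵐᵒᵖ) => (LinearMap.pi fun l : Fin m =>
        ((LinearMap.proj (R := R) l).comp (i.comp (Algebra.lsmul R R M (unop b)))).smulRight a))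
      (fun a a' b => by ext x l; simp)
      (fun r a b => by ext x l; simp [smul_comm r])
      (fun a b b' => by ext x l; simp [add_smul])
      (fun r a b => by ext x l; simp [mul_smul]))
  have hT : ∀ (a : A) (b : Aᵐᵒᵖ) (x : M) (l : Fin m),
      T (a ⊗ₜ[R] b) x l = i (unop b • x) l • a := fun a b x l => by simp [T]
  have hleft : ∀ (c : A) w x l, T ((c ⊗ₜ[R] op (1 : A)) * w) x l = c * T w x l := by
    intro c w x l
    induction w using TensorProduct.induction_on with
    | zero => simp
    | tmul a b => simp [hT]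
    | add a b ha hb => simp only [mul_add, map_add, LinearMap.add_apply, Pi.add_apply, ha, hb]
  have hright : ∀ (c : A) w x l, T (((1 : A) ⊗ₜ[R] op c) * w) x l = T w (c • x) l := by
    intro c w x l
    induction w using TensorProduct.induction_on with
    | zero => simp
    | tmul a b => simp [hT, mul_smul]
    | add a b ha hb => simp only [mul_add, map_add, LinearMap.add_apply, Pi.add_apply, ha, hb]
  let σ : M →ₗ[A] (Fin m → A) :=
    { toFun := T z
      map_add' := map_add _
      map_smul' := fun c x => by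
        funext l
        rw [RingHom.id_apply, Pi.smul_apply, smul_eq_mul, ← hleft, hzc, hright] }
  let π : (Fin m → A) →ₗ[A] M :=
    ∑ l, (LinearMap.proj l).smulRight (p (Pi.single l 1))
  have hπσ : π.comp σ = LinearMap.id := by
    refine LinearMap.ext fun x => ?_
    have key : ∀ w, π (T w x) = AlgHom.mulLeftRight R A w 1 • x := by
      intro w
      induction w using TensorProduct.induction_on with
      | zero => simp
      | add a b ha hb => simp only [map_add, LinearMap.add_apply, add_smul, ha, hb]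
      | tmul a b =>
        have h1 : p (i (unop b • x)) = unop b • x := LinearMap.congr_fun hpi _
        rw [AlgHom.mulLeftRight_apply, mul_one, mul_smul]
        conv_rhs => rw [← h1, pi_eq_sum_univ' (i (unop b • x)), map_sum, Finset.smul_sum]
        simp [π, hT, smul_assoc, smul_comm a]
    rw [LinearMap.comp_apply, LinearMap.id_apply]
    change π (T z x) = x
    rw [key, hz, hχ, one_smul, one_smul]
  exact ⟨Module.Finite.of_surjective π fun x => ⟨σ x, LinearMap.congr_fun hπσ x⟩,
    Module.Projective.of_split σ π hπσ⟩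

theorem isAzumaya_op : IsAzumaya R Aᵐᵒᵖ := by
  haveI : Module.Projective R Aᵐᵒᵖ := Module.Projective.of_equiv (opLinearEquiv R : A ≃ₗ[R] Aᵐᵒᵖ)
  haveI : Module.Finite R Aᵐᵒᵖ := Module.Finite.equiv (opLinearEquiv R : A ≃ₗ[R] Aᵐᵒᵖ)
  haveI : FaithfulSMul R Aᵐᵒᵖ := ⟨fun {r s} h => eq_of_smul_eq_smul (α := A) fun a => by
    simpa using congrArg unop (h (op a))⟩
  let μ : A ⊗[R] Aᵐᵒᵖ ≃ₗ[R] Module.End R A :=
    LinearEquiv.ofBijective (AlgHom.mulLeftRight R A).toLinearMap IsAzumaya.bij
  let E : Aᵐᵒᵖ ⊗[R] Aᵐᵒᵖᵐᵒᵖ ≃ₗ[R] Module.End R Aᵐᵒᵖ :=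
    TensorProduct.congr (LinearEquiv.refl R Aᵐᵒᵖ)
        ((opLinearEquiv R).symm.trans (opLinearEquiv R).symm) ≪≫ₗ
      TensorProduct.comm R Aᵐᵒᵖ A ≪≫ₗ μ ≪≫ₗ (opLinearEquiv R : A ≃ₗ[R] Aᵐᵒᵖ).conj
  have hE : (E : _ →ₗ[R] _) = (AlgHom.mulLeftRight R Aᵐᵒᵖ).toLinearMap := by
    refine TensorProduct.ext' fun a b => LinearMap.ext fun x => ?_
    apply unop_injective
    simp [E, μ, LinearEquiv.conj_apply, mul_assoc]
  exact { bij := by rw [← AlgHom.coe_toLinearMap, ← hE]; exact E.bijective }

theorem commute_right_iff {B : Type w} [Ring B] [Algebra R B] [Module.Finite R B] [Module.Projective R B]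
    {x : B ⊗[R] A} (h : ∀ c : A, x * ((1 : B) ⊗ₜ[R] c) = ((1 : B) ⊗ₜ[R] c) * x) :
    x ∈ (Algebra.TensorProduct.includeLeft : B →ₐ[R] B ⊗[R] A).range := by
  obtain ⟨n, φ, e, he⟩ := Azu26.exists_dualBasis R B
  let P : Fin n → (B ⊗[R] A →ₗ[R] A) := fun i =>
    (TensorProduct.lid R A).toLinearMap.comp (LinearMap.rTensor A (φ i))
  have hsum : ∀ w, ∑ i, e i ⊗ₜ[R] P i w = w := by
    intro w
    induction w using TensorProduct.induction_on with
    | zero => simp
    | tmul b a =>
      simp only [P, LinearMap.comp_apply, LinearMap.rTensor_tmul, LinearEquiv.coe_coe, TensorProduct.lid_tmul,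
        ← TensorProduct.smul_tmul, ← TensorProduct.sum_tmul, he]
    | add a b ha hb => simp only [map_add, TensorProduct.tmul_add, Finset.sum_add_distrib, ha, hb]
  have hr : ∀ i w c, P i (w * ((1 : B) ⊗ₜ[R] c)) = P i w * c ∧ P i (((1 : B) ⊗ₜ[R] c) * w) = c * P i w := by
    intro i w c
    induction w using TensorProduct.induction_on with
    | zero => simp
    | tmul b a => simp [P]
    | add a b ha hb => simp only [add_mul, mul_add, map_add, ha.1, ha.2, hb.1, hb.2, and_self]
  choose r hr' using fun i => (Azu26.mem_center_iff R A (c := P i x)).1 fun c => by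
    rw [← (hr i x c).1, ← (hr i x c).2, h]
  refine ⟨∑ i, r i • e i, ?_⟩
  conv_rhs => rw [← hsum x]
  simp only [AlgHom.toRingHom_eq_coe, RingHom.coe_coe, map_sum]
  refine Finset.sum_congr rfl fun i _ => ?_
  rw [Algebra.TensorProduct.includeLeft_apply, ← hr', Algebra.algebraMap_eq_smul_one, TensorProduct.smul_tmul]

end Sep

section Simple

variable (k : Type u) [Field k] (A : Type v) [Ring A] [Algebra k A] [FiniteDimensional k A] [IsSimpleRing A]

/-- Over a simple algebra smaller modules are retracts of larger ones. -/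
theorem exists_retraction_of_finrank_le
    (M : Type w) [AddCommGroup M] [Module k M] [Module A M] [IsScalarTower k A M] [FiniteDimensional k M]
    (N : Type*) [AddCommGroup N] [Module k N] [Module A N] [IsScalarTower k A N] [FiniteDimensional k N]
    (h : Module.finrank k N ≤ Module.finrank k M) :
    ∃ (f : M →ₗ[A] N) (g : N →ₗ[A] M), ∀ x, f (g x) = x := by
  have : IsArtinianRing A := IsArtinianRing.of_finite k A
  have : Module.Finite A M := Module.Finite.of_restrictScalars_finite k A M
  have : Module.Finite A N := Module.Finite.of_restrictScalars_finite k A N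
  rcases subsingleton_or_nontrivial N with hN | hN
  · exact ⟨0, 0, fun _ => Subsingleton.elim _ _⟩
  have : Nontrivial M := Module.nontrivial_of_finrank_pos (R := k) (lt_of_lt_of_le Module.finrank_pos h)
  obtain ⟨m, hm, S, hS, ⟨eM⟩⟩ := (IsSimpleRing.isIsotypic A M).linearEquiv_fun
  obtain ⟨n, hn, T, hT, ⟨eN⟩⟩ := (IsSimpleRing.isIsotypic A N).linearEquiv_fun
  let i₁ : S ≃ₗ[A] LinearMap.range (LinearMap.inl A S T) :=
    LinearEquiv.ofInjective _ LinearMap.inl_injective
  let i₂ : T ≃ₗ[A] LinearMap.range (LinearMap.inr A S T) :=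
    LinearEquiv.ofInjective _ LinearMap.inr_injective
  have := IsSimpleModule.congr i₁.symm
  have := IsSimpleModule.congr i₂.symm
  obtain ⟨e⟩ := IsSimpleRing.isIsotypic A (↥S × ↥T) (LinearMap.range (LinearMap.inl A S T))
    (LinearMap.range (LinearMap.inr A S T))
  let eT : T ≃ₗ[A] S := i₂ ≪≫ₗ e ≪≫ₗ i₁.symm
  let eN' : N ≃ₗ[A] Fin n → S := eN ≪≫ₗ LinearEquiv.piCongrRight fun _ => eT
  have : FiniteDimensional k S := Module.Finite.of_injective (S.subtype.restrictScalars k) Subtype.val_injective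
  have h1 := (eM.restrictScalars k).finrank_eq
  have h2 := (eN'.restrictScalars k).finrank_eq
  rw [Module.finrank_pi_fintype, Finset.sum_const, Finset.card_univ, Fintype.card_fin, smul_eq_mul] at h1 h2
  have hSn : Nontrivial S := IsSimpleModule.nontrivial A S
  have hS0 : 0 < Module.finrank k S := Module.finrank_pos
  have hnm : n ≤ m := Nat.le_of_mul_le_mul_right (h1 ▸ h2 ▸ h) hS0
  let F : (Fin m → S) →ₗ[A] (Fin n → S) := LinearMap.funLeft A S (Fin.castLE hnm)
  let G : (Fin n → S) →ₗ[A] (Fin m → S) :=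
    ∑ j, (LinearMap.single A (fun _ : Fin m => ↥S) (Fin.castLE hnm j)).comp (LinearMap.proj j)
  refine ⟨eN'.symm.toLinearMap.comp (F.comp eM.toLinearMap), eM.symm.toLinearMap.comp (G.comp eN'.toLinearMap),
    fun x => ?_⟩
  have hFG : ∀ v, F (G v) = v := by
    intro v
    funext j
    simp [F, G, LinearMap.funLeft, Finset.sum_apply, Pi.single_apply]
  simp [hFG]

end Simple

section LG

variable {R : Type u} [CommRing R]

theorem exists_bijective_of_LG (hR : LGRing.IsLGRing R) {σ τ : Type} [Fintype σ] [Fintype τ]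
    (N : Type w) [AddCommGroup N] [Module R N] [Module.Finite R N] [Module.Projective R N]
    (T : σ → τ → Module.End R N)
    (h : ∀ (m : Ideal R) [m.IsMaximal], ∃ (s : σ → R) (t : τ → R),
      Function.Bijective ((∑ i, ∑ j, (s i * t j) • T i j).baseChange (R ⧸ m))) :
    ∃ (s : σ → R) (t : τ → R), Function.Bijective ⇑(∑ i, ∑ j, (s i * t j) • T i j : Module.End R N) := by
  classical
  obtain ⟨a, p, i, -, -, hpi⟩ := Module.Finite.exists_comp_eq_id_of_projective R N
  have hpi' : ∀ x, p (i x) = x := LinearMap.congr_fun hpi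
  let Z : Module.End R N → Matrix (Fin a) (Fin a) R := fun h =>
    LinearMap.toMatrix' (i ∘ₗ h ∘ₗ p + (LinearMap.id - i ∘ₗ p))
  have hZ : ∀ {S : Type u} [CommRing S] [Algebra R S] (h : Module.End R N),
      IsUnit ((Z h).map (algebraMap R S)).det ↔ Function.Bijective (h.baseChange S) := by
    intro S _ _ h
    let Θ := TensorProduct.piScalarRight R S S (Fin a)
    let I := Θ.toLinearMap ∘ₗ i.baseChange S
    let P := p.baseChange S ∘ₗ Θ.symm.toLinearMap
    have hPI : ∀ x, P (I x) = x := fun x => by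
      simp only [P, I, LinearMap.comp_apply, LinearEquiv.coe_coe, LinearEquiv.symm_apply_apply]
      rw [← LinearMap.comp_apply, ← LinearMap.baseChange_comp, hpi, LinearMap.baseChange_id]
      rfl
    have hmap : (Z h).map (algebraMap R S) =
        LinearMap.toMatrix' (I ∘ₗ h.baseChange S ∘ₗ P + (LinearMap.id - I ∘ₗ P)) := by
      ext j l
      simp [Z, I, P, Θ, LinearMap.toMatrix'_apply, TensorProduct.piScalarRight_symm_single, Algebra.smul_def,
        Pi.single_apply, Matrix.one_apply, apply_ite (algebraMap R S)]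
    set L := I ∘ₗ h.baseChange S ∘ₗ P + (LinearMap.id - I ∘ₗ P) with hL
    rw [hmap, ← Matrix.isUnit_iff_isUnit_det]
    have hLu : IsUnit (LinearMap.toMatrix' L) ↔ Function.Bijective L := by
      rw [← Module.End.isUnit_iff]
      exact MulEquiv.isUnit_map (LinearMap.toMatrixAlgEquiv' (R := S) (n := Fin a)) (x := L)
    rw [hLu]
    have hPL : ∀ x, P (L x) = h.baseChange S (P x) := fun x => by simp [hL, hPI]
    have hLI : ∀ x, L (I x) = I (h.baseChange S x) := fun x => by simp [hL, hPI]
    constructor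
    · intro hb
      refine ⟨fun x y hxy => ?_, fun y => ?_⟩
      · have := hb.1 (show L (I x) = L (I y) by rw [hLI, hLI, hxy])
        simpa [hPI] using congrArg P this
      · obtain ⟨z, hz⟩ := hb.2 (I y)
        exact ⟨P z, by rw [← hPL, hz, hPI]⟩
    · intro hb
      refine ⟨(injective_iff_map_eq_zero _).2 fun x hx => ?_, fun y => ?_⟩
      · have h1 : P x = 0 := (injective_iff_map_eq_zero (h.baseChange S)).1 hb.1 _ (by rw [← hPL, hx, map_zero])
        simpa [hL, h1] using hx
      · obtain ⟨z, hz⟩ := hb.2 (P y)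
        exact ⟨I z + (y - I (P y)), by simp [hL, hPI, hz]⟩
  let Zl : Module.End R N →ₗ[R] Matrix (Fin a) (Fin a) R :=
    LinearMap.toMatrix'.toLinearMap ∘ₗ (LinearMap.llcomp R (Fin a → R) N (Fin a → R) i) ∘ₗ
      (LinearMap.lcomp R N p)
  let E₀ : Matrix (Fin a) (Fin a) R := LinearMap.toMatrix' (LinearMap.id - i ∘ₗ p)
  have hZl : ∀ h, Z h = Zl h + E₀ := fun h => by
    simp [Z, Zl, E₀, map_add]
    rfl
  let C' : R →+* MvPolynomial (σ ⊕ τ) R := MvPolynomial.C
  let Pol : MvPolynomial (σ ⊕ τ) R :=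
    (∑ i, ∑ j, (MvPolynomial.X (Sum.inl i) * MvPolynomial.X (Sum.inr j) : MvPolynomial (σ ⊕ τ) R) •
      (Zl (T i j)).map C' + E₀.map C').det
  have heval : ∀ (S : Type u) [CommRing S] [Algebra R S] (s : σ → R) (t : τ → R),
      MvPolynomial.aeval (Sum.elim (algebraMap R S ∘ s) (algebraMap R S ∘ t)) Pol =
        ((Z (∑ i, ∑ j, (s i * t j) • T i j)).map (algebraMap R S)).det := by
    intro S _ _ s t
    rw [AlgHom.map_det]
    congr 1
    ext x y
    simp [hZl, C', Matrix.sum_apply, Matrix.add_apply, map_sum, map_mul]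
  obtain ⟨w, hw⟩ := LG97.rep_fintype hR Pol fun m hm => by
    obtain ⟨s, t, hb⟩ := h m
    exact ⟨_, by rw [heval]; exact (hZ _).2 hb⟩
  refine ⟨w ∘ Sum.inl, w ∘ Sum.inr, ?_⟩
  have h1 := heval R (w ∘ Sum.inl) (w ∘ Sum.inr)
  rw [show Sum.elim (algebraMap R R ∘ (w ∘ Sum.inl)) (algebraMap R R ∘ (w ∘ Sum.inr)) = w by
    funext x; cases x <;> rfl] at h1
  rw [h1] at hw
  have h2 := (hZ _).1 hw
  have he : ∀ x, TensorProduct.lid R N ((∑ i, ∑ j, ((w ∘ Sum.inl) i * (w ∘ Sum.inr) j) • T i j).baseChange R x) =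
      (∑ i, ∑ j, ((w ∘ Sum.inl) i * (w ∘ Sum.inr) j) • T i j) (TensorProduct.lid R N x) := by
    intro x
    induction x using TensorProduct.induction_on with
    | zero => simp
    | tmul r n => rw [LinearMap.baseChange_tmul, TensorProduct.lid_tmul, TensorProduct.lid_tmul, map_smul]
    | add a b ha hb => simp only [map_add, ha, hb]
  refine (Function.Bijective.of_comp_iff _ (TensorProduct.lid R N).bijective).1 ?_
  have h3 := (TensorProduct.lid R N).bijective.comp h2
  convert h3 using 1
  exact (funext he).symm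

variable {A : Type v} [Ring A] [Algebra R A] [IsAzumaya R A]
  {M : Type w} [AddCommGroup M] [Module A M] [Module R M] [IsScalarTower R A M]
  [Module.Finite R M] [Module.Projective R M]
  {N : Type w} [AddCommGroup N] [Module A N] [Module R N] [IsScalarTower R A N]
  [Module.Finite R N] [Module.Projective R N]

theorem exists_lifting (hR : LGRing.IsLGRing R)
    (h : ∀ (m : Ideal R) [m.IsMaximal],
      Module.rankAtStalk N ⟨m, inferInstance⟩ ≤ Module.rankAtStalk M ⟨m, inferInstance⟩) :
    ∃ (f : M →ₗ[A] N) (g : N →ₗ[A] M), Function.Bijective (f.comp g) := by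
  classical
  haveI : SMulCommClass R A M := IsScalarTower.to_smulCommClass
  haveI : SMulCommClass R A N := IsScalarTower.to_smulCommClass
  obtain ⟨hfM, hpM⟩ := finite_projective_of_base R A (M := M)
  obtain ⟨hfN, hpN⟩ := finite_projective_of_base R A (M := N)
  obtain ⟨b, πM, ιM, -, -, hM⟩ := Module.Finite.exists_comp_eq_id_of_projective A M
  obtain ⟨c, πN, ιN, -, -, hN⟩ := Module.Finite.exists_comp_eq_id_of_projective A N
  obtain ⟨a₁, p₁, i₁, -, -, h₁⟩ := Module.Finite.exists_comp_eq_id_of_projective R M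
  obtain ⟨a₂, p₂, i₂, -, -, h₂⟩ := Module.Finite.exists_comp_eq_id_of_projective R N
  let FM : (Fin b → N) →ₗ[R] (M →ₗ[A] N) :=
    { toFun := fun y => ∑ j, ((LinearMap.proj j).comp ιM).smulRight (y j)
      map_add' := fun y y' => by ext x; simp [Finset.sum_add_distrib]
      map_smul' := fun r y => by ext x; simp [Finset.smul_sum, smul_comm r] }
  let FN : (Fin c → M) →ₗ[R] (N →ₗ[A] M) :=
    { toFun := fun y => ∑ j, ((LinearMap.proj j).comp ιN).smulRight (y j)
      map_add' := fun y y' => by ext x; simp [Finset.sum_add_distrib]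
      map_smul' := fun r y => by ext x; simp [Finset.smul_sum, smul_comm r] }
  let yb : Fin b × Fin a₂ → (Fin b → N) := fun q => Pi.single q.1 (p₂ (Pi.single q.2 1))
  let zb : Fin c × Fin a₁ → (Fin c → M) := fun q => Pi.single q.1 (p₁ (Pi.single q.2 1))
  let T : Fin b × Fin a₂ → Fin c × Fin a₁ → Module.End R N := fun u v =>
    (FM (yb u)).restrictScalars R ∘ₗ (FN (zb v)).restrictScalars R
  have hcomb : ∀ (s : Fin b × Fin a₂ → R) (t : Fin c × Fin a₁ → R),
      ∑ u, ∑ v, (s u * t v) • T u v =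
        (FM (∑ u, s u • yb u)).restrictScalars R ∘ₗ (FN (∑ v, t v • zb v)).restrictScalars R := by
    intro s t
    ext x
    simp only [map_sum, map_smul, T, LinearMap.sum_apply, LinearMap.smul_apply, LinearMap.comp_apply,
      LinearMap.coe_restrictScalars, Finset.smul_sum, mul_smul, LinearMap.map_smul_of_tower]
    rw [Finset.sum_comm]
    exact Finset.sum_congr rfl fun _ _ => Finset.sum_congr rfl fun _ _ => smul_comm _ _ _
  have hy : ∀ y : Fin b → N, ∑ u, i₂ (y u.1) u.2 • yb u = y := by
    intro y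
    funext j
    simp only [Finset.sum_apply, Pi.smul_apply, yb, Fintype.sum_prod_type]
    rw [Finset.sum_eq_single j]
    · simp only [Pi.single_eq_same, ← map_smul, ← map_sum]
      rw [← pi_eq_sum_univ' (i₂ (y j))]
      exact LinearMap.congr_fun h₂ _
    · intro q _ hq; simp [Pi.single_apply, Ne.symm hq]
    · simp
  have hz : ∀ y : Fin c → M, ∑ u, i₁ (y u.1) u.2 • zb u = y := by
    intro y
    funext j
    simp only [Finset.sum_apply, Pi.smul_apply, zb, Fintype.sum_prod_type]
    rw [Finset.sum_eq_single j]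
    · simp only [Pi.single_eq_same, ← map_smul, ← map_sum]
      rw [← pi_eq_sum_univ' (i₁ (y j))]
      exact LinearMap.congr_fun h₁ _
    · intro q _ hq; simp [Pi.single_apply, Ne.symm hq]
    · simp
  obtain ⟨s, t, hb⟩ := exists_bijective_of_LG hR N T fun m hm => by
    letI := Ideal.Quotient.field m
    let k := R ⧸ m
    let actM : k ⊗[R] A →ₐ[k] Module.End k (k ⊗[R] M) :=
      Algebra.TensorProduct.lift (Algebra.ofId k _)
        ((Module.End.baseChangeHom R k M).comp (Algebra.lsmul R R M))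
        (fun x y => Algebra.commutes x _)
    let actN : k ⊗[R] A →ₐ[k] Module.End k (k ⊗[R] N) :=
      Algebra.TensorProduct.lift (Algebra.ofId k _)
        ((Module.End.baseChangeHom R k N).comp (Algebra.lsmul R R N))
        (fun x y => Algebra.commutes x _)
    letI : Module (k ⊗[R] A) (k ⊗[R] M) := Module.compHom _ actM.toRingHom
    letI : Module (k ⊗[R] A) (k ⊗[R] N) := Module.compHom _ actN.toRingHom
    haveI : IsScalarTower k (k ⊗[R] A) (k ⊗[R] M) := ⟨fun r x y => by
      change actM (r • x) y = r • actM x y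
      rw [map_smul]; rfl⟩
    haveI : IsScalarTower k (k ⊗[R] A) (k ⊗[R] N) := ⟨fun r x y => by
      change actN (r • x) y = r • actN x y
      rw [map_smul]; rfl⟩
    haveI := Azu26.isAzumaya_baseChange R k A
    haveI := Azu26.isSimpleRing_of_field k (k ⊗[R] A)
    haveI : Module.Finite k (k ⊗[R] A) := IsAzumaya.toFinite
    obtain ⟨f, g, hfg⟩ := exists_retraction_of_finrank_le k (k ⊗[R] A) (k ⊗[R] M) (k ⊗[R] N)
      (by rw [LG97.fib_rank N m, LG97.fib_rank M m]; exact h m)
    have hAM : ∀ (a : A) (x : M), actM ((1 : k) ⊗ₜ[R] a) ((1 : k) ⊗ₜ[R] x) = (1 : k) ⊗ₜ[R] (a • x) := by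
      intro a x; simp [actM, Module.End.baseChangeHom]
    have hAN : ∀ (a : A) (x : N), actN ((1 : k) ⊗ₜ[R] a) ((1 : k) ⊗ₜ[R] x) = (1 : k) ⊗ₜ[R] (a • x) := by
      intro a x; simp [actN, Module.End.baseChangeHom]
    have hsurjM : ∀ z : k ⊗[R] M, ∃ x : M, (1 : k) ⊗ₜ[R] x = z := fun z => by
      obtain ⟨x, hx⟩ := Submodule.Quotient.mk_surjective _ (TensorProduct.quotTensorEquivQuotSMul M m z)
      exact ⟨x, (TensorProduct.quotTensorEquivQuotSMul M m).injective
        (by rw [TensorProduct.quotTensorEquivQuotSMul_mk_one_tmul, hx])⟩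
    have hsurjN : ∀ z : k ⊗[R] N, ∃ x : N, (1 : k) ⊗ₜ[R] x = z := fun z => by
      obtain ⟨x, hx⟩ := Submodule.Quotient.mk_surjective _ (TensorProduct.quotTensorEquivQuotSMul N m z)
      exact ⟨x, (TensorProduct.quotTensorEquivQuotSMul N m).injective
        (by rw [TensorProduct.quotTensorEquivQuotSMul_mk_one_tmul, hx])⟩
    choose y hy' using fun j => hsurjN (f ((1 : k) ⊗ₜ[R] πM (Pi.single j 1)))
    choose z hz' using fun j => hsurjM (g ((1 : k) ⊗ₜ[R] πN (Pi.single j 1)))
    refine ⟨fun u => i₂ (y u.1) u.2, fun v => i₁ (z v.1) v.2, ?_⟩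
    rw [hcomb, hy, hz]
    have hf : ∀ x : M, (1 : k) ⊗ₜ[R] FM y x = f ((1 : k) ⊗ₜ[R] x) := by
      intro x
      have hx : ∑ j, ιM x j • πM (Pi.single j 1) = x := by
        conv_rhs => rw [← LinearMap.id_apply (R := A) x, ← hM, LinearMap.comp_apply,
          pi_eq_sum_univ' (ιM x), map_sum]
        simp only [map_smul]
      conv_rhs => rw [← hx]
      simp only [FM, LinearMap.coe_mk, AddHom.coe_mk, LinearMap.sum_apply, LinearMap.smulRight_apply,
        LinearMap.comp_apply, LinearMap.proj_apply, TensorProduct.tmul_sum, map_sum]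
      refine Finset.sum_congr rfl fun j _ => ?_
      rw [← hAN, ← hAM, hy']
      exact (map_smul f ((1 : k) ⊗ₜ[R] ιM x j) _).symm
    have hg : ∀ x : N, (1 : k) ⊗ₜ[R] FN z x = g ((1 : k) ⊗ₜ[R] x) := by
      intro x
      have hx : ∑ j, ιN x j • πN (Pi.single j 1) = x := by
        conv_rhs => rw [← LinearMap.id_apply (R := A) x, ← hN, LinearMap.comp_apply,
          pi_eq_sum_univ' (ιN x), map_sum]
        simp only [map_smul]
      conv_rhs => rw [← hx]
      simp only [FN, LinearMap.coe_mk, AddHom.coe_mk, LinearMap.sum_apply, LinearMap.smulRight_apply,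
        LinearMap.comp_apply, LinearMap.proj_apply, TensorProduct.tmul_sum, map_sum]
      refine Finset.sum_congr rfl fun j _ => ?_
      rw [← hAM, ← hAN, hz']
      exact (map_smul g ((1 : k) ⊗ₜ[R] ιN x j) _).symm
    have hid : ((FM y).restrictScalars R ∘ₗ (FN z).restrictScalars R).baseChange k = LinearMap.id := by
      refine LinearMap.ext fun w => ?_
      obtain ⟨x, rfl⟩ := hsurjN w
      rw [LinearMap.baseChange_tmul, LinearMap.comp_apply, LinearMap.coe_restrictScalars,
        LinearMap.coe_restrictScalars, hf, hg, hfg, LinearMap.id_apply]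
    rw [hid]
    exact Function.bijective_id
  rw [hcomb] at hb
  exact ⟨_, _, hb⟩

theorem exists_surjective_of_rank_le (hR : LGRing.IsLGRing R)
    (h : ∀ (m : Ideal R) [m.IsMaximal],
      Module.rankAtStalk N ⟨m, inferInstance⟩ ≤ Module.rankAtStalk M ⟨m, inferInstance⟩) :
    ∃ f : M →ₗ[A] N, Function.Surjective f := by
  obtain ⟨f, g, hb⟩ := exists_lifting (A := A) hR h
  exact ⟨f, fun y => (hb.2 y).elim fun x hx => ⟨g x, hx⟩⟩

theorem nonempty_equiv_of_rank_eq (hR : LGRing.IsLGRing R)
    (h : ∀ (m : Ideal R) [m.IsMaximal],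
      Module.rankAtStalk N ⟨m, inferInstance⟩ = Module.rankAtStalk M ⟨m, inferInstance⟩) :
    Nonempty (M ≃ₗ[A] N) := by
  obtain ⟨f, hf⟩ := exists_surjective_of_rank_le (A := A) (M := M) (N := N) hR fun m hm => (h m).le
  obtain ⟨f', hf'⟩ := exists_surjective_of_rank_le (A := A) (M := N) (N := M) hR fun m hm => (h m).ge
  have hinj := OrzechProperty.injective_of_surjective_endomorphism
    ((f'.comp f).restrictScalars R) (hf'.comp hf)
  exact ⟨LinearEquiv.ofBijective f ⟨Function.Injective.of_comp (f := f') hinj, hf⟩⟩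

end LG

end Groth.Agent.Csa25
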