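import Groth.Agent.Azu26.Basic
import Groth.Agent.Azu26.Semilocal
import Mathlib.LinearAlgebra.Contraction
import Mathlib.RingTheory.LocalRing.Module
import Mathlib.RingTheory.Support
import Mathlib.RingTheory.Flat.FaithfullyFlat.Algebra
import Mathlib.LinearAlgebra.Matrix.Charpoly.Coeff
import Mathlib.LinearAlgebra.Matrix.Charpoly.Basic
import Mathlib.Algebra.Azumaya.Matrix
import Mathlib.RingTheory.Localization.Away.Basic
import Mathlib.Algebra.Polynomial.Lifts

/-! Azumaya algebras over rings: ideals, tensor products, local inner-ness, reduced char polys. -/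

set_option autoImplicit false

open scoped TensorProduct
open MulOpposite

namespace Groth.Agent.Csa25

universe u v w

section Ideals

variable {R : Type u} [CommRing R] {A : Type v} [Ring A] [Algebra R A] [IsAzumaya R A]

theorem azu_linearMap_mem (I : TwoSidedIdeal A) (f : A →ₗ[R] A) {x : A} (hx : x ∈ I) :
    f x ∈ I := by
  obtain ⟨z, rfl⟩ := (IsAzumaya.bij (R := R) (A := A)).2 f
  induction z using TensorProduct.induction_on with
  | zero => simp
  | tmul a b => simpa using I.mul_mem_right _ _ (I.mul_mem_left _ _ hx)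
  | add a b ha hb => simpa using I.add_mem ha hb

theorem azu_twoSided_eq_map_comap (I : TwoSidedIdeal A) :
    TwoSidedIdeal.asIdeal I =
      Ideal.map (algebraMap R A) ((TwoSidedIdeal.asIdeal I).comap (algebraMap R A)) := by
  refine le_antisymm (fun x hx => ?_) Ideal.map_comap_le
  obtain ⟨n, φ, e, he⟩ := Azu26.exists_dualBasis R A
  rw [← he x]
  refine Submodule.sum_mem _ fun i _ => ?_
  rw [Algebra.smul_def, Algebra.commutes]
  refine Ideal.mul_mem_left _ _ (Ideal.mem_map_of_mem _ ?_)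
  rw [Ideal.mem_comap, TwoSidedIdeal.mem_asIdeal, Algebra.algebraMap_eq_smul_one]
  exact azu_linearMap_mem I ((φ i).smulRight 1) (TwoSidedIdeal.mem_asIdeal.1 hx)

theorem azu_comap_map_eq (J : Ideal R) :
    (Ideal.map (algebraMap R A) J).comap (algebraMap R A) = J := by
  refine le_antisymm (fun r hr => ?_) Ideal.le_comap_map
  obtain ⟨φ, hφ⟩ := Azu26.exists_functional_one R A
  have key : ∀ x ∈ Ideal.map (algebraMap R A) J, x ∈ J • (⊤ : Submodule R A) := by
    intro x hx
    induction hx using Submodule.span_induction with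
    | mem y hy =>
      obtain ⟨j, hj, rfl⟩ := hy
      rw [Algebra.algebraMap_eq_smul_one]
      exact Submodule.smul_mem_smul hj trivial
    | zero => exact zero_mem _
    | add y z _ _ hy hz => exact add_mem hy hz
    | smul a y _ hy =>
      have h1 := Submodule.mem_map_of_mem (f := LinearMap.mulLeft R a) hy
      rw [Submodule.map_smul''] at h1
      exact Submodule.smul_mono le_rfl le_top h1
  have h1 := Submodule.mem_map_of_mem (f := φ) (key _ hr)
  rw [Submodule.map_smul'', Algebra.algebraMap_eq_smul_one, map_smul, hφ] at h1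
  rw [smul_eq_mul r (1 : R), mul_one] at h1
  exact Submodule.smul_le.2 (fun a ha y _ => J.mul_mem_right y ha) h1

end Ideals

section Tensor

variable (R : Type u) [CommRing R] (A : Type v) [Ring A] [Algebra R A] [IsAzumaya R A]
  (B : Type w) [Ring B] [Algebra R B] [IsAzumaya R B]

theorem isAzumaya_tensor : IsAzumaya R (A ⊗[R] B) := by
  obtain ⟨φ, hφ⟩ := Azu26.exists_functional_one R A
  obtain ⟨ψ, hψ⟩ := Azu26.exists_functional_one R B
  haveI : FaithfulSMul R (A ⊗[R] B) := ⟨fun {r s} h => by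
    have := congrArg (fun z => TensorProduct.lid R R (TensorProduct.map φ ψ z))
      (h ((1 : A) ⊗ₜ[R] (1 : B)))
    simpa [map_smul, hφ, hψ] using this⟩
  let μA : A ⊗[R] Aᵐᵒᵖ ≃ₗ[R] (A →ₗ[R] A) :=
    LinearEquiv.ofBijective (AlgHom.mulLeftRight R A).toLinearMap IsAzumaya.bij
  let μB : B ⊗[R] Bᵐᵒᵖ ≃ₗ[R] (B →ₗ[R] B) :=
    LinearEquiv.ofBijective (AlgHom.mulLeftRight R B).toLinearMap IsAzumaya.bij
  let o : (A ⊗[R] B)ᵐᵒᵖ ≃ₗ[R] Aᵐᵒᵖ ⊗[R] Bᵐᵒᵖ :=
    (opLinearEquiv R).symm ≪≫ₗ TensorProduct.congr (opLinearEquiv R) (opLinearEquiv R)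
  let e : (A ⊗[R] B) ⊗[R] (A ⊗[R] B)ᵐᵒᵖ ≃ₗ[R] Module.End R (A ⊗[R] B) :=
    TensorProduct.congr (LinearEquiv.refl R _) o ≪≫ₗ TensorProduct.tensorTensorTensorComm R A B Aᵐᵒᵖ Bᵐᵒᵖ
      ≪≫ₗ TensorProduct.congr μA μB ≪≫ₗ homTensorHomEquiv R A B A B
  have he : (e : _ →ₗ[R] _) = (AlgHom.mulLeftRight R (A ⊗[R] B)).toLinearMap := by
    apply TensorProduct.ext'
    intro x y
    induction y using MulOpposite.rec' with
    | _ y =>
      induction x using TensorProduct.induction_on with
      | zero => simp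
      | add x x' hx hx' => simp only [TensorProduct.add_tmul, map_add, hx, hx']
      | tmul a b =>
        induction y using TensorProduct.induction_on with
        | zero => simp
        | add y y' hy hy' => simp only [op_add, TensorProduct.tmul_add, map_add, hy, hy']
        | tmul c d =>
          apply TensorProduct.ext'
          intro p q
          simp [e, o, μA, μB]
  exact { bij := by rw [← AlgHom.coe_toLinearMap, ← he]; exact e.bijective }

end Tensor

section Inner

variable {T : Type u} [CommRing T] {A : Type v} [Ring A] [Algebra T A] [IsAzumaya T A]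

/-- Automorphisms of Azumaya algebras are inner near every prime. -/
theorem exists_local_conj (φ : A ≃ₐ[T] A) (q : Ideal T) [q.IsPrime] :
    ∃ f : T, f ∉ q ∧ ∃ u b : A, u * b = f • 1 ∧ b * u = f • 1 ∧ ∀ a, φ a * u = u * a := by
  obtain ⟨n, c, e, he⟩ := Azu26.exists_dualBasis T A
  let μ := AlgHom.mulLeftRight T A
  choose z hz using fun i => (IsAzumaya.bij (R := T) (A := A)).2 ((c i).smulRight 1)
  let Φ : A ⊗[T] Aᵐᵒᵖ →ₐ[T] Module.End T A :=
    μ.comp (Algebra.TensorProduct.map φ.toAlgHom (AlgHom.id T Aᵐᵒᵖ))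
  let p : Fin n → A := fun i => Φ (z i) 1
  have hcomm : ∀ i a, φ a * p i = p i * a := by
    intro i a
    have h : (a ⊗ₜ[T] op (1 : A)) * z i = ((1 : A) ⊗ₜ[T] op a) * z i := by
      apply (IsAzumaya.bij (R := T) (A := A)).1
      rw [map_mul, map_mul]
      ext x
      simp [hz i]
    have := LinearMap.congr_fun (congrArg Φ h) 1
    simpa [map_mul, Φ, μ, p] using this
  have hsum : ∑ i, φ (e i) * p i = 1 := by
    have h : ∑ i, (e i ⊗ₜ[T] op (1 : A)) * z i = 1 := by
      apply (IsAzumaya.bij (R := T) (A := A)).1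
      rw [map_sum, map_one]
      ext x
      simp [LinearMap.sum_apply, map_mul, hz, he]
    have := LinearMap.congr_fun (congrArg Φ h) 1
    simpa [map_mul, map_sum, LinearMap.sum_apply, Φ, μ, p] using this
  -- the residue algebra is simple
  let K := q.ResidueField
  haveI : IsAzumaya K (K ⊗[T] A) := Azu26.isAzumaya_baseChange T K A
  haveI := Azu26.nontrivial_of_field K (K ⊗[T] A)
  haveI := Azu26.isSimpleRing_of_field K (K ⊗[T] A)
  obtain ⟨i, hi⟩ : ∃ i, (1 : K) ⊗ₜ[T] p i ≠ 0 := by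
    by_contra h
    push Not at h
    refine one_ne_zero (α := K ⊗[T] A) ?_
    rw [Algebra.TensorProduct.one_def, ← hsum, TensorProduct.tmul_sum]
    refine Finset.sum_eq_zero fun i _ => ?_
    have : (1 : K) ⊗ₜ[T] (φ (e i) * p i) = ((1 : K) ⊗ₜ[T] φ (e i)) * ((1 : K) ⊗ₜ[T] p i) := by simp
    rw [this, h, mul_zero]
  let x₀ : K ⊗[T] A := (1 : K) ⊗ₜ[T] p i
  let L₀ : K ⊗[T] A →ₗ[K] K ⊗[T] A := LinearMap.mulLeft K x₀
  have hL₀ : LinearMap.range L₀ = ⊤ := by
    let W : TwoSidedIdeal (K ⊗[T] A) := TwoSidedIdeal.mk' (LinearMap.range L₀ : Set (K ⊗[T] A))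
      (zero_mem _) (fun hx hy => add_mem hx hy) (fun hx => neg_mem hx)
      (by
        intro r y hy
        induction r using TensorProduct.induction_on with
        | zero => simp
        | add r s hr hs => rw [add_mul]; exact add_mem hr hs
        | tmul k a =>
          obtain ⟨w, rfl⟩ := hy
          refine ⟨(k ⊗ₜ[T] φ.symm a) * w, ?_⟩
          simp only [L₀, x₀, LinearMap.mulLeft_apply, ← mul_assoc]
          rw [Algebra.TensorProduct.tmul_mul_tmul, Algebra.TensorProduct.tmul_mul_tmul,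
            ← hcomm i (φ.symm a), φ.apply_symm_apply, one_mul, mul_one])
      (by
        rintro y r ⟨w, rfl⟩
        exact ⟨w * r, by simp [L₀, mul_assoc]⟩)
    rcases IsSimpleRing.simple.eq_bot_or_eq_top W with h | h
    · exfalso
      refine hi ?_
      have : x₀ ∈ W := (TwoSidedIdeal.mem_mk' ..).2 ⟨1, by simp [L₀]⟩
      rwa [h, TwoSidedIdeal.mem_bot] at this
    · refine eq_top_iff.2 fun y _ => ?_
      have : y ∈ W := by rw [h]; trivial
      exact (TwoSidedIdeal.mem_mk' ..).1 this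
  -- Nakayama
  let L : A →ₗ[T] A := LinearMap.mulLeft T (p i)
  have hQ : Subsingleton (K ⊗[T] (A ⧸ LinearMap.range L)) := by
    refine subsingleton_of_forall_eq 0 fun y => ?_
    obtain ⟨w, rfl⟩ := LinearMap.lTensor_surjective K (Submodule.mkQ_surjective _) y
    obtain ⟨v, rfl⟩ := LinearMap.range_eq_top.1 hL₀ w
    have h1 : ∀ v, L₀ v = LinearMap.lTensor K L v := by
      intro v
      induction v using TensorProduct.induction_on with
      | zero => simp
      | tmul k a => simp [L₀, x₀, L]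
      | add a b ha hb => simp only [map_add, ha, hb]
    have h2 : (LinearMap.range L).mkQ.comp L = 0 :=
      LinearMap.range_le_ker_iff.1 (by rw [Submodule.ker_mkQ])
    rw [h1, ← LinearMap.comp_apply, ← LinearMap.lTensor_comp, h2, LinearMap.lTensor_zero,
      LinearMap.zero_apply]
  have hsupp : (⟨q, inferInstance⟩ : PrimeSpectrum T) ∉ Module.support T (A ⧸ LinearMap.range L) := by
    rw [Module.mem_support_iff_nontrivial_residueField_tensorProduct]
    exact not_nontrivial _
  rw [Module.support_eq_zeroLocus, PrimeSpectrum.mem_zeroLocus, SetLike.coe_subset_coe,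
    SetLike.le_def] at hsupp
  push Not at hsupp
  obtain ⟨f, hf, hfq⟩ := hsupp
  have hmem : ∀ y : A, f • y ∈ LinearMap.range L := by
    intro y
    have := Module.mem_annihilator.1 hf ((LinearMap.range L).mkQ y)
    rw [← map_smul] at this
    exact (Submodule.Quotient.mk_eq_zero _).1 this
  obtain ⟨b, hb⟩ := hmem 1
  simp only [L, LinearMap.mulLeft_apply] at hb
  have hc : φ b * p i = f • 1 := by rw [hcomm, hb]
  have hfb : f • φ b = f • b := by
    calc f • φ b = φ b * (p i * b) := by rw [hb, mul_smul_comm, mul_one]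
      _ = f • b := by rw [← mul_assoc, hc, smul_mul_assoc, one_mul]
  refine ⟨f * f, fun h => hfq ((Ideal.IsPrime.mem_or_mem inferInstance h).elim id id), p i, f • b,
    ?_, ?_, hcomm i⟩
  · rw [mul_smul_comm, hb, smul_smul]
  · rw [← hfb, smul_mul_assoc, hc, smul_smul]

theorem exists_away_conj (φ : A ≃ₐ[T] A) (q : Ideal T) [q.IsPrime] :
    ∃ (f : T) (_ : f ∉ q) (u : (Localization.Away f ⊗[T] A)ˣ),
      ∀ a : Localization.Away f ⊗[T] A,
        Algebra.TensorProduct.map (AlgHom.id (Localization.Away f) (Localization.Away f))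
          (φ : A →ₐ[T] A) a =
          (u : Localization.Away f ⊗[T] A) * a * (u⁻¹ : (Localization.Away f ⊗[T] A)ˣ) := by
  obtain ⟨f, hf, u, b, hub, hbu, hu⟩ := exists_local_conj φ q
  let S := Localization.Away f
  let g : S := IsLocalization.Away.invSelf f
  have hg : f • g = 1 := by rw [Algebra.smul_def]; exact IsLocalization.Away.mul_invSelf f
  have h1 : ((1 : S) ⊗ₜ[T] u) * (g ⊗ₜ[T] b) = 1 := by
    rw [Algebra.TensorProduct.tmul_mul_tmul, hub, one_mul, TensorProduct.tmul_smul,
      TensorProduct.smul_tmul', hg, Algebra.TensorProduct.one_def]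
  have h2 : (g ⊗ₜ[T] b) * ((1 : S) ⊗ₜ[T] u) = 1 := by
    rw [Algebra.TensorProduct.tmul_mul_tmul, hbu, mul_one, TensorProduct.tmul_smul,
      TensorProduct.smul_tmul', hg, Algebra.TensorProduct.one_def]
  let U : (S ⊗[T] A)ˣ := ⟨_, _, h1, h2⟩
  refine ⟨f, hf, U, fun a => ?_⟩
  rw [Units.eq_mul_inv_iff_mul_eq]
  induction a using TensorProduct.induction_on with
  | zero => simp
  | tmul s x => simp [U, hu x]
  | add x y hx hy => rw [map_add, add_mul, mul_add, hx, hy]

end Inner

section Charpoly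

open Polynomial Matrix

variable {T : Type u} [CommRing T] {n : ℕ}

theorem charpoly_algEquiv [NeZero n] (θ : Matrix (Fin n) (Fin n) T ≃ₐ[T] Matrix (Fin n) (Fin n) T)
    (M : Matrix (Fin n) (Fin n) T) : (θ M).charpoly = M.charpoly := by
  rcases subsingleton_or_nontrivial T with hT | hT
  · exact Subsingleton.elim _ _
  haveI : IsAzumaya T (Matrix (Fin n) (Fin n) T) := IsAzumaya.matrix T (Fin n)
  rw [← sub_eq_zero]
  set D := (θ M).charpoly - M.charpoly with hD
  let I : Ideal T := LinearMap.ker ((LinearMap.toSpanSingleton T T[X] D))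
  suffices h : (1 : T) ∈ I by simpa [I] using h
  by_contra h
  obtain ⟨m, hm, hle⟩ := Ideal.exists_le_maximal I (fun h' => h (h' ▸ trivial))
  obtain ⟨f, hf, u, b, hub, -, hu⟩ := exists_local_conj θ m
  have hdet : u.det * b.det = f ^ n := by
    rw [← det_mul, hub, det_smul, det_one, Fintype.card_fin, mul_one]
  have hchar : (θ M).charmatrix * u.map C = u.map C * M.charmatrix := by
    unfold charmatrix
    rw [sub_mul, mul_sub, Matrix.scalar_commute (X : T[X]) (fun r' => Commute.all _ _) (u.map C),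
      RingHom.mapMatrix_apply, RingHom.mapMatrix_apply, ← Matrix.map_mul, hu, Matrix.map_mul]
  have h2 := congrArg Matrix.det hchar
  rw [det_mul, det_mul, ← RingHom.mapMatrix_apply, ← RingHom.map_det] at h2
  have h3 : u.det • D = 0 := by
    rw [Polynomial.smul_eq_C_mul, hD, mul_sub, sub_eq_zero, Matrix.charpoly, Matrix.charpoly,
      mul_comm, h2]
  have : f ^ n ∈ I := by
    simp only [I, LinearMap.mem_ker, LinearMap.toSpanSingleton_apply]
    rw [← hdet, mul_comm, mul_smul, h3, smul_zero]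
  exact hf (hm.isPrime.mem_of_pow_mem n (hle this))

variable {R : Type v} [CommRing R] {A : Type w} [Ring A] [Algebra R A]

/-- Base change of a splitting. -/
theorem exists_splitting_map {R' : Type*} [CommRing R'] [Algebra R R'] [Algebra R T]
    (φ : (R' ⊗[R] A) ≃ₐ[R'] Matrix (Fin n) (Fin n) R') (g : R' →ₐ[R] T) :
    ∃ Φ : (T ⊗[R] A) ≃ₐ[T] Matrix (Fin n) (Fin n) T,
      ∀ a : A, Φ ((1 : T) ⊗ₜ[R] a) = (φ ((1 : R') ⊗ₜ[R] a)).map g := by
  let Φ₀ : T ⊗[R] A →ₐ[T] Matrix (Fin n) (Fin n) T :=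
    Algebra.TensorProduct.lift (Algebra.ofId T _)
      ((g.mapMatrix.comp (φ.toAlgHom.restrictScalars R)).comp Algebra.TensorProduct.includeRight)
      (fun t a => Algebra.commutes t _)
  have hΦ₀ : ∀ (t : T) (a : A), Φ₀ (t ⊗ₜ[R] a) = t • (φ ((1 : R') ⊗ₜ[R] a)).map g := by
    intro t a; simp [Φ₀, Algebra.smul_def, Algebra.ofId_apply]
  let G : R' ⊗[R] A →ₐ[R] T ⊗[R] A := Algebra.TensorProduct.map g (AlgHom.id R A)
  have hG : ∀ (r : R') w, G (r • w) = g r • G w := by
    intro r w
    induction w using TensorProduct.induction_on with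
    | zero => simp
    | tmul s a => simp [G, TensorProduct.smul_tmul', smul_eq_mul]
    | add x y hx hy => simp only [smul_add, map_add, hx, hy]
  have hΦG : ∀ w, Φ₀ (G w) = (φ w).map g := by
    intro w
    induction w using TensorProduct.induction_on with
    | zero => simp
    | add x y hx hy => rw [map_add, map_add, hx, hy, map_add, Matrix.map_add _ (map_add g)]
    | tmul s a =>
      have hs : s ⊗ₜ[R] a = s • ((1 : R') ⊗ₜ[R] a) := by simp [TensorProduct.smul_tmul']
      conv_rhs => rw [hs, map_smul, Matrix.map_smul' _ _ _ (map_mul g)]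
      simp [G, hΦ₀]
  let E : Fin n → Fin n → Matrix (Fin n) (Fin n) R' := fun i j => Matrix.single i j 1
  have hinj : ∀ y, ∑ i, ∑ j, Φ₀ y i j • G (φ.symm (E i j)) = y := by
    intro y
    induction y using TensorProduct.induction_on with
    | zero => simp
    | add x y hx hy => simp only [map_add, Matrix.add_apply, add_smul, Finset.sum_add_distrib, hx, hy]
    | tmul t a =>
      have h1 : (1 : R') ⊗ₜ[R] a = ∑ i, ∑ j, φ ((1 : R') ⊗ₜ[R] a) i j • φ.symm (E i j) := by
        apply φ.injective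
        conv_lhs => rw [Matrix.matrix_eq_sum_single (φ ((1 : R') ⊗ₜ[R] a))]
        simp [E, map_sum, Matrix.smul_single]
      have h2 : (1 : T) ⊗ₜ[R] a = G ((1 : R') ⊗ₜ[R] a) := by simp [G]
      calc ∑ i, ∑ j, Φ₀ (t ⊗ₜ[R] a) i j • G (φ.symm (E i j))
          = t • G (∑ i, ∑ j, φ ((1 : R') ⊗ₜ[R] a) i j • φ.symm (E i j)) := by
            simp only [hΦ₀, Matrix.smul_apply, Matrix.map_apply, map_sum, hG, Finset.smul_sum,
              smul_eq_mul, mul_smul]
        _ = t ⊗ₜ[R] a := by rw [← h1, ← h2, TensorProduct.smul_tmul', smul_eq_mul, mul_one]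
  have hsurj : Function.Surjective Φ₀ := by
    intro M
    refine ⟨∑ i, ∑ j, M i j • G (φ.symm (E i j)), ?_⟩
    simp only [map_sum, map_smul, hΦG, AlgEquiv.apply_symm_apply]
    conv_rhs => rw [Matrix.matrix_eq_sum_single M]
    simp [E, Matrix.map_single, Matrix.smul_single]
  refine ⟨AlgEquiv.ofBijective Φ₀ ⟨fun x y h => by rw [← hinj x, ← hinj y, h], hsurj⟩, fun a => ?_⟩
  simp [hΦ₀]

/-- The reduced characteristic polynomial. -/
theorem exists_reduced_charpoly [Nontrivial R] [IsAzumaya R A] (a : A) (n : ℕ)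
    {R' : Type*} [CommRing R'] [Algebra R R'] [Module.FaithfullyFlat R R']
    (φ : (R' ⊗[R] A) ≃ₐ[R'] Matrix (Fin n) (Fin n) R')
    {R'' : Type*} [CommRing R''] [Algebra R R''] [Module.FaithfullyFlat R R'']
    (ψ : (R'' ⊗[R] A) ≃ₐ[R''] Matrix (Fin n) (Fin n) R'') :
    ∃ p : Polynomial R,
      p.map (algebraMap R R') = (φ ((1 : R') ⊗ₜ[R] a)).charpoly ∧
        p.map (algebraMap R R'') = (ψ ((1 : R'') ⊗ₜ[R] a)).charpoly ∧
          Polynomial.aeval a p = 0 := by
  have hn : NeZero n := by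
    refine ⟨?_⟩
    rintro rfl
    obtain ⟨χ, hχ⟩ := Azu26.exists_functional_one R A
    have h := congrArg (fun z => TensorProduct.rid R R' (LinearMap.lTensor R' χ z))
      (φ.injective (Subsingleton.elim (φ ((1 : R') ⊗ₜ[R] (1 : A))) (φ 0)))
    haveI : Nontrivial R' := (FaithfulSMul.algebraMap_injective R R').nontrivial
    simp [hχ] at h
  obtain ⟨Φ₁, hΦ₁⟩ := exists_splitting_map φ
    (Algebra.TensorProduct.includeLeft : R' →ₐ[R] R' ⊗[R] R')
  obtain ⟨Φ₁', hΦ₁'⟩ := exists_splitting_map φ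
    (Algebra.TensorProduct.includeRight : R' →ₐ[R] R' ⊗[R] R')
  obtain ⟨Φ₂, hΦ₂⟩ := exists_splitting_map φ
    (Algebra.TensorProduct.includeLeft : R' →ₐ[R] R' ⊗[R] R'')
  obtain ⟨Ψ₂, hΨ₂⟩ := exists_splitting_map ψ
    (Algebra.TensorProduct.includeRight : R'' →ₐ[R] R' ⊗[R] R'')
  set P := (φ ((1 : R') ⊗ₜ[R] a)).charpoly with hP
  set P' := (ψ ((1 : R'') ⊗ₜ[R] a)).charpoly with hP'
  have e1 := charpoly_algEquiv (Φ₁.symm.trans Φ₁') (Φ₁ ((1 : R' ⊗[R] R') ⊗ₜ[R] a))
  have e2 := charpoly_algEquiv (Φ₂.symm.trans Ψ₂) (Φ₂ ((1 : R' ⊗[R] R'') ⊗ₜ[R] a))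
  simp only [AlgEquiv.trans_apply, AlgEquiv.symm_apply_apply] at e1 e2
  rw [hΦ₁, hΦ₁'] at e1
  rw [hΦ₂, hΨ₂] at e2
  simp only [← AlgHom.coe_toRingHom, Matrix.charpoly_map, ← hP, ← hP'] at e1 e2
  have hrange : ∀ k, P.coeff k ∈ Set.range (algebraMap R R') := by
    intro k
    have h1 := congrArg (fun q => Polynomial.coeff q k) e1
    simp only [Polynomial.coeff_map, AlgHom.coe_toRingHom,
      Algebra.TensorProduct.includeLeft_apply, Algebra.TensorProduct.includeRight_apply] at h1
    let Q := LinearMap.range (Algebra.linearMap R R')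
    have h0 : (1 : R') ⊗ₜ[R] Q.mkQ (P.coeff k) = 0 := by
      have h2 : Q.mkQ (1 : R') = 0 :=
        (Submodule.Quotient.mk_eq_zero _).2 ⟨1, by simp⟩
      have h3 := congrArg (LinearMap.lTensor R' Q.mkQ) h1
      simpa [h2] using h3
    have := Module.FaithfullyFlat.tensorProduct_mk_injective (A := R) (B := R') (R' ⧸ Q)
      (a₁ := Q.mkQ (P.coeff k)) (a₂ := 0) (by simpa using h0)
    obtain ⟨r, hr⟩ := (Submodule.Quotient.mk_eq_zero _).1 this
    exact ⟨r, hr⟩
  obtain ⟨p, hp⟩ := (Polynomial.mem_lifts P).1 ((Polynomial.lifts_iff_coeff_lifts P).2 hrange)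
  refine ⟨p, hp, ?_, ?_⟩
  · apply Polynomial.map_injective
      (Algebra.TensorProduct.includeRight : R'' →ₐ[R] R' ⊗[R] R'').toRingHom
      (fun x y h => Module.FaithfullyFlat.tensorProduct_mk_injective (A := R) (B := R') R'' h)
    rw [Polynomial.map_map, AlgHom.toRingHom_eq_coe, AlgHom.comp_algebraMap]
    rw [← AlgHom.comp_algebraMap (Algebra.TensorProduct.includeLeft : R' →ₐ[R] R' ⊗[R] R''),
      ← Polynomial.map_map, hp, ← e2]
  · apply Module.FaithfullyFlat.tensorProduct_mk_injective (A := R) (B := R') A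
    rw [map_zero]
    change (Algebra.TensorProduct.includeRight : A →ₐ[R] R' ⊗[R] A) (aeval a p) = 0
    rw [← Polynomial.aeval_algHom_apply]
    apply φ.injective
    rw [map_zero, ← Polynomial.aeval_map_algebraMap R', hp, ← AlgEquiv.coe_toAlgHom,
      ← Polynomial.aeval_algHom_apply]
    exact Matrix.aeval_self_charpoly _

end Charpoly

end Groth.Agent.Csa25
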