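import Groth.Agent.Csa25.AzuRing
import Mathlib.RingTheory.PiTensorProduct
import Mathlib.LinearAlgebra.PiTensorProduct.Basic
import Mathlib.LinearAlgebra.Multilinear.Basic
import Mathlib.Algebra.Azumaya.Matrix
import Mathlib.Data.Fintype.Option

/-! Tensor powers of Azumaya algebras and the Kronecker model. -/

set_option autoImplicit false

open scoped TensorProduct
open Matrix

namespace Groth.Agent.Csa25

universe u v w

section Pi

variable (R : Type u) [CommRing R] (A : Type v) [Ring A] [Algebra R A]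

theorem isAzumaya_pi [IsAzumaya R A] (α : Type) [Fintype α] : IsAzumaya R (⨂[R] _ : α, A) := by
  refine Fintype.induction_empty_option (P := fun α _ => IsAzumaya R (⨂[R] _ : α, A)) ?_ ?_ ?_ α
  · intro α β _ e ih
    let f : (⨂[R] _ : α, A) ≃ₐ[R] ⨂[R] _ : β, A :=
      AlgEquiv.ofLinearEquiv (PiTensorProduct.reindex R (fun _ : α => A) e)
        (by rw [PiTensorProduct.one_def, PiTensorProduct.one_def]
            exact PiTensorProduct.reindex_tprod _ _)
        ((LinearMap.map_mul_iff _).mpr <| by ext x y; simp; rfl)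
    exact IsAzumaya.of_AlgEquiv R _ _ f
  · let f : (⨂[R] _ : PEmpty, A) ≃ₐ[R] R :=
      AlgEquiv.ofLinearEquiv (PiTensorProduct.isEmptyEquiv PEmpty)
        (by rw [PiTensorProduct.one_def]; simp [PiTensorProduct.isEmptyEquiv])
        ((LinearMap.map_mul_iff _).mpr <| by ext x y; simp [PiTensorProduct.isEmptyEquiv])
    haveI := IsAzumaya.id R
    exact IsAzumaya.of_AlgEquiv R R _ f.symm
  · intro α _ ih
    let f₁ : (⨂[R] _ : PUnit.{1}, A) ≃ₐ[R] A :=
      AlgEquiv.ofLinearEquiv (PiTensorProduct.subsingletonEquiv PUnit.unit)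
        (by rw [PiTensorProduct.one_def]; simp [PiTensorProduct.subsingletonEquiv])
        ((LinearMap.map_mul_iff _).mpr <| by ext x y; simp [PiTensorProduct.subsingletonEquiv])
    haveI : IsAzumaya R (⨂[R] _ : PUnit.{1}, A) := IsAzumaya.of_AlgEquiv R A _ f₁.symm
    haveI : IsAzumaya R ((⨂[R] _ : α, A) ⊗[R] (⨂[R] _ : PUnit.{1}, A)) := isAzumaya_tensor R _ _
    let f₂ : (⨂[R] _ : α, A) ⊗[R] (⨂[R] _ : PUnit.{1}, A) ≃ₐ[R] (⨂[R] _ : α ⊕ PUnit.{1}, A) :=
      (AlgEquiv.ofLinearEquiv (PiTensorProduct.tmulEquivDep R (fun _ : α ⊕ PUnit.{1} => A)).symm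
        (by
          rw [PiTensorProduct.one_def, PiTensorProduct.tmulEquivDep_symm_apply,
            Algebra.TensorProduct.one_def]
          rfl)
        ((LinearMap.map_mul_iff _).mpr <| by ext x y; simp [Pi.mul_def])).symm
    haveI : IsAzumaya R (⨂[R] _ : α ⊕ PUnit.{1}, A) := IsAzumaya.of_AlgEquiv R _ _ f₂
    let e : α ⊕ PUnit.{1} ≃ Option α := (Equiv.optionEquivSumPUnit α).symm
    let f₃ : (⨂[R] _ : α ⊕ PUnit.{1}, A) ≃ₐ[R] ⨂[R] _ : Option α, A :=
      AlgEquiv.ofLinearEquiv (PiTensorProduct.reindex R (fun _ : α ⊕ PUnit.{1} => A) e)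
        (by rw [PiTensorProduct.one_def, PiTensorProduct.one_def]
            exact PiTensorProduct.reindex_tprod _ _)
        ((LinearMap.map_mul_iff _).mpr <| by ext x y; simp; rfl)
    exact IsAzumaya.of_AlgEquiv R _ _ f₃

end Pi

section Kron

variable (T : Type u) [CommRing T] (n : ℕ)

/-- The index type of the Kronecker power. -/
abbrev KIdx : Type := Fin n → Fin n

/-- Kronecker product of a tuple of matrices. -/
noncomputable def kron : MultilinearMap T (fun _ : Fin n => Matrix (Fin n) (Fin n) T)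
    (Matrix (KIdx n) (KIdx n) T) where
  toFun M := Matrix.of fun f g => ∏ k, M k (f k) (g k)
  map_update_add' := by
    intro inst M k x y
    ext f g
    have hz : ∀ z, ∏ j, Function.update M k z j (f j) (g j) =
        z (f k) (g k) * ∏ j ∈ Finset.univ.erase k, M j (f j) (g j) := by
      intro z
      rw [← Finset.mul_prod_erase Finset.univ _ (Finset.mem_univ k), Function.update_self]
      congr 1
      exact Finset.prod_congr rfl fun j hj => by rw [Function.update_of_ne (Finset.ne_of_mem_erase hj)]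
    simp [hz, add_mul]
  map_update_smul' := by
    intro inst M k c x
    ext f g
    have hz : ∀ z, ∏ j, Function.update M k z j (f j) (g j) =
        z (f k) (g k) * ∏ j ∈ Finset.univ.erase k, M j (f j) (g j) := by
      intro z
      rw [← Finset.mul_prod_erase Finset.univ _ (Finset.mem_univ k), Function.update_self]
      congr 1
      exact Finset.prod_congr rfl fun j hj => by rw [Function.update_of_ne (Finset.ne_of_mem_erase hj)]
    simp [hz, mul_assoc]

variable {T n}

@[simp] theorem kron_apply (M : Fin n → Matrix (Fin n) (Fin n) T) (f g : KIdx n) :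
    kron T n M f g = ∏ k, M k (f k) (g k) := rfl

theorem kron_one : kron T n 1 = 1 := by
  ext f g
  by_cases h : f = g
  · subst h; simp
  · rw [Matrix.one_apply_ne h, kron_apply]
    obtain ⟨k, hk⟩ := Function.ne_iff.1 h
    exact Finset.prod_eq_zero (Finset.mem_univ k) (Matrix.one_apply_ne hk)

theorem kron_mul (M N : Fin n → Matrix (Fin n) (Fin n) T) :
    kron T n (M * N) = kron T n M * kron T n N := by
  ext f g
  simp only [kron_apply, Pi.mul_apply, Matrix.mul_apply, Fintype.prod_sum, ← Finset.prod_mul_distrib]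

theorem kron_smul_one (c : T) : kron T n (fun _ => c • 1) = c ^ n • 1 := by
  have := (kron T n).map_smul_univ (fun _ => c) (1 : Fin n → Matrix (Fin n) (Fin n) T)
  simpa [kron_one] using this

theorem kron_map {T' : Type*} [CommRing T'] (h : T →+* T') (M : Fin n → Matrix (Fin n) (Fin n) T) :
    (kron T n M).map h = kron T' n (fun k => (M k).map h) := by
  ext f g; simp

variable {R : Type v} [CommRing R] [Algebra R T] {A : Type w} [Ring A] [Algebra R A]

theorem exists_kronEquiv [IsAzumaya R A] (π : (T ⊗[R] A) ≃ₐ[T] Matrix (Fin n) (Fin n) T) :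
    ∃ K : T ⊗[R] (⨂[R] _ : Fin n, A) ≃ₐ[T] Matrix (KIdx n) (KIdx n) T,
      ∀ a : Fin n → A, K ((1 : T) ⊗ₜ[R] PiTensorProduct.tprod R a) =
        kron T n (fun k => π ((1 : T) ⊗ₜ[R] a k)) := by
  let π' : A →ₐ[R] Matrix (Fin n) (Fin n) T :=
    (π.toAlgHom.restrictScalars R).comp Algebra.TensorProduct.includeRight
  let ML : MultilinearMap R (fun _ : Fin n => A) (Matrix (KIdx n) (KIdx n) T) :=
    ((kron T n).restrictScalars R).compLinearMap (fun _ => π'.toLinearMap)
  let K₁ : (⨂[R] _ : Fin n, A) →ₐ[R] Matrix (KIdx n) (KIdx n) T :=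
    PiTensorProduct.liftAlgHom ML (by simp [ML, ← Pi.one_def, kron_one])
      (fun x y => by simp [ML, ← kron_mul, Pi.mul_def])
  let K₀ : T ⊗[R] (⨂[R] _ : Fin n, A) →ₐ[T] Matrix (KIdx n) (KIdx n) T :=
    Algebra.TensorProduct.lift (Algebra.ofId T _) K₁ (fun t b => Algebra.commutes t (K₁ b))
  have hK₀ : ∀ a : Fin n → A, K₀ ((1 : T) ⊗ₜ[R] PiTensorProduct.tprod R a) =
      kron T n (fun k => π ((1 : T) ⊗ₜ[R] a k)) := by
    intro a
    simp [K₀, K₁, ML, π']
  have hrange : ∀ z : Fin n → T ⊗[R] A, kron T n (fun k => π (z k)) ∈ LinearMap.range K₀.toLinearMap := by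
    intro z
    choose N t a hz using fun k => TensorProduct.exists_sum_tmul_eq (z k)
    have h1 : (fun k => π (z k)) = fun k => ∑ j : Fin (N k), t k j • π ((1 : T) ⊗ₜ[R] a k j) := by
      funext k
      rw [hz k, map_sum]
      refine Finset.sum_congr rfl fun j _ => ?_
      rw [← map_smul, TensorProduct.smul_tmul', smul_eq_mul, mul_one]
    rw [h1, MultilinearMap.map_sum]
    refine Submodule.sum_mem _ fun r _ => ?_
    rw [(kron T n).map_smul_univ (fun k => t k (r k)) (fun k => π ((1 : T) ⊗ₜ[R] a k (r k)))]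
    exact Submodule.smul_mem _ _ (LinearMap.mem_range.2 ⟨(1 : T) ⊗ₜ[R] PiTensorProduct.tprod R (fun k => a k (r k)), by simpa using hK₀ fun k => a k (r k)⟩)
  have hsurj : Function.Surjective K₀ := by
    intro X
    have hX : X ∈ LinearMap.range K₀.toLinearMap := by
      rw [Matrix.matrix_eq_sum_single X]
      refine Submodule.sum_mem _ fun f _ => Submodule.sum_mem _ fun g _ => ?_
      have h1 : Matrix.single f g (X f g) =
          X f g • kron T n (fun k => Matrix.single (f k) (g k) (1 : T)) := by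
        ext f' g'
        by_cases h : f = f' ∧ g = g'
        · obtain ⟨rfl, rfl⟩ := h; simp
        · rw [Matrix.single_apply, if_neg h, Matrix.smul_apply, kron_apply]
          obtain ⟨k, hk⟩ : ∃ k, ¬(f k = f' k ∧ g k = g' k) := by
            by_contra hne
            push Not at hne
            exact h ⟨funext fun k => (hne k).1, funext fun k => (hne k).2⟩
          rw [Finset.prod_eq_zero (Finset.mem_univ k) (by rw [Matrix.single_apply, if_neg hk]), smul_zero]
      rw [h1]
      refine Submodule.smul_mem _ _ ?_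
      have := hrange (fun k => π.symm (Matrix.single (f k) (g k) (1 : T)))
      simpa using this
    exact hX
  have hinj : Function.Injective K₀ := by
    haveI := isAzumaya_pi R A (Fin n)
    haveI : IsAzumaya T (T ⊗[R] (⨂[R] _ : Fin n, A)) := Azu26.isAzumaya_baseChange R T _
    rw [injective_iff_map_eq_zero]
    intro x hx
    let I : TwoSidedIdeal (T ⊗[R] (⨂[R] _ : Fin n, A)) := TwoSidedIdeal.ker K₀
    have hxI : x ∈ TwoSidedIdeal.asIdeal I := TwoSidedIdeal.mem_asIdeal.2 ((TwoSidedIdeal.mem_ker K₀).2 hx)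
    rw [azu_twoSided_eq_map_comap (R := T) I] at hxI
    have h0 : (TwoSidedIdeal.asIdeal I).comap (algebraMap T (T ⊗[R] (⨂[R] _ : Fin n, A))) = ⊥ := by
      refine eq_bot_iff.2 fun r hr => ?_
      rw [Ideal.mem_comap, TwoSidedIdeal.mem_asIdeal, TwoSidedIdeal.mem_ker, AlgHom.commutes] at hr
      have := congrFun (congrFun hr id) id
      simpa [Matrix.algebraMap_matrix_apply] using this
    rwa [h0, Ideal.map_bot, Ideal.mem_bot] at hxI
  exact ⟨AlgEquiv.ofBijective K₀ ⟨hinj, hsurj⟩, hK₀⟩

/-- The antisymmetrising vector. -/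
noncomputable def asymVec (T : Type u) [CommRing T] (n : ℕ) : KIdx n → T :=
  fun f => ((1 : Matrix (Fin n) (Fin n) T).submatrix f id).det

theorem asymVec_id : asymVec T n id = 1 := by simp [asymVec]

theorem asymVec_map {T' : Type*} [CommRing T'] (h : T →+* T') (f : KIdx n) :
    h (asymVec T n f) = asymVec T' n f := by
  simp [asymVec, RingHom.map_det, Matrix.submatrix_map, ← Matrix.submatrix_map, RingHom.mapMatrix_apply]

theorem kron_mulVec_asymVec (u : Matrix (Fin n) (Fin n) T) :
    (kron T n fun _ => u) *ᵥ asymVec T n = u.det • asymVec T n := by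
  ext f
  have h1 : (u.submatrix f id).det = ∑ g : KIdx n, (∏ k, u (f k) (g k)) * asymVec T n g := by
    have h2 : (u.submatrix f id : Matrix (Fin n) (Fin n) T) =
        fun k => ∑ j, u (f k) j • (1 : Matrix (Fin n) (Fin n) T) j := by
      funext k l
      simp [Matrix.one_apply]
    change (Matrix.detRowAlternating : (Fin n → T) [⋀^Fin n]→ₗ[T] T).toMultilinearMap (u.submatrix f id) = _
    rw [h2, MultilinearMap.map_sum]
    refine Finset.sum_congr rfl fun g _ => ?_
    rw [MultilinearMap.map_smul_univ]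
    rfl
  have h3 : (u.submatrix f id).det = asymVec T n f * u.det := by
    rw [asymVec, ← Matrix.det_mul]
    congr 1
    ext k l
    simp [Matrix.mul_apply, Matrix.one_apply]
  rw [Pi.smul_apply, smul_eq_mul, mul_comm, ← h3, h1]
  rfl

/-- The antisymmetriser. -/
noncomputable def asymMat (T : Type u) [CommRing T] (n : ℕ) : Matrix (KIdx n) (KIdx n) T :=
  Matrix.vecMulVec (asymVec T n) (asymVec T n)

theorem asymMat_comm (u : Matrix (Fin n) (Fin n) T) :
    (kron T n fun _ => u) * asymMat T n = asymMat T n * (kron T n fun _ => u) := by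
  have h1 : asymVec T n ᵥ* (kron T n fun _ => u) = u.det • asymVec T n := by
    rw [← Matrix.mulVec_transpose, ← Matrix.det_transpose u, ← kron_mulVec_asymVec uᵀ]
    congr 1
  rw [asymMat, Matrix.mul_vecMulVec, Matrix.vecMulVec_mul, h1, kron_mulVec_asymVec]
  ext f g
  simp [Matrix.vecMulVec_apply]
  ring

theorem asymMat_map {T' : Type*} [CommRing T'] (h : T →+* T') :
    (asymMat T n).map h = asymMat T' n := by
  ext f g; simp [asymMat, Matrix.vecMulVec_apply, asymVec_map]

end Kron

end Groth.Agent.Csa25
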