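import Groth.Agent.Csa25.Basic
import Mathlib.RingTheory.SimpleRing.Field

/-!
# The centre of a simple algebra
-/

set_option autoImplicit false
open Module

namespace Groth.Agent.Csa25

universe u v

variable (k : Type u) [Field k] (A : Type v) [Ring A] [Algebra k A]

/-- `A` as an algebra over its centre. -/
@[reducible] scoped instance centerAlgebra : Algebra (Subalgebra.center k A) A where
  toSMul := inferInstance
  algebraMap := (Subalgebra.center k A).val.toRingHom
  commutes' c x := (Subalgebra.mem_center_iff.mp c.2 x).symm
  smul_def' _ _ := rfl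

theorem algebraMap_center (c : Subalgebra.center k A) :
    algebraMap (Subalgebra.center k A) A c = (c : A) := rfl

scoped instance centerAlgebra_tower : IsScalarTower k (Subalgebra.center k A) A :=
  .of_algebraMap_eq fun _ => rfl

scoped instance centerAlgebra_finite [FiniteDimensional k A] :
    Module.Finite (Subalgebra.center k A) A :=
  Module.Finite.of_restrictScalars_finite k _ _

scoped instance centerAlgebra_isCentral : Algebra.IsCentral (Subalgebra.center k A) A where
  out x hx := Algebra.mem_bot.mpr ⟨⟨x, hx⟩, rfl⟩

/-- The centre of a simple algebra is a field. -/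
@[reducible] noncomputable def centerField [IsSimpleRing A] : Field (Subalgebra.center k A) :=
  { (inferInstance : CommRing (Subalgebra.center k A)),
    IsField.toField (show IsField (Subalgebra.center k A) from IsSimpleRing.isField_center A) with }

/-- An automorphism fixing the centre of a finite-dimensional simple algebra is inner. -/
theorem exists_unit_conj_of_fix_center [IsSimpleRing A] [FiniteDimensional k A] (e : A ≃ₐ[k] A)
    (he : ∀ c ∈ Subalgebra.center k A, e c = c) :
    ∃ u : Aˣ, ∀ a : A, e a = u * a * (u⁻¹ : Aˣ) := by
  let := centerField k A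
  have : @Module.Finite (Subalgebra.center k A) A _ _ Algebra.toModule :=
    centerAlgebra_finite k A
  let e' : A ≃ₐ[Subalgebra.center k A] A :=
    AlgEquiv.ofRingEquiv (f := e.toRingEquiv) fun c => he c c.2
  exact exists_unit_conj_algEquiv e'

variable {k A}

/-- Two involutive antiautomorphisms agreeing on the centre differ by an inner automorphism. -/
theorem exists_unit_conj_of_agree [IsSimpleRing A] [FiniteDimensional k A] (s t : A →ₗ[k] A)
    (hs1 : s 1 = 1) (hsmul : ∀ x y : A, s (x * y) = s y * s x) (hss : ∀ x, s (s x) = x)
    (ht1 : t 1 = 1) (htmul : ∀ x y : A, t (x * y) = t y * t x) (htt : ∀ x, t (t x) = x)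
    (hagree : ∀ c ∈ Subalgebra.center k A, s c = t c) :
    ∃ a : Aˣ, ∀ x : A, s x = (a : A) * t x * (a⁻¹ : Aˣ) := by
  let l : A ≃ₗ[k] A := LinearEquiv.ofLinearMap (s.comp t) (t.comp s)
    (LinearMap.ext fun x => by simp [htt, hss]) (LinearMap.ext fun x => by simp [htt, hss])
  let e : A ≃ₐ[k] A := AlgEquiv.ofLinearEquiv l (by simp [l, hs1, ht1])
    (fun x y => by simp [l, hsmul, htmul])
  have he : ∀ x, e x = s (t x) := fun x => rfl
  obtain ⟨a, ha⟩ := exists_unit_conj_of_fix_center k A e fun c hc => by
    have htc : t c ∈ Subalgebra.center k A := by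
      rw [Subalgebra.mem_center_iff] at hc ⊢
      intro b
      rw [← htt b, ← htmul, ← hc, htmul]
    rw [he, hagree _ htc, htt]
  exact ⟨a, fun x => by rw [← ha (t x), he, htt]⟩

end Groth.Agent.Csa25
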