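import Groth.Agent.Csa25.Basic
import Mathlib.FieldTheory.Galois.Basic
import Mathlib.RingTheory.SimpleRing.Matrix
import Mathlib.Algebra.Central.Matrix

/-!
# Galois action on base changes
-/

set_option autoImplicit false
open scoped TensorProduct
open Module

namespace Groth.Agent.Csa25

universe u v w

variable {k : Type u} [Field k] {K : Type v} [Field K] [Algebra k K]

/-- The action of a field automorphism on the first factor, linear version. -/
noncomputable def galAct (σ : K ≃ₐ[k] K) (M : Type w) [AddCommGroup M] [Module k M] :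
    K ⊗[k] M →ₗ[k] K ⊗[k] M :=
  LinearMap.rTensor M σ.toLinearEquiv.toLinearMap

@[simp] theorem galAct_tmul (σ : K ≃ₐ[k] K) (M : Type w) [AddCommGroup M] [Module k M] (c : K) (m : M) :
    galAct σ M (c ⊗ₜ[k] m) = σ c ⊗ₜ[k] m := rfl

theorem galAct_smul (σ : K ≃ₐ[k] K) (M : Type w) [AddCommGroup M] [Module k M] (c : K) (x : K ⊗[k] M) :
    galAct σ M (c • x) = σ c • galAct σ M x := by
  induction x using TensorProduct.induction_on with
  | zero => simp
  | tmul a m => simp [TensorProduct.smul_tmul']
  | add a b ha hb => simp [smul_add, ha, hb]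

theorem galAct_mul (σ : K ≃ₐ[k] K) (A : Type w) [Ring A] [Algebra k A] (x y : K ⊗[k] A) :
    galAct σ A (x * y) = galAct σ A x * galAct σ A y :=
  map_mul (Algebra.TensorProduct.map σ.toAlgHom (AlgHom.id k A)) x y

theorem galAct_eq_map (σ : K ≃ₐ[k] K) (A : Type w) [Ring A] [Algebra k A] (x : K ⊗[k] A) :
    galAct σ A x = Algebra.TensorProduct.map σ.toAlgHom (AlgHom.id k A) x := rfl

theorem galAct_galAct (σ τ : K ≃ₐ[k] K) (M : Type w) [AddCommGroup M] [Module k M] (x : K ⊗[k] M) :
    galAct σ M (galAct τ M x) = galAct (σ * τ) M x := by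
  induction x using TensorProduct.induction_on with
  | zero => simp
  | tmul a m => rfl
  | add a b ha hb => simp [ha, hb]

theorem galAct_one (M : Type w) [AddCommGroup M] [Module k M] (x : K ⊗[k] M) :
    galAct (1 : K ≃ₐ[k] K) M x = x := by
  induction x using TensorProduct.induction_on with
  | zero => simp
  | tmul a m => rfl
  | add a b ha hb => simp [ha, hb]

/-- Galois-invariant elements of `K ⊗ M` come from `M`. -/
theorem mem_of_galAct_fixed [IsGalois k K] [FiniteDimensional k K] {M : Type w} [AddCommGroup M] [Module k M]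
    (x : K ⊗[k] M) (hx : ∀ σ : K ≃ₐ[k] K, galAct σ M x = x) : ∃ m : M, x = 1 ⊗ₜ[k] m := by
  classical
  let b := Module.Free.chooseBasis k M
  let bb := b.baseChange K
  have hb : ∀ σ i, galAct σ M (bb i) = bb i := fun σ i => by
    simp [bb, Basis.baseChange_apply]
  have hc : ∀ i, bb.repr x i ∈ Set.range (algebraMap k K) := by
    intro i
    rw [IsGalois.mem_range_algebraMap_iff_fixed]
    intro σ
    have key : ∀ z, bb.repr (galAct σ M z) i = σ (bb.repr z i) := by
      intro z
      induction z using TensorProduct.induction_on with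
      | zero => simp
      | tmul a m => simp [bb, Basis.baseChange_repr_tmul, AlgEquiv.commutes, map_smul]
      | add p q hp hq => simp [hp, hq]
    conv_rhs => rw [← hx σ, key]
  choose d hd using hc
  refine ⟨∑ i ∈ (bb.repr x).support, d i • b i, ?_⟩
  conv_lhs => rw [← bb.linearCombination_repr x]
  rw [Finsupp.linearCombination_apply, Finsupp.sum, TensorProduct.tmul_sum]
  refine Finset.sum_congr rfl fun i _ => ?_
  rw [← hd i, algebraMap_smul, TensorProduct.tmul_smul]
  simp [bb, Basis.baseChange_apply]

/-- A Galois automorphism is conjugated to the entrywise action by an invertible matrix. -/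
theorem exists_twist {A : Type w} [Ring A] [Algebra k A] {n : ℕ} [NeZero n]
    (φ : K ⊗[k] A ≃ₐ[K] Matrix (Fin n) (Fin n) K) (σ : K ≃ₐ[k] K) :
    ∃ g : (Matrix (Fin n) (Fin n) K)ˣ, ∀ x : K ⊗[k] A,
      φ (galAct σ A x) * (g : Matrix (Fin n) (Fin n) K) =
        (g : Matrix (Fin n) (Fin n) K) * (φ x).map σ := by
  let θ₀ : Matrix (Fin n) (Fin n) K →ₐ[K] Matrix (Fin n) (Fin n) K :=
    { toFun := fun M => φ (galAct σ A (φ.symm (M.map σ.symm)))
      map_one' := by
        simp [galAct_eq_map]
      map_mul' := fun M N => by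
        rw [Matrix.map_mul (f := σ.symm), map_mul, galAct_mul, map_mul]
      map_zero' := by simp
      map_add' := fun M N => by
        rw [Matrix.map_add _ (map_add _), map_add, map_add, map_add]
      commutes' := fun c => by
        rw [Matrix.algebraMap_eq_diagonal]
        simp only [Matrix.diagonal_map (map_zero _)]
        have h : Matrix.diagonal (fun m => σ.symm ((algebraMap K (Fin n → K) c) m)) =
            algebraMap K (Matrix (Fin n) (Fin n) K) (σ.symm c) := by
          rw [Matrix.algebraMap_eq_diagonal]; rfl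
        rw [h, AlgEquiv.commutes, Algebra.algebraMap_eq_smul_one, galAct_smul, map_smul]
        simp [galAct_eq_map, Algebra.smul_def, Matrix.algebraMap_eq_diagonal] }
  obtain ⟨g, hg⟩ := exists_unit_conj (AlgHom.id K _) θ₀
  refine ⟨g, fun x => ?_⟩
  have h := hg ((φ x).map σ)
  simp only [θ₀, AlgHom.coe_mk, RingHom.coe_mk, MonoidHom.coe_mk, OneHom.coe_mk, Matrix.map_map,
    AlgHom.id_apply] at h
  rw [show (σ.symm : K → K) ∘ σ = id from funext σ.symm_apply_apply, Matrix.map_id,
    AlgEquiv.symm_apply_apply] at h
  rw [h, mul_assoc, Units.inv_mul, mul_one]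

end Groth.Agent.Csa25
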