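import Groth.Agent.Csa25.RatPoint
import Groth.Agent.Csa25.GaloisFix
import Groth.Agent.Csa25.BrauerGroup
import Groth.Agent.Csa25.TensorPower
import Mathlib.LinearAlgebra.Matrix.Kronecker
import Mathlib.RingTheory.Norm.Basic

/-!
# Twisted splittings: projective cocycles of split central simple algebras

A *twisted splitting* of a Brauer class over a field `Λ` with an action `ρ` of a finite group consists of an
algebra in the class with a matrix representation over `Λ`, intertwined with the action by matrices `P σ`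
satisfying `P σ * σ(P τ) = c σ τ • P (σ * τ)`.  If `c` is a coboundary the algebra is split over the fixed
field (Hilbert 90 for `GL_n`).
-/

set_option autoImplicit false
open scoped TensorProduct Kronecker
open Module

namespace Groth.Agent.Csa25

universe u v w

variable {k : Type u} [Field k] {G : Type v} [Group G] {Λ : Type w} [Field Λ] [Algebra k Λ]
  (ρ : G →* (Λ ≃ₐ[k] Λ))

/-- The entrywise action on matrices. -/
noncomputable abbrev entAct {n : ℕ} (σ : G) :
    Matrix (Fin n) (Fin n) Λ ≃ₐ[k] Matrix (Fin n) (Fin n) Λ :=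
  (ρ σ).mapMatrix

theorem entAct_entAct {n : ℕ} (σ τ : G) (M : Matrix (Fin n) (Fin n) Λ) :
    entAct ρ σ (entAct ρ τ M) = entAct ρ (σ * τ) M := by
  ext i j
  simp [entAct, map_mul]

theorem entAct_smul {n : ℕ} (σ : G) (a : Λ) (M : Matrix (Fin n) (Fin n) Λ) :
    entAct ρ σ (a • M) = ρ σ a • entAct ρ σ M := by
  ext i j
  simp [entAct]

/-- Hilbert 90 for `GL_n`. -/
theorem exists_fixed_frame [Fintype G] (hρ : Function.Injective ρ) {n : ℕ}
    (P : G → Matrix (Fin n) (Fin n) Λ) (hP : ∀ σ, IsUnit (P σ))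
    (hcoc : ∀ σ τ, P (σ * τ) = P σ * entAct ρ σ (P τ)) :
    ∃ Q : Matrix (Fin n) (Fin n) Λ, IsUnit Q ∧ ∀ σ, P σ * entAct ρ σ Q = Q := by
  classical
  have hP1 : P 1 = 1 := by
    have h := hcoc 1 1
    rw [one_mul] at h
    have h2 : entAct ρ 1 (P 1) = P 1 := by ext i j; simp [entAct]
    rw [h2] at h
    exact (hP 1).mul_left_cancel (by rw [mul_one]; exact h.symm)
  let T : (Fin n → Λ) → (Fin n → Λ) := fun v => ∑ σ, (P σ).mulVec (ρ σ ∘ v)
  have hT : ∀ σ v, (P σ).mulVec (ρ σ ∘ T v) = T v := by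
    intro σ v
    have h1 : (ρ σ ∘ T v) = ∑ τ, (entAct ρ σ (P τ)).mulVec (ρ (σ * τ) ∘ v) := by
      funext i
      simp [T, Matrix.mulVec, dotProduct, entAct, map_sum, map_mul]
    rw [h1, Matrix.mulVec_sum]
    simp only [Matrix.mulVec_mulVec, ← hcoc]
    exact Fintype.sum_equiv (Equiv.mulLeft σ) _ _ fun τ => rfl
  have hspan : Submodule.span Λ (Set.range T) = ⊤ := by
    by_contra hne
    obtain ⟨f, hf0, hf⟩ := Submodule.exists_dual_map_eq_bot_of_lt_top (lt_top_iff_ne_top.2 hne) inferInstance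
    have hfv : ∀ v, f (T v) = 0 := fun v => (Submodule.mem_bot Λ).1
      (hf ▸ Submodule.mem_map_of_mem (Submodule.subset_span ⟨v, rfl⟩))
    have hli : LinearIndependent Λ (fun σ : G => ⇑((ρ σ : Λ →* Λ))) :=
      (linearIndependent_monoidHom Λ Λ).comp _ fun σ τ h => hρ (AlgEquiv.ext fun x => DFunLike.congr_fun h x)
    refine hf0 (LinearMap.ext fun v => ?_)
    have hz : ∑ σ, f ((P σ).mulVec (ρ σ ∘ v)) • ⇑((ρ σ : Λ →* Λ)) = 0 := by
      funext l
      rw [Finset.sum_apply, Pi.zero_apply, ← hfv (l • v)]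
      simp only [T, map_sum]
      refine Finset.sum_congr rfl fun σ _ => ?_
      rw [show ρ σ ∘ (l • v) = ρ σ l • (ρ σ ∘ v) from funext fun i => map_mul (ρ σ) l (v i),
        Matrix.mulVec_smul, map_smul]
      simp [mul_comm]
    have h1 := Fintype.linearIndependent_iff.1 hli _ hz 1
    rw [hP1, Matrix.one_mulVec, map_one, show (⇑(1 : Λ ≃ₐ[k] Λ) ∘ v) = v from rfl] at h1
    simpa using h1
  obtain ⟨b, hb, hbs, hbi⟩ := exists_linearIndependent Λ (Set.range T)
  let c0 : Basis b Λ (Fin n → Λ) := Basis.mk hbi (by rw [Subtype.range_coe, hbs, hspan])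
  let cb := c0.reindex (c0.indexEquiv (Pi.basisFun Λ (Fin n)))
  have hmem : ∀ j, cb j ∈ Set.range T := fun j => by
    rw [Basis.reindex_apply, Basis.mk_apply]
    exact hb (Subtype.prop _)
  refine ⟨Matrix.of fun i j => cb j i, ?_, fun σ => ?_⟩
  · rw [← Matrix.linearIndependent_cols_iff_isUnit]
    exact cb.linearIndependent
  · ext i j
    obtain ⟨v, hv⟩ := hmem j
    have := congrFun (hT σ v) i
    rw [hv] at this
    exact this

/-- A representation intertwined by a cocycle that is a coboundary descends to the fixed field. -/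
theorem splits_of_coboundary [Fintype G] (hρ : Function.Injective ρ) (A : Type*) [Ring A] [Algebra k A]
    [Algebra.IsCentral k A] [IsSimpleRing A] [FiniteDimensional k A] {n : ℕ} (hn : n ≠ 0)
    (hd : finrank k A = n * n) (φ : A →ₐ[k] Matrix (Fin n) (Fin n) Λ)
    (P : G → Matrix (Fin n) (Fin n) Λ) (hP : ∀ σ, IsUnit (P σ))
    (hconj : ∀ σ a, φ a * P σ = P σ * entAct ρ σ (φ a))
    (μ : G → Λ) (hμ0 : ∀ σ, μ σ ≠ 0)
    (hμ : ∀ σ τ, P σ * entAct ρ σ (P τ) = (μ σ * ρ σ (μ τ) / μ (σ * τ)) • P (σ * τ))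
    (F : Type*) [Field F] [Algebra k F] [Algebra F Λ] [IsScalarTower k F Λ]
    (hfix : ∀ x : Λ, (∀ σ, ρ σ x = x) → x ∈ Set.range (algebraMap F Λ)) :
    Curves.Splits k A F := by
  classical
  have hP' : ∀ σ, IsUnit ((μ σ)⁻¹ • P σ) := fun σ =>
    (Units.isUnit_units_mul (Units.map (algebraMap Λ (Matrix (Fin n) (Fin n) Λ)).toMonoidHom
      (Units.mk0 _ (inv_ne_zero (hμ0 σ)))) _).mpr (hP σ) |> fun h => by
      simpa [Algebra.smul_def] using h
  obtain ⟨Q, hQ, hQfix⟩ := exists_fixed_frame ρ hρ (fun σ => (μ σ)⁻¹ • P σ) hP' fun σ τ => by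
    have h0 : ρ σ (μ τ) ≠ 0 := (map_ne_zero _).mpr (hμ0 τ)
    rw [entAct_smul, Matrix.smul_mul, Matrix.mul_smul, hμ, smul_smul, smul_smul, map_inv₀]
    congr 1
    field_simp [hμ0 σ, hμ0 (σ * τ)]
  obtain ⟨Qu, rfl⟩ := hQ
  let conj : Matrix (Fin n) (Fin n) Λ →ₐ[k] Matrix (Fin n) (Fin n) Λ :=
    AlgHom.ofLinearMap ((LinearMap.mulLeft k (↑Qu⁻¹ : Matrix (Fin n) (Fin n) Λ)).comp
      (LinearMap.mulRight k (Qu : Matrix (Fin n) (Fin n) Λ)))
      (by simp)
      (fun x y => by simp [mul_assoc])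
  let ψ := conj.comp φ
  have hQψ : ∀ a, (Qu : Matrix (Fin n) (Fin n) Λ) * ψ a = φ a * Qu := fun a => by
    simp [ψ, conj]
  have hψ : ∀ σ a, entAct ρ σ (ψ a) = ψ a := by
    intro σ a
    refine Qu.isUnit.mul_left_cancel ?_
    calc (Qu : Matrix (Fin n) (Fin n) Λ) * entAct ρ σ (ψ a)
        = (μ σ)⁻¹ • P σ * entAct ρ σ ((Qu : Matrix (Fin n) (Fin n) Λ) * ψ a) := by
          rw [map_mul, ← mul_assoc, hQfix]
      _ = φ a * ((μ σ)⁻¹ • P σ * entAct ρ σ Qu) := by
          rw [hQψ, map_mul, ← mul_assoc, ← mul_assoc, Matrix.smul_mul, ← hconj, Matrix.mul_smul]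
      _ = _ := by rw [hQfix, hQψ]
  let ι : Matrix (Fin n) (Fin n) F →ₐ[k] Matrix (Fin n) (Fin n) Λ :=
    (IsScalarTower.toAlgHom k F Λ).mapMatrix
  have hι : Function.Injective ι := Matrix.map_injective (algebraMap F Λ).injective
  have hrange : ∀ a, ψ a ∈ ι.range := by
    intro a
    have : ∀ i j, ∃ o : F, algebraMap F Λ o = ψ a i j := fun i j =>
      hfix _ fun σ => by
        have := congrFun (congrFun (hψ σ a) i) j
        exact this
    choose o ho using this
    exact ⟨Matrix.of o, Matrix.ext fun i j => ho i j⟩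
  exact splits_of_rep k A F hn hd
    ((AlgEquiv.ofInjective ι hι).symm.toAlgHom.comp (ψ.codRestrict ι.range hrange))

/-- A Brauer class with a representation over `Λ` twisted by `c`. -/
def Twisted (x : Br k) (c : G → G → Λ) : Prop :=
  ∃ (n : ℕ) (A : Type u) (_ : Ring A) (_ : Algebra k A) (_ : Algebra.IsCentral k A) (_ : IsSimpleRing A)
    (_ : FiniteDimensional k A) (φ : A →ₐ[k] Matrix (Fin n) (Fin n) Λ)
    (P : G → Matrix (Fin n) (Fin n) Λ),
    n ≠ 0 ∧ finrank k A = n * n ∧ cl k A = x ∧ (∀ σ, IsUnit (P σ)) ∧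
      (∀ σ a, φ a * P σ = P σ * entAct ρ σ (φ a)) ∧
      ∀ σ τ, P σ * entAct ρ σ (P τ) = c σ τ • P (σ * τ)

variable {ρ}

theorem Twisted.ne_zero {x : Br k} {c : G → G → Λ} (h : Twisted ρ x c) (σ τ : G) : c σ τ ≠ 0 := by
  obtain ⟨n, A, _, _, _, _, _, φ, P, hn, hd, hx, hP, hconj, hc⟩ := h
  intro h0
  have : NeZero n := ⟨hn⟩
  have hu : IsUnit (P σ * entAct ρ σ (P τ)) := (hP σ).mul ((hP τ).map _)
  rw [hc, h0, zero_smul] at hu
  exact not_isUnit_zero hu

theorem Twisted.congr {x : Br k} {c c' : G → G → Λ} (h : Twisted ρ x c) (hc' : ∀ σ τ, c σ τ = c' σ τ) :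
    Twisted ρ x c' := by
  rwa [show c' = c from funext fun σ => funext fun τ => (hc' σ τ).symm]

theorem Twisted.splits [Fintype G] (hρ : Function.Injective ρ) {x : Br k} {c : G → G → Λ}
    (h : Twisted ρ x c) (μ : G → Λ) (hμ0 : ∀ σ, μ σ ≠ 0)
    (hμ : ∀ σ τ, c σ τ = μ σ * ρ σ (μ τ) / μ (σ * τ))
    (hfix : ∀ z : Λ, (∀ σ, ρ σ z = z) → z ∈ Set.range (algebraMap k Λ)) : x = 1 := by
  obtain ⟨n, A, _, _, _, _, _, φ, P, hn, hd, hx, hP, hconj, hc⟩ := h
  rw [← hx, ← splits_iff_cl_eq_one]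
  exact splits_of_coboundary ρ hρ A hn hd φ P hP hconj μ hμ0
    (fun σ τ => by rw [hc, hμ]) k hfix

variable (ρ) in
theorem twisted_one : Twisted ρ (1 : Br k) fun _ _ => (1 : Λ) := by
  refine ⟨1, k, inferInstance, inferInstance, inferInstance, inferInstance, inferInstance,
    Algebra.ofId k _, fun _ => 1, one_ne_zero, by simp, cl_field, fun _ => isUnit_one,
    fun σ a => by simp [Algebra.ofId_apply], fun σ τ => by simp⟩

/-- The Kronecker product with the identity on the right. -/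
noncomputable def kronLeft (n m : ℕ) :
    Matrix (Fin n) (Fin n) Λ →ₐ[k] Matrix (Fin (n * m)) (Fin (n * m)) Λ :=
  ((Matrix.reindexAlgEquiv k Λ finProdFinEquiv).toAlgHom).comp <| AlgHom.ofLinearMap
    { toFun := fun M => M ⊗ₖ (1 : Matrix (Fin m) (Fin m) Λ)
      map_add' := fun M N => Matrix.add_kronecker M N 1
      map_smul' := fun a M => Matrix.smul_kronecker a M 1 }
    Matrix.one_kronecker_one
    (fun M N => by simp [← Matrix.mul_kronecker_mul])

/-- The Kronecker product with the identity on the left. -/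
noncomputable def kronRight (n m : ℕ) :
    Matrix (Fin m) (Fin m) Λ →ₐ[k] Matrix (Fin (n * m)) (Fin (n * m)) Λ :=
  ((Matrix.reindexAlgEquiv k Λ finProdFinEquiv).toAlgHom).comp <| AlgHom.ofLinearMap
    { toFun := fun M => (1 : Matrix (Fin n) (Fin n) Λ) ⊗ₖ M
      map_add' := fun M N => Matrix.kronecker_add 1 M N
      map_smul' := fun a M => Matrix.kronecker_smul a 1 M }
    Matrix.one_kronecker_one
    (fun M N => by simp [← Matrix.mul_kronecker_mul])

/-- The Kronecker product on square matrices indexed by `Fin`. -/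
noncomputable def kronFin {n m : ℕ} (M : Matrix (Fin n) (Fin n) Λ) (N : Matrix (Fin m) (Fin m) Λ) :
    Matrix (Fin (n * m)) (Fin (n * m)) Λ :=
  Matrix.reindexAlgEquiv k Λ finProdFinEquiv (M ⊗ₖ N)

theorem kronFin_mul {n m : ℕ} (M M' : Matrix (Fin n) (Fin n) Λ) (N N' : Matrix (Fin m) (Fin m) Λ) :
    kronFin (k := k) M N * kronFin (k := k) M' N' = kronFin (k := k) (M * M') (N * N') := by
  rw [kronFin, kronFin, kronFin, ← map_mul, ← Matrix.mul_kronecker_mul]

theorem entAct_kronFin {n m : ℕ} (σ : G) (M : Matrix (Fin n) (Fin n) Λ) (N : Matrix (Fin m) (Fin m) Λ) :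
    entAct ρ σ (kronFin (k := k) M N) = kronFin (k := k) (entAct ρ σ M) (entAct ρ σ N) := by
  ext i j
  simp [kronFin, entAct]

theorem Twisted.mul {x y : Br k} {c d : G → G → Λ} (hx : Twisted ρ x c) (hy : Twisted ρ y d) :
    Twisted ρ (x * y) fun σ τ => c σ τ * d σ τ := by
  obtain ⟨n, A, _, _, _, _, _, φ, P, hn, hd, hxe, hP, hconj, hc⟩ := hx
  obtain ⟨m, B, _, _, _, _, _, ψ, Q, hm, he, hye, hQ, hconj', hc'⟩ := hy
  have : IsSimpleRing (A ⊗[k] B) := isSimpleRing_tensor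
  let Φ : A ⊗[k] B →ₐ[k] Matrix (Fin (n * m)) (Fin (n * m)) Λ :=
    Algebra.TensorProduct.lift ((kronLeft n m).comp φ) ((kronRight n m).comp ψ) fun a b => by
      show kronFin (k := k) (φ a) 1 * kronFin (k := k) 1 (ψ b) =
        kronFin (k := k) 1 (ψ b) * kronFin (k := k) (φ a) 1
      simp [kronFin_mul]
  have hΦ : ∀ a b, Φ (a ⊗ₜ[k] b) = kronFin (k := k) (φ a) (ψ b) := fun a b => by
    show kronFin (k := k) (φ a) 1 * kronFin (k := k) 1 (ψ b) = _
    simp [kronFin_mul]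
  refine ⟨n * m, A ⊗[k] B, inferInstance, inferInstance, inferInstance, inferInstance, inferInstance, Φ,
    fun σ => kronFin (k := k) (P σ) (Q σ), mul_ne_zero hn hm, ?_, by rw [cl_tensor, hxe, hye], ?_, ?_, ?_⟩
  · rw [Module.finrank_tensorProduct, hd, he]; ring
  · intro σ
    obtain ⟨u, hu⟩ := hP σ
    obtain ⟨v, hv⟩ := hQ σ
    refine IsUnit.of_mul_eq_one (kronFin (k := k) (↑u⁻¹ : Matrix (Fin n) (Fin n) Λ) (↑v⁻¹ : Matrix (Fin m) (Fin m) Λ)) ?_
    rw [kronFin_mul, ← hu, ← hv, Units.mul_inv, Units.mul_inv]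
    simp [kronFin]
  · intro σ t
    induction t using TensorProduct.induction_on with
    | zero => simp
    | tmul a b => rw [hΦ, entAct_kronFin, kronFin_mul, kronFin_mul, hconj, hconj']
    | add s t hs ht => rw [map_add, map_add, add_mul, mul_add, hs, ht]
  · intro σ τ
    rw [entAct_kronFin, kronFin_mul, hc, hc']
    simp only [kronFin, Matrix.smul_kronecker, Matrix.kronecker_smul, smul_smul]
    ext i j
    simp [mul_comm]

theorem Twisted.pow {x : Br k} {c : G → G → Λ} (h : Twisted ρ x c) (e : ℕ) :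
    Twisted ρ (x ^ e) fun σ τ => c σ τ ^ e := by
  induction e with
  | zero => simpa using twisted_one ρ
  | succ e ih => simpa [pow_succ] using ih.mul h

theorem Twisted.inv {x : Br k} {c : G → G → Λ} (h : Twisted ρ x c) :
    Twisted ρ x⁻¹ fun σ τ => (c σ τ)⁻¹ := by
  classical
  have hc0 := fun σ τ => h.ne_zero σ τ
  obtain ⟨n, A, _, _, _, _, _, φ, P, hn, hd, hx, hP, hconj, hc⟩ := h
  choose u hu using hP
  let φ' : Aᵐᵒᵖ →ₐ[k] Matrix (Fin n) (Fin n) Λ :=
    AlgHom.ofLinearMap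
      (((Matrix.transposeLinearEquiv (Fin n) (Fin n) k Λ).toLinearMap.comp φ.toLinearMap).comp
        (MulOpposite.opLinearEquiv k).symm.toLinearMap)
      (by simp) (fun a b => by simp [Matrix.transpose_mul])
  have hφ' : ∀ a, φ' a = (φ a.unop).transpose := fun a => rfl
  have : IsSimpleRing Aᵐᵒᵖ := inferInstance
  refine ⟨n, Aᵐᵒᵖ, inferInstance, inferInstance, inferInstance, inferInstance, inferInstance, φ',
    fun σ => Matrix.transpose (↑(u σ)⁻¹ : Matrix (Fin n) (Fin n) Λ), hn, ?_, by rw [cl_op, hx], ?_, ?_, ?_⟩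
  · rw [← hd]; exact ((MulOpposite.opLinearEquiv k).finrank_eq).symm
  · intro σ
    exact ((u σ)⁻¹).isUnit.map (Matrix.transposeAlgEquiv (Fin n) k Λ) |> fun h => by
      simpa using h.unop
  · intro σ a
    have key : (↑(u σ)⁻¹ : Matrix (Fin n) (Fin n) Λ) * φ a.unop =
        entAct ρ σ (φ a.unop) * (↑(u σ)⁻¹ : Matrix (Fin n) (Fin n) Λ) := by
      rw [Units.inv_mul_eq_iff_eq_mul, ← mul_assoc, Units.eq_mul_inv_iff_mul_eq, hu, hconj]
    have ht : entAct ρ σ (φ' a) = (entAct ρ σ (φ a.unop)).transpose := by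
      rw [hφ']; ext i j; rfl
    rw [ht, hφ', ← Matrix.transpose_mul, ← Matrix.transpose_mul, key]
  · intro σ τ
    have ht : entAct ρ σ (Matrix.transpose (↑(u τ)⁻¹ : Matrix (Fin n) (Fin n) Λ)) =
        Matrix.transpose (↑(Units.map (entAct (n := n) ρ σ).toMonoidHom (u τ))⁻¹ : Matrix (Fin n) (Fin n) Λ) := by
      ext i j; rfl
    rw [ht, ← Matrix.transpose_mul, ← Units.val_mul, ← mul_inv_rev, ← Matrix.transpose_smul]
    congr 1
    refine Units.inv_eq_of_mul_eq_one_right ?_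
    rw [Units.val_mul, Units.coe_map]
    show (u σ : Matrix (Fin n) (Fin n) Λ) * entAct ρ σ (u τ) * _ = 1
    rw [hu, hu, hc, Matrix.smul_mul, Matrix.mul_smul, ← hu (σ * τ), Units.mul_inv, smul_smul,
      mul_inv_cancel₀ (hc0 σ τ), one_smul]

/-- Extension of the coefficient field. -/
theorem Twisted.map {x : Br k} {c : G → G → Λ} (h : Twisted ρ x c) {Ω : Type*} [Field Ω] [Algebra k Ω]
    (ρ' : G →* (Ω ≃ₐ[k] Ω)) (f : Λ →ₐ[k] Ω) (hf : ∀ σ l, f (ρ σ l) = ρ' σ (f l)) :
    Twisted ρ' x fun σ τ => f (c σ τ) := by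
  obtain ⟨n, A, _, _, _, _, _, φ, P, hn, hd, hx, hP, hconj, hc⟩ := h
  have key : ∀ σ M, f.mapMatrix (entAct (n := n) ρ σ M) = entAct ρ' σ (f.mapMatrix M) :=
    fun σ M => Matrix.ext fun i j => hf σ (M i j)
  refine ⟨n, A, inferInstance, inferInstance, inferInstance, inferInstance, inferInstance,
    f.mapMatrix.comp φ, fun σ => f.mapMatrix (P σ), hn, hd, hx, fun σ => (hP σ).map _, ?_, ?_⟩
  · intro σ a
    rw [AlgHom.comp_apply, ← key, ← map_mul, ← map_mul, hconj]
  · intro σ τ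
    rw [← key, ← map_mul, hc]
    ext i j
    simp

/-- The twisting matrices of a splitting. -/
theorem exists_twist_matrices {L : Type u} [Field L] [Algebra k L] {A : Type u} [Ring A] [Algebra k A]
    {n : ℕ} [NeZero n] (φ : L ⊗[k] A ≃ₐ[L] Matrix (Fin n) (Fin n) L) :
    ∃ (g : (L ≃ₐ[k] L) → (Matrix (Fin n) (Fin n) L)ˣ) (c : (L ≃ₐ[k] L) → (L ≃ₐ[k] L) → L),
      (∀ σ a, φ (1 ⊗ₜ[k] a) * (g σ : Matrix (Fin n) (Fin n) L) =
        (g σ : Matrix (Fin n) (Fin n) L) * (φ (1 ⊗ₜ[k] a)).map σ) ∧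
      (∀ σ τ, c σ τ ≠ 0) ∧
      ∀ σ τ, (g σ : Matrix (Fin n) (Fin n) L) * (g τ : Matrix (Fin n) (Fin n) L).map σ =
        c σ τ • (g (σ * τ) : Matrix (Fin n) (Fin n) L) := by
  classical
  choose g hg using fun σ => exists_twist φ σ
  let φ₀ : A →ₐ[k] Matrix (Fin n) (Fin n) L :=
    (φ.toAlgHom.restrictScalars k).comp Algebra.TensorProduct.includeRight
  let ρ₀ : (L ≃ₐ[k] L) →* (L ≃ₐ[k] L) := MonoidHom.id _
  let M := fun σ τ => (g σ : Matrix (Fin n) (Fin n) L) *
    entAct ρ₀ σ (g τ) * (↑(g (σ * τ))⁻¹ : Matrix (Fin n) (Fin n) L)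
  have hcomm : ∀ σ a, φ₀ a * (g σ : Matrix (Fin n) (Fin n) L) =
      (g σ : Matrix (Fin n) (Fin n) L) * entAct ρ₀ σ (φ₀ a) := fun σ a => hg σ (1 ⊗ₜ[k] a) |> fun h => by
    simpa [φ₀, entAct, ρ₀] using h
  have hscal : ∀ σ τ, ∃ s : L, M σ τ = Matrix.scalar (Fin n) s := by
    intro σ τ
    have hMx : ∀ x : L ⊗[k] A, Commute (φ x) (M σ τ) := by
      intro x
      induction x using TensorProduct.induction_on with
      | zero => rw [map_zero]; exact Commute.zero_left _
      | tmul l a =>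
        have ha : φ (l ⊗ₜ[k] a) = l • φ₀ a := by
          show φ (l ⊗ₜ[k] a) = l • φ ((1 : L) ⊗ₜ[k] a)
          rw [← map_smul φ, TensorProduct.smul_tmul', smul_eq_mul, mul_one]
        rw [ha]
        refine Commute.smul_left ?_ l
        show φ₀ a * M σ τ = M σ τ * φ₀ a
        calc φ₀ a * M σ τ = (g σ : Matrix (Fin n) (Fin n) L) * entAct ρ₀ σ (φ₀ a * (g τ : Matrix (Fin n) (Fin n) L)) * (↑(g (σ * τ))⁻¹ : Matrix (Fin n) (Fin n) L) := by
              simp only [M, ← mul_assoc]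
              rw [hcomm σ a, map_mul]
              simp only [mul_assoc]
          _ = (g σ : Matrix (Fin n) (Fin n) L) * entAct ρ₀ σ (g τ) *
              (entAct ρ₀ (σ * τ) (φ₀ a) * (↑(g (σ * τ))⁻¹ : Matrix (Fin n) (Fin n) L)) := by
              rw [hcomm, map_mul, entAct_entAct]; simp only [mul_assoc]
          _ = M σ τ * φ₀ a := by
              have : entAct ρ₀ (σ * τ) (φ₀ a) * (↑(g (σ * τ))⁻¹ : Matrix (Fin n) (Fin n) L) =
                  (↑(g (σ * τ))⁻¹ : Matrix (Fin n) (Fin n) L) * φ₀ a := by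
                rw [Units.eq_inv_mul_iff_mul_eq, ← mul_assoc, ← hcomm, mul_assoc, Units.mul_inv, mul_one]
              rw [this]; simp only [M, mul_assoc]
      | add p q hp hq => rw [map_add]; exact hp.add_left hq
    obtain ⟨s, hs⟩ := Matrix.mem_range_scalar_of_commute_single (M := M σ τ) fun i j _ => by
      obtain ⟨x, hx⟩ := φ.surjective (Matrix.single i j 1)
      rw [← hx]; exact hMx x
    exact ⟨s, hs.symm⟩
  choose s hs using hscal
  refine ⟨g, s, hcomm, fun σ τ h0 => ?_, fun σ τ => ?_⟩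
  · have hu : IsUnit (M σ τ) := ((g σ).isUnit.mul ((g τ).isUnit.map _)).mul ((g (σ * τ))⁻¹).isUnit
    rw [hs, h0, map_zero] at hu
    exact not_isUnit_zero hu
  have := congrArg (· * (g (σ * τ) : Matrix (Fin n) (Fin n) L)) (hs σ τ)
  simp only [M, mul_assoc, Units.inv_mul, mul_one] at this
  exact this.trans (by rw [Matrix.scalar_apply, ← Matrix.smul_eq_diagonal_mul])

/-- Every class split by a Galois extension is twisted over it. -/
theorem exists_twisted {L : Type u} [Field L] [Algebra k L] (A : Type u) [Ring A] [Algebra k A]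
    [Algebra.IsCentral k A] [IsSimpleRing A] [FiniteDimensional k A] (h : Curves.Splits k A L) :
    ∃ c, Twisted (MonoidHom.id (L ≃ₐ[k] L)) (cl k A) c := by
  classical
  obtain ⟨n, hn, ⟨φ⟩⟩ := h
  have : NeZero n := ⟨hn⟩
  have hd : finrank k A = n * n := by
    rw [← Module.finrank_baseChange (R := L), φ.toLinearEquiv.finrank_eq, Module.finrank_matrix]
    simp
  obtain ⟨g, c, hcomm, -, hc⟩ := exists_twist_matrices φ
  exact ⟨c, n, A, inferInstance, inferInstance, inferInstance, inferInstance, inferInstance,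
    (φ.toAlgHom.restrictScalars k).comp Algebra.TensorProduct.includeRight,
    fun σ => g σ, hn, hd, rfl, fun σ => (g σ).isUnit, hcomm, hc⟩

end Groth.Agent.Csa25
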