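import Groth.Agent.Csa25.Basic
import Groth.Agent.Csa25.Subfield
import Groth.Prelude.Def_GSzCSA
import Mathlib.FieldTheory.Galois.Basic
import Mathlib.RingTheory.Norm.Transitivity
import Mathlib.RingTheory.SimpleRing.Basic

/-!
# Cyclic algebras: structure, universal property, matrix model
-/

set_option autoImplicit false
set_option linter.unusedSectionVars false
open scoped TensorProduct
open Module

namespace Groth.Agent.Csa25

universe u v w x

section Rel

variable {k : Type u} [Field k] {K : Type v} [Field K] [Algebra k K] [FiniteDimensional k K]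

/-- The relations of the cyclic algebra `(K, σ, b)`. -/
structure CycRel (σ : K ≃ₐ[k] K) (b : kˣ) {A : Type w} [Ring A] [Algebra k A] (ι : K →ₐ[k] A) (y : A) :
    Prop where
  pow : y ^ finrank k K = algebraMap k A (b : k)
  comm : ∀ x : K, ι x * y = y * ι (σ x)

/-- A presentation of the cyclic algebra `(K, σ, b)`. -/
structure CycPres (σ : K ≃ₐ[k] K) (b : kˣ) {A : Type w} [Ring A] [Algebra k A] (ι : K →ₐ[k] A) (y : A) :
    Prop extends CycRel σ b ι y where
  gen : Algebra.adjoin k (Set.range ι ∪ {y}) = ⊤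
  dim : finrank k A = finrank k K ^ 2

variable {σ : K ≃ₐ[k] K} {b : kˣ} {A : Type w} [Ring A] [Algebra k A] {ι : K →ₐ[k] A} {y : A}

theorem isCyclicAlg_iff : CSAGal.IsCyclicAlg k K σ b A ↔ ∃ ι y, CycPres σ b (A := A) ι y := by
  constructor
  · rintro ⟨ι, y, h1, h2, h3, -, h5⟩
    exact ⟨ι, y, ⟨⟨h1, h2⟩, h3, h5⟩⟩
  · rintro ⟨ι, y, ⟨⟨h1, h2⟩, h3, h5⟩⟩
    exact ⟨ι, y, h1, h2, h3, Module.finrank_pos, h5⟩

/-- The product of the first `i` conjugates. -/
def partNorm (σ : K ≃ₐ[k] K) (x : K) (i : ℕ) : K := ∏ l ∈ Finset.range i, (σ ^ l) x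

namespace CycRel

theorem comm_pow (h : CycRel σ b ι y) (x : K) (i : ℕ) : ι x * y ^ i = y ^ i * ι ((σ ^ i) x) := by
  induction i generalizing x with
  | zero => simp
  | succ i ih =>
    rw [pow_succ' y, ← mul_assoc, h.comm, mul_assoc, ih, ← mul_assoc, pow_succ σ, AlgEquiv.mul_apply]

theorem pow_mul_left (h : CycRel σ b ι y) (q r : ℕ) :
    y ^ (finrank k K * q + r) = algebraMap k A ((b : k) ^ q) * y ^ r := by
  rw [pow_add, pow_mul, h.pow, map_pow]

theorem mul_mul (h : CycRel σ b ι y) (i j : ℕ) (u v : K) :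
    y ^ i * ι u * (y ^ j * ι v) = y ^ (i + j) * ι ((σ ^ j) u * v) := by
  rw [mul_assoc, ← mul_assoc (ι u), h.comm_pow, map_mul, pow_add]
  simp [mul_assoc]

theorem mul_pow (h : CycRel σ b ι y) (x : K) (i : ℕ) :
    (y * ι x) ^ i = y ^ i * ι (partNorm σ x i) := by
  induction i with
  | zero => simp [partNorm]
  | succ i ih =>
    rw [pow_succ', ih]
    have := h.mul_mul 1 i x (partNorm σ x i)
    rw [pow_one, Nat.add_comm] at this
    rw [this, mul_comm ((σ ^ i) x)]
    congr 2
    exact (Finset.prod_range_succ _ _).symm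

/-- The twist of a presentation by an element of `K`. -/
theorem twist (h : CycRel σ b ι y) {x : K} {c : kˣ}
    (hx : partNorm σ x (finrank k K) = algebraMap k K (c : k)) : CycRel σ (b * c) ι (y * ι x) where
  pow := by rw [h.mul_pow, hx, h.pow, AlgHom.commutes, ← map_mul, Units.val_mul]
  comm z := by rw [← mul_assoc, h.comm, mul_assoc, mul_assoc, ← map_mul, ← map_mul, mul_comm]

theorem isUnit_gen (h : CycRel σ b ι y) : IsUnit y := by
  have hu : IsUnit (y ^ finrank k K) := h.pow ▸ (b.isUnit.map (algebraMap k A))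
  exact (isUnit_pow_iff Module.finrank_pos.ne').1 hu

/-- Coefficients to elements. -/
noncomputable def span (_h : CycRel σ b ι y) : (Fin (finrank k K) → K) →ₗ[k] A :=
  ∑ i : Fin (finrank k K),
    (LinearMap.mulLeft k (y ^ (i : ℕ))).comp (ι.toLinearMap.comp (LinearMap.proj i))

theorem span_apply (h : CycRel σ b ι y) (f : Fin (finrank k K) → K) :
    h.span f = ∑ i : Fin (finrank k K), y ^ (i : ℕ) * ι (f i) := by
  simp [span, LinearMap.sum_apply]

theorem span_single (h : CycRel σ b ι y) (i : Fin (finrank k K)) (u : K) :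
    h.span (Pi.single i u) = y ^ (i : ℕ) * ι u := by
  classical
  rw [span_apply, Finset.sum_eq_single i]
  · simp
  · intro j _ hj; simp [hj]
  · simp

theorem monomial_eq (h : CycRel σ b ι y) (i : ℕ) (u : K) :
    y ^ i * ι u = (b : k) ^ (i / finrank k K) •
      h.span (Pi.single ⟨i % finrank k K, Nat.mod_lt _ Module.finrank_pos⟩ u) := by
  rw [span_single, Algebra.smul_def, ← mul_assoc, ← h.pow_mul_left, Nat.div_add_mod]

theorem range_span (h : CycRel σ b ι y) :
    LinearMap.range h.span = Subalgebra.toSubmodule (Algebra.adjoin k (Set.range ι ∪ {y})) := by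
  classical
  have hmon : ∀ i u, y ^ i * ι u ∈ LinearMap.range h.span := fun i u => by
    rw [h.monomial_eq]
    exact Submodule.smul_mem _ _ ⟨_, rfl⟩
  apply le_antisymm
  · rintro _ ⟨f, rfl⟩
    rw [span_apply]
    refine Submodule.sum_mem _ fun i _ => ?_
    show _ ∈ Algebra.adjoin k (Set.range ι ∪ {y})
    have hy : y ∈ Algebra.adjoin k (Set.range ι ∪ {y}) :=
      Algebra.subset_adjoin (Set.mem_union_right _ (Set.mem_singleton y))
    have hι : ∀ x, ι x ∈ Algebra.adjoin k (Set.range ι ∪ {y}) := fun x =>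
      Algebra.subset_adjoin (Set.mem_union_left _ (Set.mem_range_self x))
    exact Subalgebra.mul_mem _ (Subalgebra.pow_mem _ hy _) (hι _)
  · let S : Subalgebra k A := (LinearMap.range h.span).toSubalgebra
      (by simpa using hmon 0 1) (by
        rintro _ _ ⟨f, rfl⟩ ⟨g, rfl⟩
        rw [span_apply, span_apply, Finset.sum_mul_sum]
        exact Submodule.sum_mem _ fun i _ => Submodule.sum_mem _ fun j _ => h.mul_mul i j _ _ ▸ hmon _ _)
    have : Algebra.adjoin k (Set.range ι ∪ {y}) ≤ S := Algebra.adjoin_le (by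
      rintro _ (⟨x, rfl⟩ | rfl)
      · show ι x ∈ LinearMap.range h.span
        simpa using hmon 0 x
      · show _ ∈ LinearMap.range h.span
        simpa using hmon 1 1)
    exact fun z hz => this hz

theorem span_algHom {B : Type x} [Ring B] [Algebra k B] {ι' : K →ₐ[k] B} {y' : B}
    (h : CycRel σ b ι y) (h' : CycRel σ b ι' y') (φ : A →ₗ[k] B)
    (hφ : ∀ f, φ (h.span f) = h'.span f) (i : ℕ) (u : K) : φ (y ^ i * ι u) = y' ^ i * ι' u := by
  rw [h.monomial_eq, map_smul, hφ, ← h'.monomial_eq]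

end CycRel

namespace CycPres

theorem span_bijective (h : CycPres σ b ι y) : Function.Bijective h.toCycRel.span := by
  have hs : Function.Surjective h.toCycRel.span := by
    rw [← LinearMap.range_eq_top, CycRel.range_span, h.gen, Algebra.top_toSubmodule]
  have : FiniteDimensional k A := Module.Finite.of_surjective _ hs
  refine ⟨(LinearMap.injective_iff_surjective_of_finrank_eq_finrank ?_).2 hs, hs⟩
  rw [Module.finrank_pi_fintype, h.dim, Finset.sum_const, Finset.card_univ, Fintype.card_fin,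
    smul_eq_mul, sq]

theorem finiteDimensional (h : CycPres σ b ι y) : FiniteDimensional k A :=
  Module.Finite.of_surjective _ h.span_bijective.2

theorem nontrivial (h : CycPres σ b ι y) : Nontrivial A := by
  apply Module.nontrivial_of_finrank_pos (R := k)
  rw [h.dim]
  exact pow_pos Module.finrank_pos 2

/-- The universal property of a cyclic algebra. -/
theorem exists_lift {B : Type x} [Ring B] [Algebra k B] {ι' : K →ₐ[k] B} {y' : B}
    (h : CycPres σ b ι y) (h' : CycRel σ b ι' y') :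
    ∃ φ : A →ₐ[k] B, (∀ u, φ (ι u) = ι' u) ∧ φ y = y' := by
  classical
  let e := LinearEquiv.ofBijective h.toCycRel.span h.span_bijective
  let φ : A →ₗ[k] B := h'.span.comp e.symm.toLinearMap
  have hφ : ∀ f, φ (h.toCycRel.span f) = h'.span f := fun f => by
    show h'.span (e.symm (e f)) = _
    rw [e.symm_apply_apply]
  have hm := h.toCycRel.span_algHom h' φ hφ
  have h1 : φ 1 = 1 := by simpa using hm 0 1
  have hmul : ∀ p q, φ (p * q) = φ p * φ q := by
    intro p q
    obtain ⟨f, rfl⟩ := h.span_bijective.2 p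
    obtain ⟨g, rfl⟩ := h.span_bijective.2 q
    rw [hφ, hφ, CycRel.span_apply, CycRel.span_apply, CycRel.span_apply, CycRel.span_apply,
      Finset.sum_mul_sum, map_sum, Finset.sum_mul_sum]
    refine Finset.sum_congr rfl fun i _ => ?_
    rw [map_sum]
    refine Finset.sum_congr rfl fun j _ => ?_
    rw [h.toCycRel.mul_mul, hm, h'.mul_mul]
  refine ⟨AlgHom.ofLinearMap φ h1 hmul, fun u => ?_, ?_⟩
  · simpa using hm 0 u
  · simpa using hm 1 1

end CycPres

end Rel

section Galois

variable {k : Type u} [Field k] {K : Type v} [Field K] [Algebra k K] [FiniteDimensional k K]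
  [IsGalois k K] {σ : K ≃ₐ[k] K}

theorem orderOf_gen (hσ : ∀ τ : K ≃ₐ[k] K, τ ∈ Subgroup.zpowers σ) : orderOf σ = finrank k K :=
  (orderOf_eq_card_of_forall_mem_zpowers hσ).trans (IsGalois.card_aut_eq_finrank k K)

theorem pow_finrank_eq_one (hσ : ∀ τ : K ≃ₐ[k] K, τ ∈ Subgroup.zpowers σ) : σ ^ finrank k K = 1 :=
  orderOf_gen hσ ▸ pow_orderOf_eq_one σ

theorem eq_zero_of_pow_fix (hσ : ∀ τ : K ≃ₐ[k] K, τ ∈ Subgroup.zpowers σ) {i : ℕ}
    (hi : i < finrank k K) (h : ∀ x, (σ ^ i) x = x) : i = 0 := by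
  by_contra h0
  exact pow_ne_one_of_lt_orderOf h0 (by rwa [orderOf_gen hσ]) (AlgEquiv.ext h)

theorem mem_range_of_fix (hσ : ∀ τ : K ≃ₐ[k] K, τ ∈ Subgroup.zpowers σ) {x : K} (h : σ x = x) :
    x ∈ Set.range (algebraMap k K) := by
  rw [IsGalois.mem_range_algebraMap_iff_fixed]
  intro τ
  have hle : Subgroup.zpowers σ ≤ MulAction.stabilizer (K ≃ₐ[k] K) x := by
    rw [Subgroup.zpowers_le]; exact h
  exact hle (hσ τ)

theorem partNorm_finrank (hσ : ∀ τ : K ≃ₐ[k] K, τ ∈ Subgroup.zpowers σ) (x : K) :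
    partNorm σ x (finrank k K) = algebraMap k K (Algebra.norm k x) := by
  rw [Algebra.norm_eq_prod_automorphisms, partNorm, ← Fin.prod_univ_eq_prod_range (fun l => (σ ^ l) x)]
  refine Fintype.prod_bijective (fun l : Fin (finrank k K) => σ ^ (l : ℕ)) ?_ _ _ fun l => rfl
  rw [Fintype.bijective_iff_injective_and_card, Fintype.card_fin, ← Nat.card_eq_fintype_card,
    IsGalois.card_aut_eq_finrank]
  exact ⟨fun i j hij => Fin.ext (pow_injOn_Iio_orderOf (by rw [orderOf_gen hσ]; exact i.2)
    (by rw [orderOf_gen hσ]; exact j.2) hij), rfl⟩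

variable {b : kˣ} {A : Type w} [Ring A] [Algebra k A] {ι : K →ₐ[k] A} {y : A}

namespace CycPres

theorem mem_range_of_commute (hσ : ∀ τ : K ≃ₐ[k] K, τ ∈ Subgroup.zpowers σ) (h : CycPres σ b ι y)
    {z : A} (hz : ∀ x, ι x * z = z * ι x) : z ∈ Set.range ι := by
  classical
  obtain ⟨f, rfl⟩ := h.span_bijective.2 z
  have hf : ∀ x, (fun i : Fin (finrank k K) => (σ ^ (i : ℕ)) x * f i) = fun i => f i * x := by
    intro x
    apply h.span_bijective.1
    rw [CycRel.span_apply, CycRel.span_apply]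
    have := hz x
    rw [CycRel.span_apply, Finset.mul_sum, Finset.sum_mul] at this
    simpa [mul_assoc, ← map_mul, ← mul_assoc (ι x), h.toCycRel.comm_pow] using this
  let i0 : Fin (finrank k K) := ⟨0, Module.finrank_pos⟩
  refine ⟨f i0, ?_⟩
  rw [CycRel.span_apply, Finset.sum_eq_single i0]
  · simp [i0]
  · intro i _ hi
    rw [show f i = 0 from ?_, map_zero, mul_zero]
    by_contra hne
    refine hi (Fin.ext (eq_zero_of_pow_fix hσ i.2 fun x => ?_))
    exact mul_right_cancel₀ hne ((congrFun (hf x) i).trans (mul_comm _ _))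
  · simp

theorem isCentral (hσ : ∀ τ : K ≃ₐ[k] K, τ ∈ Subgroup.zpowers σ) (h : CycPres σ b ι y) :
    Algebra.IsCentral k A := ⟨fun z hz => by
  rw [Subalgebra.mem_center_iff] at hz
  obtain ⟨x, rfl⟩ := h.mem_range_of_commute hσ fun x => hz (ι x)
  have := h.nontrivial
  have hfix : σ x = x := by
    have h1 := h.comm x
    rw [← hz y] at h1
    exact (ι.toRingHom.injective (h.toCycRel.isUnit_gen.mul_left_cancel h1)).symm
  obtain ⟨c, rfl⟩ := mem_range_of_fix hσ hfix
  exact Algebra.mem_bot.2 ⟨c, (ι.commutes c).symm⟩⟩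

theorem isSimpleRing (hσ : ∀ τ : K ≃ₐ[k] K, τ ∈ Subgroup.zpowers σ) (h : CycPres σ b ι y) :
    IsSimpleRing A := by
  classical
  have := h.nontrivial
  refine IsSimpleRing.of_eq_bot_or_eq_top fun I => or_iff_not_imp_left.2 fun hI => ?_
  let S : Set ℕ := {m | ∃ f : Fin (finrank k K) → K, f ≠ 0 ∧ h.toCycRel.span f ∈ I ∧
    (Finset.univ.filter fun i => f i ≠ 0).card = m}
  obtain ⟨z, hz, hz0⟩ : ∃ z ∈ I, z ≠ 0 := by
    by_contra hcon
    push Not at hcon
    exact hI (le_antisymm (fun z hz => (TwoSidedIdeal.mem_bot _).2 (hcon z hz)) bot_le)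
  obtain ⟨f₀, rfl⟩ := h.span_bijective.2 z
  have hS : S.Nonempty := ⟨_, f₀, fun hf => hz0 (by rw [hf, map_zero]), hz, rfl⟩
  obtain ⟨f, hf0, hfI, hfm⟩ := Nat.sInf_mem hS
  obtain ⟨i, hi⟩ : ∃ i, f i ≠ 0 := Function.ne_iff.1 hf0
  have hf : ∀ j, f j ≠ 0 → j = i := by
    intro j hj
    by_contra hji
    obtain ⟨x, hx⟩ : ∃ x, (σ ^ (j : ℕ)) x ≠ (σ ^ (i : ℕ)) x := by
      by_contra hcon
      push Not at hcon
      exact hji (Fin.ext (pow_injOn_Iio_orderOf (by rw [orderOf_gen hσ]; exact j.2)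
        (by rw [orderOf_gen hσ]; exact i.2) (AlgEquiv.ext hcon)))
    let g : Fin (finrank k K) → K := fun l => ((σ ^ (l : ℕ)) x - (σ ^ (i : ℕ)) x) * f l
    have hg : h.toCycRel.span g = ι x * h.toCycRel.span f - h.toCycRel.span f * ι ((σ ^ (i : ℕ)) x) := by
      rw [CycRel.span_apply, CycRel.span_apply, Finset.mul_sum, Finset.sum_mul,
        ← Finset.sum_sub_distrib]
      refine Finset.sum_congr rfl fun l _ => ?_
      rw [← mul_assoc (ι x), h.toCycRel.comm_pow, mul_assoc, mul_assoc, ← map_mul, ← map_mul, ← mul_sub,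
        ← map_sub]
      congr 2
      simp only [g]; ring
    have hgS : (Finset.univ.filter fun l => g l ≠ 0).card ∈ S := by
      refine ⟨g, fun h0 => ?_, hg ▸ I.sub_mem (I.mul_mem_left _ _ hfI) (I.mul_mem_right _ _ hfI), rfl⟩
      exact mul_ne_zero (sub_ne_zero.2 hx) hj (congrFun h0 j)
    refine absurd (Nat.sInf_le hgS) (not_le.2 (hfm ▸ Finset.card_lt_card ?_))
    rw [Finset.ssubset_iff_of_subset]
    · exact ⟨i, by simp [hi], by simp [g]⟩
    · intro l hl
      simp only [Finset.mem_filter, Finset.mem_univ, true_and, g, ne_eq, mul_eq_zero, not_or] at hl ⊢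
      exact hl.2
  have hmem : y ^ (i : ℕ) * ι (f i) ∈ I := by
    have : h.toCycRel.span f = y ^ (i : ℕ) * ι (f i) := by
      rw [CycRel.span_apply, Finset.sum_eq_single i]
      · intro l _ hl
        rw [not_ne_iff.1 (fun hne => hl (hf l hne)), map_zero, mul_zero]
      · simp
    exact this ▸ hfI
  obtain ⟨u, hu⟩ := (h.toCycRel.isUnit_gen.pow (i : ℕ)).mul ((isUnit_iff_ne_zero.2 hi).map ι)
  refine TwoSidedIdeal.one_mem_iff _ |>.1 ?_
  have := I.mul_mem_left ((u⁻¹ : Aˣ) : A) _ (hu ▸ hmem)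
  rwa [Units.inv_mul] at this

theorem splits (hσ : ∀ τ : K ≃ₐ[k] K, τ ∈ Subgroup.zpowers σ) (h : CycPres σ b ι y) :
    Curves.Splits k A K := by
  have := h.isCentral hσ
  have := h.isSimpleRing hσ
  have := h.finiteDimensional
  exact splits_of_subfield ι rfl (h.dim.trans (sq _))

/-- An element conjugating like `y` is `y · ι u`. -/
theorem exists_eq_gen_mul (hσ : ∀ τ : K ≃ₐ[k] K, τ ∈ Subgroup.zpowers σ) (h : CycPres σ b ι y)
    {z : A} (hz : ∀ x, ι x * z = z * ι (σ x)) : ∃ u : K, z = y * ι u := by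
  obtain ⟨v, rfl⟩ := h.toCycRel.isUnit_gen
  have hinv : ∀ x, ι (σ x) * ((v⁻¹ : Aˣ) : A) = ((v⁻¹ : Aˣ) : A) * ι x := fun x => by
    rw [Units.eq_inv_mul_iff_mul_eq, ← mul_assoc, ← h.comm x, mul_assoc, Units.mul_inv, mul_one]
  obtain ⟨u, hu⟩ := h.mem_range_of_commute hσ (z := ((v⁻¹ : Aˣ) : A) * z) fun x => by
    obtain ⟨x, rfl⟩ := σ.surjective x
    rw [← mul_assoc, hinv, mul_assoc, hz, mul_assoc]
  exact ⟨u, by rw [hu, Units.mul_inv_cancel_left]⟩

end CycPres

/-- Two algebras with the same cyclic presentation are isomorphic. -/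
theorem nonempty_algEquiv_of_cycPres {B : Type x} [Ring B] [Algebra k B] {ι' : K →ₐ[k] B} {y' : B}
    (hσ : ∀ τ : K ≃ₐ[k] K, τ ∈ Subgroup.zpowers σ) (h : CycPres σ b ι y) (h' : CycPres σ b ι' y') :
    Nonempty (A ≃ₐ[k] B) := by
  obtain ⟨φ, hι, hy⟩ := h.exists_lift h'.toCycRel
  have := h.isSimpleRing hσ
  have := h'.nontrivial
  have := h.finiteDimensional
  have := h'.finiteDimensional
  have hinj : Function.Injective φ := φ.toRingHom.injective
  exact ⟨AlgEquiv.ofBijective φ ⟨hinj,
    (LinearMap.injective_iff_surjective_of_finrank_eq_finrank (f := φ.toLinearMap)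
      (h.dim.trans h'.dim.symm)).1 hinj⟩⟩

/-- A simple algebra of dimension `n²` satisfying the relations is the cyclic algebra. -/
theorem CycRel.toPres {B : Type x} [Ring B] [Algebra k B] [Nontrivial B] [FiniteDimensional k B]
    {ι' : K →ₐ[k] B} {y' : B} (hσ : ∀ τ : K ≃ₐ[k] K, τ ∈ Subgroup.zpowers σ) (h : CycPres σ b ι y)
    (h' : CycRel σ b ι' y') (hd : finrank k B = finrank k K ^ 2) : CycPres σ b ι' y' := by
  obtain ⟨φ, hι, hy⟩ := h.exists_lift h'
  have := h.isSimpleRing hσ
  have hinj : Function.Injective φ := φ.toRingHom.injective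
  have := h.finiteDimensional
  have hsurj : Function.Surjective φ :=
    (LinearMap.injective_iff_surjective_of_finrank_eq_finrank (f := φ.toLinearMap)
      (h.dim.trans hd.symm)).1 hinj
  refine ⟨h', ?_, hd⟩
  rw [eq_top_iff]
  rintro z -
  obtain ⟨a, rfl⟩ := hsurj z
  have hle : (Algebra.adjoin k (Set.range ι ∪ {y})).map φ ≤ Algebra.adjoin k (Set.range ι' ∪ {y'}) := by
    rw [AlgHom.map_adjoin]
    refine Algebra.adjoin_mono ?_
    rintro _ ⟨p, (⟨u, rfl⟩ | rfl), rfl⟩
    · exact Or.inl ⟨u, (hι u).symm⟩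
    · exact Or.inr hy
  exact hle ⟨a, h.gen ▸ trivial, rfl⟩

end Galois

section Model

/-- The companion matrix of `X ^ n - c`. -/
def cycMat {K : Type v} [Field K] (n : ℕ) (c : K) : Matrix (Fin n) (Fin n) K :=
  Matrix.of fun i j => if j.val + 1 = i.val then (1 : K)
    else if i.val = 0 ∧ j.val + 1 = n then c else 0

variable {k : Type u} [Field k] {K : Type v} [Field K] [Algebra k K]

/-- The fixed subalgebra presenting `(K, σ, b)`. -/
def cycAlg (σ : K ≃ₐ[k] K) (n : ℕ) (b : k) : Subalgebra k (Matrix (Fin n) (Fin n) K) where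
  carrier := {M | cycMat n (algebraMap k K b) * M.map (fun x => σ x) = M * cycMat n (algebraMap k K b)}
  mul_mem' {M N} hM hN := by
    simp only [Set.mem_ofPred_eq] at *
    rw [show (M * N).map (fun x => σ x) = M.map (fun x => σ x) * N.map (fun x => σ x) from
      Matrix.map_mul (f := σ.toAlgHom.toRingHom), ← mul_assoc, hM, mul_assoc, hN, mul_assoc]
  add_mem' {M N} hM hN := by
    simp only [Set.mem_ofPred_eq] at *
    rw [Matrix.map_add _ (map_add σ), mul_add, add_mul, hM, hN]
  algebraMap_mem' c := by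
    simp only [Set.mem_ofPred_eq]
    rw [show (algebraMap k (Matrix (Fin n) (Fin n) K) c).map (fun x => σ x) =
        algebraMap k (Matrix (Fin n) (Fin n) K) c by
      rw [Matrix.algebraMap_eq_diagonal, Matrix.diagonal_map (map_zero σ)]
      congr 1; funext i; exact σ.commutes c, Algebra.commutes]

theorem mem_cycAlg {σ : K ≃ₐ[k] K} {n : ℕ} {b : k} {M : Matrix (Fin n) (Fin n) K} :
    M ∈ cycAlg σ n b ↔
      cycMat n (algebraMap k K b) * M.map (fun x => σ x) = M * cycMat n (algebraMap k K b) :=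
  Iff.rfl

variable [FiniteDimensional k K]

/-- The matrix algebra presents the cyclic algebra. -/
theorem exists_cycPres_cycAlg [IsGalois k K] {σ : K ≃ₐ[k] K}
    (hσ : ∀ τ : K ≃ₐ[k] K, τ ∈ Subgroup.zpowers σ) (b : kˣ) :
    ∃ ι y, CycPres σ b (A := cycAlg σ (finrank k K) (b : k)) ι y := by
  classical
  generalize hn : finrank k K = n
  have hn0 : 0 < n := hn ▸ Module.finrank_pos
  set F := cycMat n (algebraMap k K (b : k)) with hF
  have hord : σ ^ n = 1 := hn ▸ pow_finrank_eq_one hσ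
  let D : K →ₐ[k] Matrix (Fin n) (Fin n) K :=
    (Matrix.diagonalAlgHom k).comp (AlgHom.pi fun i : Fin n => (σ ^ (i : ℕ)).toAlgHom)
  have hDapp : ∀ x, D x = Matrix.diagonal fun i : Fin n => (σ ^ (i : ℕ)) x := fun x => rfl
  have hshift : ∀ (i j : Fin n) (x : K), (σ ^ (i : ℕ)) x * F i j = F i j * (σ ^ ((j : ℕ) + 1)) x := by
    intro i j x
    by_cases h1 : j.val + 1 = i.val
    · rw [h1, mul_comm]
    · by_cases h2 : i.val = 0 ∧ j.val + 1 = n
      · rw [h2.1, h2.2, hord, pow_zero, mul_comm]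
      · simp [hF, cycMat, h1, h2]
  have hFmap : F.map (fun x => σ x) = F := by
    ext i j
    simp only [hF, cycMat, Matrix.map_apply, Matrix.of_apply]
    split_ifs <;> simp [AlgEquiv.commutes]
  have hDmem : ∀ x, D x ∈ cycAlg σ n (b : k) := fun x => by
    rw [mem_cycAlg, ← hF, hDapp, Matrix.diagonal_map (map_zero σ)]
    ext i j
    simp only [Matrix.mul_diagonal, Matrix.diagonal_mul, Function.comp_apply]
    rw [hshift, pow_succ' σ, AlgEquiv.mul_apply]
  have hFmem : F ∈ cycAlg σ n (b : k) := by rw [mem_cycAlg, ← hF, hFmap]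
  have hcomm : ∀ x, D x * F = F * D (σ x) := fun x => by
    rw [hDapp, hDapp]
    ext i j
    simp only [Matrix.mul_diagonal, Matrix.diagonal_mul]
    rw [hshift, pow_succ σ, AlgEquiv.mul_apply]
  let o : Fin n := ⟨0, hn0⟩
  have hcol : ∀ (p : ℕ), p < n → ∀ i : Fin n, (F ^ p) i o = if i.val = p then 1 else 0 := by
    intro p
    induction p with
    | zero => intro _ i; simp [Matrix.one_apply, o, Fin.ext_iff]
    | succ p ih =>
      intro hp i
      rw [pow_succ', Matrix.mul_apply, Finset.sum_eq_single (⟨p, by omega⟩ : Fin n)]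
      · rw [ih (by omega), if_pos rfl, mul_one]
        simp only [hF, cycMat, Matrix.of_apply]
        have : ¬(i.val = 0 ∧ p + 1 = n) := by omega
        by_cases h : p + 1 = i.val
        · rw [if_pos h, if_pos h.symm]
        · rw [if_neg h, if_neg this, if_neg (fun h' => h h'.symm)]
      · intro l _ hl
        rw [ih (by omega), if_neg (fun h => hl (Fin.ext h)), mul_zero]
      · simp
  have hdet : ∀ M ∈ cycAlg σ n (b : k), (∀ i, M i o = 0) → M = 0 := by
    intro M hM h0
    rw [mem_cycAlg, ← hF] at hM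
    suffices ∀ (j : ℕ) (hj : j < n) (i : Fin n), M i ⟨j, hj⟩ = 0 by
      ext i j; exact this j j.2 i
    intro j
    induction j with
    | zero => intro hj i; exact h0 i
    | succ j ih =>
      intro hj i
      have h := congrFun (congrFun hM i) ⟨j, by omega⟩
      rw [Matrix.mul_apply, Matrix.mul_apply] at h
      rw [Finset.sum_eq_zero (fun l _ => by simp [ih (by omega) l]),
        Finset.sum_eq_single (⟨j + 1, hj⟩ : Fin n)] at h
      · simpa [hF, cycMat] using h.symm
      · intro l _ hl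
        have h1 : ¬(j + 1 = l.val) := fun h' => hl (Fin.ext h'.symm)
        have h2 : ¬(l.val = 0 ∧ j + 1 = n) := by omega
        simp [hF, cycMat, h1, h2]
      · simp
  have hpow : F ^ n = algebraMap k _ (b : k) := by
    rw [← sub_eq_zero]
    refine hdet _ (Subalgebra.sub_mem _ (Subalgebra.pow_mem _ hFmem n)
      (Subalgebra.algebraMap_mem _ _)) fun i => ?_
    obtain ⟨m, rfl⟩ : ∃ m, n = m + 1 := ⟨n - 1, by omega⟩
    rw [Matrix.sub_apply, pow_succ', Matrix.mul_apply, Finset.sum_eq_single (Fin.last m)]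
    · rw [hcol m (by omega), if_pos (Fin.val_last m), mul_one, sub_eq_zero,
        Matrix.algebraMap_matrix_apply]
      simp only [hF, cycMat, Matrix.of_apply, Fin.val_last, Fin.ext_iff, o]
      have : ¬(m + 1 = i.val) := by omega
      simp [this]
    · intro l _ hl
      rw [hcol m (by omega), if_neg (fun h => hl (Fin.ext (by rw [h, Fin.val_last]))), mul_zero]
    · simp
  subst hn
  let ι : K →ₐ[k] cycAlg σ (finrank k K) (b : k) := D.codRestrict _ hDmem
  let y : cycAlg σ (finrank k K) (b : k) := ⟨F, hFmem⟩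
  have hrel : CycRel σ b ι y := ⟨Subtype.ext hpow, fun x => Subtype.ext (hcomm x)⟩
  have hspan : ∀ (f : Fin (finrank k K) → K) i,
      (hrel.span f : Matrix (Fin (finrank k K)) (Fin (finrank k K)) K) i o = f i := by
    intro f i
    rw [CycRel.span_apply, AddSubmonoidClass.coe_finsetSum, Matrix.sum_apply, Finset.sum_eq_single i]
    · rw [MulMemClass.coe_mul, SubmonoidClass.coe_pow]
      show (F ^ (i : ℕ) * D (f i)) i o = f i
      rw [hDapp, Matrix.mul_diagonal, hcol i i.2, if_pos rfl, one_mul]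
      simp [o]
    · intro l _ hl
      show (F ^ (l : ℕ) * D (f l)) i o = 0
      rw [hDapp, Matrix.mul_diagonal, hcol l l.2, if_neg (fun h => hl (Fin.ext h.symm)), zero_mul]
    · simp
  have hsurj : Function.Surjective hrel.span := by
    intro M
    refine ⟨fun i => (M : Matrix _ _ K) i o, ?_⟩
    rw [← sub_eq_zero]
    apply Subtype.ext
    refine hdet _ (Subtype.coe_prop _) fun i => ?_
    rw [AddSubgroupClass.coe_sub, Matrix.sub_apply, hspan, sub_self]
  have hinj : Function.Injective hrel.span := fun f g h => funext fun i => by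
    rw [← hspan f i, ← hspan g i, h]
  refine ⟨ι, y, hrel, ?_, ?_⟩
  · rw [eq_top_iff]
    intro z _
    obtain ⟨f, rfl⟩ := hsurj z
    exact hrel.range_span.le ⟨f, rfl⟩
  · rw [← (LinearEquiv.ofBijective hrel.span ⟨hinj, hsurj⟩).finrank_eq, Module.finrank_pi_fintype,
      Finset.sum_const, Finset.card_univ, Fintype.card_fin, smul_eq_mul, sq]

end Model

end Groth.Agent.Csa25
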