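import Groth.Agent.Csa25.AzuMorita
import Mathlib.Algebra.Azumaya.Matrix
import Mathlib.LinearAlgebra.PiTensorProduct.Basic
import Mathlib.RingTheory.Flat.FaithfullyFlat.Basic

/-! Liftings of automorphisms of matrix algebras form an n-torsion invertible module. -/

set_option autoImplicit false

open scoped TensorProduct
open Matrix

namespace Groth.Agent.Csa25

universe u v

theorem invertible_tensorPower (R : Type u) [CommRing R] (L : Type v) [AddCommGroup L] [Module R L]
    [Module.Invertible R L] : ∀ n : ℕ, Module.Invertible R (⨂[R] _ : Fin n, L)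
  | 0 => Module.Invertible.congr (PiTensorProduct.isEmptyEquiv (Fin 0)).symm
  | n + 1 => by
    haveI := invertible_tensorPower R L n
    haveI : Module.Invertible R (⨂[R] _ : Fin 1, L) :=
      Module.Invertible.congr (PiTensorProduct.subsingletonEquiv (s := fun _ : Fin 1 => L) (0 : Fin 1)).symm
    exact Module.Invertible.congr (TensorPower.mulEquiv (R := R) (M := L) (n := n) (m := 1))

variable {A : Type u} [CommRing A] {n : ℕ}
  (α : Matrix (Fin n) (Fin n) A ≃ₐ[A] Matrix (Fin n) (Fin n) A)

/-- The module of liftings. -/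
abbrev liftMod : Submodule A (Matrix (Fin n) (Fin n) A) :=
  LinearMap.ker (LinearMap.mul A (Matrix (Fin n) (Fin n) A) -
    (LinearMap.lcomp A (Matrix (Fin n) (Fin n) A) α.toLinearMap).comp (LinearMap.mul A (Matrix (Fin n) (Fin n) A)).flip)

theorem mem_liftMod {M : Matrix (Fin n) (Fin n) A} :
    M ∈ liftMod α ↔ ∀ N, M * N = α N * M := by
  simp [liftMod, LinearMap.ext_iff, sub_eq_zero]

theorem liftMod_invertible [NeZero n] : Module.Invertible A (liftMod α) := by
  rcases subsingleton_or_nontrivial A with hA | hA
  · haveI : Subsingleton (liftMod α) := Module.subsingleton A _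
    haveI : Subsingleton (Module.Dual A (liftMod α) ⊗[A] liftMod α) := Module.subsingleton A _
    exact ⟨⟨fun _ _ _ => Subsingleton.elim _ _, fun _ => ⟨0, Subsingleton.elim _ _⟩⟩⟩
  haveI : Module.FaithfullyFlat A (Fin n → A) :=
    Module.FaithfullyFlat.of_linearEquiv A (Fin n →₀ A) (Finsupp.linearEquivFunOnFinite A A (Fin n)).symm
  let e := (Matrix.toLinAlgEquiv' : Matrix (Fin n) (Fin n) A ≃ₐ[A] Module.End A (Fin n → A))
  let φ : Module.End A (Fin n → A) ≃ₐ[A] Module.End A (Fin n → A) := e.symm.trans (α.trans e)
  haveI := inter_invertible φ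
  have h : (liftMod α).map e.toLinearEquiv.toLinearMap = inter φ := by
    ext ψ
    constructor
    · rintro ⟨M, hM, rfl⟩ f x
      have := (mem_liftMod α).1 hM (e.symm f)
      have h2 := LinearMap.congr_fun (congrArg e this) x
      simpa [φ] using h2
    · intro hψ
      refine ⟨e.symm ψ, (mem_liftMod α).2 fun N => ?_, by simp⟩
      apply e.injective
      refine LinearMap.ext fun x => ?_
      have := hψ (e N) x
      simpa [φ] using this
  exact Module.Invertible.congr
    ((e.toLinearEquiv.submoduleMap (liftMod α)).trans (LinearEquiv.ofEq _ _ h)).symm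

/-- The mixed determinant: column `i` of the `i`-th matrix. -/
noncomputable def colDet : MultilinearMap A (fun _ : Fin n => liftMod α) A :=
  (Matrix.detRowAlternating : (Fin n → A) [⋀^Fin n]→ₗ[A] A).toMultilinearMap.compLinearMap
    (fun i => ((LinearMap.proj i).comp
      (Matrix.transposeLinearEquiv (Fin n) (Fin n) A A).toLinearMap).comp (liftMod α).subtype)

theorem colDet_diag (M : liftMod α) : colDet α (fun _ => M) = (M : Matrix (Fin n) (Fin n) A).det := by
  rw [← Matrix.det_transpose]
  rfl

theorem tensorPower_liftMod_trivial [NeZero n] :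
    Nonempty ((⨂[A] _ : Fin n, liftMod α) ≃ₗ[A] A) := by
  rcases subsingleton_or_nontrivial A with hA | hA
  · haveI : Subsingleton (⨂[A] _ : Fin n, liftMod α) := Module.subsingleton A _
    exact ⟨{ toFun := fun _ => 0, invFun := fun _ => 0, map_add' := fun _ _ => Subsingleton.elim _ _,
             map_smul' := fun _ _ => Subsingleton.elim _ _, left_inv := fun _ => Subsingleton.elim _ _,
             right_inv := fun _ => Subsingleton.elim _ _ }⟩
  haveI := liftMod_invertible α
  haveI := invertible_tensorPower A (liftMod α) n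
  let T : (⨂[A] _ : Fin n, liftMod α) →ₗ[A] A := PiTensorProduct.lift (colDet α)
  have hsurj : LinearMap.range T = ⊤ := by
    by_contra hne
    obtain ⟨m, hm, hle⟩ := Ideal.exists_le_maximal (LinearMap.range T) hne
    haveI : IsAzumaya A (Matrix (Fin n) (Fin n) A) := IsAzumaya.matrix A (Fin n)
    obtain ⟨f, hf, u, b, hub, -, hu⟩ := exists_local_conj α m
    have humem : u ∈ liftMod α := (mem_liftMod α).2 fun N => (hu N).symm
    have hdet : u.det * b.det = f ^ n := by
      rw [← Matrix.det_mul, hub, Matrix.det_smul, Matrix.det_one, Fintype.card_fin, mul_one]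
    have : u.det ∈ m := hle ⟨PiTensorProduct.tprod A (fun _ => ⟨u, humem⟩), by
      rw [PiTensorProduct.lift.tprod, colDet_diag]⟩
    exact hf (hm.isPrime.mem_of_pow_mem n (hdet ▸ m.mul_mem_right _ this))
  exact ⟨LinearEquiv.ofBijective T
    (Module.Invertible.bijective_of_surjective (LinearMap.range_eq_top.1 hsurj))⟩

end Groth.Agent.Csa25
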