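import Groth.Prelude.Def_BrSev2
import Mathlib.AlgebraicGeometry.Gluing

/-!
# Morphisms from natural maps of affine points
-/

set_option autoImplicit false
open CategoryTheory CategoryTheory.Limits AlgebraicGeometry

namespace Groth.Agent.Csa25

universe u

variable {k : Type u} [Field k] {X Y : Scheme.{u}} {f : X ⟶ Spec (CommRingCat.of k)}
  {g : Y ⟶ Spec (CommRingCat.of k)}

/-- Morphisms agreeing on all affine schemes mapping in are equal. -/
theorem hom_ext_affine {Z : Scheme.{u}} {θ θ' : X ⟶ Z}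
    (h : ∀ (T : CommRingCat.{u}) (a : Spec T ⟶ X), a ≫ θ = a ≫ θ') : θ = θ' :=
  X.affineCover.hom_ext _ _ fun i => h _ (X.affineCover.f i)

/-- Morphisms agreeing on all affine points over the base are equal. -/
theorem hom_ext_pts {Z : Scheme.{u}} {θ θ' : X ⟶ Z}
    (h : ∀ (R : Type u) [CommRing R] [Algebra k R] (p : BrSev.Pts f R), p.1 ≫ θ = p.1 ≫ θ') : θ = θ' :=
  hom_ext_affine fun T a => by
    letI : Algebra k T := (Spec.preimage (a ≫ f)).hom.toAlgebra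
    exact h T ⟨a, by rw [RingHom.algebraMap_toAlgebra, CommRingCat.ofHom_hom, Spec.map_preimage]⟩

/-- A natural map of affine points comes from a morphism. -/
theorem exists_hom_of_natural
    (Φ : ∀ (R : Type u) [CommRing R] [Algebra k R], BrSev.Pts f R → BrSev.Pts g R)
    (hΦ : ∀ (R S : Type u) [CommRing R] [Algebra k R] [CommRing S] [Algebra k S] (ψ : R →ₐ[k] S)
      (p : BrSev.Pts f R), Φ S (BrSev.Pts.map f ψ p) = BrSev.Pts.map g ψ (Φ R p)) :
    ∃ θ : X ⟶ Y, θ ≫ g = f ∧ ∀ (R : Type u) [CommRing R] [Algebra k R] (p : BrSev.Pts f R),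
      (Φ R p).1 = p.1 ≫ θ := by
  classical
  let 𝒰 := X.affineCover
  let alg : ∀ i, Algebra k Γ(𝒰.X i, ⊤) := fun i =>
    (Spec.preimage ((𝒰.X i).isoSpec.inv ≫ 𝒰.f i ≫ f)).hom.toAlgebra
  let pt : ∀ i, @BrSev.Pts k _ X f Γ(𝒰.X i, ⊤) _ (alg i) := fun i =>
    ⟨(𝒰.X i).isoSpec.inv ≫ 𝒰.f i, by
      letI := alg i
      rw [Category.assoc, RingHom.algebraMap_toAlgebra, CommRingCat.ofHom_hom, Spec.map_preimage]⟩
  let t : ∀ i, 𝒰.X i ⟶ Y := fun i => (𝒰.X i).isoSpec.hom ≫ (@Φ Γ(𝒰.X i, ⊤) _ (alg i) (pt i)).1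
  have key : ∀ (T : Type u) [CommRing T] [Algebra k T] (p : BrSev.Pts f T) (i : 𝒰.I₀)
      (b : Spec (CommRingCat.of T) ⟶ 𝒰.X i), b ≫ 𝒰.f i = p.1 → b ≫ t i = (Φ T p).1 := by
    intro T _ _ p i b hb
    letI := alg i
    obtain ⟨β, hβ⟩ := Spec.map_surjective (b ≫ (𝒰.X i).isoSpec.hom)
    have hβ' : Spec.map β ≫ (pt i).1 = p.1 := by
      show Spec.map β ≫ (𝒰.X i).isoSpec.inv ≫ 𝒰.f i = p.1
      rw [hβ, Category.assoc, Iso.hom_inv_id_assoc, hb]
    have hc : CommRingCat.ofHom (algebraMap k Γ(𝒰.X i, ⊤)) ≫ β = CommRingCat.ofHom (algebraMap k T) := by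
      apply Spec.map_injective
      rw [Spec.map_comp, ← p.2, ← hβ', Category.assoc, (pt i).2]
    let ψ : Γ(𝒰.X i, ⊤) →ₐ[k] T := AlgHom.mk β.hom fun a => congrArg (fun m => (CommRingCat.Hom.hom m) a) hc
    have hp : BrSev.Pts.map f ψ (pt i) = p := Subtype.ext hβ'
    rw [← hp, hΦ]
    show b ≫ _ ≫ _ = Spec.map β ≫ _
    rw [hβ, Category.assoc]
  let θ : X ⟶ Y := 𝒰.glueMorphisms t fun i j => hom_ext_affine fun T a => by
    letI : Algebra k T := (Spec.preimage (a ≫ pullback.fst _ _ ≫ 𝒰.f i ≫ f)).hom.toAlgebra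
    have hp : (a ≫ pullback.fst _ _ ≫ 𝒰.f i) ≫ f = Spec.map (CommRingCat.ofHom (algebraMap k T)) := by
      rw [RingHom.algebraMap_toAlgebra, CommRingCat.ofHom_hom, Spec.map_preimage]
      simp only [Category.assoc]
    have h1 := key T ⟨_, hp⟩ i (a ≫ pullback.fst _ _) (Category.assoc _ _ _)
    have h2 := key T ⟨_, hp⟩ j (a ≫ pullback.snd _ _) (by rw [Category.assoc, ← pullback.condition])
    exact (Category.assoc _ _ _).symm.trans ((h1.trans h2.symm).trans (Category.assoc _ _ _))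
  have hθ : ∀ (R : Type u) [CommRing R] [Algebra k R] (p : BrSev.Pts f R), (Φ R p).1 = p.1 ≫ θ := by
    intro R _ _ p
    refine Scheme.Cover.hom_ext (𝒰.pullback₁ p.1) _ _ fun i => hom_ext_affine fun T a => ?_
    obtain ⟨α, hα⟩ := Spec.map_surjective (a ≫ (𝒰.pullback₁ p.1).f i)
    letI : Algebra k T := (α.hom.comp (algebraMap k R)).toAlgebra
    let ψ : R →ₐ[k] T := AlgHom.mk α.hom fun _ => rfl
    have hsq : (a ≫ pullback.snd p.1 (𝒰.f i)) ≫ 𝒰.f i = Spec.map α ≫ p.1 := by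
      rw [hα]
      exact (Category.assoc _ _ _).trans ((congrArg (a ≫ ·) pullback.condition.symm).trans (Category.assoc _ _ _).symm)
    have h1 := key T (BrSev.Pts.map f ψ p) i (a ≫ pullback.snd p.1 (𝒰.f i)) hsq
    rw [hΦ] at h1
    have h2 : (a ≫ pullback.snd p.1 (𝒰.f i)) ≫ t i = Spec.map α ≫ p.1 ≫ θ := by
      rw [← Category.assoc (Spec.map α), ← hsq]
      exact (congrArg ((a ≫ pullback.snd p.1 (𝒰.f i)) ≫ ·) (Scheme.Cover.ι_glueMorphisms 𝒰 t _ i)).symm.trans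
        (Category.assoc _ _ _).symm
    rw [← Category.assoc, ← Category.assoc, ← Category.assoc, ← hα]
    exact h1.symm.trans (h2.trans (Category.assoc _ _ _).symm)
  refine ⟨θ, ?_, hθ⟩
  refine hom_ext_pts (f := f) fun R _ _ p => ?_
  rw [← Category.assoc, ← hθ, (Φ R p).2, p.2]

end Groth.Agent.Csa25
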