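import Groth.Agent.Csa25.Index
import Mathlib.Algebra.QuaternionBasis

/-!
# Division algebras of dimension four
-/

set_option autoImplicit false
open scoped TensorProduct Quaternion Groth.Agent.Csa25
open Module

namespace Groth.Agent.Csa25

universe u v

/-- A central division algebra of dimension four, in characteristic not two, is a quaternion algebra. -/
theorem exists_quaternion {k : Type u} [Field k] (h2 : (2 : k) ≠ 0) (D : Type v) [DivisionRing D]
    [Algebra k D] [Algebra.IsCentral k D] [FiniteDimensional k D] (h4 : finrank k D = 4) :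
    ∃ a b : k, Nonempty (QuaternionAlgebra k a 0 b ≃ₐ[k] D) := by
  obtain ⟨L, _, _, ι, _, _, hL⟩ := exists_separable_maximal_subfield k D
  have hL2 : finrank k L = 2 := Nat.mul_self_inj.mp (hL.trans h4)
  -- a generator with scalar square
  obtain ⟨i, a, hi, hik⟩ : ∃ (i : D) (a : k), i * i = a • (1 : D) ∧ i ∉ (⊥ : Subalgebra k D) := by
    obtain ⟨x, hx⟩ : ∃ x : L, x ∉ (⊥ : Subalgebra k L) := by
      by_contra h
      push Not at h
      have : (⊥ : Subalgebra k L) = ⊤ := eq_top_iff.mpr fun x _ => h x
      have h1 := Subalgebra.bot_eq_top_iff_finrank_eq_one.mp this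
      omega
    have hli : LinearIndependent k ![(1 : L), x] := by
      rw [LinearIndependent.pair_iff]
      intro c d h
      by_cases hd : d = 0
      · subst hd; simpa using h
      · refine absurd (Algebra.mem_bot.mpr ⟨-(d⁻¹ * c), ?_⟩) hx
        apply smul_right_injective L hd
        simp only [Algebra.algebraMap_eq_smul_one, smul_neg, smul_smul, ← mul_assoc,
          mul_inv_cancel₀ hd, one_mul, neg_smul]
        exact neg_eq_of_add_eq_zero_right h
    let bL := basisOfLinearIndependentOfCardEqFinrank hli (by simp [hL2])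
    have hrep : x * x = bL.repr (x * x) 0 • (1 : L) + bL.repr (x * x) 1 • x := by
      conv_lhs => rw [← bL.sum_repr (x * x), Fin.sum_univ_two]
      simp [bL]
    generalize hc₀ : bL.repr (x * x) 0 = c₀ at hrep
    generalize hc₁ : bL.repr (x * x) 1 = c₁ at hrep
    refine ⟨ι (x - algebraMap k L (c₁ / 2)), c₀ + (c₁ / 2) ^ 2, ?_, ?_⟩
    · have h2' : (2 : L) ≠ 0 := fun h =>
      h2 ((algebraMap k L).injective (by rw [map_ofNat, h, map_zero]))
      rw [← map_mul, show (x - algebraMap k L (c₁ / 2)) * (x - algebraMap k L (c₁ / 2)) =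
        algebraMap k L (c₀ + (c₁ / 2) ^ 2) by
          rw [Algebra.smul_def, Algebra.smul_def, mul_one] at hrep
          simp only [map_add, map_pow, map_div₀, map_ofNat]
          field_simp
          linear_combination 4 * hrep, AlgHom.commutes, Algebra.algebraMap_eq_smul_one]
    · intro h
      obtain ⟨c, hc⟩ := Algebra.mem_bot.mp h
      rw [← ι.commutes] at hc
      exact hx (Algebra.mem_bot.mpr ⟨c + c₁ / 2, by
        rw [map_add, ι.toRingHom.injective hc]; ring⟩)
  have hi0 : i ≠ 0 := fun h => hik (h ▸ Subalgebra.zero_mem _)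
  -- an element anticommuting with it
  obtain ⟨j, hj0, hij⟩ : ∃ j : D, j ≠ 0 ∧ i * j = -(j * i) := by
    have : i ∉ Subalgebra.center k D := by rwa [Algebra.IsCentral.center_eq_bot]
    rw [Subalgebra.mem_center_iff] at this
    push Not at this
    obtain ⟨y, hy⟩ := this
    refine ⟨i * y - y * i, sub_ne_zero.mpr hy.symm, ?_⟩
    rw [mul_sub, sub_mul, ← mul_assoc, hi, smul_mul_assoc, one_mul, mul_assoc y i i, hi,
      mul_smul_comm, mul_one, neg_sub, ← mul_assoc]
  -- the centralizer of `i`
  let C := Subalgebra.centralizer k (Set.range (Algebra.adjoin k ({i} : Set D)).val)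
  have hindep : LinearIndependent k ![(1 : D), i] := by
    rw [LinearIndependent.pair_iff]
    intro c d h
    by_cases hd : d = 0
    · subst hd; simpa using h
    · refine absurd (Algebra.mem_bot.mpr ⟨-(d⁻¹ * c), ?_⟩) hik
      apply smul_right_injective D hd
      simp only [Algebra.algebraMap_eq_smul_one, smul_neg, smul_smul, ← mul_assoc,
        mul_inv_cancel₀ hd, one_mul, neg_smul]
      exact neg_eq_of_add_eq_zero_right h
  let V : Submodule k D := Submodule.span k (Set.range ![(1 : D), i])
  have hV : finrank k V = 2 := by simpa [V] using finrank_span_eq_card hindep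
  have hspan : ∀ z : D, z * i = i * z → ∃ c d : k, z = c • (1 : D) + d • i := by
    intro z hz
    have hzV : z ∈ V := by
      by_contra hzV
      have hli3 : LinearIndependent k (Fin.cons z ![(1 : D), i] : Fin 3 → D) :=
        hindep.finCons (fun h => hzV h)
      let W : Submodule k D := Subalgebra.toSubmodule (Subalgebra.centralizer k ({i} : Set D))
      have hW : 3 ≤ finrank k W := by
        have hmem : ∀ l, (Fin.cons z ![(1 : D), i] : Fin 3 → D) l ∈ W := by
          intro l
          fin_cases l <;> simp [W, Subalgebra.mem_centralizer_iff, hz]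
        have hsub : Submodule.span k (Set.range (Fin.cons z ![(1 : D), i] : Fin 3 → D)) ≤ W :=
          Submodule.span_le.mpr fun y hy => by obtain ⟨l, rfl⟩ := hy; exact hmem l
        calc 3 = finrank k (Submodule.span k (Set.range (Fin.cons z ![(1 : D), i] : Fin 3 → D))) := by
              rw [finrank_span_eq_card hli3, Fintype.card_fin]
          _ ≤ finrank k W := Submodule.finrank_mono hsub
      let S : Subalgebra k D := Algebra.adjoin k {i}
      have hScomm : ∀ p ∈ S, ∀ q ∈ S, p * q = q * p := fun p hp q hq => by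
        simp only [S, Algebra.adjoin_singleton_eq_range_aeval, AlgHom.mem_range] at hp hq
        obtain ⟨f, rfl⟩ := hp
        obtain ⟨g, rfl⟩ := hq
        exact ((Commute.all f g).map (Polynomial.aeval i)).eq
      have : IsArtinianRing S := IsArtinianRing.of_finite k S
      let : DivisionRing S := DivisionRing.ofIsUnitOrEqZero fun p =>
        or_iff_not_imp_right.mpr fun hp =>
          IsArtinianRing.isUnit_of_mem_nonZeroDivisors (mem_nonZeroDivisors_of_ne_zero hp)
      have hdc := finrank_mul_finrank_centralizer (k := k) S.val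
      have hS2 : 2 ≤ finrank k S := by
        rw [← hV]
        refine Submodule.finrank_mono (show V ≤ Subalgebra.toSubmodule S from Submodule.span_le.mpr ?_)
        rintro _ ⟨l, rfl⟩
        fin_cases l
        · exact S.one_mem
        · exact Algebra.subset_adjoin rfl
      have heq : Subalgebra.centralizer k (Set.range S.val) = Subalgebra.centralizer k ({i} : Set D) := by
        refine le_antisymm (Subalgebra.centralizer_le k _ _
          (Set.singleton_subset_iff.mpr ⟨⟨i, Algebra.subset_adjoin rfl⟩, rfl⟩)) fun w hw => ?_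
        rw [Subalgebra.mem_centralizer_iff] at hw ⊢
        rintro _ ⟨p, rfl⟩
        have hle : S ≤ Subalgebra.centralizer k ({w} : Set D) := Algebra.adjoin_le <| by
          rintro _ rfl
          rw [SetLike.mem_coe, Subalgebra.mem_centralizer_iff]
          rintro _ rfl
          exact (hw _ rfl).symm
        exact ((Subalgebra.mem_centralizer_iff k).mp (hle p.2) w rfl).symm
      rw [heq, h4] at hdc
      have : 2 * 3 ≤ finrank k S * finrank k W := Nat.mul_le_mul hS2 hW
      rw [show finrank k W = finrank k (Subalgebra.centralizer k ({i} : Set D)) from rfl, hdc] at this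
      omega
    obtain ⟨f, hf⟩ := Submodule.mem_span_range_iff_exists_fun k |>.mp hzV
    exact ⟨f 0, f 1, by rw [← hf, Fin.sum_univ_two]; simp⟩
  have hji : j * i = -(i * j) := by rw [hij, neg_neg]
  obtain ⟨b, b', hbb⟩ := hspan (j * j) (by
    rw [mul_assoc, hji, mul_neg, ← mul_assoc, hji, neg_mul, neg_neg, mul_assoc])
  have hb' : b' = 0 := by
    have h : (j * j) * j = j * (j * j) := mul_assoc _ _ _
    rw [hbb, add_mul, mul_add, smul_mul_assoc, smul_mul_assoc, mul_smul_comm, mul_smul_comm, one_mul,
      mul_one, hji, smul_neg, add_right_inj, eq_neg_iff_add_eq_zero, ← add_smul, ← two_mul] at h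
    exact (mul_eq_zero.mp ((smul_eq_zero.mp h).resolve_right (mul_ne_zero hi0 hj0))).resolve_left h2
  subst hb'
  let q : QuaternionAlgebra.Basis D a 0 b :=
    { i := i, j := j, k := i * j
      i_mul_i := by simp [hi]
      j_mul_j := by simpa using hbb
      i_mul_j := rfl
      j_mul_i := by simp [hji] }
  refine ⟨a, b, ⟨AlgEquiv.ofBijective q.liftHom ?_⟩⟩
  have hinj : Function.Injective q.liftHom.toLinearMap := by
    rw [injective_iff_map_eq_zero]
    intro x hx
    change algebraMap k D x.re + x.imI • i + x.imJ • j + x.imK • (i * j) = 0 at hx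
    rw [Algebra.algebraMap_eq_smul_one, add_assoc] at hx
    set u : D := x.re • (1 : D) + x.imI • i with hu
    set w : D := x.imJ • (1 : D) + x.imK • i with hw
    have hx' : u + w * j = 0 := by
      rw [hw, add_mul, smul_mul_assoc, smul_mul_assoc, one_mul]; exact hx
    have hui : u * i = i * u := by simp [hu, add_mul, mul_add]
    have hwi : w * i = i * w := by simp [hw, add_mul, mul_add]
    have h := congrArg (fun y => i * y - y * i) hx'
    simp only [mul_zero, zero_mul, sub_zero, mul_add, add_mul, hui] at h
    rw [add_sub_add_left_eq_sub, ← mul_assoc, ← hwi, mul_assoc w i j, mul_assoc w j i, hji, mul_neg,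
      sub_neg_eq_add, ← two_smul k, smul_eq_zero, or_iff_right h2, mul_eq_zero,
      or_iff_left (mul_ne_zero hi0 hj0)] at h
    rw [h, zero_mul, add_zero] at hx'
    obtain ⟨h1, h2'⟩ := LinearIndependent.pair_iff.mp hindep _ _ hx'
    obtain ⟨h3, h4'⟩ := LinearIndependent.pair_iff.mp hindep _ _ (hw.symm.trans h)
    ext <;> assumption
  exact ⟨hinj, (LinearMap.injective_iff_surjective_of_finrank_eq_finrank (f := q.liftHom.toLinearMap)
    (by rw [QuaternionAlgebra.finrank_eq_four, h4])).mp hinj⟩

variable {k : Type u} [Field k]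

/-- A quaternion algebra all of whose nonzero elements are units is a division ring. -/
@[reducible] noncomputable def quaternionDivisionRing {a b : k}
    (h : ∀ x : QuaternionAlgebra k a 0 b, x ≠ 0 → IsUnit x) : DivisionRing (QuaternionAlgebra k a 0 b) :=
  haveI : Nontrivial (QuaternionAlgebra k a 0 b) :=
    ⟨⟨0, 1, fun h => zero_ne_one (congrArg QuaternionAlgebra.re h)⟩⟩
  DivisionRing.ofIsUnitOrEqZero fun x => or_iff_not_imp_right.mpr (h x)

/-- Period and index two means a matrix algebra over a quaternion division algebra. -/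
theorem period_index_two_iff (h2 : (2 : k) ≠ 0) (A : Type v) [Ring A] [Algebra k A]
    [Algebra.IsCentral k A] [IsSimpleRing A] [FiniteDimensional k A] :
    ((CSAGal.IsPeriod k A 2 ∧ CSAGal.IsIndex k A 2) ↔
      ∃ (a b : k) (m : ℕ), 0 < m ∧ (∀ x : QuaternionAlgebra k a 0 b, x ≠ 0 → IsUnit x) ∧
        Nonempty (A ≃ₐ[k] Matrix (Fin m) (Fin m) (QuaternionAlgebra k a 0 b))) := by
  constructor
  · rintro ⟨-, hi⟩
    obtain ⟨-, m, D, _, _, hm, _, _, hD, ⟨e⟩⟩ := isIndex_data hi
    obtain ⟨a, b, ⟨f⟩⟩ := exists_quaternion h2 D hD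
    exact ⟨a, b, m, hm, fun x hx => (MulEquiv.isUnit_map f).mp
      (IsUnit.mk0 _ fun h => hx (f.injective (by simpa using h))), ⟨e.trans f.symm.mapMatrix⟩⟩
  · rintro ⟨a, b, m, hm, hu, ⟨e⟩⟩
    let := quaternionDivisionRing hu
    obtain ⟨d, hd⟩ := exists_isIndex (k := k) A
    obtain ⟨hd0, n, D, _, _, hn, _, _, hD, ⟨f⟩⟩ := isIndex_data hd
    obtain ⟨-, ⟨g⟩⟩ := matrix_divisionRing_unique hn hm (f.symm.trans e)
    have hd2 : d = 2 := Nat.mul_self_inj.mp
      (hD.symm.trans (g.toLinearEquiv.finrank_eq.trans (QuaternionAlgebra.finrank_eq_four _ _ _)))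
    subst hd2
    refine ⟨(isPeriod_iff k A 2).mpr ⟨two_pos, ?_⟩, hd⟩
    rcases Nat.prime_two.eq_one_or_self_of_dvd _ (orderOf_dvd_index hd) with h | h
    · have := prime_dvd_orderOf hd Nat.prime_two dvd_rfl
      rw [h] at this
      exact absurd this (by norm_num)
    · exact h

theorem quaternion_unique (A : Type v) [Ring A] [Algebra k A] (a b a' b' : k) (m m' : ℕ)
    [Nontrivial A]
    (h : ∀ x : QuaternionAlgebra k a 0 b, x ≠ 0 → IsUnit x)
    (h' : ∀ x : QuaternionAlgebra k a' 0 b', x ≠ 0 → IsUnit x)
    (e : A ≃ₐ[k] Matrix (Fin m) (Fin m) (QuaternionAlgebra k a 0 b))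
    (e' : A ≃ₐ[k] Matrix (Fin m') (Fin m') (QuaternionAlgebra k a' 0 b')) :
    Nonempty (QuaternionAlgebra k a 0 b ≃ₐ[k] QuaternionAlgebra k a' 0 b') := by
  let := quaternionDivisionRing h
  let := quaternionDivisionRing h'
  have hm : 0 < m := Nat.pos_of_ne_zero fun h0 => by
    subst h0; exact not_subsingleton A e.toEquiv.subsingleton
  have hm' : 0 < m' := Nat.pos_of_ne_zero fun h0 => by
    subst h0; exact not_subsingleton A e'.toEquiv.subsingleton
  exact (matrix_divisionRing_unique hm hm' (e.symm.trans e')).2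

end Groth.Agent.Csa25
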