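import Groth.Agent.Csa25.RedNorm
import Mathlib.LinearAlgebra.Matrix.Adjugate

/-!
# Radical elements in algebras of degree two and three
-/

set_option autoImplicit false
open scoped TensorProduct
open Module Polynomial

namespace Groth.Agent.Csa25

universe u v

variable {R : Type v} [CommRing R]

theorem mul_self_eq_of_trace_eq_zero (M : Matrix (Fin 2) (Fin 2) R) (h : M.trace = 0) :
    M * M = algebraMap R (Matrix (Fin 2) (Fin 2) R) (-M.det) := by
  rw [Matrix.trace_fin_two] at h
  ext i j
  fin_cases i <;> fin_cases j <;>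
    simp [Matrix.mul_apply, Fin.sum_univ_two, Matrix.det_fin_two, Matrix.algebraMap_matrix_apply] <;>
    first
      | linear_combination (M 0 0) * h
      | linear_combination (M 0 1) * h
      | linear_combination (M 1 0) * h
      | linear_combination (M 1 1) * h

theorem cube_eq_of_trace_eq_zero (M : Matrix (Fin 3) (Fin 3) R) (h : M.trace = 0) (h' : M.adjugate.trace = 0) :
    M * M * M = algebraMap R (Matrix (Fin 3) (Fin 3) R) M.det := by
  have key : M * M * M - M.trace • (M * M) + M.adjugate.trace • M =
      algebraMap R (Matrix (Fin 3) (Fin 3) R) M.det := by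
    ext i j
    fin_cases i <;> fin_cases j <;>
      simp [Matrix.mul_apply, Fin.sum_univ_three, Matrix.det_fin_three, Matrix.trace_fin_three,
        Matrix.adjugate_fin_three, Matrix.algebraMap_matrix_apply] <;> ring
  simpa [h, h'] using key

variable {k : Type u} [Field k]

/-- A central simple algebra of degree two or three has a non-scalar element with scalar `p`-th power. -/
theorem exists_radical {A : Type u} [Ring A] [Algebra k A] [Algebra.IsCentral k A] [IsSimpleRing A]
    {p : ℕ} (hp : p = 2 ∨ p = 3) (hA : finrank k A = p * p) :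
    ∃ (w : A) (b : k), w ^ p = algebraMap k A b ∧ w ∉ Set.range (algebraMap k A) := by
  classical
  have hp2 : 2 ≤ p := by omega
  haveI : FiniteDimensional k A := Module.finite_of_finrank_pos (by rw [hA]; positivity)
  obtain ⟨m, D, _, _, hm, _, _, ⟨e⟩⟩ := exists_division k A
  rcases Nat.lt_or_ge 1 m with hm1 | hm1
  · let N : Matrix (Fin m) (Fin m) D := Matrix.single ⟨0, hm⟩ ⟨1, hm1⟩ 1
    have hne : (⟨1, hm1⟩ : Fin m) ≠ ⟨0, hm⟩ := by simp [Fin.ext_iff]
    have hN : N * N = 0 := Matrix.single_mul_single_of_ne _ _ _ _ hne _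
    have hN0 : N ≠ 0 := fun h => by
      have := congrFun (congrFun h ⟨0, hm⟩) ⟨1, hm1⟩
      simp [N] at this
    refine ⟨e.symm N, 0, ?_, ?_⟩
    · obtain ⟨q, rfl⟩ := Nat.exists_eq_add_of_le hp2
      rw [pow_add, pow_two, ← map_mul, hN, map_zero, zero_mul, map_zero]
    · rintro ⟨c, hc⟩
      have h2 : algebraMap k A (c * c) = 0 := by rw [map_mul, hc, ← map_mul, hN, map_zero]
      have hc0 : c = 0 := mul_self_eq_zero.mp ((algebraMap k A).injective (h2.trans (map_zero _).symm))
      exact hN0 (e.symm.injective (by rw [← hc, hc0, map_zero, map_zero]))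
  obtain rfl : m = 1 := by omega
  have hunit : ∀ a : A, a ≠ 0 → IsUnit a := fun a ha => by
    let d : D := e a 0 0
    have hd : d ≠ 0 := fun h => ha (e.injective (by
      rw [map_zero]; ext i j; rw [Subsingleton.elim i 0, Subsingleton.elim j 0]; exact h))
    have hu : IsUnit (e a) := isUnit_iff_exists.mpr ⟨Matrix.of fun _ _ => d⁻¹, by
      ext i j
      rw [Subsingleton.elim i 0, Subsingleton.elim j 0]
      simp [Matrix.mul_apply, d, mul_inv_cancel₀ hd], by
      ext i j
      rw [Subsingleton.elim i 0, Subsingleton.elim j 0]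
      simp [Matrix.mul_apply, d, inv_mul_cancel₀ hd]⟩
    simpa using hu.map e.symm
  obtain ⟨T, L, _, _, _, t, φ, hT⟩ := exists_redTrace (k := k) (A := A)
  have hdim : finrank k A = t * t := by
    rw [← Module.finrank_baseChange (R := L) (S := k), φ.toLinearEquiv.finrank_eq]
    simp [Module.finrank_matrix]
  obtain rfl : t = p := Nat.mul_self_inj.mp (hdim.symm.trans hA)
  let i : A →ₐ[k] Matrix (Fin t) (Fin t) L :=
    ((φ.restrictScalars k).toAlgHom).comp Algebra.TensorProduct.includeRight
  have hi : Function.Injective i :=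
    φ.injective.comp (Algebra.TensorProduct.includeRight_injective (algebraMap k L).injective)
  have hdet : ∀ a : A, (i a).det = algebraMap k L (redNorm k a) := fun a => (algebraMap_redNorm φ a).symm
  let Tl : A →ₗ[k] k :=
    { toFun := T
      map_add' := map_add T
      map_smul' := fun c a => (algebraMap k L).injective (by
        rw [RingHom.id_apply, smul_eq_mul, map_mul, hT, hT, TensorProduct.tmul_smul,
          ← algebraMap_smul L c, map_smul, Matrix.trace_smul, smul_eq_mul]) }
  have hscal : ∀ c : k, algebraMap k (Matrix (Fin t) (Fin t) L) c =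
      algebraMap L (Matrix (Fin t) (Fin t) L) (algebraMap k L c) :=
    fun c => IsScalarTower.algebraMap_apply k L _ c
  have hbot : finrank k (⊥ : Subalgebra k A) = 1 := Subalgebra.finrank_bot
  rcases hp with rfl | rfl
  · have hker : ¬ LinearMap.ker Tl ≤ Subalgebra.toSubmodule (⊥ : Subalgebra k A) := fun hle => by
      have h1 := Submodule.finrank_mono hle
      have h2 := Tl.finrank_range_add_finrank_ker
      have h3 : finrank k (LinearMap.range Tl) ≤ 1 := (Submodule.finrank_le _).trans (le_of_eq (Module.finrank_self k))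
      rw [hA] at h2
      rw [Subalgebra.finrank_toSubmodule, hbot] at h1
      omega
    obtain ⟨w, hw, hwk⟩ := SetLike.not_le_iff_exists.mp hker
    refine ⟨w, -redNorm k w, hi ?_, fun h => hwk (Algebra.mem_bot.mpr h)⟩
    have htr : (i w).trace = 0 := (hT w).symm.trans (by rw [show T w = 0 from hw, map_zero])
    rw [pow_two, map_mul, mul_self_eq_of_trace_eq_zero _ htr, AlgHom.commutes, hscal, hdet, map_neg, map_neg, map_neg]
  · obtain ⟨a, -, ha⟩ : ∃ a ∈ (⊤ : Subalgebra k A), a ∉ (⊥ : Subalgebra k A) :=
      SetLike.not_le_iff_exists.mp fun hle => by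
        have := congrArg (fun S : Subalgebra k A => finrank k S) (top_le_iff.mp hle).symm
        rw [hbot, Subalgebra.topEquiv.toLinearEquiv.finrank_eq, hA] at this
        omega
    let S := Algebra.adjoin k ({a} : Set A)
    have haS : a ∈ S := Algebra.subset_adjoin rfl
    have hS3 : finrank k S ≤ 3 := by
      let q := redPoly k a
      have hq : aeval a q = 0 := hi (by
        rw [← Polynomial.aeval_algHom_apply, map_zero, ← aeval_map_algebraMap L (i a) q,
          ← charpoly_eq_redPoly φ a]
        exact Matrix.aeval_self_charpoly _)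
      haveI : Module.Finite k (AdjoinRoot q) := (redPoly_monic a).finite_adjoinRoot
      let ι : AdjoinRoot q →ₐ[k] A := Ideal.Quotient.liftₐ (Ideal.span {q}) (aeval a) fun x hx => by
        obtain ⟨r, rfl⟩ := Ideal.mem_span_singleton.mp hx
        simp [hq]
      have hle : S ≤ ι.range := by
        refine Algebra.adjoin_le ?_
        rintro _ rfl
        exact ⟨AdjoinRoot.root q, aeval_X _⟩
      refine (Submodule.finrank_mono (Subalgebra.toSubmodule.monotone hle)).trans ?_
      show finrank k (LinearMap.range ι.toLinearMap) ≤ 3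
      refine (LinearMap.finrank_range_le _).trans (le_of_eq ?_)
      rw [(AdjoinRoot.powerBasis (redPoly_monic a).ne_zero).finrank, AdjoinRoot.powerBasis_dim,
        redPoly_natDegree hA]
    have hS2 : 2 ≤ finrank k S := by
      by_contra hlt
      have hpos : 0 < finrank k S := Module.finrank_pos
      exact ha ((Subalgebra.eq_bot_of_finrank_one (by omega) : S = ⊥) ▸ haS)
    have hinv : ∀ v ∈ S, v ≠ 0 → ∀ u : Aˣ, (u : A) = v → (↑u⁻¹ : A) ∈ S := fun v hv hv0 u hu => by
      have hinj : Function.Injective (LinearMap.mulLeft k (⟨v, hv⟩ : S)) := fun x y hxy => Subtype.ext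
        ((hunit v hv0).mul_left_cancel (congrArg Subtype.val hxy))
      obtain ⟨z, hz⟩ := LinearMap.surjective_of_injective hinj 1
      have : (↑u⁻¹ : A) = z := Units.inv_eq_of_mul_eq_one_right (by rw [hu]; exact congrArg Subtype.val hz)
      exact this ▸ z.2
    let Ψ : A →ₗ[k] (S →ₗ[k] k) :=
      LinearMap.mk₂ k (fun x (z : S) => Tl (x * z)) (fun x y z => by rw [add_mul, map_add])
        (fun c x z => by rw [smul_mul_assoc, map_smul]) (fun x y z => by simp [mul_add])
        (fun c x z => by simp)
    have hker : ¬ LinearMap.ker Ψ ≤ Subalgebra.toSubmodule S := fun hle => by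
      have h1 := Submodule.finrank_mono hle
      have h2 := Ψ.finrank_range_add_finrank_ker
      have h3 := Submodule.finrank_le (LinearMap.range Ψ)
      rw [Subspace.dual_finrank_eq] at h3
      rw [Subalgebra.finrank_toSubmodule] at h1
      rw [hA] at h2
      omega
    obtain ⟨x, hx, hxS⟩ := SetLike.not_le_iff_exists.mp hker
    have hx0 : x ≠ 0 := fun h => hxS (h ▸ zero_mem _)
    obtain ⟨ux, rfl⟩ := hunit x hx0
    let χ : S →ₗ[k] k := Tl ∘ₗ (LinearMap.mulRight k (↑ux⁻¹ : A)) ∘ₗ S.val.toLinearMap
    obtain ⟨v, hv, hv0⟩ : ∃ v ∈ LinearMap.ker χ, v ≠ 0 := Submodule.exists_mem_ne_zero_of_ne_bot fun hbot' => by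
      have h2 := χ.finrank_range_add_finrank_ker
      have h3 : finrank k (LinearMap.range χ) ≤ 1 := (Submodule.finrank_le _).trans (le_of_eq (Module.finrank_self k))
      rw [hbot', finrank_bot] at h2
      omega
    have hv0' : (v : A) ≠ 0 := fun h => hv0 (Subtype.ext h)
    obtain ⟨uv, huv⟩ := hunit v hv0'
    let y := ux * uv⁻¹
    have hTy : T (y : A) = 0 :=
      LinearMap.congr_fun (LinearMap.mem_ker.mp hx) ⟨(↑uv⁻¹ : A), hinv _ v.2 hv0' uv huv⟩
    have hTy' : T (↑y⁻¹ : A) = 0 := by
      have : (↑y⁻¹ : A) = (v : A) * (↑ux⁻¹ : A) := by simp [y, huv]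
      rw [this]; exact hv
    have htr : ∀ z : A, T z = 0 → (i z).trace = 0 := fun z hz => (hT z).symm.trans (by rw [hz, map_zero])
    have hadj : (i (y : A)).adjugate.trace = 0 := by
      have h1 : (i (y : A)).adjugate = (i (y : A)).det • i (↑y⁻¹ : A) := by
        calc (i (y : A)).adjugate = (i (y : A)).adjugate * (i (y : A) * i (↑y⁻¹ : A)) := by
              rw [← map_mul, Units.mul_inv, map_one, mul_one]
          _ = _ := by rw [← mul_assoc, Matrix.adjugate_mul, Matrix.smul_mul, one_mul]
      rw [h1, Matrix.trace_smul, htr _ hTy', smul_zero]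
    refine ⟨y, redNorm k (y : A), hi ?_, ?_⟩
    · rw [pow_succ, pow_two, map_mul, map_mul, cube_eq_of_trace_eq_zero _ (htr _ hTy) hadj,
        AlgHom.commutes, hscal, hdet]
    · rintro ⟨c, hc⟩
      refine hxS (show (ux : A) ∈ S from ?_)
      have : (ux : A) = algebraMap k A c * (v : A) := by
        rw [hc, ← huv, ← Units.val_mul]; simp [y]
      rw [this]
      exact mul_mem (algebraMap_mem S c) v.2

end Groth.Agent.Csa25
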