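import Groth.Agent.Csa25.Splitting
import Groth.Agent.Csa25.GaloisFix
import Groth.Agent.GalH1.RedNorm
import Mathlib.LinearAlgebra.Matrix.Charpoly.Coeff
import Mathlib.FieldTheory.Galois.Basic

/-!
# The reduced characteristic polynomial, norm and trace
-/

set_option autoImplicit false
set_option linter.style.haveILetI false
set_option linter.unusedSectionVars false
open scoped TensorProduct
open Module Polynomial

namespace Groth.Agent.Csa25

universe u v w x

variable {k : Type u} [Field k] {A : Type v} [Ring A] [Algebra k A]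

/-- Two splittings give the same characteristic polynomials, in a common extension. -/
theorem exists_charpoly_eq {K : Type w} [Field K] [Algebra k K] {L : Type x} [Field L] [Algebra k L]
    {n m : ℕ} (φ : K ⊗[k] A ≃ₐ[K] Matrix (Fin n) (Fin n) K)
    (ψ : L ⊗[k] A ≃ₐ[L] Matrix (Fin m) (Fin m) L) :
    ∃ (F : Type (max w x)) (_ : Field F) (_ : Algebra k F) (i : K →ₐ[k] F) (j : L →ₐ[k] F),
      ∀ a : A, (φ (1 ⊗ₜ[k] a)).charpoly.map i.toRingHom = (ψ (1 ⊗ₜ[k] a)).charpoly.map j.toRingHom := by
  classical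
  have hnt : Nontrivial (K ⊗[k] L) :=
    Algebra.TensorProduct.nontrivial_of_algebraMap_injective_of_flat_left k K L
      (algebraMap k L).injective
  obtain ⟨I, hI⟩ := Ideal.exists_maximal (K ⊗[k] L)
  let F := (K ⊗[k] L) ⧸ I
  letI : Field F := Ideal.Quotient.field I
  let i : K →ₐ[k] F := (Ideal.Quotient.mkₐ k I).comp Algebra.TensorProduct.includeLeft
  let j : L →ₐ[k] F := (Ideal.Quotient.mkₐ k I).comp Algebra.TensorProduct.includeRight
  refine ⟨F, inferInstance, inferInstance, i, j, fun a => ?_⟩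
  let f1 : F ⊗[k] A →ₐ[F] Matrix (Fin n) (Fin n) F := Algebra.TensorProduct.lift (Algebra.ofId F _)
    ((i.mapMatrix.comp (φ.toAlgHom.restrictScalars k)).comp Algebra.TensorProduct.includeRight)
    (fun c b => Algebra.commutes c _)
  let f2 : F ⊗[k] A →ₐ[F] Matrix (Fin m) (Fin m) F := Algebra.TensorProduct.lift (Algebra.ofId F _)
    ((j.mapMatrix.comp (ψ.toAlgHom.restrictScalars k)).comp Algebra.TensorProduct.includeRight)
    (fun c b => Algebra.commutes c _)
  have h1 : ∀ a, f1 (1 ⊗ₜ[k] a) = (φ (1 ⊗ₜ[k] a)).map i := fun a => by simp [f1]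
  have h2 : ∀ a, f2 (1 ⊗ₜ[k] a) = (ψ (1 ⊗ₜ[k] a)).map j := fun a => by simp [f2]
  have dK : finrank k A = n * n := by
    rw [← Module.finrank_baseChange (R := K) (S := k), φ.toLinearEquiv.finrank_eq]
    simp [Module.finrank_matrix]
  have dL : finrank k A = m * m := by
    rw [← Module.finrank_baseChange (R := L) (S := k), ψ.toLinearEquiv.finrank_eq]
    simp [Module.finrank_matrix]
  obtain rfl : n = m := Nat.mul_self_inj.1 (dK.symm.trans dL)
  rcases Nat.eq_zero_or_pos n with hn | hn
  · subst hn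
    simp [Matrix.charpoly, Matrix.det_isEmpty]
  haveI : NeZero n := ⟨hn.ne'⟩
  haveI : FiniteDimensional k A := Module.finite_of_finrank_pos (dK ▸ Nat.mul_pos hn hn)
  have dF : finrank F (F ⊗[k] A) = finrank F (Matrix (Fin n) (Fin n) F) := by
    rw [Module.finrank_baseChange, dK]
    simp [Module.finrank_matrix]
  have b1 : Function.Bijective f1 := ⟨(LinearMap.injective_iff_surjective_of_finrank_eq_finrank dF
    (f := f1.toLinearMap)).2 (GalH1.lift_surjective φ i f1 h1), GalH1.lift_surjective φ i f1 h1⟩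
  have b2 : Function.Bijective f2 := ⟨(LinearMap.injective_iff_surjective_of_finrank_eq_finrank dF
    (f := f2.toLinearMap)).2 (GalH1.lift_surjective ψ j f2 h2), GalH1.lift_surjective ψ j f2 h2⟩
  let θ := (AlgEquiv.ofBijective f1 b1).symm.trans (AlgEquiv.ofBijective f2 b2)
  obtain ⟨u, hu⟩ := exists_unit_conj_algEquiv θ
  have h := hu ((φ (1 ⊗ₜ[k] a)).map i)
  have hθ : θ ((φ (1 ⊗ₜ[k] a)).map i) = (ψ (1 ⊗ₜ[k] a)).map j := by
    rw [← h1, ← h2]
    show f2 ((AlgEquiv.ofBijective f1 b1).symm ((AlgEquiv.ofBijective f1 b1) (1 ⊗ₜ[k] a))) = _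
    rw [AlgEquiv.symm_apply_apply]
  rw [hθ] at h
  rw [← Matrix.charpoly_map, ← Matrix.charpoly_map]
  show ((φ (1 ⊗ₜ[k] a)).map i).charpoly = ((ψ (1 ⊗ₜ[k] a)).map j).charpoly
  rw [h, Matrix.coe_units_inv, Matrix.charpoly_units_conj]

variable [Algebra.IsCentral k A] [IsSimpleRing A] [FiniteDimensional k A]

variable (k) in
theorem exists_redPoly (a : A) :
    ∃ p : k[X], ∀ (L : Type u) [Field L] [Algebra k L] (m : ℕ)
      (ψ : L ⊗[k] A ≃ₐ[L] Matrix (Fin m) (Fin m) L),
      (ψ (1 ⊗ₜ[k] a)).charpoly = p.map (algebraMap k L) := by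
  classical
  obtain ⟨K, hfd, hgal, n, hn, ⟨φ⟩⟩ := exists_galois_splitting k A
  have : NeZero n := ⟨hn⟩
  set M := φ (1 ⊗ₜ[k] a) with hM
  have hfix : ∀ (σ : K ≃ₐ[k] K) (i : ℕ), σ (M.charpoly.coeff i) = M.charpoly.coeff i := by
    intro σ i
    obtain ⟨g, hg⟩ := exists_twist φ σ
    have h := hg (1 ⊗ₜ[k] a)
    rw [galAct_tmul, map_one, ← hM] at h
    have hM' : M = (g : Matrix (Fin n) (Fin n) K) * M.map σ * (g⁻¹ : (Matrix (Fin n) (Fin n) K)ˣ) := by
      rw [← h, Units.mul_inv_cancel_right]
    have hc := congrArg Matrix.charpoly hM'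
    rw [Matrix.coe_units_inv, Matrix.charpoly_units_conj] at hc
    have := Matrix.charpoly_map M (σ.toAlgHom.toRingHom)
    conv_rhs => rw [hc]
    rw [show (M.map σ) = M.map σ.toAlgHom.toRingHom from rfl, this, Polynomial.coeff_map]
    rfl
  have hl : M.charpoly ∈ Polynomial.lifts (algebraMap k K) := by
    rw [Polynomial.lifts_iff_coeff_lifts]
    intro i
    rw [IsGalois.mem_range_algebraMap_iff_fixed]
    exact fun σ => hfix σ i
  obtain ⟨p, hp⟩ := (Polynomial.mem_lifts _).1 hl
  refine ⟨p, fun L _ _ m ψ => ?_⟩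
  obtain ⟨F, _, _, i, j, h⟩ := exists_charpoly_eq φ ψ
  apply Polynomial.map_injective j.toRingHom j.toRingHom.injective
  rw [← h a, ← hM, ← hp, Polynomial.map_map, Polynomial.map_map]
  congr 1
  exact (i.comp_algebraMap).trans j.comp_algebraMap.symm

variable (k) in
/-- The reduced characteristic polynomial. -/
noncomputable def redPoly (a : A) : k[X] := (exists_redPoly k a).choose

/-- The reduced characteristic polynomial is the characteristic polynomial in any splitting. -/
theorem charpoly_eq_redPoly {L : Type w} [Field L] [Algebra k L] {m : ℕ}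
    (ψ : L ⊗[k] A ≃ₐ[L] Matrix (Fin m) (Fin m) L) (a : A) :
    (ψ (1 ⊗ₜ[k] a)).charpoly = (redPoly k a).map (algebraMap k L) := by
  obtain ⟨K, _, _, n, _, ⟨φ⟩⟩ := exists_galois_splitting k A
  obtain ⟨F, _, _, i, j, h⟩ := exists_charpoly_eq φ ψ
  apply Polynomial.map_injective j.toRingHom j.toRingHom.injective
  rw [← h a, (exists_redPoly k a).choose_spec _ n φ, Polynomial.map_map, Polynomial.map_map]
  congr 1
  exact (i.comp_algebraMap).trans j.comp_algebraMap.symm

theorem redPoly_monic (a : A) : (redPoly k a).Monic := by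
  obtain ⟨K, _, _, n, _, ⟨φ⟩⟩ := exists_galois_splitting k A
  have h := Matrix.charpoly_monic (φ (1 ⊗ₜ[k] a))
  rw [charpoly_eq_redPoly φ a] at h
  exact Polynomial.monic_of_injective (algebraMap k K).injective h

theorem redPoly_natDegree {n : ℕ} (hn : finrank k A = n * n) (a : A) :
    (redPoly k a).natDegree = n := by
  obtain ⟨K, _, _, m, _, ⟨φ⟩⟩ := exists_galois_splitting k A
  have h := Matrix.charpoly_natDegree_eq_dim (φ (1 ⊗ₜ[k] a))
  rw [charpoly_eq_redPoly φ a, Polynomial.natDegree_map, Fintype.card_fin] at h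
  have hm : finrank k A = m * m := by
    rw [← Module.finrank_baseChange (R := K) (S := k), φ.toLinearEquiv.finrank_eq]
    simp [Module.finrank_matrix]
  rw [h]
  exact Nat.mul_self_inj.1 (hm.symm.trans hn)

variable (k) in
/-- The reduced norm of a central simple algebra. -/
noncomputable def redNorm : A →* k where
  toFun a := (-1) ^ (redPoly k a).natDegree * (redPoly k a).coeff 0
  map_one' := by
    obtain ⟨K, _, _, n, _, ⟨φ⟩⟩ := exists_galois_splitting k A
    apply (algebraMap k K).injective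
    have h : ∀ a : A, algebraMap k K ((-1) ^ (redPoly k a).natDegree * (redPoly k a).coeff 0) =
        (φ (1 ⊗ₜ[k] a)).det := fun a => by
      have hd : (φ (1 ⊗ₜ[k] a)).charpoly.natDegree = n := by
        rw [Matrix.charpoly_natDegree_eq_dim, Fintype.card_fin]
      rw [Matrix.det_eq_sign_charpoly_coeff, charpoly_eq_redPoly φ a, Polynomial.coeff_map,
        Fintype.card_fin]
      rw [charpoly_eq_redPoly φ a, Polynomial.natDegree_map] at hd
      simp [hd]
    rw [h, ← Algebra.TensorProduct.one_def, map_one φ, Matrix.det_one, map_one]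
  map_mul' a b := by
    obtain ⟨K, _, _, n, _, ⟨φ⟩⟩ := exists_galois_splitting k A
    apply (algebraMap k K).injective
    have h : ∀ a : A, algebraMap k K ((-1) ^ (redPoly k a).natDegree * (redPoly k a).coeff 0) =
        (φ (1 ⊗ₜ[k] a)).det := fun a => by
      have hd : (φ (1 ⊗ₜ[k] a)).charpoly.natDegree = n := by
        rw [Matrix.charpoly_natDegree_eq_dim, Fintype.card_fin]
      rw [Matrix.det_eq_sign_charpoly_coeff, charpoly_eq_redPoly φ a, Polynomial.coeff_map,
        Fintype.card_fin]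
      rw [charpoly_eq_redPoly φ a, Polynomial.natDegree_map] at hd
      simp [hd]
    rw [h, map_mul (algebraMap k K), h, h, ← Matrix.det_mul, ← map_mul φ, Algebra.TensorProduct.tmul_mul_tmul, one_mul]

/-- The reduced norm is the determinant in any splitting. -/
theorem algebraMap_redNorm {L : Type w} [Field L] [Algebra k L] {m : ℕ}
    (ψ : L ⊗[k] A ≃ₐ[L] Matrix (Fin m) (Fin m) L) (a : A) :
    algebraMap k L (redNorm k a) = (ψ (1 ⊗ₜ[k] a)).det := by
  have hd : (ψ (1 ⊗ₜ[k] a)).charpoly.natDegree = m := by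
    rw [Matrix.charpoly_natDegree_eq_dim, Fintype.card_fin]
  rw [charpoly_eq_redPoly ψ a, Polynomial.natDegree_map] at hd
  rw [Matrix.det_eq_sign_charpoly_coeff, charpoly_eq_redPoly ψ a, Polynomial.coeff_map,
    Fintype.card_fin]
  simp [redNorm, hd]

theorem isRedNorm_redNorm : CSAGal.IsRedNorm k A (redNorm k (A := A)) := by
  obtain ⟨K, _, _, n, _, ⟨φ⟩⟩ := exists_galois_splitting k A
  exact ⟨K, inferInstance, inferInstance, inferInstance, n, φ, fun a => algebraMap_redNorm φ a⟩

theorem eq_redNorm {N : A →* k} (hN : CSAGal.IsRedNorm k A N) : N = redNorm k := by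
  obtain ⟨K, _, _, _, n, φ, h⟩ := hN
  ext a
  apply (algebraMap k K).injective
  rw [h, algebraMap_redNorm φ]

/-- The reduced trace is the trace in any splitting. -/
theorem algebraMap_redTrace {T : A →+ k} (hT : CSAGal.IsRedTrace k A T) (a : A) :
    T a = -(redPoly k a).nextCoeff := by
  obtain ⟨K, _, _, _, n, φ, h⟩ := hT
  apply (algebraMap k K).injective
  have hm : finrank k A = n * n := by
    rw [← Module.finrank_baseChange (R := K) (S := k), φ.toLinearEquiv.finrank_eq]
    simp [Module.finrank_matrix]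
  have hn : 0 < n := Nat.pos_of_ne_zero fun h0 => by
    simp [h0, Module.finrank_pos.ne'] at hm
  have : Nonempty (Fin n) := ⟨⟨0, hn⟩⟩
  rw [h, Matrix.trace_eq_neg_charpoly_coeff, charpoly_eq_redPoly φ a, map_neg,
    Fintype.card_fin, Polynomial.coeff_map, Polynomial.nextCoeff, redPoly_natDegree hm a]
  simp [hn.ne']

theorem exists_redTrace : ∃ T : A →+ k, CSAGal.IsRedTrace k A T := by
  obtain ⟨n, hn, hdim⟩ := exists_finrank_eq_mul_self k A
  obtain ⟨K, _, _, m, hm, ⟨φ⟩⟩ := exists_galois_splitting k A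
  have : Nonempty (Fin m) := ⟨⟨0, Nat.pos_of_ne_zero hm⟩⟩
  have h : ∀ a : A, algebraMap k K (-(redPoly k a).nextCoeff) = (φ (1 ⊗ₜ[k] a)).trace := fun a => by
    rw [Matrix.trace_eq_neg_charpoly_coeff, charpoly_eq_redPoly φ a, map_neg, Fintype.card_fin,
      Polynomial.coeff_map, Polynomial.nextCoeff]
    have hd := Matrix.charpoly_natDegree_eq_dim (φ (1 ⊗ₜ[k] a))
    rw [charpoly_eq_redPoly φ a, Polynomial.natDegree_map, Fintype.card_fin] at hd
    simp [hd, hm]
  refine ⟨{ toFun := fun a => -(redPoly k a).nextCoeff, map_zero' := ?_, map_add' := fun a b => ?_ },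
    K, inferInstance, inferInstance, inferInstance, m, φ, h⟩
  · apply (algebraMap k K).injective
    rw [h, TensorProduct.tmul_zero, map_zero, map_zero, Matrix.trace_zero]
  · apply (algebraMap k K).injective
    rw [map_add (algebraMap k K), h, h, h, TensorProduct.tmul_add, map_add, Matrix.trace_add]

end Groth.Agent.Csa25
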