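import Groth.Agent.Csa25.BaseChange
import Groth.Agent.Csa25.Wedderburn
import Mathlib.FieldTheory.PrimitiveElement
import Mathlib.FieldTheory.SeparableDegree
import Mathlib.LinearAlgebra.Matrix.Basis

/-! Triviality of restriction maps on Brauer groups along separable algebraic extensions. -/

set_option autoImplicit false
open scoped TensorProduct
open Module IntermediateField

namespace Groth.Agent.Csa25

universe u

variable (K F : Type u) [Field K] [Field F] [Algebra K F] [Algebra.IsSeparable K F]

omit [Algebra.IsSeparable K F] in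
theorem split_of_trivial_brauer
    (h : ∀ (F' : Type u) [Field F'] [Algebra F F'] [FiniteDimensional F F'] [Algebra.IsSeparable F F']
      (D : Type u) [DivisionRing D] [Algebra F' D] [Algebra.IsCentral F' D] [FiniteDimensional F' D],
      Module.finrank F' D = 1)
    (E : Type u) [Field E] [Algebra K E] [FiniteDimensional K E] [Algebra.IsSeparable K E]
    (D : Type u) [DivisionRing D] [Algebra E D] [Algebra.IsCentral E D] [FiniteDimensional E D]
    (M : Type u) [Field M] [Algebra K M] [Algebra E M] [Algebra F M] [IsScalarTower K E M]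
    [IsScalarTower K F M] :
    ∃ n : ℕ, Nonempty ((M ⊗[E] D) ≃ₐ[M] Matrix (Fin n) (Fin n) M) := by
  obtain ⟨α, hα⟩ := Field.exists_primitive_element K E
  let i : E →ₐ[K] M := IsScalarTower.toAlgHom K E M
  let a : M := i α
  have hsep : IsSeparable F a :=
    IsSeparable.tower_top F (IsSeparable.map (f := i) i.toRingHom.injective (Algebra.IsSeparable.isSeparable K α))
  let F' : IntermediateField F M := F⟮a⟯
  haveI : FiniteDimensional F F' := IntermediateField.adjoin.finiteDimensional hsep.isIntegral
  haveI : Algebra.IsSeparable F F' := (IntermediateField.isSeparable_adjoin_simple_iff_isSeparable F M).2 hsep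
  have hmem : ∀ x, i x ∈ F'.restrictScalars K := by
    intro x
    have hx : i x ∈ (IntermediateField.adjoin K {α}).map i :=
      ⟨x, by rw [hα]; exact IntermediateField.mem_top, rfl⟩
    rw [IntermediateField.adjoin_map, Set.image_singleton] at hx
    exact (IntermediateField.adjoin_le_iff (T := F'.restrictScalars K)).2
      (Set.singleton_subset_iff.2 (IntermediateField.mem_adjoin_simple_self F a)) hx
  letI : Algebra E F' := (i.toRingHom.codRestrict F'.toSubfield hmem).toAlgebra
  haveI : IsScalarTower E F' M := IsScalarTower.of_algebraMap_eq fun _ => rfl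
  haveI := isCentral_baseChange E D F'
  haveI := isSimpleRing_baseChange E D F'
  obtain ⟨m, D', _, _, hm, _, _, ⟨e⟩⟩ := exists_division F' (F' ⊗[E] D)
  have h1 := h F' D'
  let eD : F' ≃ₐ[F'] D' := AlgEquiv.ofBijective (Algebra.ofId F' D')
    ⟨(algebraMap F' D').injective, fun x => Algebra.mem_bot.mp
      ((Subalgebra.bot_eq_top_of_finrank_eq_one h1).symm ▸ (trivial : x ∈ (⊤ : Subalgebra F' D')))⟩
  obtain ⟨n, hn, e'⟩ := splits_mono (k := E) (A := D) (K := F') M ⟨m, hm.ne', ⟨e.trans eD.symm.mapMatrix⟩⟩
  exact ⟨n, e'⟩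

theorem trivial_brauer_of_split
    (h : ∀ (E : Type u) [Field E] [Algebra K E] [FiniteDimensional K E] [Algebra.IsSeparable K E]
        (D : Type u) [DivisionRing D] [Algebra E D] [Algebra.IsCentral E D] [FiniteDimensional E D]
        (M : Type u) [Field M] [Algebra K M] [Algebra E M] [Algebra F M] [IsScalarTower K E M]
        [IsScalarTower K F M],
        ∃ n : ℕ, Nonempty ((M ⊗[E] D) ≃ₐ[M] Matrix (Fin n) (Fin n) M))
    (F' : Type u) [Field F'] [Algebra F F'] [FiniteDimensional F F'] [Algebra.IsSeparable F F']
    (D : Type u) [DivisionRing D] [Algebra F' D] [Algebra.IsCentral F' D] [FiniteDimensional F' D] :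
    Module.finrank F' D = 1 := by
  classical
  letI : Algebra K F' := ((algebraMap F F').comp (algebraMap K F)).toAlgebra
  haveI : IsScalarTower K F F' := IsScalarTower.of_algebraMap_eq fun _ => rfl
  haveI : Algebra.IsSeparable K F' := Algebra.IsSeparable.trans K F F'
  let b := Module.finBasis F' D
  let n := Module.finrank F' D
  let S : Set F' := (Set.range fun q : Fin n × Fin n × Fin n => b.repr (b q.1 * b q.2.1) q.2.2) ∪
    Set.range (fun l => b.repr 1 l)
  let E : IntermediateField K F' := IntermediateField.adjoin K S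
  haveI : Finite S := ((Set.finite_range _).union (Set.finite_range _)).to_subtype
  haveI : FiniteDimensional K E :=
    IntermediateField.finiteDimensional_adjoin fun x _ => (Algebra.IsSeparable.isSeparable K x).isIntegral
  haveI : Algebra.IsSeparable K E := Algebra.isSeparable_tower_bot_of_isSeparable K E F'
  have hc : ∀ i j l, b.repr (b i * b j) l ∈ E :=
    fun i j l => IntermediateField.subset_adjoin K S (Or.inl ⟨(i, j, l), rfl⟩)
  have hu : ∀ l, b.repr 1 l ∈ E := fun l => IntermediateField.subset_adjoin K S (Or.inr ⟨l, rfl⟩)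
  haveI : IsScalarTower E F' D := inferInstance
  let D₀ : Subalgebra E D :=
    { carrier := {x | ∀ l, b.repr x l ∈ E}
      one_mem' := hu
      zero_mem' := fun l => by simp
      add_mem' := fun {x y} hx hy l => by
        rw [map_add, Finsupp.add_apply]
        exact E.add_mem (hx l) (hy l)
      mul_mem' := fun {x y} hx hy l => by
        rw [← b.sum_repr x, ← b.sum_repr y, Finset.sum_mul, map_sum, Finsupp.coe_finsetSum,
          Finset.sum_apply]
        refine sum_mem fun i _ => ?_
        rw [Finset.mul_sum, map_sum, Finsupp.coe_finsetSum, Finset.sum_apply]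
        refine sum_mem fun j _ => ?_
        rw [smul_mul_smul_comm, map_smul, Finsupp.smul_apply, smul_eq_mul]
        exact E.mul_mem (E.mul_mem (hx i) (hy j)) (hc i j l)
      algebraMap_mem' := fun r l => by
        change b.repr (algebraMap F' D (r : F')) l ∈ E
        rw [Algebra.algebraMap_eq_smul_one, map_smul, Finsupp.smul_apply, smul_eq_mul]
        exact E.mul_mem r.2 (hu l) }
  have hbmem : ∀ i, b i ∈ D₀ := fun i l => by
    rw [b.repr_self, Finsupp.single_apply]
    split_ifs
    · exact E.one_mem
    · exact E.zero_mem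
  let T : D₀ →ₗ[E] (Fin n → E) :=
    { toFun := fun x l => ⟨b.repr (x : D) l, x.2 l⟩
      map_add' := fun x y => funext fun l => Subtype.ext (by simp)
      map_smul' := fun r x => funext fun l => Subtype.ext (by
        change b.repr ((r • (x : D)) : D) l = (r : F') * b.repr (x : D) l
        rw [← algebraMap_smul F' r (x : D), map_smul, Finsupp.smul_apply, smul_eq_mul]
        rfl) }
  have hT : Function.Injective T := fun x y hxy => Subtype.ext (b.repr.injective (Finsupp.ext fun l =>
    congrArg Subtype.val (congrFun hxy l)))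
  haveI : FiniteDimensional E D₀ := Module.Finite.of_injective T hT
  haveI : IsArtinianRing D₀ := IsArtinianRing.of_finite E D₀
  haveI : IsDomain D₀ := inferInstance
  letI : DivisionRing D₀ := DivisionRing.ofIsUnitOrEqZero fun a =>
    or_iff_not_imp_right.mpr fun ha =>
      IsArtinianRing.isUnit_of_mem_nonZeroDivisors (mem_nonZeroDivisors_of_ne_zero ha)
  haveI : Algebra.IsCentral E D₀ := ⟨fun z hz => by
    have hcen : (z : D) ∈ Subalgebra.center F' D := by
      rw [Subalgebra.mem_center_iff]
      intro x
      rw [← b.sum_repr x, Finset.sum_mul, Finset.mul_sum]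
      refine Finset.sum_congr rfl fun i _ => ?_
      rw [smul_mul_assoc, mul_smul_comm]
      congr 1
      exact congrArg Subtype.val (Subalgebra.mem_center_iff.1 hz ⟨b i, hbmem i⟩)
    obtain ⟨c, hc'⟩ := Algebra.mem_bot.1 (Algebra.IsCentral.out hcen)
    obtain ⟨l, hl⟩ : ∃ l, b.repr 1 l ≠ 0 := by
      by_contra hne
      push Not at hne
      exact one_ne_zero (α := D) (b.repr.injective (Finsupp.ext fun l => by simp [hne l]))
    have hcE : c ∈ E := by
      have h1 := z.2 l
      rw [← hc', Algebra.algebraMap_eq_smul_one, map_smul, Finsupp.smul_apply, smul_eq_mul] at h1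
      simpa [hl] using E.div_mem h1 (hu l)
    exact Algebra.mem_bot.2 ⟨⟨c, hcE⟩, Subtype.ext hc'⟩⟩
  obtain ⟨m, ⟨e⟩⟩ := h E D₀ F'
  let Φ : F' ⊗[E] D₀ →ₐ[F'] D :=
    Algebra.TensorProduct.lift (Algebra.ofId F' D) D₀.val (fun c x => Algebra.commutes c (x : D))
  have hΦ : Function.Surjective Φ := fun x => ⟨∑ i, b.repr x i ⊗ₜ[E] (⟨b i, hbmem i⟩ : D₀), by
    simp [Φ, Algebra.ofId_apply, ← Algebra.smul_def, b.sum_repr]⟩
  let Ψ : Matrix (Fin m) (Fin m) F' →ₐ[F'] D := Φ.comp e.symm.toAlgHom
  have hΨ : Function.Surjective Ψ := hΦ.comp e.symm.surjective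
  have hm : m ≤ 1 := by
    by_contra hm
    haveI : NeZero m := ⟨by omega⟩
    have hinj : Function.Injective Ψ := RingHom.injective Ψ.toRingHom
    let i₀ : Fin m := ⟨0, by omega⟩
    let i₁ : Fin m := ⟨1, by omega⟩
    have hne : i₀ ≠ i₁ := by simp [i₀, i₁, Fin.ext_iff]
    have h0 : Ψ (Matrix.single i₀ i₀ 1) * Ψ (Matrix.single i₁ i₁ 1) = 0 := by
      rw [← map_mul, Matrix.single_mul_single_of_ne (h := hne), map_zero]
    rcases mul_eq_zero.1 h0 with h0 | h0
    · exact one_ne_zero (α := F') (by
        simpa using congrFun (congrFun (hinj (h0.trans (map_zero Ψ).symm)) i₀) i₀)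
    · exact one_ne_zero (α := F') (by
        simpa using congrFun (congrFun (hinj (h0.trans (map_zero Ψ).symm)) i₁) i₁)
  have h2 := LinearMap.finrank_le_finrank_of_surjective (f := Ψ.toLinearMap) hΨ
  rw [Module.finrank_matrix, Fintype.card_fin, Module.finrank_self, mul_one] at h2
  have h3 : 0 < Module.finrank F' D := Module.finrank_pos
  nlinarith

theorem restriction_trivial_iff :
    (∀ (F' : Type u) [Field F'] [Algebra F F'] [FiniteDimensional F F'] [Algebra.IsSeparable F F']
        (D : Type u) [DivisionRing D] [Algebra F' D] [Algebra.IsCentral F' D] [FiniteDimensional F' D],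
        Module.finrank F' D = 1) ↔
    (∀ (E : Type u) [Field E] [Algebra K E] [FiniteDimensional K E] [Algebra.IsSeparable K E]
        (D : Type u) [DivisionRing D] [Algebra E D] [Algebra.IsCentral E D] [FiniteDimensional E D]
        (M : Type u) [Field M] [Algebra K M] [Algebra E M] [Algebra F M] [IsScalarTower K E M]
        [IsScalarTower K F M],
        ∃ n : ℕ, Nonempty ((M ⊗[E] D) ≃ₐ[M] Matrix (Fin n) (Fin n) M)) :=
  ⟨fun h E _ _ _ _ D _ _ _ _ M _ _ _ _ _ _ => split_of_trivial_brauer K F h E D M,
    fun h F' _ _ _ _ D _ _ _ _ => trivial_brauer_of_split K F h F' D⟩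

end Groth.Agent.Csa25
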