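import Groth.Agent.Csa25.CocycleSplit
import Groth.Agent.Csa77.Splitting
import Groth.Agent.VarGal.ProjDim
import Mathlib.RingTheory.MvPolynomial.Homogeneous
import Mathlib.RingTheory.Polynomial.UniqueFactorization
import Mathlib.RingTheory.UniqueFactorizationDomain.GCDMonoid
import Mathlib.Algebra.GCDMonoid.Finset
import Mathlib.RingTheory.Localization.FractionRing
import Mathlib.FieldTheory.Galois.Basic

/-!
# Roquette's generic splitting field and Amitsur's theorem

For a central simple `k`-algebra `A` split by a finite Galois extension `L`, with twisting matrices `P σ`, the group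
acts semilinearly on `L[X_0, …, X_n]` up to scalars, hence on the field `deg0` of homogeneous fractions of degree
zero; its fixed field `genField` splits `A`, and an algebra split by it is Brauer equivalent to a power of `A`.
-/

set_option autoImplicit false
open scoped TensorProduct
open Module MvPolynomial

namespace Groth.Agent.Csa25

universe u v

section SubHom

variable {L : Type u} [Field L] {n : ℕ}

local notation "S" => MvPolynomial (Fin (n + 1)) L

/-- Semilinear substitution. -/
noncomputable def subHom (σ : L →+* L) (M : Matrix (Fin (n + 1)) (Fin (n + 1)) L) : S →+* S :=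
  eval₂Hom (C.comp σ) fun j => ∑ i, C (M i j) * X i

@[simp] theorem subHom_C (σ : L →+* L) (M : Matrix (Fin (n + 1)) (Fin (n + 1)) L) (a : L) :
    subHom σ M (C a) = C (σ a) := by
  simp [subHom]

@[simp] theorem subHom_X (σ : L →+* L) (M : Matrix (Fin (n + 1)) (Fin (n + 1)) L) (j : Fin (n + 1)) :
    subHom σ M (X j) = ∑ i, C (M i j) * X i := by
  simp [subHom]

theorem subHom_comp (σ τ : L →+* L) (M N : Matrix (Fin (n + 1)) (Fin (n + 1)) L) :
    (subHom σ M).comp (subHom τ N) = subHom (σ.comp τ) (M * N.map σ) := by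
  refine MvPolynomial.ringHom_ext (fun a => by simp) fun j => ?_
  simp only [RingHom.comp_apply, subHom_X, map_sum, map_mul, subHom_C, Finset.mul_sum,
    Matrix.mul_apply, Matrix.map_apply, Finset.sum_mul]
  rw [Finset.sum_comm]
  exact Finset.sum_congr rfl fun l _ => Finset.sum_congr rfl fun i _ => by ring

theorem subHom_one : subHom (RingHom.id L) (1 : Matrix (Fin (n + 1)) (Fin (n + 1)) L) = RingHom.id S := by
  refine MvPolynomial.ringHom_ext (fun a => by simp) fun j => ?_
  rw [subHom_X, RingHom.id_apply, Finset.sum_eq_single j (fun i _ h => by simp [Matrix.one_apply_ne h])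
    (fun h => absurd (Finset.mem_univ j) h)]
  simp

theorem isHomogeneous_subHom (σ : L →+* L) (M : Matrix (Fin (n + 1)) (Fin (n + 1)) L) {H : S} {e : ℕ}
    (hH : H.IsHomogeneous e) : (subHom σ M H).IsHomogeneous e := by
  have := hH.eval₂ (C.comp σ) (fun j => ∑ i, C (M i j) * X i) (fun r => isHomogeneous_C _ _)
    (n := 1) fun j => IsHomogeneous.sum _ _ _ fun i _ => (isHomogeneous_X L i).C_mul _
  rwa [one_mul] at this

theorem subHom_smul (σ : L →+* L) (c : L) (M : Matrix (Fin (n + 1)) (Fin (n + 1)) L) {H : S} {e : ℕ}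
    (hH : H.IsHomogeneous e) : subHom σ (c • M) H = C (c ^ e) * subHom σ M H := by
  have h0 : (fun j => ∑ i, C ((c • M) i j) * X i : Fin (n + 1) → S) =
      fun j => C c * ∑ i, C (M i j) * X i := funext fun j => by
    simp [Finset.mul_sum, mul_assoc]
  simp only [subHom, coe_eval₂Hom]
  rw [h0, eval₂_eq', eval₂_eq', Finset.mul_sum]
  refine Finset.sum_congr rfl fun d hd => ?_
  have hdeg : ∑ i, d i = e := by
    rw [← hH (mem_support_iff.mp hd)]
    simp [Finsupp.weight_apply, Finsupp.sum_fintype]
  simp only [mul_pow, Finset.prod_mul_distrib, Finset.prod_pow_eq_pow_sum, hdeg, map_pow]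
  ring

end SubHom

/-- Splitting data for a central simple algebra. -/
structure SplitData (k : Type u) [Field k] (L : Type u) [Field L] [Algebra k L] (n : ℕ) where
  /-- the twisting matrices -/
  P : (L ≃ₐ[k] L) → Matrix (Fin (n + 1)) (Fin (n + 1)) L
  /-- their inverses -/
  Pi : (L ≃ₐ[k] L) → Matrix (Fin (n + 1)) (Fin (n + 1)) L
  mul_inv : ∀ σ, P σ * Pi σ = 1
  inv_mul : ∀ σ, Pi σ * P σ = 1
  /-- the factor set -/
  c : (L ≃ₐ[k] L) → (L ≃ₐ[k] L) → L
  c_ne : ∀ σ τ, c σ τ ≠ 0
  cocycle : ∀ σ τ, P σ * (P τ).map σ = c σ τ • P (σ * τ)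

namespace SplitData

variable {k : Type u} [Field k] {L : Type u} [Field L] [Algebra k L] {n : ℕ} (D : SplitData k L n)

local notation "S" => MvPolynomial (Fin (n + 1)) L
local notation "G" => L ≃ₐ[k] L

/-- The semilinear action on polynomials (an action up to scalars). -/
noncomputable def act (σ : G) : S ≃+* S :=
  RingEquiv.ofRingHom (subHom (σ : L →+* L) (D.P σ))
    (subHom (σ.symm : L →+* L) ((D.Pi σ).map σ.symm))
    (by
      rw [subHom_comp, ← subHom_one]
      congr 1
      · ext x; simp
      · rw [Matrix.map_map]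
        simp [Function.comp_def, D.mul_inv])
    (by
      rw [subHom_comp, ← subHom_one]
      congr 1
      · ext x; simp
      · have : (D.Pi σ).map σ.symm * (D.P σ).map σ.symm = (D.Pi σ * D.P σ).map σ.symm :=
          (Matrix.map_mul (f := σ.symm)).symm
        simpa [D.inv_mul] using this)

@[simp] theorem act_C (σ : G) (a : L) : D.act σ (C a) = C (σ a) := subHom_C _ _ a

theorem isHomogeneous_act {σ : G} {H : S} {e : ℕ} (hH : H.IsHomogeneous e) :
    (D.act σ H).IsHomogeneous e := isHomogeneous_subHom _ _ hH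

theorem isHomogeneous_act_symm {σ : G} {H : S} {e : ℕ} (hH : H.IsHomogeneous e) :
    ((D.act σ).symm H).IsHomogeneous e := isHomogeneous_subHom _ _ hH

theorem act_act (σ τ : G) {H : S} {e : ℕ} (hH : H.IsHomogeneous e) :
    D.act σ (D.act τ H) = C (D.c σ τ ^ e) * D.act (σ * τ) H := by
  show ((subHom (σ : L →+* L) (D.P σ)).comp (subHom (τ : L →+* L) (D.P τ))) H = _
  rw [subHom_comp]
  show subHom ((σ * τ : G) : L →+* L) (D.P σ * (D.P τ).map σ) H = _
  rw [D.cocycle, subHom_smul _ _ _ hH]
  rfl

local notation "Ω" => FractionRing (MvPolynomial (Fin (n + 1)) L)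

/-- The action on the fraction field. -/
noncomputable def actFrac (σ : G) : Ω ≃+* Ω := IsFractionRing.ringEquivOfRingEquiv (D.act σ)

@[simp] theorem actFrac_algebraMap (σ : G) (p : S) :
    D.actFrac σ (algebraMap S Ω p) = algebraMap S Ω (D.act σ p) :=
  IsFractionRing.ringEquivOfRingEquiv_algebraMap _ p

variable (L n) in
/-- Homogeneous fractions of degree zero. -/
noncomputable def deg0 : IntermediateField L Ω where
  carrier := {x | ∃ (e : ℕ) (a b : S), a.IsHomogeneous e ∧ b.IsHomogeneous e ∧ b ≠ 0 ∧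
    x = algebraMap S Ω a / algebraMap S Ω b}
  mul_mem' := by
    rintro _ _ ⟨e, a, b, ha, hb, hb0, rfl⟩ ⟨f, a', b', ha', hb', hb0', rfl⟩
    exact ⟨e + f, a * a', b * b', ha.mul ha', hb.mul hb', mul_ne_zero hb0 hb0', by
      rw [map_mul, map_mul, div_mul_div_comm]⟩
  one_mem' := ⟨0, 1, 1, isHomogeneous_one _ _, isHomogeneous_one _ _, one_ne_zero, by simp⟩
  add_mem' := by
    rintro _ _ ⟨e, a, b, ha, hb, hb0, rfl⟩ ⟨f, a', b', ha', hb', hb0', rfl⟩
    refine ⟨e + f, a * b' + b * a', b * b', (ha.mul hb').add (hb.mul ha'), hb.mul hb', mul_ne_zero hb0 hb0', ?_⟩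
    rw [map_add, map_mul, map_mul, map_mul, div_add_div]
    · simpa using hb0
    · simpa using hb0'
  zero_mem' := ⟨0, 0, 1, isHomogeneous_zero _ _ _, isHomogeneous_one _ _, one_ne_zero, by simp⟩
  algebraMap_mem' := fun a => ⟨0, C a, 1, isHomogeneous_C _ _, isHomogeneous_one _ _, one_ne_zero, by
    rw [map_one, div_one, IsScalarTower.algebraMap_apply L S Ω]; rfl⟩
  inv_mem' := by
    rintro _ ⟨e, a, b, ha, hb, hb0, rfl⟩
    by_cases ha0 : a = 0
    · exact ⟨0, 0, 1, isHomogeneous_zero _ _ _, isHomogeneous_one _ _, one_ne_zero, by simp [ha0]⟩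
    · exact ⟨e, b, a, hb, ha, ha0, by rw [inv_div]⟩

theorem actFrac_mem {σ : G} {x : Ω} (hx : x ∈ deg0 L n) : D.actFrac σ x ∈ deg0 L n := by
  obtain ⟨e, a, b, ha, hb, hb0, rfl⟩ := hx
  exact ⟨e, D.act σ a, D.act σ b, D.isHomogeneous_act ha, D.isHomogeneous_act hb,
    fun h => hb0 ((D.act σ).injective (h.trans (map_zero _).symm)), by simp [map_div₀]⟩

theorem actFrac_symm_mem {σ : G} {x : Ω} (hx : x ∈ deg0 L n) : (D.actFrac σ).symm x ∈ deg0 L n := by
  obtain ⟨e, a, b, ha, hb, hb0, rfl⟩ := hx
  refine ⟨e, (D.act σ).symm a, (D.act σ).symm b, D.isHomogeneous_act_symm ha, D.isHomogeneous_act_symm hb,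
    fun h => hb0 ((D.act σ).symm.injective (h.trans (map_zero _).symm)), ?_⟩
  rw [RingEquiv.symm_apply_eq]
  simp [map_div₀]

theorem actFrac_actFrac (σ τ : G) {x : Ω} (hx : x ∈ deg0 L n) :
    D.actFrac σ (D.actFrac τ x) = D.actFrac (σ * τ) x := by
  obtain ⟨e, a, b, ha, hb, hb0, rfl⟩ := hx
  simp only [map_div₀, actFrac_algebraMap, D.act_act σ τ ha, D.act_act σ τ hb, map_mul]
  rw [mul_div_mul_left]
  simpa using pow_ne_zero e (D.c_ne σ τ)

theorem algebraMap_L_eq (a : L) : algebraMap L Ω a = algebraMap S Ω (C a) :=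
  IsScalarTower.algebraMap_apply L S Ω a

/-- The action on homogeneous fractions of degree zero. -/
noncomputable def actDeg0 (σ : G) : deg0 L n ≃ₐ[k] deg0 L n :=
  AlgEquiv.ofRingEquiv (f :=
    { toFun := fun x => ⟨D.actFrac σ x.1, D.actFrac_mem x.2⟩
      invFun := fun x => ⟨(D.actFrac σ).symm x.1, D.actFrac_symm_mem x.2⟩
      left_inv := fun x => Subtype.ext ((D.actFrac σ).symm_apply_apply _)
      right_inv := fun x => Subtype.ext ((D.actFrac σ).apply_symm_apply _)
      map_mul' := fun x y => Subtype.ext (map_mul _ _ _)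
      map_add' := fun x y => Subtype.ext (map_add _ _ _) })
    fun a => Subtype.ext (by
      show D.actFrac σ (algebraMap k Ω a) = algebraMap k Ω a
      rw [IsScalarTower.algebraMap_apply k L Ω, algebraMap_L_eq, actFrac_algebraMap, act_C,
        AlgEquiv.commutes])

theorem actDeg0_val (σ : G) (x : deg0 L n) : (D.actDeg0 σ x : Ω) = D.actFrac σ x.1 := rfl

/-- The action of the Galois group. -/
noncomputable def rho : G →* (deg0 L n ≃ₐ[k] deg0 L n) :=
  MonoidHom.mk' D.actDeg0 fun σ τ => AlgEquiv.ext fun x => Subtype.ext (D.actFrac_actFrac σ τ x.2).symm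

theorem rho_algebraMap (σ : G) (a : L) :
    D.rho σ (algebraMap L (deg0 L n) a) = algebraMap L (deg0 L n) (σ a) := by
  apply Subtype.ext
  show D.actFrac σ (algebraMap L Ω a) = algebraMap L Ω (σ a)
  rw [algebraMap_L_eq, actFrac_algebraMap, act_C, algebraMap_L_eq]

theorem rho_injective : Function.Injective D.rho := fun σ τ h => AlgEquiv.ext fun a =>
  (algebraMap L (deg0 L n)).injective (by rw [← rho_algebraMap, h, rho_algebraMap])

/-- The generic splitting field. -/
noncomputable def genField : IntermediateField k (deg0 L n) :=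
  IntermediateField.fixedField D.rho.range

theorem mem_genField {x : deg0 L n} : x ∈ D.genField ↔ ∀ σ, D.rho σ x = x := by
  constructor
  · exact fun h σ => h ⟨D.rho σ, σ, rfl⟩
  · rintro h ⟨_, σ, rfl⟩
    exact h σ

theorem fixed_mem_range (x : deg0 L n) (hx : ∀ σ, D.rho σ x = x) :
    x ∈ Set.range (algebraMap D.genField (deg0 L n)) :=
  ⟨⟨x, D.mem_genField.mpr hx⟩, rfl⟩

variable (L n) in
/-- The zeroth coordinate as a polynomial. -/
noncomputable abbrev x0 : S := X 0

/-- The multiplier of the zeroth coordinate. -/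
noncomputable def alpha (σ : G) : deg0 L n :=
  ⟨algebraMap S Ω (D.act σ (x0 L n)) / algebraMap S Ω (x0 L n), 1, _, _,
    D.isHomogeneous_act (isHomogeneous_X L 0), isHomogeneous_X L 0, X_ne_zero 0, rfl⟩

theorem alpha_ne (σ : G) : D.alpha σ ≠ 0 := by
  intro h
  have h' := congrArg Subtype.val h
  simp [alpha, x0] at h'

theorem coboundary_c (σ τ : G) :
    algebraMap L (deg0 L n) (D.c σ τ) = D.alpha σ * D.rho σ (D.alpha τ) / D.alpha (σ * τ) := by
  rw [eq_div_iff (D.alpha_ne _)]
  apply Subtype.ext
  show algebraMap L Ω (D.c σ τ) * _ = _ * D.actFrac σ _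
  simp only [alpha, map_div₀, actFrac_algebraMap, algebraMap_L_eq, D.act_act σ τ (isHomogeneous_X L 0),
    pow_one, map_mul]
  have h1 : algebraMap S Ω (x0 L n) ≠ 0 := by simp [x0]
  have h2 : algebraMap S Ω (D.act σ (x0 L n)) ≠ 0 := by simp [x0]
  field_simp

end SplitData

/-- Being split by a rational function field implies being split. -/
theorem splits_of_splits_rationalFunctions {k : Type u} [Field k] {L : Type u} [Field L] [Algebra k L]
    {B : Type u} [Ring B] [Algebra k B] [Algebra.IsCentral k B] [IsSimpleRing B] [FiniteDimensional k B]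
    (m : ℕ) (h : Curves.Splits k B (FractionRing (MvPolynomial (Fin m) L))) : Curves.Splits k B L := by
  induction m with
  | zero =>
    let e0 : MvPolynomial (Fin 0) L →ₐ[k] L := (MvPolynomial.isEmptyAlgEquiv L (Fin 0)).toAlgHom.restrictScalars k
    have hinj : Function.Injective e0 := (MvPolynomial.isEmptyAlgEquiv L (Fin 0)).injective
    exact splits_of_algHom (IsFractionRing.liftAlgHom hinj) h
  | succ m ih =>
    refine ih ?_
    let K := FractionRing (MvPolynomial (Fin m) L)
    let P := Polynomial K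
    let f : MvPolynomial (Fin (m + 1)) L →ₐ[k] FractionRing P :=
      (IsScalarTower.toAlgHom k P (FractionRing P)).comp
        ((Polynomial.mapAlgHom (IsScalarTower.toAlgHom k (MvPolynomial (Fin m) L) K)).comp
          ((MvPolynomial.finSuccEquiv L m).toAlgHom.restrictScalars k))
    have hf : Function.Injective f := (IsFractionRing.injective P (FractionRing P)).comp
      ((Polynomial.map_injective _ (IsFractionRing.injective (MvPolynomial (Fin m) L) K)).comp
        (MvPolynomial.finSuccEquiv L m).injective)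
    exact splits_of_splits_fractionRing k B P (FractionRing P) K
      ((Polynomial.aeval (R := K) (0 : K)).restrictScalars k) (splits_of_algHom (IsFractionRing.liftAlgHom hf) h)

end Groth.Agent.Csa25
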