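import Groth.Agent.Csa25.PtsHom
import Groth.Agent.Csa25.SBProj
import Groth.Agent.Csa25.SBDescent

/-!
# Automorphisms of Severi–Brauer schemes
-/

set_option autoImplicit false
open scoped TensorProduct Groth.Agent.Csa25
open Module CategoryTheory CategoryTheory.Limits AlgebraicGeometry HomogeneousLocalization

namespace Groth.Agent.Csa25

universe u

section Act

variable {k : Type u} [Field k] {A : Type u} [Ring A] [Algebra k A] {c : ℕ}
  {R : Type u} [CommRing R] [Algebra k R]

variable (R) in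
/-- Right multiplication by a unit. -/
noncomputable def rightEquiv (u : Aˣ) : (R ⊗[k] A) ≃ₗ[R] (R ⊗[k] A) :=
  LinearEquiv.ofLinear (LinearMap.mulRight R ((1 : R) ⊗ₜ[k] (↑u : A))) (LinearMap.mulRight R ((1 : R) ⊗ₜ[k] (↑u⁻¹ : A)))
    (LinearMap.ext fun x => by simp [mul_assoc, ← Algebra.TensorProduct.one_def])
    (LinearMap.ext fun x => by simp [mul_assoc, ← Algebra.TensorProduct.one_def])

theorem rightEquiv_apply (u : Aˣ) (x : R ⊗[k] A) : rightEquiv R u x = x * ((1 : R) ⊗ₜ[k] (↑u : A)) := rfl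

theorem rightEquiv_symm_apply (u : Aˣ) (x : R ⊗[k] A) :
    (rightEquiv R u).symm x = x * ((1 : R) ⊗ₜ[k] (↑u⁻¹ : A)) := rfl

/-- A unit acting on a left ideal. -/
noncomputable def actSet (u : Aˣ) (J : BrSev.SBSet k A c R) : BrSev.SBSet k A c R :=
  ⟨{ toSubmodule := J.1.toSubmodule.map (rightEquiv (k := k) R u⁻¹).toLinearMap
     finite_quotient := by
       haveI := J.1.finite_quotient
       exact Module.Finite.equiv (Submodule.Quotient.equiv J.1.toSubmodule _ (rightEquiv (k := k) R u⁻¹) rfl)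
     projective_quotient := by
       haveI := J.1.projective_quotient
       exact Module.Projective.of_equiv (Submodule.Quotient.equiv J.1.toSubmodule _ (rightEquiv (k := k) R u⁻¹) rfl)
     rankAtStalk_eq := fun p =>
       (congrFun (Module.rankAtStalk_eq_of_equiv
         (Submodule.Quotient.equiv J.1.toSubmodule _ (rightEquiv (k := k) R u⁻¹) rfl)).symm p).trans
         (J.1.rankAtStalk_eq p) },
    by
      rintro a _ ⟨y, hy, rfl⟩
      exact ⟨a * y, J.2 a y hy, by simp [rightEquiv_apply, mul_assoc]⟩⟩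

theorem mem_actSet (u : Aˣ) (J : BrSev.SBSet k A c R) (x : R ⊗[k] A) :
    x ∈ (actSet u J).1.toSubmodule ↔ x * ((1 : R) ⊗ₜ[k] (↑u : A)) ∈ J.1.toSubmodule := by
  show x ∈ Submodule.map ((rightEquiv (k := k) R u⁻¹).toLinearMap) J.1.toSubmodule ↔ _
  rw [Submodule.mem_map_equiv, rightEquiv_symm_apply, inv_inv]

theorem sbSet_ext {J J' : BrSev.SBSet k A c R} (h : ∀ x, x ∈ J.1.toSubmodule ↔ x ∈ J'.1.toSubmodule) : J = J' :=
  Subtype.ext (Module.Grassmannian.ext (Submodule.ext h))

theorem actSet_one (J : BrSev.SBSet k A c R) : actSet 1 J = J :=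
  sbSet_ext fun x => by rw [mem_actSet, Units.val_one, ← Algebra.TensorProduct.one_def, mul_one]

theorem actSet_mul (u v : Aˣ) (J : BrSev.SBSet k A c R) : actSet (u * v) J = actSet u (actSet v J) :=
  sbSet_ext fun x => by simp [mem_actSet, mul_assoc]

theorem map_actSet {S : Type u} [CommRing S] [Algebra k S] (ψ : R →ₐ[k] S) (u : Aˣ) (J : BrSev.SBSet k A c R)
    (x : S ⊗[k] A) :
    x ∈ (Module.Grassmannian.map ψ (actSet u J).1).toSubmodule ↔
      x * ((1 : S) ⊗ₜ[k] (↑u : A)) ∈ (Module.Grassmannian.map ψ J.1).toSubmodule := by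
  letI : Algebra R S := ψ.toAlgebra
  haveI : IsScalarTower k R S := IsScalarTower.of_algebraMap_eq' <| IsScalarTower.algebraMap_eq k R S
  rw [Module.Grassmannian.map_toSubmodule, Module.Grassmannian.map_toSubmodule, LinearMap.mem_ker,
    LinearMap.mem_ker]
  let E : ((R ⊗[k] A) ⧸ J.1.toSubmodule) ≃ₗ[R] ((R ⊗[k] A) ⧸ (actSet u J).1.toSubmodule) :=
    Submodule.Quotient.equiv J.1.toSubmodule _ (rightEquiv (k := k) R u⁻¹) (show J.1.toSubmodule.map (rightEquiv (k := k) R u⁻¹).toLinearMap = _ from rfl)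
  have key : Module.Grassmannian.baseChangeMkQ S (actSet u J).1.toSubmodule =
      (E.baseChange R S).toLinearMap ∘ₗ Module.Grassmannian.baseChangeMkQ S J.1.toSubmodule ∘ₗ
        (rightEquiv S u).toLinearMap := by
    refine TensorProduct.AlgebraTensorModule.ext fun s a => ?_
    simp only [Module.Grassmannian.baseChangeMkQ, LinearMap.comp_apply, LinearEquiv.coe_coe,
      rightEquiv_apply, Algebra.TensorProduct.tmul_mul_tmul, mul_one,
      TensorProduct.AlgebraTensorModule.cancelBaseChange_symm_tmul, LinearMap.baseChange_tmul,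
      LinearEquiv.baseChange_tmul]
    congr 1
    rw [Submodule.mkQ_apply, Submodule.mkQ_apply]
    show _ = Submodule.Quotient.mk (rightEquiv R u⁻¹ _)
    rw [rightEquiv_apply, Algebra.TensorProduct.tmul_mul_tmul, mul_one, mul_assoc, Units.mul_inv, mul_one]
  rw [key]
  simp only [LinearMap.comp_apply, LinearEquiv.coe_coe, LinearEquiv.map_eq_zero_iff]
  rfl

variable {X : Scheme.{u}} {f : X ⟶ Spec (CommRingCat.of k)} (str : BrSev.SBStr k A c f)

/-- A unit acting on points. -/
noncomputable def actPts (u : Aˣ) (R : Type u) [CommRing R] [Algebra k R] (g : BrSev.Pts f R) : BrSev.Pts f R :=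
  (str.bij R).symm (actSet u (str.bij R g))

theorem actPts_natural (u : Aˣ) (R S : Type u) [CommRing R] [Algebra k R] [CommRing S] [Algebra k S]
    (ψ : R →ₐ[k] S) (g : BrSev.Pts f R) :
    actPts str u S (BrSev.Pts.map f ψ g) = BrSev.Pts.map f ψ (actPts str u R g) := by
  apply (str.bij S).injective
  rw [actPts, Equiv.apply_symm_apply]
  refine sbSet_ext fun x => ?_
  rw [str.natural R S ψ (actPts str u R g), actPts, Equiv.apply_symm_apply, mem_actSet, str.natural, map_actSet]

/-- The endomorphism given by a unit. -/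
noncomputable def unitHom (u : Aˣ) : X ⟶ X :=
  (exists_hom_of_natural (fun R _ _ g => actPts str u R g) fun R S _ _ _ _ ψ g => actPts_natural str u R S ψ g).choose

theorem unitHom_comp (u : Aˣ) : unitHom str u ≫ f = f :=
  (exists_hom_of_natural (fun R _ _ g => actPts str u R g) fun R S _ _ _ _ ψ g => actPts_natural str u R S ψ g).choose_spec.1

theorem pts_unitHom (u : Aˣ) {R : Type u} [CommRing R] [Algebra k R] (g : BrSev.Pts f R) :
    g.1 ≫ unitHom str u = (actPts str u R g).1 :=
  ((exists_hom_of_natural (fun R _ _ g => actPts str u R g) fun R S _ _ _ _ ψ g => actPts_natural str u R S ψ g).choose_spec.2 R g).symm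

theorem unitHom_one : unitHom str (1 : Aˣ) = 𝟙 X :=
  hom_ext_pts (f := f) fun R _ _ g => by
    rw [pts_unitHom, actPts, actSet_one, Equiv.symm_apply_apply, Category.comp_id]

theorem unitHom_mul (u v : Aˣ) : unitHom str (u * v) = unitHom str v ≫ unitHom str u :=
  hom_ext_pts (f := f) fun R _ _ g => by
    rw [← Category.assoc, pts_unitHom str v g, pts_unitHom, pts_unitHom]
    simp only [actPts, Equiv.apply_symm_apply, actSet_mul]

/-- The automorphism given by a unit. -/
noncomputable def unitAut : Aˣ →* Aut (Over.mk f) :=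
  MonoidHom.mk' (fun u => Over.isoMk
      ⟨unitHom str u, unitHom str u⁻¹, by rw [← unitHom_mul, inv_mul_cancel, unitHom_one],
        by rw [← unitHom_mul, mul_inv_cancel, unitHom_one]⟩ (unitHom_comp str u))
    fun u v => Iso.ext (Over.OverMorphism.ext (unitHom_mul str u v))

theorem unitAut_left (u : Aˣ) : (unitAut str u).hom.left = unitHom str u := rfl

/-- An endomorphism over `k` acting on points. -/
noncomputable def endAct (θ : X ⟶ X) (hθ : θ ≫ f = f) {R : Type u} [CommRing R] [Algebra k R]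
    (J : BrSev.SBSet k A c R) : BrSev.SBSet k A c R :=
  str.bij R ⟨((str.bij R).symm J).1 ≫ θ, by rw [Category.assoc, hθ]; exact ((str.bij R).symm J).2⟩

theorem endAct_unitHom (u : Aˣ) {R : Type u} [CommRing R] [Algebra k R] (J : BrSev.SBSet k A c R) :
    endAct str (unitHom str u) (unitHom_comp str u) J = actSet u J := by
  have : (⟨((str.bij R).symm J).1 ≫ unitHom str u, by
      rw [Category.assoc, unitHom_comp]; exact ((str.bij R).symm J).2⟩ : BrSev.Pts f R) =
      actPts str u R ((str.bij R).symm J) := Subtype.ext (pts_unitHom str u _)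
  rw [endAct, this, actPts, Equiv.apply_symm_apply, Equiv.apply_symm_apply]

theorem endAct_natural (θ : X ⟶ X) (hθ : θ ≫ f = f) {R S : Type u} [CommRing R] [Algebra k R] [CommRing S]
    [Algebra k S] (ψ : R →ₐ[k] S) (J : BrSev.SBSet k A c R) (J' : BrSev.SBSet k A c S)
    (hJ' : J'.1.toSubmodule = (Module.Grassmannian.map ψ J.1).toSubmodule) :
    (endAct str θ hθ J').1.toSubmodule = (Module.Grassmannian.map ψ (endAct str θ hθ J).1).toSubmodule := by
  have h1 : (str.bij S).symm J' = BrSev.Pts.map f ψ ((str.bij R).symm J) := by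
    apply (str.bij S).injective
    refine sbSet_ext fun x => ?_
    rw [Equiv.apply_symm_apply, str.natural, Equiv.apply_symm_apply, hJ']
  rw [endAct, endAct]
  refine Eq.trans ?_ (str.natural R S ψ _)
  refine congrArg (fun p => (str.bij S p).1.toSubmodule) (Subtype.ext ?_)
  show ((str.bij S).symm J').1 ≫ θ = _
  rw [h1]
  exact Category.assoc _ _ _

end Act

section Vectors

variable {K : Type u} [Field K] {n : ℕ}

local notation "𝒜" => CohB1.polyGrading n K

/-- Points of projective space with the same homogeneous forms are equal. -/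
theorem projPoint_ext {x y : CohB1.ProjSpace n K}
    (h : ∀ (d : ℕ) (p : MvPolynomial (Fin (n + 1)) K), p.IsHomogeneous d →
      (p ∈ x.asHomogeneousIdeal.toIdeal ↔ p ∈ y.asHomogeneousIdeal.toIdeal)) : x = y := by
  have key : ∀ (a b : CohB1.ProjSpace n K), (∀ (d : ℕ) (p : MvPolynomial (Fin (n + 1)) K), p.IsHomogeneous d →
      (p ∈ a.asHomogeneousIdeal.toIdeal → p ∈ b.asHomogeneousIdeal.toIdeal)) →
      a.asHomogeneousIdeal.toIdeal ≤ b.asHomogeneousIdeal.toIdeal := by
    intro a b hab p hp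
    rw [← MvPolynomial.sum_homogeneousComponent p]
    refine Ideal.sum_mem _ fun d _ => hab d _ (MvPolynomial.homogeneousComponent_isHomogeneous d p) ?_
    rw [← MvPolynomial.decomposition.decompose'_apply p d]
    exact a.asHomogeneousIdeal.isHomogeneous d hp
  exact ProjectiveSpectrum.ext (HomogeneousIdeal.toIdeal_injective
    (le_antisymm (key x y fun d p hp => (h d p hp).mp) (key y x fun d p hp => (h d p hp).mpr)))

/-- The rational point of a nonzero vector. -/
noncomputable def ptVec (v : Fin (n + 1) → K) (hv : v ≠ 0) : CohB1.ProjSpace n K :=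
  (exists_point_of_vec v hv).choose

theorem mem_ptVec (v : Fin (n + 1) → K) (hv : v ≠ 0) (d : ℕ) (p : MvPolynomial (Fin (n + 1)) K)
    (hp : p.IsHomogeneous d) : p ∈ (ptVec v hv).asHomogeneousIdeal.toIdeal ↔ MvPolynomial.eval v p = 0 :=
  (exists_point_of_vec v hv).choose_spec d p hp

theorem exists_smul_of_ptVec_eq {v w : Fin (n + 1) → K} (hv : v ≠ 0) (hw : w ≠ 0)
    (h : ptVec v hv = ptVec w hw) : ∃ c : K, c ≠ 0 ∧ w = c • v := by
  obtain ⟨i, hi⟩ := Function.ne_iff.mp hv
  suffices H : w = (w i * (v i)⁻¹) • v from ⟨_, fun h0 => hw (by rw [H, h0, zero_smul]), H⟩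
  funext j
  let M : MvPolynomial (Fin (n + 1)) K :=
    MvPolynomial.C (v i) * MvPolynomial.X j - MvPolynomial.C (v j) * MvPolynomial.X i
  have hM : M.IsHomogeneous 1 :=
    (MvPolynomial.isHomogeneous_C_mul_X _ _).sub (MvPolynomial.isHomogeneous_C_mul_X _ _)
  have h1 : M ∈ (ptVec v hv).asHomogeneousIdeal.toIdeal := by
    rw [mem_ptVec v hv 1 M hM]; simp [M]; ring
  rw [h, mem_ptVec w hw 1 M hM] at h1
  simp [M, sub_eq_zero] at h1
  rw [Pi.smul_apply, smul_eq_mul]
  have hi' : v i ≠ 0 := hi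
  field_simp
  linear_combination h1

theorem vecMul_ne_zero {g : Matrix (Fin (n + 1)) (Fin (n + 1)) K} (hg : IsUnit g) {v : Fin (n + 1) → K}
    (hv : v ≠ 0) : Matrix.vecMul v g ≠ 0 := fun h => hv (by
  have := congrArg (fun w => Matrix.vecMul w (hg.unit⁻¹).val) h
  simp only [Matrix.vecMul_vecMul, IsUnit.mul_val_inv, Matrix.vecMul_one, Matrix.zero_vecMul] at this
  exact this)

theorem eval_linHom (g : Matrix (Fin (n + 1)) (Fin (n + 1)) K) (v : Fin (n + 1) → K)
    (p : MvPolynomial (Fin (n + 1)) K) :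
    MvPolynomial.eval v (linHom (RingHom.id K) g p) = MvPolynomial.eval (Matrix.vecMul v g) p := by
  have h : (MvPolynomial.eval v).comp (linHom (RingHom.id K) g).toRingHom = MvPolynomial.eval (Matrix.vecMul v g) := by
    refine MvPolynomial.ringHom_ext (fun r => ?_) (fun j => ?_)
    · show MvPolynomial.eval v (linHom (RingHom.id K) g (MvPolynomial.C r)) = _
      rw [linHom_C]; simp
    · show MvPolynomial.eval v (linHom (RingHom.id K) g (MvPolynomial.X j)) = _
      rw [linHom_X]
      simp [linForm, Matrix.vecMul, dotProduct, mul_comm]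
  exact RingHom.congr_fun h p

theorem linMap_ptVec (g : Matrix (Fin (n + 1)) (Fin (n + 1)) K) (hg : IsUnit g) (v : Fin (n + 1) → K) (hv : v ≠ 0) :
    linMap (RingHom.id K) g hg (ptVec v hv) = ptVec (Matrix.vecMul v g) (vecMul_ne_zero hg hv) := by
  refine projPoint_ext fun d p hp => ?_
  refine Iff.trans ?_ (mem_ptVec _ _ d p hp).symm
  rw [← eval_linHom]
  exact mem_ptVec v hv d _ ((linHom (RingHom.id K) g).map_mem hp)

/-- Matrices acting alike on lines are proportional. -/
theorem exists_smul_of_forall {P Q : Matrix (Fin (n + 1)) (Fin (n + 1)) K} (hQ : IsUnit Q)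
    (h : ∀ v : Fin (n + 1) → K, v ≠ 0 → ∃ c : K, Matrix.vecMul v P = c • Matrix.vecMul v Q) :
    ∃ c : K, P = c • Q := by
  classical
  obtain ⟨u, rfl⟩ := hQ
  let R := P * (↑u⁻¹ : Matrix (Fin (n + 1)) (Fin (n + 1)) K)
  have hR : ∀ v : Fin (n + 1) → K, v ≠ 0 → ∃ c : K, Matrix.vecMul v R = c • v := fun v hv => by
    obtain ⟨c, hc⟩ := h v hv
    refine ⟨c, ?_⟩
    rw [← Matrix.vecMul_vecMul, hc, Matrix.smul_vecMul, Matrix.vecMul_vecMul, u.mul_inv, Matrix.vecMul_one]
  have hd : ∀ i j, i ≠ j → R i j = 0 := fun i j hij => by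
    obtain ⟨c, hc⟩ := hR (Pi.single i 1) (by simp)
    simpa [hij.symm] using congrFun hc j
  have he : ∀ j, R j j = R 0 0 := fun j => by
    by_cases hj : j = 0
    · rw [hj]
    obtain ⟨c, hc⟩ := hR (Pi.single j 1 + Pi.single 0 1) (fun h0 => by simpa [hj] using congrFun h0 j)
    have h1 := congrFun hc j
    have h2 := congrFun hc 0
    simp [Matrix.add_vecMul, hj, Ne.symm hj, hd 0 j (Ne.symm hj), hd j 0 hj] at h1 h2
    rw [h1, h2]
  have hRs : R = R 0 0 • (1 : Matrix _ _ K) := by
    ext i j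
    by_cases hij : i = j
    · subst hij; simp [he i]
    · simp [hij, hd i j hij]
  exact ⟨R 0 0, by
    calc P = R * (u : Matrix (Fin (n + 1)) (Fin (n + 1)) K) := by simp [R, mul_assoc]
      _ = _ := by conv_lhs => rw [hRs]
                  rw [smul_mul_assoc, one_mul]⟩

end Vectors

section Split

variable {k : Type u} [Field k] {L : Type u} [Field L] [Algebra k L] [FiniteDimensional k L] [IsGalois k L]
  {n : ℕ} {A : Type u} [Ring A] [Algebra k A] (φ : L ⊗[k] A ≃ₐ[L] Matrix (Fin (n + 1)) (Fin (n + 1)) L)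
  (hd : finrank k A = (n + 1) * (n + 1))
  {X : Scheme.{u}} {f : X ⟶ Spec (CommRingCat.of k)}
  (str : BrSev.SBStr k A ((n + 1) * (n + 1) - (n + 1)) f)

local notation "c₀" => (n + 1) * (n + 1) - (n + 1)

theorem extRep_push (t : L ⊗[k] A) : extRep (pushRep (repOver φ L) L) t = φ t := by
  induction t using TensorProduct.induction_on with
  | zero => simp
  | add x y hx hy => rw [map_add, map_add, hx, hy]
  | tmul l a =>
    rw [extRep_tmul, show φ (l ⊗ₜ[k] a) = l • φ ((1 : L) ⊗ₜ[k] a) by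
      rw [← map_smul φ, TensorProduct.smul_tmul', smul_eq_mul, mul_one]]
    ext i j
    simp [pushRep, repOver]

theorem push_surjective : Function.Surjective (extRep (pushRep (repOver φ L) L)) :=
  pushRep_surjective _ (extRep_repOver_surjective φ L) L

/-- The ideal of a line. -/
noncomputable def rowL (v : Fin (n + 1) → L) (hv : v ≠ 0) : BrSev.SBSet k A c₀ L :=
  rowPoint (pushRep (repOver φ L) L) (push_surjective φ)
    ((v (Function.ne_iff.mp hv).choose)⁻¹ • v) (Function.ne_iff.mp hv).choose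
    (inv_mul_cancel₀ (Function.ne_iff.mp hv).choose_spec)

theorem mem_rowL (v : Fin (n + 1) → L) (hv : v ≠ 0) (t : L ⊗[k] A) :
    t ∈ (rowL φ v hv).1.toSubmodule ↔ ∃ a, φ t = Matrix.vecMulVec a v := by
  rw [← extRep_push φ]
  refine (mem_ker_rowDev (pushRep (repOver φ L) L) (inv_mul_cancel₀ (Function.ne_iff.mp hv).choose_spec)).trans ?_
  constructor
  · rintro ⟨a, ha⟩
    exact ⟨(v (Function.ne_iff.mp hv).choose)⁻¹ • a, ha.trans (by rw [Matrix.vecMulVec_smul, Matrix.smul_vecMulVec])⟩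
  · rintro ⟨a, ha⟩
    refine ⟨v (Function.ne_iff.mp hv).choose • a, ha.trans ?_⟩
    rw [Matrix.vecMulVec_smul, Matrix.smul_vecMulVec, smul_smul,
      inv_mul_cancel₀ (Function.ne_iff.mp hv).choose_spec, one_smul]

theorem rowL_congr {v w : Fin (n + 1) → L} (hv : v ≠ 0) (hw : w ≠ 0) {c : L} (h : w = c • v) :
    rowL φ v hv = rowL φ w hw := by
  have hc : c ≠ 0 := fun h0 => hw (by rw [h, h0, zero_smul])
  refine sbSet_ext fun t => ?_
  rw [mem_rowL, mem_rowL]
  subst h
  constructor
  · rintro ⟨a, ha⟩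
    exact ⟨c⁻¹ • a, ha.trans (by rw [Matrix.vecMulVec_smul, Matrix.smul_vecMulVec, smul_smul, mul_inv_cancel₀ hc, one_smul])⟩
  · rintro ⟨a, ha⟩
    exact ⟨c • a, ha.trans (by rw [Matrix.vecMulVec_smul, Matrix.smul_vecMulVec])⟩

theorem exists_smul_of_rowL_eq {v w : Fin (n + 1) → L} (hv : v ≠ 0) (hw : w ≠ 0)
    (h : rowL φ v hv = rowL φ w hw) : ∃ c : L, w = c • v := by
  obtain ⟨i, hi⟩ := Function.ne_iff.mp hw
  have hmem : φ.symm (Matrix.vecMulVec (Pi.single i 1) w) ∈ (rowL φ w hw).1.toSubmodule :=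
    (mem_rowL φ w hw _).mpr ⟨_, φ.apply_symm_apply _⟩
  rw [← h, mem_rowL, AlgEquiv.apply_symm_apply] at hmem
  obtain ⟨a, ha⟩ := hmem
  refine ⟨a i, funext fun j => ?_⟩
  simpa [Matrix.vecMulVec_apply] using congrFun₂ ha i j

include hd in
theorem exists_eq_rowL (J : BrSev.SBSet k A c₀ L) : ∃ (v : Fin (n + 1) → L) (hv : v ≠ 0), J = rowL φ v hv := by
  obtain ⟨t, ht, a, i, hu⟩ := exists_entry_notMem _ hd (push_surjective φ) J ⟨⊥, Ideal.isPrime_bot⟩
  obtain ⟨η, hi, hJ⟩ := eq_rowPoint_of_isUnit _ hd (push_surjective φ) J ht (a := a) (i := i)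
    (isUnit_iff_ne_zero.mpr fun h0 => hu (by simp [h0]))
  have hη : η ≠ 0 := fun h0 => one_ne_zero (hi.symm.trans (congrFun h0 i))
  refine ⟨η, hη, hJ.trans (sbSet_ext fun s => ?_)⟩
  rw [mem_rowL, ← extRep_push φ]
  exact mem_ker_rowDev _ hi

/-- The point of the base change under a left ideal over `L`. -/
noncomputable def ptOf (J : BrSev.SBSet k A c₀ L) : BrSev.bc f L :=
  toXS (S := L) (T := L) str J (IsLocalRing.closedPoint L)

theorem fromProj_ptVec (v : Fin (n + 1) → L) (hv : v ≠ 0) :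
    fromProj (repOver φ L) (extRep_repOver_surjective φ L) str (ptVec v hv) = ptOf str (rowL φ v hv) := by
  classical
  let i := (Function.ne_iff.mp hv).choose
  have hi0 : v i ≠ 0 := (Function.ne_iff.mp hv).choose_spec
  let η := (v i)⁻¹ • v
  have hi : η i = 1 := inv_mul_cancel₀ hi0
  have hηv : ∀ {d : ℕ} {p : MvPolynomial (Fin (n + 1)) L}, p.IsHomogeneous d →
      (MvPolynomial.eval η p = 0 ↔ MvPolynomial.eval v p = 0) := by
    intro d p hp
    have hη0 : η ≠ 0 := fun h0 => one_ne_zero (hi.symm.trans (congrFun h0 i))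
    rw [← mem_ptVec η hη0 d p hp, ← mem_ptVec v hv d p hp]
    suffices ptVec η hη0 = ptVec v hv by rw [this]
    refine projPoint_ext fun e q hq => ?_
    rw [mem_ptVec _ _ e q hq, mem_ptVec _ _ e q hq]
    have key : ∀ c : L, MvPolynomial.eval (c • v) q = c ^ e * MvPolynomial.eval v q := by
      intro c
      rw [MvPolynomial.eval_eq, MvPolynomial.eval_eq, Finset.mul_sum]
      refine Finset.sum_congr rfl fun m hm => ?_
      have hdeg : m.degree = e := by
        have := hq (MvPolynomial.mem_support_iff.mp hm)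
        rw [Finsupp.weight_apply, Finsupp.sum] at this; simpa [Finsupp.degree_apply] using this
      rw [← hdeg, Finsupp.degree_apply, ← Finset.prod_pow_eq_pow_sum]
      simp only [Pi.smul_apply, smul_eq_mul, mul_pow, Finset.prod_mul_distrib]
      try ring
    rw [key]
    simp [hi0]
  let Aw := Away (CohB1.polyGrading n L) (MvPolynomial.X i : MvPolynomial (Fin (n + 1)) L)
  have hu : IsUnit (MvPolynomial.eval η (MvPolynomial.X i)) := by rw [MvPolynomial.eval_X, hi]; exact isUnit_one
  let lift₀ : Localization.Away (MvPolynomial.X i : MvPolynomial (Fin (n + 1)) L) →+* L :=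
    IsLocalization.Away.lift (MvPolynomial.X i) hu
  let ev₀ : Aw →+* L := lift₀.comp (algebraMap Aw _)
  have hev : ∀ (r : ℕ) (p : MvPolynomial (Fin (n + 1)) L) (hp : p ∈ CohB1.polyGrading n L (r • 1))
      (hX : (MvPolynomial.X i : MvPolynomial (Fin (n + 1)) L) ∈ CohB1.polyGrading n L 1),
      ev₀ (Away.mk (CohB1.polyGrading n L) hX r p hp) = MvPolynomial.eval η p := by
    intro r p hp hX
    have h1 : (Away.mk (CohB1.polyGrading n L) hX r p hp).val *
        algebraMap (MvPolynomial (Fin (n + 1)) L) (Localization.Away (MvPolynomial.X i : MvPolynomial (Fin (n + 1)) L))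
          (MvPolynomial.X i ^ r) =
        algebraMap (MvPolynomial (Fin (n + 1)) L) (Localization.Away (MvPolynomial.X i : MvPolynomial (Fin (n + 1)) L)) p := by
      rw [Away.val_mk, ← Localization.mk_one_eq_algebraMap, ← Localization.mk_one_eq_algebraMap, Localization.mk_mul,
        Localization.mk_eq_mk_iff, Localization.r_iff_exists]
      exact ⟨1, by simp [mul_comm]⟩
    have h2 := congrArg lift₀ h1
    simp only [map_mul, lift₀, IsLocalization.Away.lift_eq, map_pow, MvPolynomial.eval_X, hi, one_pow, mul_one] at h2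
    exact h2
  let ev : Aw →ₐ[L] L := AlgHom.mk ev₀ fun r => by
    show ev₀ (algebraMap L Aw r) = r
    have : algebraMap L Aw r = Away.mk (CohB1.polyGrading n L) (X_mem i) 0 (MvPolynomial.C r)
        (by rw [zero_smul]; exact MvPolynomial.isHomogeneous_C _ _) := by
      apply val_injective
      rw [Away.val_mk]
      show Localization.mk _ _ = _
      simp
    rw [this, hev, MvPolynomial.eval_C]
  have hfrac : ev ∘ frac n L i = η := funext fun j => by
    have : frac n L i j = Away.mk (CohB1.polyGrading n L) (X_mem i) 1 (MvPolynomial.X j)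
        (by rw [one_smul]; exact MvPolynomial.isHomogeneous_X L j) := by
      apply val_injective
      rw [Away.val_mk, frac, val_mk]
      simp
    show ev₀ _ = _
    rw [this, hev, MvPolynomial.eval_X]
  let pt := IsLocalRing.closedPoint L
  let y := Spec.map (CommRingCat.ofHom (ev : Aw →+* L)) pt
  let ι := Proj.awayι (CohB1.polyGrading n L) (MvPolynomial.X i) (MvPolynomial.isHomogeneous_X L i) one_pos
  have hy : ι y = ptVec v hv := by
    refine projPoint_ext fun d p hp => ?_
    rw [mem_ptVec v hv d p hp, ← hηv hp]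
    rcases Nat.eq_zero_or_pos d with rfl | hd0
    · obtain ⟨c, rfl⟩ := exists_C_of_isHomogeneous_zero hp
      rw [MvPolynomial.eval_C]
      constructor
      · intro hc
        by_contra h0
        exact (ι y).isPrime.ne_top (Ideal.eq_top_of_isUnit_mem _ hc ((isUnit_iff_ne_zero.mpr h0).map _))
      · rintro rfl; rw [map_zero]; exact Ideal.zero_mem _
    have h := Proj.awayι_preimage_basicOpen (CohB1.polyGrading n L) (f := (MvPolynomial.X i : MvPolynomial (Fin (n + 1)) L))
      (MvPolynomial.isHomogeneous_X L i) one_pos hp hd0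
    have h2 : ι y ∈ Proj.basicOpen (CohB1.polyGrading n L) p ↔
        ev₀ (Away.isLocalizationElem (MvPolynomial.isHomogeneous_X L i) hp) ∉ IsLocalRing.maximalIdeal L :=
      SetLike.ext_iff.mp h y
    rw [Proj.mem_basicOpen, not_iff_not] at h2
    refine h2.trans ?_
    rw [IsLocalRing.maximalIdeal_eq_bot, Ideal.mem_bot]
    show ev₀ (Away.mk (CohB1.polyGrading n L) _ _ _ _) = 0 ↔ _
    refine (Eq.congr_left (hev _ _ _ _)).trans ?_
    rw [pow_one]
  rw [← hy]
  have e1 : ι ≫ fromProj (repOver φ L) (extRep_repOver_surjective φ L) str =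
      projPiece (repOver φ L) (extRep_repOver_surjective φ L) str i :=
    awayι_fromProj (repOver φ L) (extRep_repOver_surjective φ L) str i
  have e2 := specMap_vecXS (repOver φ L) str (extRep_repOver_surjective φ L) ev (frac n L i) i (frac_self n L i)
  refine ((congrArg (fun g : Spec (CommRingCat.of Aw) ⟶ BrSev.bc f L => g y) e1).trans ?_)
  refine ((congrArg (fun g : Spec (CommRingCat.of L) ⟶ BrSev.bc f L => g pt) e2).trans ?_)
  refine congrArg (fun g : Spec (CommRingCat.of L) ⟶ BrSev.bc f L => g pt) ?_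
  simp only [hfrac]
  rfl

include hd in
theorem ptOf_injective {v w : Fin (n + 1) → L} (hv : v ≠ 0) (hw : w ≠ 0)
    (h : ptOf str (rowL φ v hv) = ptOf str (rowL φ w hw)) : ∃ c : L, c ≠ 0 ∧ w = c • v := by
  rw [← fromProj_ptVec φ str v hv, ← fromProj_ptVec φ str w hw] at h
  haveI := isIso_fromProj (repOver φ L) (extRep_repOver_surjective φ L) hd str
  exact exists_smul_of_ptVec_eq hv hw
    ((fromProj (repOver φ L) (extRep_repOver_surjective φ L) str).isOpenEmbedding.injective h)

/-- Base change of an endomorphism. -/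
noncomputable def endBC (θ : X ⟶ X) (hθ : θ ≫ f = f) (L : Type u) [CommRing L] [Algebra k L] :
    BrSev.bc f L ⟶ BrSev.bc f L :=
  pullback.map _ _ _ _ θ (𝟙 _) (𝟙 _) (by simp [hθ]) (by simp)

theorem toXS_endBC (θ : X ⟶ X) (hθ : θ ≫ f = f) (J : BrSev.SBSet k A c₀ L) :
    toXS (S := L) (T := L) str J ≫ endBC θ hθ L = toXS (S := L) (T := L) str (endAct str θ hθ J) := by
  have h1 : endBC θ hθ L ≫ BrSev.proj f L = BrSev.proj f L ≫ θ := pullback.lift_fst _ _ _
  have h2 : endBC θ hθ L ≫ BrSev.bcTo f L = BrSev.bcTo f L :=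
    (pullback.lift_snd _ _ _).trans (Category.comp_id _)
  apply pullback.hom_ext
  · show (_ ≫ _) ≫ BrSev.proj f L = _ ≫ BrSev.proj f L
    rw [toXS_proj, Category.assoc, h1, ← Category.assoc]
    refine (congrArg (· ≫ θ) (toXS_proj (S := L) str J)).trans ?_
    rw [endAct]
    exact (congrArg Subtype.val ((str.bij L).symm_apply_apply
      (⟨((str.bij L).symm J).1 ≫ θ, by rw [Category.assoc, hθ]; exact ((str.bij L).symm J).2⟩ : BrSev.Pts f L))).symm
  · show (_ ≫ _) ≫ BrSev.bcTo f L = _ ≫ BrSev.bcTo f L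
    rw [toXS_bcTo, Category.assoc, h2]
    exact toXS_bcTo (S := L) str J

include hd in
/-- An automorphism acts linearly on lines. -/
theorem exists_matrix (θ : X ⟶ X) [IsIso θ] (hθ : θ ≫ f = f) :
    ∃ (T : Matrix (Fin (n + 1)) (Fin (n + 1)) L) (hT : IsUnit T),
      fromProj (repOver φ L) (extRep_repOver_surjective φ L) str ≫ endBC θ hθ L =
        linMap (RingHom.id L) T hT ≫ fromProj (repOver φ L) (extRep_repOver_surjective φ L) str ∧
      ∀ v hv, endAct str θ hθ (rowL φ v hv) = rowL φ (Matrix.vecMul v T) (vecMul_ne_zero hT hv) := by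
  let F := fromProj (repOver φ L) (extRep_repOver_surjective φ L) str
  haveI : IsIso F := isIso_fromProj (repOver φ L) (extRep_repOver_surjective φ L) hd str
  haveI : IsIso (endBC θ hθ L) := by rw [endBC]; infer_instance
  have hF : F ≫ BrSev.bcTo f L = CohB1.ProjSpace.toSpec n L :=
    fromProj_bcTo (repOver φ L) (extRep_repOver_surjective φ L) str
  obtain ⟨T, hT, he⟩ := exists_eq_linMap (RingEquiv.refl L) (asIso (F ≫ endBC θ hθ L ≫ inv F)) (by
    show (F ≫ endBC θ hθ L ≫ inv F) ≫ _ = _ ≫ Spec.map (CommRingCat.ofHom (RingHom.id L))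
    rw [CommRingCat.ofHom_id, Spec.map_id, Category.comp_id, ← hF, Category.assoc, Category.assoc,
      IsIso.inv_hom_id_assoc]
    exact congrArg (F ≫ ·) ((pullback.lift_snd _ _ _).trans (Category.comp_id _)))
  have he' : F ≫ endBC θ hθ L = linMap (RingHom.id L) T hT ≫ F := by
    rw [← IsIso.comp_inv_eq, Category.assoc]
    exact he
  refine ⟨T, hT, he', fun v hv => ?_⟩
  obtain ⟨w, hw, hJ⟩ := exists_eq_rowL φ hd (endAct str θ hθ (rowL φ v hv))
  have h1 : ptOf str (endAct str θ hθ (rowL φ v hv)) =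
      ptOf str (rowL φ (Matrix.vecMul v T) (vecMul_ne_zero hT hv)) := by
    rw [← fromProj_ptVec φ str _ (vecMul_ne_zero hT hv), ← linMap_ptVec T hT v hv, ← Scheme.Hom.comp_apply,
      ← he', Scheme.Hom.comp_apply, fromProj_ptVec φ str v hv, ptOf, ptOf]
    exact (congrArg (fun m : Spec (CommRingCat.of L) ⟶ BrSev.bc f L => m (IsLocalRing.closedPoint L))
      (toXS_endBC str θ hθ (rowL φ v hv))).symm
  rw [hJ] at h1 ⊢
  obtain ⟨c, -, hc⟩ := ptOf_injective φ hd str hw (vecMul_ne_zero hT hv) h1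
  exact rowL_congr φ hw _ hc

theorem isUnit_repr (u : Aˣ) : IsUnit (φ ((1 : L) ⊗ₜ[k] (↑u : A))) :=
  (u.isUnit.map (Algebra.TensorProduct.includeRight : A →ₐ[k] L ⊗[k] A)).map φ

theorem actSet_rowL (u : Aˣ) (v : Fin (n + 1) → L) (hv : v ≠ 0) :
    actSet u (rowL φ v hv) =
      rowL φ (Matrix.vecMul v (φ ((1 : L) ⊗ₜ[k] (↑u⁻¹ : A)))) (vecMul_ne_zero (isUnit_repr φ u⁻¹) hv) := by
  refine sbSet_ext fun t => ?_
  rw [mem_actSet, mem_rowL, mem_rowL, map_mul]
  constructor
  · rintro ⟨a, ha⟩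
    refine ⟨a, ?_⟩
    rw [← Matrix.vecMulVec_mul, ← ha, mul_assoc, ← map_mul, Algebra.TensorProduct.tmul_mul_tmul, one_mul,
      Units.mul_inv, ← Algebra.TensorProduct.one_def, map_one, mul_one]
  · rintro ⟨a, ha⟩
    refine ⟨a, ?_⟩
    rw [ha, ← Matrix.vecMulVec_mul, mul_assoc, ← map_mul, Algebra.TensorProduct.tmul_mul_tmul, one_mul,
      Units.inv_mul, ← Algebra.TensorProduct.one_def, map_one, mul_one]

/-- Galois action on lines. -/
theorem map_rowL (σ : L ≃ₐ[k] L) (g : (Matrix (Fin (n + 1)) (Fin (n + 1)) L)ˣ)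
    (hg : ∀ x : L ⊗[k] A, φ (galAct σ A x) * (g : Matrix (Fin (n + 1)) (Fin (n + 1)) L) =
      (g : Matrix (Fin (n + 1)) (Fin (n + 1)) L) * (φ x).map σ) (v : Fin (n + 1) → L) (hv : v ≠ 0)
    (hw : Matrix.vecMul (σ ∘ v) (↑g⁻¹ : Matrix (Fin (n + 1)) (Fin (n + 1)) L) ≠ 0) :
    (rowL φ _ hw).1.toSubmodule = (Module.Grassmannian.map (σ : L →ₐ[k] L) (rowL φ v hv).1).toSubmodule := by
  have hi := inv_mul_cancel₀ (Function.ne_iff.mp hv).choose_spec
  rw [show (rowL φ v hv).1 = (rowPoint (pushRep (repOver φ L) L) (push_surjective φ) _ _ hi).1 from rfl,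
    map_rowPoint]
  ext t
  rw [mem_rowL]
  have hext : ∀ t : L ⊗[k] A, extRep ((σ : L →ₐ[k] L).mapMatrix.comp (pushRep (repOver φ L) L)) t =
      (↑g⁻¹ : Matrix (Fin (n + 1)) (Fin (n + 1)) L) * φ t * (g : Matrix (Fin (n + 1)) (Fin (n + 1)) L) := by
    intro t
    induction t using TensorProduct.induction_on with
    | zero => simp
    | add x y hx hy => rw [map_add, map_add, hx, hy, mul_add, add_mul]
    | tmul l a =>
      have h1 := hg ((1 : L) ⊗ₜ[k] a)
      rw [galAct_tmul, map_one] at h1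
      rw [extRep_tmul, show φ (l ⊗ₜ[k] a) = l • φ ((1 : L) ⊗ₜ[k] a) by
        rw [← map_smul φ, TensorProduct.smul_tmul', smul_eq_mul, mul_one], Matrix.mul_smul, Matrix.smul_mul]
      refine congrArg (l • ·) ?_
      rw [mul_assoc, h1, ← mul_assoc, Units.inv_mul, one_mul, ← extRep_push φ ((1 : L) ⊗ₜ[k] a), extRep_tmul,
        one_smul]
      rfl
  refine Iff.trans ?_ (mem_ker_rowDev _ (by simp [hi] : (σ ∘ ((v (Function.ne_iff.mp hv).choose)⁻¹ • v))
    (Function.ne_iff.mp hv).choose = 1)).symm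
  have hs : (σ : L →ₐ[k] L) ∘ ((v (Function.ne_iff.mp hv).choose)⁻¹ • v) =
      σ ((v (Function.ne_iff.mp hv).choose)⁻¹) • (σ ∘ v) := funext fun j => by simp
  simp only [hext]
  constructor
  · rintro ⟨a, ha⟩
    refine ⟨σ (v (Function.ne_iff.mp hv).choose) • Matrix.mulVec (↑g⁻¹ : Matrix _ _ L) a, ?_⟩
    rw [ha, Matrix.mul_vecMulVec, Matrix.vecMulVec_mul, Matrix.vecMul_vecMul, Units.inv_mul, Matrix.vecMul_one]
    have hne : σ (v (Function.ne_iff.mp hv).choose) ≠ 0 := (map_ne_zero σ).mpr (Function.ne_iff.mp hv).choose_spec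
    ext p q
    simp [Matrix.vecMulVec_apply, Function.comp, (Function.ne_iff.mp hv).choose_spec]
    field_simp
  · rintro ⟨a, ha⟩
    refine ⟨σ ((v (Function.ne_iff.mp hv).choose)⁻¹) • Matrix.mulVec (g : Matrix _ _ L) a, ?_⟩
    have h2 := congrArg (fun M => (g : Matrix (Fin (n + 1)) (Fin (n + 1)) L) * M * (↑g⁻¹ : Matrix _ _ L)) ha
    simp only [← mul_assoc, Units.mul_inv, one_mul] at h2
    rw [mul_assoc, Units.mul_inv, mul_one] at h2
    rw [h2, Matrix.mul_vecMulVec, Matrix.vecMulVec_mul]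
    ext p q
    simp [Matrix.vecMulVec_apply, Function.comp, Matrix.vecMul, dotProduct, Finset.mul_sum]
    exact Finset.sum_congr rfl fun _ _ => by ring

include φ hd in
theorem eq_unitHom (θ : X ⟶ X) [IsIso θ] (hθ : θ ≫ f = f) : ∃ u : Aˣ, θ = unitHom str u := by
  classical
  obtain ⟨T, hT, hTF, hTr⟩ := exists_matrix φ hd str θ hθ
  let t := φ.symm T
  have hφt : φ t = T := φ.apply_symm_apply T
  have hfix : ∀ σ : L ≃ₐ[k] L, ∃ c : L, galAct σ A t = c • t := by
    intro σ
    obtain ⟨g, hg⟩ := exists_twist φ σ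
    have hTσ : IsUnit (T.map σ) := hT.map (σ : L →+* L).mapMatrix
    obtain ⟨c, hc⟩ := exists_smul_of_forall
      (P := T.map σ * (↑g⁻¹ : Matrix _ _ L)) (Q := (↑g⁻¹ : Matrix _ _ L) * T) (g⁻¹.isUnit.mul hT) (fun x hx => by
      obtain ⟨v, hv, rfl⟩ : ∃ v : Fin (n + 1) → L, v ≠ 0 ∧ σ ∘ v = x :=
        ⟨σ.symm ∘ x, fun h0 => hx (funext fun j => by simpa using congrArg σ (congrFun h0 j)), funext fun j => by simp⟩
      have hσ : ∀ w : Fin (n + 1) → L, w ≠ 0 → Matrix.vecMul (σ ∘ w) (↑g⁻¹ : Matrix (Fin (n + 1)) (Fin (n + 1)) L) ≠ 0 := fun w hw =>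
        vecMul_ne_zero g⁻¹.isUnit (fun h0 => hw (funext fun j => (map_eq_zero σ).mp (congrFun h0 j)) : (σ ∘ w : Fin (n + 1) → L) ≠ 0)
      have h1 := endAct_natural str θ hθ (σ : L →ₐ[k] L) (rowL φ v hv) (rowL φ _ (hσ v hv))
        (map_rowL φ σ g hg v hv (hσ v hv))
      rw [hTr, hTr, ← map_rowL φ σ g hg _ _ (hσ _ (vecMul_ne_zero hT hv))] at h1
      obtain ⟨c, hc⟩ := exists_smul_of_rowL_eq φ _ _ (Subtype.ext (Module.Grassmannian.ext h1))
      refine ⟨c, ?_⟩
      rw [← Matrix.vecMul_vecMul, ← Matrix.vecMul_vecMul, ← hc]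
      congr 1
      exact (funext fun j => by simp [Matrix.vecMul, dotProduct]))
    refine ⟨c, φ.injective ?_⟩
    rw [map_smul, hφt]
    refine g.isUnit.mul_right_cancel ?_
    rw [hg, hφt]
    calc (g : Matrix (Fin (n + 1)) (Fin (n + 1)) L) * T.map σ
        = (g : Matrix (Fin (n + 1)) (Fin (n + 1)) L) * (T.map σ * (↑g⁻¹ : Matrix _ _ L)) * (g : Matrix _ _ L) := by
          simp [mul_assoc]
      _ = _ := by rw [hc, Matrix.mul_smul, ← mul_assoc, Units.mul_inv, one_mul]
  obtain ⟨lin, hlin⟩ : ∃ lin : A →ₗ[k] k, (Algebra.TensorProduct.rid k L L) (lin.baseChange L t) ≠ 0 := by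
    haveI : FiniteDimensional k A := Module.finite_of_finrank_pos (by rw [hd]; positivity)
    let b := Module.finBasis k A
    have ht : t ≠ 0 := fun h0 => hT.ne_zero (by rw [← hφt, h0, map_zero])
    obtain ⟨i, hi⟩ : ∃ i, (b.baseChange L).repr t i ≠ 0 := by
      by_contra! h0
      exact ht ((b.baseChange L).repr.injective (Finsupp.ext fun i => by simp [h0 i]))
    refine ⟨b.coord i, fun h0 => hi (Eq.trans ?_ h0)⟩
    clear hi h0
    induction t using TensorProduct.induction_on with
    | zero => simp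
    | add x y hx hy => simp only [map_add, Finsupp.add_apply, hx, hy]
    | tmul l a => simp [Basis.baseChange_repr_tmul, mul_comm, Algebra.smul_def]
  let coef : L ⊗[k] A → L := fun x => (Algebra.TensorProduct.rid k L L) (lin.baseChange L x)
  have hcoef : ∀ (σ : L ≃ₐ[k] L) x, coef (galAct σ A x) = σ (coef x) := by
    intro σ x
    induction x using TensorProduct.induction_on with
    | zero => simp [coef]
    | add a b ha hb => simp only [coef, map_add] at *; rw [ha, hb]
    | tmul l a => simp [coef]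
  let l := coef t
  obtain ⟨a, ha⟩ := mem_of_galAct_fixed (K := L) (l⁻¹ • t) fun σ => by
    obtain ⟨c, hc⟩ := hfix σ
    have hσl : σ l = c * l := by
      rw [← hcoef, hc]; simp [coef, l]
    have hc0 : c ≠ 0 := fun h0 => hlin (by
      have := hσl; rw [h0, zero_mul] at this; exact (map_eq_zero σ).mp this)
    rw [galAct_smul, hc, map_inv₀, hσl, smul_smul]
    congr 1
    field_simp
  have hau : IsUnit ((1 : L) ⊗ₜ[k] a : L ⊗[k] A) := by
    rw [← ha, Algebra.smul_def]
    exact ((isUnit_iff_ne_zero.mpr (inv_ne_zero hlin)).map _).mul (hT.map φ.symm)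
  have haA : IsUnit a := by
    haveI : FiniteDimensional k A := Module.finite_of_finrank_pos (by rw [hd]; positivity)
    have hinj : Function.Injective (LinearMap.mulLeft k a) := fun x y hxy => by
      refine Algebra.TensorProduct.includeRight_injective (A := L) (algebraMap k L).injective ?_
      refine hau.mul_left_cancel ?_
      simpa using congrArg (fun z => (1 : L) ⊗ₜ[k] z) hxy
    obtain ⟨b, hb⟩ := LinearMap.surjective_of_injective hinj 1
    exact ⟨⟨a, b, hb, hinj (show a * (b * a) = a * 1 by rw [← mul_assoc, show a * b = 1 from hb, one_mul, mul_one])⟩, rfl⟩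
  refine ⟨haA.unit⁻¹, ?_⟩
  haveI : IsIso (unitHom str haA.unit⁻¹) :=
    ⟨unitHom str haA.unit, by rw [← unitHom_mul, mul_inv_cancel, unitHom_one],
      by rw [← unitHom_mul, inv_mul_cancel, unitHom_one]⟩
  obtain ⟨T', hT', hTF', hTr'⟩ := exists_matrix φ hd str (unitHom str haA.unit⁻¹) (unitHom_comp str _)
  obtain ⟨c, hc⟩ := exists_smul_of_forall (P := T') (Q := T) hT (fun v hv => by
    have h1 := hTr' v hv
    rw [endAct_unitHom, actSet_rowL] at h1
    obtain ⟨d, hd'⟩ := exists_smul_of_rowL_eq φ _ _ h1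
    refine ⟨d * l⁻¹, ?_⟩
    rw [hd', inv_inv, IsUnit.unit_spec, ← ha, map_smul, hφt, Matrix.vecMul_smul, smul_smul])
  have hc0 : c ≠ 0 := fun h0 => hT'.ne_zero (by rw [hc, h0, zero_smul])
  have heq : linMap (RingHom.id L) T' hT' = linMap (RingHom.id L) T hT :=
    (linMap_congr rfl hc).trans (linMap_smul _ hT hc0)
  have hBC : endBC θ hθ L = endBC (unitHom str haA.unit⁻¹) (unitHom_comp str _) L := by
    haveI := isIso_fromProj (repOver φ L) (extRep_repOver_surjective φ L) hd str
    rw [← cancel_epi (fromProj (repOver φ L) (extRep_repOver_surjective φ L) str), hTF, hTF', heq]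
  haveI := effectiveEpi_proj (K := L) f
  rw [← cancel_epi (BrSev.proj f L)]
  have h1 := congrArg (· ≫ BrSev.proj f L) hBC
  simp only [endBC, pullback.lift_fst] at h1
  exact h1

include φ hd in
theorem unitHom_eq_id_iff [Nontrivial A] (u : Aˣ) : unitHom str u = 𝟙 X ↔ ∃ c : kˣ, Units.map (algebraMap k A : k →* A) c = u := by
  constructor
  · intro hu
    have hrow : ∀ v : Fin (n + 1) → L, v ≠ 0 → ∃ c : L,
        Matrix.vecMul v (φ ((1 : L) ⊗ₜ[k] (↑u⁻¹ : A))) = c • Matrix.vecMul v 1 := fun v hv => by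
      have h1 : actSet u (rowL φ v hv) = rowL φ v hv := by
        rw [← endAct_unitHom str u, endAct]
        refine (congrArg (str.bij L) (Subtype.ext ?_)).trans ((str.bij L).apply_symm_apply _)
        show _ ≫ unitHom str u = _
        rw [hu, Category.comp_id]
      rw [actSet_rowL] at h1
      obtain ⟨c, hc⟩ := exists_smul_of_rowL_eq φ _ _ h1.symm
      exact ⟨c, by rw [Matrix.vecMul_one, hc]⟩
    obtain ⟨c, hc⟩ := exists_smul_of_forall isUnit_one hrow
    have h2 : (1 : L) ⊗ₜ[k] (↑u⁻¹ : A) = c • (1 : L ⊗[k] A) := φ.injective (by rw [map_smul, map_one, hc])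
    have hfix : ∀ σ : L ≃ₐ[k] L, σ c = c := by
      intro σ
      have h3 := congrArg (galAct σ A) h2
      rw [galAct_tmul, map_one, galAct_smul, Algebra.TensorProduct.one_def, galAct_tmul, map_one, h2,
        ← Algebra.TensorProduct.one_def] at h3
      haveI : Nontrivial (L ⊗[k] A) := φ.toRingEquiv.toEquiv.nontrivial
      exact (smul_left_injective L (one_ne_zero : (1 : L ⊗[k] A) ≠ 0) h3).symm
    obtain ⟨c₁, rfl⟩ := IntermediateField.mem_bot.mp ((IsGalois.mem_bot_iff_fixed (F := k) c).mpr hfix)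
    have h4 : (↑u⁻¹ : A) = algebraMap k A c₁ := by
      refine Algebra.TensorProduct.includeRight_injective (A := L) (algebraMap k L).injective ?_
      show (1 : L) ⊗ₜ[k] (↑u⁻¹ : A) = (1 : L) ⊗ₜ[k] algebraMap k A c₁
      rw [h2, algebraMap_smul, Algebra.TensorProduct.one_def]
      rw [← TensorProduct.tmul_smul, ← Algebra.algebraMap_eq_smul_one]
    have hc0 : c₁ ≠ 0 := fun h0 => u⁻¹.ne_zero (by rw [h4, h0, map_zero])
    refine ⟨(Units.mk0 c₁ hc0)⁻¹, ?_⟩
    rw [map_inv, inv_eq_iff_eq_inv]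
    exact Units.ext h4.symm
  · rintro ⟨c, rfl⟩
    refine hom_ext_pts (f := f) fun R _ _ g => ?_
    rw [pts_unitHom, Category.comp_id, actPts]
    have : actSet (Units.map (algebraMap k A : k →* A) c) (str.bij R g) = str.bij R g := sbSet_ext fun x => by
      rw [mem_actSet]
      have he : x * ((1 : R) ⊗ₜ[k] (↑(Units.map (algebraMap k A : k →* A) c) : A)) = (c : k) • x := by
        rw [Units.coe_map, MonoidHom.coe_coe, Algebra.algebraMap_eq_smul_one, TensorProduct.tmul_smul,
          ← Algebra.TensorProduct.one_def, mul_smul_comm, mul_one]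
      rw [he, ← algebraMap_smul R (c : k) x]
      exact ((str.bij R g).1.toSubmodule.smul_mem_iff_of_isUnit (c.isUnit.map (algebraMap k R)))
    rw [this, Equiv.symm_apply_apply]

end Split

end Groth.Agent.Csa25
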