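import Groth.Agent.Csa25.SBAut
import Groth.Agent.Csa25.Splitting
import Groth.Agent.Csa25.Centralizer
import Mathlib.GroupTheory.Transfer
import Mathlib.FieldTheory.IsAlgClosed.AlgebraicClosure
import Mathlib.Algebra.CharP.Lemmas
import Mathlib.GroupTheory.Torsion

/-!
# The automorphism group of a Severi–Brauer variety
-/

set_option autoImplicit false
open scoped TensorProduct commutatorElement
open Module CategoryTheory CategoryTheory.Limits AlgebraicGeometry Polynomial

namespace Groth.Agent.Csa25

universe u v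

/-- The automorphism group of a Severi–Brauer variety is a quotient of the unit group. -/
theorem exists_units_to_aut (k : Type u) [Field k] (A : Type u) [Ring A] [Algebra k A]
    [Algebra.IsCentral k A] [IsSimpleRing A] (n : ℕ) (hn : 0 < n) (hA : finrank k A = n * n)
    {X : Scheme.{u}} (f : X ⟶ Spec (CommRingCat.of k)) (hX : BrSev.IsSBOf k A (n * n - n) f) :
    ∃ ξ : Aˣ →* Aut (Over.mk f), Function.Surjective ξ ∧
      ∀ u : Aˣ, ξ u = 1 ↔ ∃ c : kˣ, Units.map (algebraMap k A : k →* A) c = u := by
  haveI : FiniteDimensional k A := Module.finite_of_finrank_pos (by rw [hA]; positivity)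
  obtain ⟨m, rfl⟩ : ∃ m, n = m + 1 := ⟨n - 1, by omega⟩
  obtain ⟨str⟩ := hX
  obtain ⟨L, hfd, hgal, t, ht, ⟨φ⟩⟩ := exists_galois_splitting k A
  obtain rfl : t = m + 1 := by
    have h := φ.toLinearEquiv.finrank_eq
    rw [Module.finrank_baseChange, hA, Module.finrank_matrix, Fintype.card_fin, Module.finrank_self,
      mul_one] at h
    exact (Nat.mul_self_inj.mp h).symm
  refine ⟨unitAut str, fun g => ?_, fun u => ?_⟩
  · haveI : IsIso g.hom := ⟨g.inv, g.hom_inv_id, g.inv_hom_id⟩
    haveI : IsIso g.hom.left := (Over.forget _).map_isIso g.hom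
    obtain ⟨u, hu⟩ := eq_unitHom φ hA str g.hom.left (Over.w g.hom)
    exact ⟨u, Iso.ext (Over.OverMorphism.ext hu.symm)⟩
  · rw [← unitHom_eq_id_iff φ hA str u, ← unitAut_left str u]
    constructor
    · intro h; rw [h]; rfl
    · intro h; exact Iso.ext (Over.OverMorphism.ext h)

/-- A root of an element of `k`, when `k` has the roots of unity, has a small power in `k`. -/
theorem pow_natDegree_minpoly_mem {k : Type u} [Field k] {K : Type v} [Field K] [Algebra k K] {a : K}
    (ha : a ≠ 0) (hint : IsIntegral k a) {M : ℕ} (hM : 0 < M) (hk : (X ^ M - 1 : k[X]).Splits)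
    (haM : a ^ M ∈ Set.range (algebraMap k K)) :
    a ^ (minpoly k a).natDegree ∈ Set.range (algebraMap k K) := by
  classical
  let Ω := AlgebraicClosure K
  let g := minpoly k a
  obtain ⟨c, hc⟩ := haM
  let b : Ω := algebraMap K Ω a
  have hb : b ≠ 0 := (_root_.map_ne_zero _).mpr ha
  have hroots : ∀ r ∈ (g.map (algebraMap k Ω)).roots, r / b ∈ (algebraMap k Ω).range := by
    intro r hr
    rw [mem_roots (Polynomial.map_ne_zero (minpoly.ne_zero hint)), IsRoot, Polynomial.eval_map] at hr
    have hdvd : g ∣ X ^ M - C c := minpoly.dvd k a (by simp [hc])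
    obtain ⟨q, hq⟩ := hdvd
    have hrM : r ^ M = algebraMap k Ω c := sub_eq_zero.mp (by
      have := congrArg (eval₂ (algebraMap k Ω) r) hq
      simpa [eval₂_mul, g, hr] using this)
    have hone : (r / b) ^ M = 1 := by
      rw [div_pow, hrM, show b ^ M = algebraMap k Ω c from by
        rw [← map_pow, ← hc, ← IsScalarTower.algebraMap_apply]]
      exact div_self (by
        rw [IsScalarTower.algebraMap_apply k K Ω, hc]
        exact (_root_.map_ne_zero _).mpr (pow_ne_zero _ ha))
    have hne : (X ^ M - 1 : k[X]) ≠ 0 := by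
      simpa using X_pow_sub_C_ne_zero hM (1 : k)
    exact hk.mem_range_of_isRoot (f := (X ^ M - 1 : k[X])) hne (i := algebraMap k Ω) (x := r / b) (by
      simp [hone])
  have hsplit : (g.map (algebraMap k Ω)).Splits := IsAlgClosed.splits _
  have hprod : ∀ s : Multiset Ω, (∀ r ∈ s, r / b ∈ (algebraMap k Ω).range) →
      ∃ w : k, s.prod = algebraMap k Ω w * b ^ s.card := by
    intro s
    induction s using Multiset.induction_on with
    | empty => exact fun _ => ⟨1, by simp⟩
    | cons x s ih =>
      intro h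
      obtain ⟨w, hw⟩ := ih fun r hr => h r (Multiset.mem_cons_of_mem hr)
      obtain ⟨v, hv⟩ := h x (Multiset.mem_cons_self x s)
      refine ⟨v * w, ?_⟩
      rw [Multiset.prod_cons, hw, Multiset.card_cons, map_mul, hv, pow_succ]
      rw [show x / b * algebraMap k Ω w * (b ^ Multiset.card s * b) = x * algebraMap k Ω w * b ^ Multiset.card s * (b / b) by ring,
        div_self hb]
      ring
  obtain ⟨w, hw⟩ := hprod _ hroots
  have hcard : (g.map (algebraMap k Ω)).roots.card = g.natDegree := by
    rw [← hsplit.natDegree_eq_card_roots, natDegree_map]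
  have h0 := hsplit.coeff_zero_eq_prod_roots_of_monic ((minpoly.monic hint).map _)
  rw [hw, hcard, natDegree_map, coeff_map] at h0
  have hg0 : g.coeff 0 ≠ 0 := minpoly.coeff_zero_ne_zero hint ha
  have hw0 : w ≠ 0 := fun h => (_root_.map_ne_zero (algebraMap k Ω)).mpr hg0 (by rw [h0, h]; simp)
  refine ⟨((-1) ^ g.natDegree * w)⁻¹ * g.coeff 0, (algebraMap K Ω).injective ?_⟩
  rw [← IsScalarTower.algebraMap_apply, map_mul, h0, map_inv₀, map_mul, map_pow, map_neg, map_one,
    map_pow]
  have : algebraMap k Ω w ≠ 0 := (_root_.map_ne_zero _).mpr hw0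
  rw [← mul_assoc ((-1 : Ω) ^ g.natDegree), inv_mul_cancel_left₀ (mul_ne_zero (pow_ne_zero _ (by simp)) this)]


section Division

variable {k : Type u} [Field k] {D : Type v} [DivisionRing D] [Algebra k D] [Algebra.IsCentral k D]
  [FiniteDimensional k D]

/-- Some power dividing the degree of a radical element lies in `k`. -/
theorem exists_dvd_pow_mem {n : ℕ} (hD : finrank k D = n * n)
    (hk : ∀ m : ℕ, 0 < m → (X ^ m - 1 : k[X]).Splits) {a : D} (ha : a ≠ 0) {M : ℕ} (hM : 0 < M)
    (haM : a ^ M ∈ Set.range (algebraMap k D)) : a ^ n ∈ Set.range (algebraMap k D) := by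
  have hint : IsIntegral k a := IsIntegral.of_finite k a
  haveI : Fact (Irreducible (minpoly k a)) := ⟨minpoly.irreducible hint⟩
  let ι : AdjoinRoot (minpoly k a) →ₐ[k] D :=
    Ideal.Quotient.liftₐ (Ideal.span {minpoly k a}) (aeval a) fun x hx => by
      obtain ⟨q, rfl⟩ := Ideal.mem_span_singleton.mp hx
      simp
  have hι : ι (AdjoinRoot.root (minpoly k a)) = a := aeval_X a
  let α := AdjoinRoot.root (minpoly k a)
  have hinj : Function.Injective ι := RingHom.injective ι.toRingHom
  have hmem : ∀ x, ι x ∈ Set.range (algebraMap k D) ↔ x ∈ Set.range (algebraMap k (AdjoinRoot (minpoly k a))) := by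
    intro x
    constructor
    · rintro ⟨c, hc⟩
      exact ⟨c, hinj (by rw [ι.commutes, hc])⟩
    · rintro ⟨c, rfl⟩
      exact ⟨c, (ι.commutes c).symm⟩
  haveI : FiniteDimensional k (AdjoinRoot (minpoly k a)) := (AdjoinRoot.powerBasis (minpoly.ne_zero hint)).finite
  have hint' : IsIntegral k α := IsIntegral.of_finite k α
  have hmp : minpoly k α = minpoly k a := by
    exact (minpoly.algHom_eq ι hinj α).symm.trans (congrArg (minpoly k) hι)
  have h1 := pow_natDegree_minpoly_mem (a := α) (fun h => ha (by rw [← hι]; exact (congrArg ι h).trans (map_zero ι)))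
    hint' hM (hk M hM) ((hmem _).mp (by rw [map_pow, hι]; exact haM))
  have hd : finrank k (AdjoinRoot (minpoly k a)) = (minpoly k α).natDegree := by
    rw [(AdjoinRoot.powerBasis (minpoly.ne_zero hint)).finrank, AdjoinRoot.powerBasis_dim, hmp]
  have hdvd : finrank k (AdjoinRoot (minpoly k a)) ∣ n := by
    have h := finrank_mul_finrank_centralizer (k := k) ι
    let C := Subalgebra.centralizer k (Set.range ι)
    let j : AdjoinRoot (minpoly k a) →ₐ[k] C := ι.codRestrict C fun x => by
      rw [Subalgebra.mem_centralizer_iff]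
      rintro _ ⟨y, rfl⟩
      rw [← map_mul, ← map_mul, mul_comm]
    letI : Module (AdjoinRoot (minpoly k a)) C := Module.compHom C j.toRingHom
    haveI : IsScalarTower k (AdjoinRoot (minpoly k a)) C :=
      ⟨fun r x y => by
        show j (r • x) * y = r • (j x * y)
        rw [map_smul, smul_mul_assoc]⟩
    rw [← Module.finrank_mul_finrank k (AdjoinRoot (minpoly k a)) C, ← mul_assoc, hD] at h
    exact (Nat.pow_dvd_pow_iff two_ne_zero).mp ⟨_, (pow_two n).trans (h.symm.trans (by rw [pow_two]))⟩
  obtain ⟨e, he⟩ := hdvd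
  obtain ⟨c, hc⟩ := (hmem _).mpr h1
  exact ⟨c ^ e, by rw [map_pow, hc, map_pow, hι, ← pow_mul, ← hd, ← he]⟩

end Division

section Commute

variable {k : Type u} [Field k] {D : Type v} [DivisionRing D] [Algebra k D] (p : ℕ) [Fact p.Prime]
  [CharP k p]

include k in
/-- An element with central `p`-power commutes with `b` if it commutes with their commutator. -/
theorem commute_of_commute_commutator {a b : Dˣ} {r : ℕ}
    (ha : ((a : D)) ^ p ^ r ∈ Set.range (algebraMap k D)) (h : Commute a ⁅a, b⁆) : Commute a b := by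
  haveI : CharP D p := charP_of_injective_algebraMap (algebraMap k D).injective p
  set w := ⁅a, b⁆ with hw
  have h1 : a * b * a⁻¹ = w * b := by rw [hw, commutatorElement_def]; group
  have h2 : ∀ i : ℕ, a ^ i * b * (a ^ i)⁻¹ = w ^ i * b := by
    intro i
    induction i with
    | zero => simp
    | succ i ih =>
      have : a ^ (i + 1) * b * (a ^ (i + 1))⁻¹ = a * (a ^ i * b * (a ^ i)⁻¹) * a⁻¹ := by
        rw [pow_succ']; group
      have h3 : a * (w ^ i * b) * a⁻¹ = w ^ i * (a * b * a⁻¹) := by
        rw [← mul_assoc a, (h.pow_right i).eq]; group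
      rw [this, ih, h3, h1, ← mul_assoc, ← pow_succ]
  have h4 : a ^ p ^ r * b = b * a ^ p ^ r := by
    obtain ⟨c, hc⟩ := ha
    apply Units.ext
    rw [Units.val_mul, Units.val_mul, Units.val_pow_eq_pow_val, ← hc]
    exact Algebra.commutes c _
  have h5 : w ^ p ^ r = 1 := by
    have := h2 (p ^ r)
    rw [h4, mul_inv_cancel_right] at this
    exact mul_eq_right.mp this.symm
  have h6 : w = 1 := by
    apply Units.ext
    have h7 : ((w : D) - 1) ^ p ^ r = 0 := by
      rw [sub_pow_char_pow_of_commute (p := p) (n := r) (h := Commute.one_right _), one_pow, ← Units.val_pow_eq_pow_val, h5,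
        Units.val_one, sub_self]
    exact sub_eq_zero.mp (eq_zero_of_pow_eq_zero h7)
  exact commutatorElement_eq_one_iff_mul_comm.mp h6

include k in
/-- The same in the quotient by scalars. -/
theorem commute_of_commute_commutator_image {Γ : Type*} [Group Γ] (ξ : Dˣ →* Γ) (hξ : Function.Surjective ξ)
    (hker : ∀ u : Dˣ, ξ u = 1 ↔ ∃ c : kˣ, Units.map (algebraMap k D : k →* D) c = u) {x y : Γ} {r : ℕ}
    (hx : x ^ p ^ r = 1) (h : Commute x ⁅x, y⁆) : Commute x y := by
  obtain ⟨a, rfl⟩ := hξ x
  obtain ⟨b, rfl⟩ := hξ y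
  have ha : ((a : D)) ^ p ^ r ∈ Set.range (algebraMap k D) := by
    obtain ⟨c, hc⟩ := (hker _).mp (by rw [map_pow]; exact hx)
    exact ⟨c, by rw [← Units.val_pow_eq_pow_val, ← hc]; rfl⟩
  refine (commute_of_commute_commutator (k := k) p ha ?_).map ξ
  refine commute_of_commute_commutator (k := k) p ha ?_
  obtain ⟨c, hc⟩ := (hker ⁅a, ⁅a, b⁆⁆).mp (by
    rw [map_commutatorElement, map_commutatorElement]
    exact commutatorElement_eq_one_iff_mul_comm.mpr h)
  rw [← hc]
  exact Units.ext (Algebra.commutes (c : k) (a : D)).symm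

end Commute

/-- A normal `p`-complement with abelian Sylow subgroup, from the commutator property. -/
theorem exists_normal_complement {Γ : Type*} [Group Γ] (p : ℕ) [Fact p.Prime]
    (hcomm : ∀ (x y : Γ) (r : ℕ), x ^ p ^ r = 1 → Commute x ⁅x, y⁆ → Commute x y) [Finite Γ] :
    ∃ H S : Subgroup Γ, H.Normal ∧ H ⊓ S = ⊥ ∧ H ⊔ S = ⊤ ∧ ¬ p ∣ Nat.card H ∧
      (∀ s ∈ S, ∀ t ∈ S, s * t = t * s) ∧ IsPGroup p S := by
  classical
  let P : Sylow p Γ := default
  have hpow : ∀ x : P, ∃ r : ℕ, (x : Γ) ^ p ^ r = 1 := fun x => by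
    obtain ⟨r, hr⟩ := P.2 x
    exact ⟨r, by rw [← SubgroupClass.coe_pow, hr]; rfl⟩
  have hab : ∀ x y : P, x * y = y * x := by
    by_contra hne
    let Z := Subgroup.center P
    have hnt : Nontrivial (P ⧸ Z) := by
      rw [QuotientGroup.nontrivial_iff]
      intro htop
      exact hne fun x y => (Subgroup.mem_center_iff.mp (htop ▸ Subgroup.mem_top x : x ∈ Z) y).symm
    haveI := (P.2.to_quotient Z).center_nontrivial
    obtain ⟨q, hq⟩ := exists_ne (1 : Subgroup.center (P ⧸ Z))
    obtain ⟨x, hx⟩ := QuotientGroup.mk_surjective (q : P ⧸ Z)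
    have hxZ : x ∈ Z := Subgroup.mem_center_iff.mpr fun y => by
      have hc : ⁅x, y⁆ ∈ Z := by
        rw [← QuotientGroup.eq_one_iff, ← QuotientGroup.mk'_apply, map_commutatorElement,
          commutatorElement_eq_one_iff_mul_comm, QuotientGroup.mk'_apply, hx]
        exact (Subgroup.mem_center_iff.mp q.2 _).symm
      obtain ⟨r, hr⟩ := hpow x
      have h1 : Commute (x : Γ) ⁅(x : Γ), (y : Γ)⁆ := by
        have h2 : Commute x ⁅x, y⁆ := Subgroup.mem_center_iff.mp hc x
        have h3 := h2.map (P : Subgroup Γ).subtype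
        rwa [map_commutatorElement] at h3
      exact Subtype.ext (hcomm _ _ r hr h1).eq.symm
    exact hq (Subtype.ext (hx.symm.trans ((QuotientGroup.eq_one_iff x).mpr hxZ)))
  have hP : Subgroup.normalizer (P : Set Γ) ≤ Subgroup.centralizer (P : Set Γ) := by
    intro g hg
    rw [Subgroup.mem_centralizer_iff]
    intro x hx
    obtain ⟨r, hr⟩ := hpow ⟨x, hx⟩
    have hmem : ⁅x, g⁆ ∈ (P : Subgroup Γ) := by
      rw [commutatorElement_def, mul_assoc, mul_assoc, ← mul_assoc g]
      exact Subgroup.mul_mem _ hx ((Subgroup.mem_normalizer_iff.mp hg _).mp (Subgroup.inv_mem _ hx))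
    exact (hcomm x g r hr (congrArg Subtype.val (hab ⟨x, hx⟩ ⟨_, hmem⟩))).eq
  have hcompl := MonoidHom.ker_transferSylow_isComplement' P hP
  refine ⟨(MonoidHom.transferSylow P hP).ker, P, inferInstance, ?_, hcompl.sup_eq_top,
    MonoidHom.not_dvd_card_ker_transferSylow P hP, fun s hs t ht => congrArg Subtype.val (hab ⟨s, hs⟩ ⟨t, ht⟩), P.2⟩
  exact disjoint_iff.mp (MonoidHom.ker_transferSylow_disjoint P hP _ P.2)

/-- Many finite subgroups from a radical element of degree `p`. -/
theorem exists_finite_subgroup_card_gt {k : Type u} [Field k] [Infinite k] (p : ℕ) [Fact p.Prime] [CharP k p]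
    {A : Type v} [Ring A] [Algebra k A] [Nontrivial A] {Γ : Type*} [Group Γ] (ξ : Aˣ →* Γ)
    (hker : ∀ u : Aˣ, ξ u = 1 ↔ ∃ c : kˣ, Units.map (algebraMap k A : k →* A) c = u)
    {w : A} {b : k} (hw : w ^ p = algebraMap k A b) (hwk : w ∉ Set.range (algebraMap k A)) (N : ℕ) :
    ∃ G : Subgroup Γ, Finite G ∧ N < Nat.card G := by
  classical
  haveI : CharP A p := charP_of_injective_algebraMap (algebraMap k A).injective p
  let T := {c : k // b + c ^ p ≠ 0}
  have hpow : ∀ c : k, (w + algebraMap k A c) ^ p = algebraMap k A (b + c ^ p) := fun c => by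
    rw [map_add, map_pow, ← hw]
    exact add_pow_char_of_commute p (Algebra.commute_algebraMap_right c w)
  haveI : Infinite T := by
    refine not_finite_iff_infinite.mp fun hf => ?_
    haveI : Finite {c : k // b + c ^ p = 0} :=
      Finite.of_injective (β := Unit) (fun _ => ()) fun x y _ => Subtype.ext
        (frobenius_inj k p (by
          show (x : k) ^ p = (y : k) ^ p
          linear_combination x.2 - y.2))
    haveI : Finite {c : k // ¬ b + c ^ p = 0} := hf
    exact not_finite_iff_infinite.mpr ‹Infinite k›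
      (Finite.of_equiv _ (Equiv.sumCompl fun c : k => b + c ^ p = 0))
  have hu : ∀ c : T, IsUnit (w + algebraMap k A c.1) := fun c =>
    (isUnit_pow_iff (Fact.out : p.Prime).ne_zero).mp (by
      rw [hpow]; exact (isUnit_iff_ne_zero.mpr c.2).map _)
  let g : T → Γ := fun c => ξ (hu c).unit
  have hcommu : ∀ c d : T, Commute (hu c).unit (hu d).unit := fun c d => Units.ext (by
    show Commute (w + algebraMap k A c.1) (w + algebraMap k A d.1)
    exact ((Commute.refl w).add_left (Algebra.commute_algebraMap_left _ w)).add_right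
      (Algebra.commute_algebraMap_right _ _))
  have hgp : ∀ c : T, g c ^ p = 1 := fun c => by
    rw [← map_pow]
    refine (hker _).mpr ⟨Units.mk0 _ c.2, Units.ext ?_⟩
    show algebraMap k A (b + c.1 ^ p) = _
    rw [Units.val_pow_eq_pow_val, IsUnit.unit_spec, hpow]
  have hginj : Function.Injective g := by
    intro c d hcd
    obtain ⟨e, he⟩ := (hker ((hu c).unit⁻¹ * (hu d).unit)).mp (by rw [map_mul, map_inv]; exact inv_mul_eq_one.mpr hcd)
    have h1 : (w + algebraMap k A c.1) * algebraMap k A (e : k) = w + algebraMap k A d.1 := by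
      have := congrArg Units.val (congrArg ((hu c).unit * ·) he)
      rw [mul_inv_cancel_left] at this
      exact this
    rw [add_mul, ← map_mul, ← Algebra.commutes] at h1
    have h2 : ((e : k) - 1) • w = algebraMap k A (d.1 - c.1 * e) := by
      rw [Algebra.smul_def, map_sub, map_sub, map_one, sub_mul, one_mul]
      linear_combination (norm := abel) h1
    rcases eq_or_ne ((e : k) - 1) 0 with h0 | h0
    · rw [h0, zero_smul, sub_eq_zero.mp h0, mul_one] at h2
      exact Subtype.ext (sub_eq_zero.mp ((algebraMap k A).injective (h2.symm.trans (map_zero _).symm))).symm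
    · exact absurd ⟨((e : k) - 1)⁻¹ * (d.1 - c.1 * e), by
        rw [map_mul, ← h2, ← Algebra.smul_def, smul_smul, inv_mul_cancel₀ h0, one_smul]⟩ hwk
  obtain ⟨s, hs⟩ := Infinite.exists_subset_card_eq T (N + 1)
  let G := Subgroup.closure (g '' (s : Set T))
  haveI : IsMulCommutative G := Subgroup.isMulCommutative_closure (by
    rintro _ ⟨c, -, rfl⟩ _ ⟨d, -, rfl⟩
    exact ((hcommu c d).map ξ).eq)
  letI : CommGroup G := CommGroup.mk IsMulCommutative.is_comm.comm
  have htor : Monoid.IsTorsion G := fun x => isOfFinOrder_iff_pow_eq_one.mpr ⟨p, (Fact.out : p.Prime).pos, by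
    obtain ⟨x, hx⟩ := x
    induction hx using Subgroup.closure_induction with
    | mem y hy => obtain ⟨c, -, rfl⟩ := hy; exact Subtype.ext (hgp c)
    | one => exact one_pow p
    | mul y z hy hz ihy ihz =>
      exact (mul_pow (⟨y, hy⟩ : G) ⟨z, hz⟩ p).trans (by rw [ihy, ihz, one_mul])
    | inv y hy ih => exact (inv_pow (⟨y, hy⟩ : G) p).trans (by rw [ih, inv_one])⟩
  haveI : Group.FG G := by
    rw [Group.fg_iff_subgroup_fg, Subgroup.fg_iff]
    exact ⟨_, rfl, s.finite_toSet.image g⟩
  haveI : Finite G := CommGroup.finite_of_fg_torsion _ htor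
  refine ⟨G, inferInstance, ?_⟩
  have := Nat.card_le_card_of_injective (fun c : s => (⟨g c.1, Subgroup.subset_closure ⟨c.1, c.2, rfl⟩⟩ : G))
    fun c d h => Subtype.ext (hginj (congrArg Subtype.val h))
  rw [Nat.card_eq_fintype_card, Fintype.card_coe, hs] at this
  omega

end Groth.Agent.Csa25
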