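import Groth.Agent.Csa25.SBLocal

/-!
# Standard charts of a split Severi–Brauer scheme
-/

set_option autoImplicit false
open scoped TensorProduct
open Module CategoryTheory CategoryTheory.Limits AlgebraicGeometry

namespace Groth.Agent.Csa25

universe u

/-- A monomorphism with local sections around its image is an open immersion. -/
theorem isOpenImmersion_of_mono_of_local_sections {P Y : Scheme.{u}} (c : P ⟶ Y) [Mono c]
    (hloc : ∀ p, ∃ W : Y.Opens, c p ∈ W ∧ ∃ s : (W : Scheme.{u}) ⟶ P, s ≫ c = W.ι) :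
    IsOpenImmersion c := by
  classical
  choose W hW s hs using hloc
  let U : Y.Opens := ⨆ p, W p
  have hrange : Set.range c ⊆ Set.range U.ι := by
    rw [Scheme.Opens.range_ι]
    rintro _ ⟨p, rfl⟩
    exact TopologicalSpace.Opens.mem_iSup.mpr ⟨p, hW p⟩
  let c' := IsOpenImmersion.lift U.ι c hrange
  have hc' : c' ≫ U.ι = c := IsOpenImmersion.lift_fac _ _ _
  have : Mono c' := mono_of_mono_fac hc'
  let V : P → (U : Scheme.{u}).Opens := fun p => U.ι ⁻¹ᵁ W p
  have hV : TopologicalSpace.IsOpenCover V := by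
    refine TopologicalSpace.Opens.ext (Set.eq_univ_of_forall fun x => ?_)
    obtain ⟨p, hp⟩ := TopologicalSpace.Opens.mem_iSup.mp (show U.ι x ∈ U from x.2)
    exact TopologicalSpace.Opens.mem_iSup.mpr ⟨p, hp⟩
  let 𝒰 := (U : Scheme.{u}).openCoverOfIsOpenCover V hV
  obtain ⟨t, ht⟩ : ∃ t : ∀ p, 𝒰.X p ⟶ P, ∀ p, t p ≫ c = 𝒰.f p ≫ U.ι :=
    ⟨fun p => (U.ι ∣_ W p) ≫ s p, fun p => by
      show ((U.ι ∣_ W p) ≫ s p) ≫ c = (V p).ι ≫ U.ι
      rw [Category.assoc, hs, morphismRestrict_ι]⟩
  let g : (U : Scheme.{u}) ⟶ P := 𝒰.glueMorphisms t fun p q => by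
    rw [← cancel_mono c, Category.assoc, Category.assoc, ht, ht, pullback.condition_assoc]
  have hg : g ≫ c' = 𝟙 _ := 𝒰.hom_ext _ _ fun p => by
    rw [Scheme.Cover.ι_glueMorphisms_assoc, ← cancel_mono U.ι, Category.assoc, hc', ht]
    simp
  have hg' : c' ≫ g = 𝟙 _ := by rw [← cancel_mono c', Category.assoc, hg]; simp
  have : IsIso c' := ⟨g, hg', hg⟩
  rw [← hc']
  infer_instance

variable {k : Type u} [Field k] {A : Type u} [Ring A] [Algebra k A] {n : ℕ}
  {S : Type u} [CommRing S] [Algebra k S] (h : A →ₐ[k] Matrix (Fin (n + 1)) (Fin (n + 1)) S)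
  {X : Scheme.{u}} {f : X ⟶ Spec (CommRingCat.of k)}
  (str : BrSev.SBStr k A ((n + 1) * (n + 1) - (n + 1)) f)

local notation "c₀" => (n + 1) * (n + 1) - (n + 1)

section Points

variable {T : Type u} [CommRing T] [Algebra k T] [Algebra S T] [IsScalarTower k S T]

/-- The morphism to the base change attached to a point. -/
noncomputable def toXS (J : BrSev.SBSet k A c₀ T) : Spec (CommRingCat.of T) ⟶ BrSev.bc f S :=
  pullback.lift ((str.bij T).symm J).1 (Spec.map (CommRingCat.ofHom (algebraMap S T))) (by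
    rw [((str.bij T).symm J).2, ← Spec.map_comp, ← CommRingCat.ofHom_comp, ← IsScalarTower.algebraMap_eq])

theorem toXS_bcTo (J : BrSev.SBSet k A c₀ T) :
    toXS (S := S) str J ≫ BrSev.bcTo f S = Spec.map (CommRingCat.ofHom (algebraMap S T)) :=
  pullback.lift_snd _ _ _

theorem toXS_proj (J : BrSev.SBSet k A c₀ T) : toXS (S := S) str J ≫ BrSev.proj f S = ((str.bij T).symm J).1 :=
  pullback.lift_fst _ _ _

theorem toXS_injective {J J' : BrSev.SBSet k A c₀ T} (he : toXS (S := S) str J = toXS (S := S) str J') : J = J' :=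
  (str.bij T).symm.injective (Subtype.ext (by rw [← toXS_proj (S := S) str J, he, toXS_proj (S := S) str J']))

theorem exists_eq_toXS (γ : Spec (CommRingCat.of T) ⟶ BrSev.bc f S)
    (hγ : γ ≫ BrSev.bcTo f S = Spec.map (CommRingCat.ofHom (algebraMap S T))) :
    ∃ J, γ = toXS (S := S) str J := by
  have hp : (γ ≫ BrSev.proj f S) ≫ f = Spec.map (CommRingCat.ofHom (algebraMap k T)) := by
    rw [Category.assoc, pullback.condition, ← Category.assoc, hγ, ← Spec.map_comp, ← CommRingCat.ofHom_comp,
      ← IsScalarTower.algebraMap_eq]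
  refine ⟨str.bij T ⟨γ ≫ BrSev.proj f S, hp⟩, pullback.hom_ext ?_ ?_⟩
  · exact ((toXS_proj (S := S) str (str.bij T ⟨_, hp⟩)).trans
      (congrArg Subtype.val ((str.bij T).symm_apply_apply _))).symm
  · exact hγ.trans (toXS_bcTo (S := S) str _).symm

variable {T' : Type u} [CommRing T'] [Algebra k T'] [Algebra S T'] [IsScalarTower k S T']

theorem toXS_map (ψ : T →ₐ[S] T') (J : BrSev.SBSet k A c₀ T) :
    ∃ J' : BrSev.SBSet k A c₀ T',
      Spec.map (CommRingCat.ofHom (ψ : T →+* T')) ≫ toXS (S := S) str J = toXS (S := S) str J' ∧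
      J'.1.toSubmodule = (Module.Grassmannian.map (ψ.restrictScalars k) J.1).toSubmodule := by
  refine ⟨str.bij T' (BrSev.Pts.map f (ψ.restrictScalars k) ((str.bij T).symm J)),
    pullback.hom_ext ?_ ?_, by rw [str.natural, Equiv.apply_symm_apply]⟩
  · refine ((Category.assoc _ _ _).trans ?_).trans (toXS_proj (S := S) str _).symm
    rw [Equiv.symm_apply_apply]
    exact congrArg (_ ≫ ·) (toXS_proj (S := S) str J)
  · refine ((Category.assoc _ _ _).trans ?_).trans (toXS_bcTo (S := S) str _).symm
    rw [show pullback.snd f _ = BrSev.bcTo f S from rfl, toXS_bcTo, ← Spec.map_comp, ← CommRingCat.ofHom_comp]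
    congr 2
    exact ψ.comp_algebraMap

variable (hs : Function.Surjective (extRep h))

/-- The morphism attached to a vector with an entry one. -/
noncomputable def vecXS (η : Fin (n + 1) → T) (i : Fin (n + 1)) (hi : η i = 1) :
    Spec (CommRingCat.of T) ⟶ BrSev.bc f S :=
  toXS (S := S) str (rowPoint (pushRep h T) (pushRep_surjective h hs T) η i hi)

theorem specMap_vecXS (ψ : T →ₐ[S] T') (η : Fin (n + 1) → T) (i : Fin (n + 1)) (hi : η i = 1) :
    Spec.map (CommRingCat.ofHom (ψ : T →+* T')) ≫ vecXS h str hs η i hi =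
      vecXS h str hs (ψ ∘ η) i (by simp [hi]) := by
  obtain ⟨J', hJ', hsub⟩ := toXS_map str ψ (rowPoint (pushRep h T) (pushRep_surjective h hs T) η i hi)
  rw [vecXS, hJ']
  refine congrArg (toXS (S := S) str) (Subtype.ext (Module.Grassmannian.ext ?_))
  rw [hsub, map_rowPoint, pushRep_comp]
  rfl

theorem vecXS_congr {η η' : Fin (n + 1) → T} {i i' : Fin (n + 1)} {hi : η i = 1} {hi' : η' i' = 1}
    (hp : ∀ j, η j = η i' * η' j) : vecXS h str hs η i hi = vecXS h str hs η' i' hi' :=
  congrArg (toXS (S := S) str) (rowPoint_eq_of_eq_mul _ _ hi hi' hp)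

theorem eq_of_vecXS_eq {η η' : Fin (n + 1) → T} {i i' : Fin (n + 1)} {hi : η i = 1} {hi' : η' i' = 1}
    (he : vecXS h str hs η i hi = vecXS h str hs η' i' hi') (j : Fin (n + 1)) : η j = η i' * η' j :=
  eq_mul_of_rowPoint_eq _ _ hi hi' (congrArg (fun J => J.1.toSubmodule) (toXS_injective str he)) j

end Points

variable (S) in
/-- The coordinate ring of the `i`th chart. -/
abbrev chartRing (i : Fin (n + 1)) : Type u := MvPolynomial {j : Fin (n + 1) // j ≠ i} S

variable (S) in
/-- The generic vector of the `i`th chart. -/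
noncomputable def chartVec (i : Fin (n + 1)) : Fin (n + 1) → chartRing S i :=
  fun j => if hj : j = i then 1 else MvPolynomial.X ⟨j, hj⟩

theorem chartVec_self (i : Fin (n + 1)) : chartVec S i i = 1 := dif_pos rfl

theorem aeval_chartVec {T : Type u} [CommRing T] [Algebra S T] {η : Fin (n + 1) → T} {i : Fin (n + 1)}
    (hi : η i = 1) (j : Fin (n + 1)) :
    MvPolynomial.aeval (fun j : {j // j ≠ i} => η j) (chartVec S i j) = η j := by
  by_cases hj : j = i
  · subst hj; simp [chartVec, hi]
  · rw [chartVec, dif_neg hj, MvPolynomial.aeval_X]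

variable (hs : Function.Surjective (extRep h))

/-- The `i`th chart. -/
noncomputable def chart (i : Fin (n + 1)) : Spec (CommRingCat.of (chartRing S i)) ⟶ BrSev.bc f S :=
  vecXS h str hs (chartVec S i) i (chartVec_self i)

theorem vecXS_eq_comp_chart {T : Type u} [CommRing T] [Algebra k T] [Algebra S T] [IsScalarTower k S T]
    (η : Fin (n + 1) → T) (i : Fin (n + 1)) (hi : η i = 1) :
    vecXS h str hs η i hi =
      Spec.map (CommRingCat.ofHom ((MvPolynomial.aeval fun j : {j // j ≠ i} => η j : chartRing S i →ₐ[S] T) :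
        chartRing S i →+* T)) ≫ chart h str hs i := by
  rw [chart, specMap_vecXS]
  congr 1
  exact funext fun j => (aeval_chartVec hi j).symm

theorem mono_chart (i : Fin (n + 1)) : Mono (chart h str hs i) := by
  refine ⟨fun {W} a b hab => W.affineCover.hom_ext _ _ fun x => ?_⟩
  suffices H : ∀ (T : CommRingCat.{u}) (α β : CommRingCat.of (chartRing S i) ⟶ T),
      Spec.map α ≫ chart h str hs i = Spec.map β ≫ chart h str hs i → α = β by
    obtain ⟨α, hα⟩ := Spec.map_surjective (W.affineCover.f x ≫ a)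
    obtain ⟨β, hβ⟩ := Spec.map_surjective (W.affineCover.f x ≫ b)
    refine hα.symm.trans ((congrArg Spec.map (H _ α β ?_)).trans hβ)
    rw [hα, hβ]
    exact (Category.assoc _ _ _).trans ((congrArg (_ ≫ ·) hab).trans (Category.assoc _ _ _).symm)
  intro T α β he
  letI : Algebra S T := (α.hom.comp (algebraMap S (chartRing S i))).toAlgebra
  letI : Algebra k T := ((algebraMap S T).comp (algebraMap k S)).toAlgebra
  haveI : IsScalarTower k S T := IsScalarTower.of_algebraMap_eq fun _ => rfl
  have hS : β.hom.comp (algebraMap S (chartRing S i)) = α.hom.comp (algebraMap S (chartRing S i)) := by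
    have h1 := congrArg (· ≫ BrSev.bcTo f S) he
    simp only [Category.assoc, chart, vecXS, toXS_bcTo, ← Spec.map_comp] at h1
    exact (congrArg CommRingCat.Hom.hom (Spec.map_injective h1)).symm
  let α' : chartRing S i →ₐ[S] T := { α.hom with commutes' := fun s => rfl }
  let β' : chartRing S i →ₐ[S] T := { β.hom with commutes' := fun s => RingHom.congr_fun hS s }
  have e1 : vecXS h str hs (α' ∘ chartVec S i) i (by simp [chartVec_self]) =
      vecXS h str hs (β' ∘ chartVec S i) i (by simp [chartVec_self]) := by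
    rw [← specMap_vecXS h str hs α' (chartVec S i) i (chartVec_self i),
      ← specMap_vecXS h str hs β' (chartVec S i) i (chartVec_self i)]
    exact he
  have e2 : α' = β' := MvPolynomial.algHom_ext fun j => by
    have := eq_of_vecXS_eq h str hs e1 j.1
    simpa [chartVec, j.2, chartVec_self] using this
  exact CommRingCat.hom_ext (RingHom.ext fun r => DFunLike.congr_fun e2 r)

variable (hd : finrank k A = (n + 1) * (n + 1))

include hd in
theorem exists_local_factor {T : Type u} [CommRing T] [Algebra k T] [Algebra S T] [IsScalarTower k S T]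
    (J : BrSev.SBSet k A c₀ T) {t : T ⊗[k] A} (ht : t ∈ J.1.toSubmodule) (a i : Fin (n + 1)) (u : T)
    (hu : extRep (pushRep h T) t a i = u) :
    ∃ s : Spec (CommRingCat.of (Localization.Away u)) ⟶ Spec (CommRingCat.of (chartRing S i)),
      s ≫ chart h str hs i =
        Spec.map (CommRingCat.ofHom (algebraMap T (Localization.Away u))) ≫ toXS (S := S) str J := by
  let T' := Localization.Away u
  let ψ : T →ₐ[S] T' := IsScalarTower.toAlgHom S T T'
  obtain ⟨J', hJ', hsub⟩ := toXS_map str ψ J
  have ht' : Algebra.TensorProduct.map (ψ.restrictScalars k) (AlgHom.id k A) t ∈ J'.1.toSubmodule := by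
    rw [hsub]; exact mem_map_of_mem _ J.1 ht
  have hu' : IsUnit (extRep (pushRep h T') (Algebra.TensorProduct.map (ψ.restrictScalars k) (AlgHom.id k A) t) a i) := by
    rw [← pushRep_comp h ψ, extRep_map]
    show IsUnit (algebraMap T T' (extRep (pushRep h T) t a i))
    rw [hu]
    exact IsLocalization.Away.algebraMap_isUnit u
  obtain ⟨η, hi, hJ⟩ := eq_rowPoint_of_isUnit _ hd (pushRep_surjective h hs T') J' ht' hu'
  refine ⟨_, ((vecXS_eq_comp_chart h str hs η i hi).symm.trans ?_).trans hJ'.symm⟩
  rw [hJ]; rfl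

include hd in
theorem mem_range_chart_iff {T : Type u} [CommRing T] [Algebra k T] [Algebra S T] [IsScalarTower k S T]
    (J : BrSev.SBSet k A c₀ T) (x : Spec (CommRingCat.of T)) (i : Fin (n + 1)) :
    toXS (S := S) str J x ∈ Set.range (chart h str hs i) ↔
      ∃ t ∈ J.1.toSubmodule, ∃ a, extRep (pushRep h T) t a i ∉ x.asIdeal := by
  constructor
  · rintro ⟨q, hq⟩
    by_contra hne
    push Not at hne
    obtain ⟨z, hz1, hz2⟩ := Scheme.Pullback.exists_preimage_pullback x q hq.symm
    let P := pullback (toXS (S := S) str J) (chart h str hs i)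
    let Ω : Type u := P.residueField z
    obtain ⟨α, hα⟩ := Spec.map_surjective (P.fromSpecResidueField z ≫ pullback.fst _ _)
    obtain ⟨β, hβ⟩ := Spec.map_surjective (P.fromSpecResidueField z ≫ pullback.snd _ _)
    letI : Algebra S Ω := (α.hom.comp (algebraMap S T)).toAlgebra
    letI : Algebra k Ω := ((algebraMap S Ω).comp (algebraMap k S)).toAlgebra
    haveI : IsScalarTower k S Ω := IsScalarTower.of_algebraMap_eq fun _ => rfl
    have he : Spec.map α ≫ toXS (S := S) str J = Spec.map β ≫ chart h str hs i := by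
      rw [hα, hβ, Category.assoc, Category.assoc, pullback.condition]
    have hS : β.hom.comp (algebraMap S (chartRing S i)) = α.hom.comp (algebraMap S T) := by
      have h1 := congrArg (· ≫ BrSev.bcTo f S) he
      simp only [Category.assoc, chart, vecXS, toXS_bcTo, ← Spec.map_comp] at h1
      exact (congrArg CommRingCat.Hom.hom (Spec.map_injective h1)).symm
    let α' : T →ₐ[S] Ω := { α.hom with commutes' := fun s => rfl }
    let β' : chartRing S i →ₐ[S] Ω := { β.hom with commutes' := fun s => RingHom.congr_fun hS s }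
    obtain ⟨J', hJ', hsub⟩ := toXS_map str α' J
    have hJ'' : J' = rowPoint (pushRep h Ω) (pushRep_surjective h hs Ω) (β' ∘ chartVec S i) i
        (by simp [chartVec_self]) := by
      refine toXS_injective (S := S) str ?_
      rw [← hJ']
      exact he.trans (specMap_vecXS h str hs β' (chartVec S i) i (chartVec_self i))
    have hker : ∀ r ∈ x.asIdeal, α'.restrictScalars k r = 0 := by
      intro r hr
      have hx : Spec.map α (IsLocalRing.closedPoint Ω) = x := by
        rw [hα, Scheme.Hom.comp_apply, Scheme.fromSpecResidueField_apply, hz1]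
      rw [← hx] at hr
      have h0 : IsLocalRing.maximalIdeal Ω = ⊥ := IsLocalRing.maximalIdeal_eq_bot
      have : α.hom r ∈ IsLocalRing.maximalIdeal Ω := hr
      rw [h0] at this
      exact this
    obtain ⟨s, hs0⟩ := pushRep_surjective h hs Ω (Matrix.vecMulVec (Pi.single i 1) (β' ∘ chartVec S i))
    have hmem : s ∈ J'.1.toSubmodule := by
      rw [hJ'']
      exact (mem_ker_rowDev _ (by simp [chartVec_self])).mpr ⟨_, hs0⟩
    rw [hsub] at hmem
    have h0 := column_map_eq_zero (pushRep h T) (α'.restrictScalars k) J.1 (i := i)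
      (fun t ht a => hker _ (hne t ht a)) hmem i
    rw [pushRep_comp, hs0] at h0
    simp [Matrix.vecMulVec_apply, chartVec_self] at h0
  · rintro ⟨t, ht, a, hu⟩
    obtain ⟨s, hs'⟩ := exists_local_factor h str hs hd J ht a i _ rfl
    obtain ⟨y, hy⟩ : x ∈ Set.range (Spec.map (CommRingCat.ofHom
        (algebraMap T (Localization.Away (extRep (pushRep h T) t a i))))) :=
      (PrimeSpectrum.localization_away_comap_range (Localization.Away (extRep (pushRep h T) t a i))
        (extRep (pushRep h T) t a i)).ge hu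
    refine ⟨s y, ?_⟩
    rw [← Scheme.Hom.comp_apply, hs', Scheme.Hom.comp_apply, hy]

include hd in
theorem isOpenImmersion_chart (i : Fin (n + 1)) : IsOpenImmersion (chart h str hs i) := by
  have := mono_chart h str hs i
  refine isOpenImmersion_of_mono_of_local_sections _ fun q => ?_
  obtain ⟨_, ⟨V, hV : IsAffineOpen V, rfl⟩, hyV, -⟩ :=
    (BrSev.bc f S).isBasis_affineOpens.exists_subset_of_mem_open (Set.mem_univ (chart h str hs i q)) isOpen_univ
  let T : Type u := Γ(BrSev.bc f S, V)
  let γ := hV.fromSpec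
  letI : Algebra S T := (Spec.preimage (γ ≫ BrSev.bcTo f S)).hom.toAlgebra
  letI : Algebra k T := ((algebraMap S T).comp (algebraMap k S)).toAlgebra
  haveI : IsScalarTower k S T := IsScalarTower.of_algebraMap_eq fun _ => rfl
  obtain ⟨J, hJ⟩ := exists_eq_toXS (S := S) str (T := T) γ (by
    rw [RingHom.algebraMap_toAlgebra, CommRingCat.ofHom_hom, Spec.map_preimage])
  obtain ⟨x, hx⟩ : chart h str hs i q ∈ Set.range γ := by rw [hV.range_fromSpec]; exact hyV
  have hx' : toXS (S := S) str J x ∈ Set.range (chart h str hs i) :=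
    ⟨q, hx.symm.trans (congrArg (fun g => g x) hJ)⟩
  obtain ⟨t, ht, a, hu⟩ := (mem_range_chart_iff h str hs hd J x i).mp hx'
  obtain ⟨s, hs'⟩ := exists_local_factor h str hs hd J ht a i _ rfl
  let u := extRep (pushRep h T) t a i
  let w := Spec.map (CommRingCat.ofHom (algebraMap T (Localization.Away u))) ≫ γ
  have : IsOpenImmersion w := inferInstance
  refine ⟨w.opensRange, ?_, w.isoOpensRange.inv ≫ s, ?_⟩
  · obtain ⟨y, hy⟩ : x ∈ Set.range (Spec.map (CommRingCat.ofHom (algebraMap T (Localization.Away u)))) :=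
      (PrimeSpectrum.localization_away_comap_range (Localization.Away u) u).ge hu
    exact ⟨y, by rw [Scheme.Hom.comp_apply, hy, hx]⟩
  · rw [Category.assoc, hs', ← hJ, Scheme.Hom.isoOpensRange_inv_comp]

include hd in
theorem exists_mem_range_chart (y : (BrSev.bc f S : Scheme.{u})) :
    ∃ i, y ∈ Set.range (chart h str hs i) := by
  suffices H : ∀ (T : Type u) [CommRing T] (γ : Spec (CommRingCat.of T) ⟶ BrSev.bc f S)
      (x : Spec (CommRingCat.of T)), ∃ i, γ x ∈ Set.range (chart h str hs i) by
    obtain ⟨i, hi⟩ := H ((BrSev.bc f S).residueField y) ((BrSev.bc f S).fromSpecResidueField y)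
      (IsLocalRing.closedPoint ((BrSev.bc f S).residueField y))
    obtain ⟨q, hq⟩ := hi
    exact ⟨i, q, hq.trans (Scheme.fromSpecResidueField_apply _ _)⟩
  intro T _ γ x
  letI : Algebra S T := (Spec.preimage (γ ≫ BrSev.bcTo f S)).hom.toAlgebra
  letI : Algebra k T := ((algebraMap S T).comp (algebraMap k S)).toAlgebra
  haveI : IsScalarTower k S T := IsScalarTower.of_algebraMap_eq fun _ => rfl
  obtain ⟨J, hJ⟩ := exists_eq_toXS (S := S) str (T := T) γ (by
    rw [RingHom.algebraMap_toAlgebra, CommRingCat.ofHom_hom, Spec.map_preimage])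
  obtain ⟨t, ht, a, i, hu⟩ := exists_entry_notMem (pushRep h T) hd (pushRep_surjective h hs T) J x
  refine ⟨i, ?_⟩
  rw [hJ]
  exact (mem_range_chart_iff h str hs hd J x i).mpr ⟨t, ht, a, hu⟩

include hd in
/-- The chart `i` meets a row point exactly where its `i`th coordinate does not vanish. -/
theorem vecXS_mem_range_chart_iff {T : Type u} [CommRing T] [Algebra k T] [Algebra S T] [IsScalarTower k S T]
    (η : Fin (n + 1) → T) (l : Fin (n + 1)) (hl : η l = 1) (x : Spec (CommRingCat.of T)) (i : Fin (n + 1)) :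
    vecXS h str hs η l hl x ∈ Set.range (chart h str hs i) ↔ η i ∉ x.asIdeal := by
  rw [vecXS, mem_range_chart_iff h str hs hd]
  constructor
  · rintro ⟨t, ht, a, hta⟩ hi
    obtain ⟨v, hv⟩ := (mem_ker_rowDev _ hl).mp ht
    rw [hv, Matrix.vecMulVec_apply] at hta
    exact hta (x.asIdeal.mul_mem_left _ hi)
  · intro hi
    obtain ⟨t, ht⟩ := pushRep_surjective h hs T (Matrix.vecMulVec (Pi.single l 1) η)
    exact ⟨t, (mem_ker_rowDev _ hl).mpr ⟨_, ht⟩, l, by simpa [ht, Matrix.vecMulVec_apply] using hi⟩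

end Groth.Agent.Csa25
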