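import Groth.Agent.Csa25.SBAut
import Groth.Agent.Csa25.SBKernel
import Groth.Agent.Csa25.TensorPower

/-!
# The descent frame of a Severi–Brauer scheme split by the algebra
-/

set_option autoImplicit false
open scoped TensorProduct Groth.Agent.Csa25
open Module CategoryTheory CategoryTheory.Limits AlgebraicGeometry HomogeneousLocalization

namespace Groth.Agent.Csa25

universe u

/-- Projective space has a rational point. -/
theorem exists_section_toSpec (L : Type u) [Field L] (n : ℕ) :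
    ∃ s : Spec (CommRingCat.of L) ⟶ CohB1.ProjSpace n L, s ≫ CohB1.ProjSpace.toSpec n L = 𝟙 _ := by
  let ev : Away (CohB1.polyGrading n L) (MvPolynomial.X (0 : Fin (n + 1)) : MvPolynomial (Fin (n + 1)) L) →ₐ[L] L :=
    (MvPolynomial.aeval fun _ => (0 : L)).comp (awayEquiv (K := L) (0 : Fin (n + 1))).symm.toAlgHom
  have h := ev.comp_algebraMap
  refine ⟨Spec.map (CommRingCat.ofHom ev.toRingHom) ≫ Proj.awayι (CohB1.polyGrading n L) _ (X_mem (0 : Fin (n + 1))) one_pos, ?_⟩
  have h2 := awayι_toSpec (K := L) (0 : Fin (n + 1))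
  refine (Category.assoc _ _ _).trans ((congrArg (Spec.map (CommRingCat.ofHom ev.toRingHom) ≫ ·) h2).trans ?_)
  rw [← Spec.map_comp, ← CommRingCat.ofHom_comp]
  rw [← Spec.map_id]
  exact congrArg Spec.map (CommRingCat.hom_ext (RingHom.ext fun r => ev.commutes r))

variable {k : Type u} [Field k] {L : Type u} [Field L] [Algebra k L] {n : ℕ} {A : Type u} [Ring A] [Algebra k A]
  [FiniteDimensional k L] [IsGalois k L]
  (φ : L ⊗[k] A ≃ₐ[L] Matrix (Fin (n + 1)) (Fin (n + 1)) L)
  (hd : finrank k A = (n + 1) * (n + 1))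
  {X : Scheme.{u}} {f : X ⟶ Spec (CommRingCat.of k)}
  (str : BrSev.SBStr k A ((n + 1) * (n + 1) - (n + 1)) f)

/-- The splitting given by a splitting of the algebra. -/
noncomputable def splittingOf : BrSev.Splitting f L n :=
  haveI := isIso_fromProj (repOver φ L) (extRep_repOver_surjective φ L) hd str
  { iso := (asIso (fromProj (repOver φ L) (extRep_repOver_surjective φ L) str)).symm
    comm := by
      rw [Iso.symm_hom, asIso_inv, IsIso.inv_comp_eq, fromProj_bcTo] }

theorem splittingOf_inv : (splittingOf φ hd str).iso.inv = fromProj (repOver φ L) (extRep_repOver_surjective φ L) str := rfl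

theorem eval_linHom_sigma (σ : L ≃ₐ[k] L) (g : Matrix (Fin (n + 1)) (Fin (n + 1)) L) (v : Fin (n + 1) → L)
    (p : MvPolynomial (Fin (n + 1)) L) :
    MvPolynomial.eval v (linHom (σ : L →+* L) g p) = σ (MvPolynomial.eval (σ.symm ∘ Matrix.vecMul v g) p) := by
  have h : (MvPolynomial.eval v).comp (linHom (σ : L →+* L) g).toRingHom =
      (σ : L →+* L).comp (MvPolynomial.eval (σ.symm ∘ Matrix.vecMul v g)) := by
    refine MvPolynomial.ringHom_ext (fun r => ?_) (fun j => ?_)
    · show MvPolynomial.eval v (linHom (σ : L →+* L) g (MvPolynomial.C r)) = _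
      rw [linHom_C]; simp
    · show MvPolynomial.eval v (linHom (σ : L →+* L) g (MvPolynomial.X j)) = _
      rw [linHom_X]
      simp [linForm, Matrix.vecMul, dotProduct, mul_comm]
  exact RingHom.congr_fun h p

theorem comp_symm_vecMul_ne_zero (σ : L ≃ₐ[k] L) {g : Matrix (Fin (n + 1)) (Fin (n + 1)) L} (hg : IsUnit g)
    {v : Fin (n + 1) → L} (hv : v ≠ 0) : σ.symm ∘ Matrix.vecMul v g ≠ 0 := fun h0 =>
  vecMul_ne_zero hg hv (funext fun j => (map_eq_zero σ.symm).mp (congrFun h0 j))

theorem linMap_sigma_ptVec (σ : L ≃ₐ[k] L) (g : Matrix (Fin (n + 1)) (Fin (n + 1)) L) (hg : IsUnit g)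
    (v : Fin (n + 1) → L) (hv : v ≠ 0) :
    linMap (σ : L →+* L) g hg (ptVec v hv) =
      ptVec (σ.symm ∘ Matrix.vecMul v g) (comp_symm_vecMul_ne_zero σ hg hv) := by
  refine projPoint_ext fun d p hp => ?_
  refine Iff.trans ?_ (mem_ptVec _ _ d p hp).symm
  rw [← map_eq_zero σ, ← eval_linHom_sigma]
  exact mem_ptVec v hv d _ ((linHom (σ : L →+* L) g).map_mem hp)

theorem bcAct_ptOf (σ : L ≃ₐ[k] L) {J J' : BrSev.SBSet k A ((n + 1) * (n + 1) - (n + 1)) L}
    (h : (Module.Grassmannian.map (σ : L →ₐ[k] L) J'.1).toSubmodule = J.1.toSubmodule) :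
    bcAct f σ (ptOf str J) = ptOf str J' := by
  have hp := SBStr.ext_point str (σ : L →ₐ[k] L) J' J h
  have e : toXS (S := L) (T := L) str J ≫ bcAct f σ =
      Spec.map (CommRingCat.ofHom (σ : L →ₐ[k] L).toRingHom) ≫ toXS (S := L) (T := L) str J' := by
    apply pullback.hom_ext
    · show (_ ≫ _) ≫ BrSev.proj f L = (_ ≫ _) ≫ BrSev.proj f L
      rw [Category.assoc, bcAct_proj, Category.assoc, toXS_proj, toXS_proj]
      exact (congrArg Subtype.val hp).symm
    · show (_ ≫ _) ≫ BrSev.bcTo f L = (_ ≫ _) ≫ BrSev.bcTo f L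
      rw [Category.assoc, bcAct_bcTo, ← Category.assoc, toXS_bcTo, Category.assoc, toXS_bcTo]
      simp
  have h2 := congrArg (fun m : Spec (CommRingCat.of L) ⟶ BrSev.bc f L => m (IsLocalRing.closedPoint L)) e
  refine ((Scheme.Hom.comp_apply _ _ _).symm.trans h2).trans ?_
  exact (Scheme.Hom.comp_apply _ _ _).trans (congrArg (fun z : Spec (CommRingCat.of L) => toXS (S := L) (T := L) str J' z)
    (Subsingleton.elim (α := PrimeSpectrum L) _ _))

/-- The frame of the splitting is given by the twisting matrices of the algebra. -/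
theorem exists_frame_splittingOf :
    ∃ F : Frame (splittingOf φ hd str), ∀ σ a,
      φ ((1 : L) ⊗ₜ[k] a) * F.mat σ = F.mat σ * (φ ((1 : L) ⊗ₜ[k] a)).map σ := by
  classical
  obtain ⟨F₀⟩ := exists_frame (splittingOf φ hd str)
  choose g hg using fun σ => exists_twist φ σ
  have key : ∀ σ, ∃ c : L, c ≠ 0 ∧ F₀.mat σ = c • (g σ : Matrix (Fin (n + 1)) (Fin (n + 1)) L) := by
    intro σ
    obtain ⟨c, hc⟩ := exists_smul_of_forall (P := F₀.mat σ) (g σ).isUnit (fun v hv => by
      let w₀ : Fin (n + 1) → L := σ.symm ∘ Matrix.vecMul v (F₀.mat σ)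
      let w : Fin (n + 1) → L := σ.symm ∘ Matrix.vecMul v (g σ : Matrix (Fin (n + 1)) (Fin (n + 1)) L)
      have hw₀ : w₀ ≠ 0 := comp_symm_vecMul_ne_zero σ (F₀.isUnit σ) hv
      have hw : w ≠ 0 := comp_symm_vecMul_ne_zero σ (g σ).isUnit hv
      have hback : Matrix.vecMul (σ ∘ w) (↑(g σ)⁻¹ : Matrix (Fin (n + 1)) (Fin (n + 1)) L) = v := by
        rw [show (σ ∘ w : Fin (n + 1) → L) = Matrix.vecMul v (g σ : Matrix _ _ L) from
          funext fun j => σ.apply_symm_apply _, Matrix.vecMul_vecMul, Units.mul_inv, Matrix.vecMul_one]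
      have h1 : bcAct f σ (ptOf str (rowL φ v hv)) = ptOf str (rowL φ w hw) := by
        refine bcAct_ptOf str σ ?_
        rw [← map_rowL φ σ (g σ) (hg σ) w hw (by rw [hback]; exact hv)]
        simp only [hback]
      have h2 : bcAct f σ (ptOf str (rowL φ v hv)) = ptOf str (rowL φ w₀ hw₀) := by
        rw [← fromProj_ptVec φ str v hv, ← fromProj_ptVec φ str w₀ hw₀,
          ← linMap_sigma_ptVec σ (F₀.mat σ) (F₀.isUnit σ) v hv, ← F₀.act σ, splittingOf_inv]
        show _ = fromProj _ _ str ((fromProj _ _ str ≫ bcAct f σ ≫ (splittingOf φ hd str).iso.hom) (ptVec v hv))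
        rw [← Scheme.Hom.comp_apply, ← Scheme.Hom.comp_apply, ← splittingOf_inv φ hd str]
        simp
      obtain ⟨c, -, hc⟩ := ptOf_injective φ hd str hw hw₀ (h1.symm.trans h2)
      refine ⟨σ c, funext fun j => ?_⟩
      have := congrArg σ (congrFun hc j)
      simpa [w, w₀] using this)
    refine ⟨c, fun h0 => (F₀.isUnit σ).ne_zero (by rw [hc, h0, zero_smul]), hc⟩
  choose c hc0 hc using key
  refine ⟨⟨fun σ => g σ, fun σ => (g σ).isUnit, fun σ => (F₀.act σ).trans ?_⟩, fun σ a => ?_⟩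
  · rw [← linMap_smul _ (g σ).isUnit (hc0 σ)]
    exact linMap_congr rfl (hc σ)
  · have h := hg σ ((1 : L) ⊗ₜ[k] a)
    rwa [galAct_tmul, map_one] at h

include hd str in
/-- A splitting of the scheme gives one of the algebra. -/
theorem exists_algEquiv_of_splitting [Algebra.IsCentral k A] [IsSimpleRing A] (e : BrSev.Splitting f L n) :
    Nonempty (L ⊗[k] A ≃ₐ[L] Matrix (Fin (n + 1)) (Fin (n + 1)) L) := by
  haveI : FiniteDimensional k A := Module.finite_of_finrank_pos (by rw [hd]; positivity)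
  obtain ⟨s, hs⟩ := exists_section_toSpec L n
  have he : e.iso.inv ≫ BrSev.bcTo f L = CohB1.ProjSpace.toSpec n L := by rw [← e.comm, Iso.inv_hom_id_assoc]
  have hg : (s ≫ e.iso.inv ≫ BrSev.proj f L) ≫ f = Spec.map (CommRingCat.ofHom (algebraMap k L)) := by
    rw [Category.assoc, Category.assoc, pullback.condition]
    show s ≫ e.iso.inv ≫ BrSev.bcTo f L ≫ _ = _
    rw [reassoc_of% he, reassoc_of% hs]
  obtain ⟨m, hm, ⟨φ'⟩⟩ := splits_of_pts (k := k) (A := A) n.succ_pos hd str ⟨_, hg⟩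
  have : m = n + 1 := by
    have h1 : finrank k A = m * m := by
      rw [← Module.finrank_baseChange (R := L), φ'.toLinearEquiv.finrank_eq, Module.finrank_matrix]
      simp
    exact Nat.mul_self_inj.mp (h1.symm.trans hd)
  subst this
  exact ⟨φ'⟩

end Groth.Agent.Csa25
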