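import Groth.Agent.Csa25.SBPoint
import Mathlib.RingTheory.Flat.LocallyFree
import Mathlib.RingTheory.OrzechProperty

/-!
# Left ideals of corank `n² - n` are locally row ideals
-/

set_option autoImplicit false
open scoped TensorProduct
open Module

namespace Groth.Agent.Csa25

universe u

/-- Nested points of a Grassmannian are equal. -/
theorem grassmannian_eq_of_le {R : Type u} [CommRing R] {M : Type u} [AddCommGroup M] [Module R M] {c : ℕ}
    (W J : Module.Grassmannian R M c) (hle : W.toSubmodule ≤ J.toSubmodule) : W = J := by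
  refine Module.Grassmannian.ext (le_antisymm hle fun x hx => ?_)
  have hs : Function.Surjective (Submodule.factor hle) := Submodule.factor_surjective hle
  have hb := Module.bijective_of_surjective_of_rankAtStalk_eq hs (by
    intro m _; rw [W.rankAtStalk_eq, J.rankAtStalk_eq])
  rw [← Submodule.Quotient.mk_eq_zero (p := W.toSubmodule)]
  exact hb.1 (by simpa using hx)

variable {k : Type u} [Field k] {A : Type u} [Ring A] [Algebra k A] {n : ℕ}

section Base

variable {T : Type u} [CommRing T] [Algebra k T] (h : A →ₐ[k] Matrix (Fin (n + 1)) (Fin (n + 1)) T)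

theorem extRep_injective (hd : finrank k A = (n + 1) * (n + 1)) (hs : Function.Surjective (extRep h)) :
    Function.Injective (extRep h) := by
  rcases subsingleton_or_nontrivial T with hT | hT
  · have : Subsingleton (T ⊗[k] A) := Module.subsingleton T _
    exact Function.injective_of_subsingleton _
  have : FiniteDimensional k A := Module.finite_of_finrank_pos (by rw [hd]; positivity)
  let b1 := (Module.finBasisOfFinrankEq k A hd).baseChange T
  let b2 := (Matrix.stdBasis T (Fin (n + 1)) (Fin (n + 1))).reindex finProdFinEquiv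
  let e : Matrix (Fin (n + 1)) (Fin (n + 1)) T ≃ₗ[T] T ⊗[k] A := b2.equiv b1 (Equiv.refl _)
  have : Module.Finite T (T ⊗[k] A) := Module.Finite.of_basis b1
  have hi : Function.Injective (e.toLinearMap ∘ₗ (extRep h).toLinearMap) :=
    OrzechProperty.injective_of_surjective_endomorphism _ (e.surjective.comp hs)
  exact fun x y hxy => hi (congrArg e hxy)

/-- A left ideal point with an invertible entry in column `i` is a row point. -/
theorem eq_rowPoint_of_isUnit (hd : finrank k A = (n + 1) * (n + 1)) (hs : Function.Surjective (extRep h))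
    (J : BrSev.SBSet k A ((n + 1) * (n + 1) - (n + 1)) T) {t : T ⊗[k] A} (ht : t ∈ J.1.toSubmodule)
    {a i : Fin (n + 1)} (hu : IsUnit (extRep h t a i)) :
    ∃ (η : Fin (n + 1) → T) (hi : η i = 1), J = rowPoint h hs η i hi := by
  let v : T := ↑hu.unit⁻¹
  let η : Fin (n + 1) → T := fun j => v * extRep h t a j
  have hi : η i = 1 := hu.unit.inv_mul
  refine ⟨η, hi, (Subtype.ext (grassmannian_eq_of_le _ _ fun s hs' => ?_)).symm⟩
  obtain ⟨w, hw⟩ := (mem_ker_rowDev h hi).mp hs'
  obtain ⟨r, hr⟩ := hs (Matrix.vecMulVec (v • w) (Pi.single a 1))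
  have : s = r * t := extRep_injective h hd hs (by
    rw [hw, map_mul, hr, Matrix.vecMulVec_mul, Matrix.smul_vecMulVec, ← Matrix.vecMulVec_smul]
    congr 1
    funext j
    simp [η, Matrix.single_one_vecMul])
  rw [this]
  exact J.2 r t ht

/-- Equal row points with unit entries have proportional vectors. -/
theorem eq_mul_of_rowPoint_eq (hs : Function.Surjective (extRep h)) {η η' : Fin (n + 1) → T}
    {i i' : Fin (n + 1)} (hi : η i = 1) (hi' : η' i' = 1)
    (heq : (rowPoint h hs η i hi).1.toSubmodule = (rowPoint h hs η' i' hi').1.toSubmodule) (j : Fin (n + 1)) :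
    η j = η i' * η' j := by
  obtain ⟨t, ht⟩ := hs (Matrix.vecMulVec (Pi.single (0 : Fin (n + 1)) (1 : T)) η)
  have h1 : t ∈ (rowPoint h hs η i hi).1.toSubmodule := (mem_ker_rowDev h hi).mpr ⟨_, ht⟩
  rw [heq] at h1
  obtain ⟨v, hv⟩ := (mem_ker_rowDev h hi').mp h1
  have h2 := congrFun (congrFun (ht.symm.trans hv) 0) i'
  have h3 := congrFun (congrFun (ht.symm.trans hv) 0) j
  simp only [Matrix.vecMulVec_apply, Pi.single_eq_same, one_mul, hi', mul_one] at h2 h3
  rw [h3, h2]

/-- Proportional vectors give the same row point. -/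
theorem rowPoint_eq_of_eq_mul (hs : Function.Surjective (extRep h)) {η η' : Fin (n + 1) → T}
    {i i' : Fin (n + 1)} (hi : η i = 1) (hi' : η' i' = 1) (hp : ∀ j, η j = η i' * η' j) :
    rowPoint h hs η i hi = rowPoint h hs η' i' hi' :=
  Subtype.ext (grassmannian_eq_of_le _ _ fun t ht => by
    obtain ⟨v, hv⟩ := (mem_ker_rowDev h hi).mp ht
    refine (mem_ker_rowDev h hi').mpr ⟨η i' • v, hv.trans ?_⟩
    ext a b
    simp only [Matrix.vecMulVec_apply, Pi.smul_apply, smul_eq_mul, hp b]
    ring)

variable {T' : Type u} [CommRing T'] [Algebra k T'] (ψ : T →ₐ[k] T')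

theorem extRep_map (t : T ⊗[k] A) :
    extRep (ψ.mapMatrix.comp h) (Algebra.TensorProduct.map ψ (AlgHom.id k A) t) =
      ψ.mapMatrix (extRep h t) := by
  induction t using TensorProduct.induction_on with
  | zero => simp
  | add x y hx hy => simp only [map_add, hx, hy]
  | tmul r a =>
    rw [Algebra.TensorProduct.map_tmul, extRep_tmul, extRep_tmul]
    ext i j
    simp

theorem mem_map_of_mem {c : ℕ} (J : Module.Grassmannian T (T ⊗[k] A) c) {t : T ⊗[k] A}
    (ht : t ∈ J.toSubmodule) :
    Algebra.TensorProduct.map ψ (AlgHom.id k A) t ∈ (Module.Grassmannian.map ψ J).toSubmodule := by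
  letI : Algebra T T' := ψ.toAlgebra
  haveI : IsScalarTower k T T' := IsScalarTower.of_algebraMap_eq' <| IsScalarTower.algebraMap_eq k T T'
  rw [Module.Grassmannian.map_toSubmodule, LinearMap.mem_ker]
  have key : ∀ s : T ⊗[k] A,
      Module.Grassmannian.baseChangeMkQ T' J.toSubmodule (Algebra.TensorProduct.map ψ (AlgHom.id k A) s) =
        (1 : T') ⊗ₜ[T] J.toSubmodule.mkQ s := by
    intro s
    induction s using TensorProduct.induction_on with
    | zero => simp
    | add x y hx hy => rw [map_add, map_add, hx, hy, map_add, TensorProduct.tmul_add]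
    | tmul r a =>
      rw [Algebra.TensorProduct.map_tmul, AlgHom.id_apply]
      simp only [Module.Grassmannian.baseChangeMkQ, LinearMap.comp_apply, LinearEquiv.coe_coe,
        TensorProduct.AlgebraTensorModule.cancelBaseChange_symm_tmul, LinearMap.baseChange_tmul]
      rw [show (ψ r : T') = r • (1 : T') by rw [Algebra.smul_def, mul_one]; rfl, TensorProduct.smul_tmul,
        ← map_smul]
      congr 2
      simp [TensorProduct.smul_tmul']
  rw [key, show J.toSubmodule.mkQ t = 0 from (Submodule.Quotient.mk_eq_zero _).mpr ht, TensorProduct.tmul_zero]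

/-- If column `i` of a point vanishes after a map, so does column `i` of the image point. -/
theorem column_map_eq_zero {c : ℕ} (J : Module.Grassmannian T (T ⊗[k] A) c) {i : Fin (n + 1)}
    (hz : ∀ t ∈ J.toSubmodule, ∀ a, ψ (extRep h t a i) = 0) {s : T' ⊗[k] A}
    (hs : s ∈ (Module.Grassmannian.map ψ J).toSubmodule) (a : Fin (n + 1)) :
    extRep (ψ.mapMatrix.comp h) s a i = 0 := by
  letI : Algebra T T' := ψ.toAlgebra
  haveI : IsScalarTower k T T' := IsScalarTower.of_algebraMap_eq' <| IsScalarTower.algebraMap_eq k T T'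
  rw [Module.Grassmannian.map_toSubmodule, LinearMap.mem_ker] at hs
  let g : T ⊗[k] A →ₗ[T] T' :=
    Algebra.linearMap T T' ∘ₗ (LinearMap.proj i : (Fin (n + 1) → T) →ₗ[T] T) ∘ₗ LinearMap.proj a ∘ₗ
      (extRep h).toLinearMap
  let gq : (T ⊗[k] A ⧸ J.toSubmodule) →ₗ[T] T' := J.toSubmodule.liftQ g fun t ht => hz t ht a
  let G : T' ⊗[T] (T ⊗[k] A ⧸ J.toSubmodule) →ₗ[T'] T' := gq.liftBaseChange T'
  have hG : ∀ z, G (Module.Grassmannian.baseChangeMkQ T' J.toSubmodule z) =
      extRep (ψ.mapMatrix.comp h) z a i := by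
    intro z
    induction z using TensorProduct.induction_on with
    | zero => simp
    | add x y hx hy => rw [map_add, map_add, hx, hy, map_add]; rfl
    | tmul r b =>
      simp only [Module.Grassmannian.baseChangeMkQ, LinearMap.comp_apply, LinearEquiv.coe_coe,
        TensorProduct.AlgebraTensorModule.cancelBaseChange_symm_tmul, LinearMap.baseChange_tmul, G,
        LinearMap.liftBaseChange_tmul]
      rw [extRep_tmul]
      show r * ψ (extRep h ((1 : T) ⊗ₜ[k] b) a i) = (r • (ψ.mapMatrix.comp h) b) a i
      simp [extRep_tmul]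
  rw [← hG, hs, map_zero]

/-- Every point has a column with an entry outside a given prime. -/
theorem exists_entry_notMem (hd : finrank k A = (n + 1) * (n + 1)) (hs : Function.Surjective (extRep h))
    (J : BrSev.SBSet k A ((n + 1) * (n + 1) - (n + 1)) T) (p : PrimeSpectrum T) :
    ∃ t ∈ J.1.toSubmodule, ∃ a i, extRep h t a i ∉ p.asIdeal := by
  by_contra hne
  push Not at hne
  let F := p.asIdeal.ResidueField
  let ψ : T →ₐ[k] F := IsScalarTower.toAlgHom k T F
  have hz : ∀ i t, t ∈ J.1.toSubmodule → ∀ a, ψ (extRep h t a i) = 0 := fun i t ht a =>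
    Ideal.algebraMap_residueField_eq_zero.mpr (hne t ht a i)
  let h' := ψ.mapMatrix.comp h
  have hs' : Function.Surjective (extRep h') := by
    intro M
    rw [Matrix.matrix_eq_sum_single M]
    refine AlgHom.mem_range (extRep h') |>.mp (Subalgebra.sum_mem _ fun a _ => Subalgebra.sum_mem _ fun i _ => ?_)
    obtain ⟨t, ht⟩ := hs (Matrix.single a i 1)
    refine ⟨M a i • Algebra.TensorProduct.map ψ (AlgHom.id k A) t, ?_⟩
    change extRep h' (M a i • Algebra.TensorProduct.map ψ (AlgHom.id k A) t) = _
    rw [map_smul, extRep_map, ht]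
    ext x y
    simp [Matrix.single_apply, apply_ite ψ]
  have hbot : (Module.Grassmannian.map ψ J.1).toSubmodule = ⊥ := by
    refine (Submodule.eq_bot_iff _).mpr fun s hs0 => extRep_injective h' hd hs' ?_
    rw [map_zero]
    ext a i
    exact column_map_eq_zero h ψ J.1 (hz i) hs0 a
  have : FiniteDimensional k A := Module.finite_of_finrank_pos (by rw [hd]; positivity)
  have h1 := Submodule.finrank_quotient_add_finrank (Module.Grassmannian.map ψ J.1).toSubmodule
  have h2 := (Module.Grassmannian.map ψ J.1).rankAtStalk_eq ⟨⊥, Ideal.isPrime_bot⟩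
  rw [Module.rankAtStalk_eq_finrank_of_free, Pi.natCast_apply, Nat.cast_id] at h2
  have h0 : finrank F (F ⊗[k] A) = (n + 1) * (n + 1) := by rw [Module.finrank_baseChange, hd]
  rw [hbot] at h1 h2
  rw [finrank_bot] at h1
  have h3 : 0 < (n + 1) * (n + 1) := by positivity
  omega

end Base

section Push

variable {S : Type u} [CommRing S] [Algebra k S] (h : A →ₐ[k] Matrix (Fin (n + 1)) (Fin (n + 1)) S)

/-- Pushing a representation to an algebra over the base. -/
noncomputable def pushRep (T : Type u) [CommRing T] [Algebra k T] [Algebra S T] [IsScalarTower k S T] :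
    A →ₐ[k] Matrix (Fin (n + 1)) (Fin (n + 1)) T :=
  (IsScalarTower.toAlgHom k S T).mapMatrix.comp h

theorem pushRep_comp {T T' : Type u} [CommRing T] [Algebra k T] [Algebra S T] [IsScalarTower k S T]
    [CommRing T'] [Algebra k T'] [Algebra S T'] [IsScalarTower k S T'] (ψ : T →ₐ[S] T') :
    (ψ.restrictScalars k).mapMatrix.comp (pushRep h T) = pushRep h T' :=
  AlgHom.ext fun a => Matrix.ext fun i j => by simp [pushRep]

theorem pushRep_surjective (hs : Function.Surjective (extRep h)) (T : Type u) [CommRing T] [Algebra k T]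
    [Algebra S T] [IsScalarTower k S T] : Function.Surjective (extRep (pushRep h T)) := by
  intro M
  rw [Matrix.matrix_eq_sum_single M]
  refine AlgHom.mem_range (extRep (pushRep h T)) |>.mp
    (Subalgebra.sum_mem _ fun a _ => Subalgebra.sum_mem _ fun i _ => ?_)
  obtain ⟨t, ht⟩ := hs (Matrix.single a i 1)
  refine ⟨M a i • Algebra.TensorProduct.map (IsScalarTower.toAlgHom k S T) (AlgHom.id k A) t, ?_⟩
  change extRep (pushRep h T) (M a i • Algebra.TensorProduct.map _ (AlgHom.id k A) t) = _
  rw [map_smul, pushRep, extRep_map, ht]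
  ext x y
  simp [Matrix.single_apply, apply_ite (algebraMap S T)]

end Push

end Groth.Agent.Csa25
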