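import Groth.Agent.Csa25.Amitsur
import Groth.Prelude.Def_BrSev2
import Mathlib.AlgebraicGeometry.ResidueField

/-!
# The generic point of a Severi–Brauer scheme and Roquette's field
-/

set_option autoImplicit false
open scoped TensorProduct
open Module CategoryTheory AlgebraicGeometry

namespace Groth.Agent.Csa25

universe u

section RowIdeal

variable {k : Type u} [Field k] {A : Type u} [Ring A] [Algebra k A] {n : ℕ}
  {R : Type u} [CommRing R] [Algebra k R] (h : A →ₐ[k] Matrix (Fin (n + 1)) (Fin (n + 1)) R)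

/-- The `R`-linear extension of a representation. -/
noncomputable def extRep : R ⊗[k] A →ₐ[R] Matrix (Fin (n + 1)) (Fin (n + 1)) R :=
  Algebra.TensorProduct.lift (Algebra.ofId R _) h fun x y => Algebra.commutes x (h y)

theorem extRep_tmul (r : R) (a : A) : extRep h (r ⊗ₜ[k] a) = r • h a := by
  simp [extRep, Algebra.smul_def, Algebra.ofId_apply]

/-- Deviation of the rows from the line through `η`, when `η i = 1`. -/
noncomputable def rowDev (η : Fin (n + 1) → R) (i : Fin (n + 1)) :
    R ⊗[k] A →ₗ[R] (Fin (n + 1) × {j : Fin (n + 1) // j ≠ i} → R) :=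
  LinearMap.pi fun p => (LinearMap.proj (p.2 : Fin (n + 1)) - η p.2 • LinearMap.proj i) ∘ₗ
    (LinearMap.proj p.1) ∘ₗ (extRep h).toLinearMap

theorem rowDev_apply (η : Fin (n + 1) → R) (i : Fin (n + 1)) (t : R ⊗[k] A) (a : Fin (n + 1))
    (j : {j : Fin (n + 1) // j ≠ i}) :
    rowDev h η i t (a, j) = extRep h t a j - η j * extRep h t a i := rfl

theorem mem_ker_rowDev {η : Fin (n + 1) → R} {i : Fin (n + 1)} (hi : η i = 1) {t : R ⊗[k] A} :
    t ∈ LinearMap.ker (rowDev h η i) ↔ ∃ v, extRep h t = Matrix.vecMulVec v η := by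
  rw [LinearMap.mem_ker]
  constructor
  · intro ht
    refine ⟨fun a => extRep h t a i, Matrix.ext fun a j => ?_⟩
    rw [Matrix.vecMulVec_apply]
    by_cases hj : j = i
    · rw [hj, hi, mul_one]
    · have := congrFun ht (a, ⟨j, hj⟩)
      rw [rowDev_apply, Pi.zero_apply, sub_eq_zero] at this
      rw [this, mul_comm]
  · rintro ⟨v, hv⟩
    funext ⟨a, j⟩
    rw [rowDev_apply, hv, Matrix.vecMulVec_apply, Matrix.vecMulVec_apply, hi, Pi.zero_apply]
    ring

theorem mul_mem_ker_rowDev {η : Fin (n + 1) → R} {i : Fin (n + 1)} (hi : η i = 1) (s : R ⊗[k] A)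
    {t : R ⊗[k] A} (ht : t ∈ LinearMap.ker (rowDev h η i)) : s * t ∈ LinearMap.ker (rowDev h η i) := by
  obtain ⟨v, hv⟩ := (mem_ker_rowDev h hi).mp ht
  exact (mem_ker_rowDev h hi).mpr ⟨(extRep h s).mulVec v, by rw [map_mul, hv, Matrix.mul_vecMulVec]⟩

theorem rowDev_surjective (hsurj : Function.Surjective (extRep h)) (η : Fin (n + 1) → R)
    (i : Fin (n + 1)) : Function.Surjective (rowDev h η i) := by
  intro T
  obtain ⟨t, ht⟩ := hsurj (Matrix.of fun a j => if hj : j = i then 0 else T (a, ⟨j, hj⟩))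
  refine ⟨t, funext fun ⟨a, j⟩ => ?_⟩
  rw [rowDev_apply, ht]
  simp [j.2]

/-- The left ideal of matrices with rows on the line through `η`, as a Severi–Brauer point. -/
noncomputable def rowPoint (hsurj : Function.Surjective (extRep h)) (η : Fin (n + 1) → R)
    (i : Fin (n + 1)) (hi : η i = 1) :
    BrSev.SBSet k A ((n + 1) * (n + 1) - (n + 1)) R :=
  let e := (rowDev h η i).quotKerEquivOfSurjective (rowDev_surjective h hsurj η i)
  ⟨{ toSubmodule := LinearMap.ker (rowDev h η i)
     finite_quotient := Module.Finite.equiv e.symm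
     projective_quotient := Module.Projective.of_equiv e.symm
     rankAtStalk_eq := fun p => by
       haveI : Nontrivial R := p.nontrivial
       rw [Module.rankAtStalk_eq_of_equiv e, Module.rankAtStalk_eq_finrank_of_free, Pi.natCast_apply,
         Module.finrank_pi, Fintype.card_prod, Fintype.card_subtype_compl, Fintype.card_fin,
         Fintype.card_subtype_eq, Nat.mul_sub, mul_one, Nat.cast_id] },
    fun a _ hx => mul_mem_ker_rowDev h hi a hx⟩

variable {S : Type u} [CommRing S] [Algebra k S]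

theorem ker_baseChangeMkQ_ker [Algebra R S] [IsScalarTower k R S] {ι : Type} [Finite ι]
    (g : R ⊗[k] A →ₗ[R] (ι → R)) (hg : Function.Surjective g) (g' : S ⊗[k] A →ₗ[S] (ι → S))
    (hgg' : ∀ a x, g' (1 ⊗ₜ[k] a) x = algebraMap R S (g (1 ⊗ₜ[k] a) x)) :
    LinearMap.ker (Module.Grassmannian.baseChangeMkQ S (LinearMap.ker g)) = LinearMap.ker g' := by
  classical
  cases nonempty_fintype ι
  let e := g.quotKerEquivOfSurjective hg
  let P := TensorProduct.piScalarRight R S S ι
  have he : e.toLinearMap ∘ₗ (LinearMap.ker g).mkQ = g :=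
    LinearMap.ext fun x => LinearMap.quotKerEquivOfSurjective_apply_mk g hg x
  let c := (TensorProduct.AlgebraTensorModule.cancelBaseChange k R S S A).symm.toLinearMap
  have h1 : g' = P.toLinearMap ∘ₗ (g.baseChange S ∘ₗ c) := by
    refine TensorProduct.AlgebraTensorModule.ext fun s a => funext fun x => ?_
    have h2 : (s ⊗ₜ[k] a : S ⊗[k] A) = s • ((1 : S) ⊗ₜ[k] a) := by
      rw [TensorProduct.smul_tmul', smul_eq_mul, mul_one]
    conv_lhs => rw [h2, map_smul, Pi.smul_apply, hgg', smul_eq_mul]
    simp only [P, c, LinearMap.comp_apply, LinearEquiv.coe_coe,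
      TensorProduct.AlgebraTensorModule.cancelBaseChange_symm_tmul, LinearMap.baseChange_tmul,
      TensorProduct.piScalarRight_apply, TensorProduct.piScalarRightHom_tmul]
    rw [Algebra.smul_def, mul_comm]
  have h2 : g.baseChange S =
      (e.baseChange R S).toLinearMap ∘ₗ (LinearMap.ker g).mkQ.baseChange S := by
    conv_lhs => rw [← he]
    rw [LinearMap.baseChange_comp]
    rfl
  rw [h1, h2, LinearEquiv.ker_comp, LinearMap.comp_assoc, LinearEquiv.ker_comp]
  rfl

theorem map_rowPoint (hsurj : Function.Surjective (extRep h)) (η : Fin (n + 1) → R)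
    (i : Fin (n + 1)) (hi : η i = 1) (ψ : R →ₐ[k] S) :
    (Module.Grassmannian.map ψ (rowPoint h hsurj η i hi).1).toSubmodule =
      LinearMap.ker (rowDev (ψ.mapMatrix.comp h) (ψ ∘ η) i) := by
  letI : Algebra R S := ψ.toAlgebra
  haveI : IsScalarTower k R S := IsScalarTower.of_algebraMap_eq' <| IsScalarTower.algebraMap_eq k R S
  rw [Module.Grassmannian.map_toSubmodule]
  refine ker_baseChangeMkQ_ker _ (rowDev_surjective h hsurj η i) _ fun a x => ?_
  obtain ⟨p, j⟩ := x
  rw [rowDev_apply, rowDev_apply, extRep_tmul, extRep_tmul, one_smul, one_smul, map_sub, map_mul]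
  rfl

end RowIdeal

variable {k : Type u} [Field k] {L : Type u} [Field L] [Algebra k L] [FiniteDimensional k L] [IsGalois k L]
  {n : ℕ} (D : SplitData k L n) {A : Type u} [Ring A] [Algebra k A]
  (φ : L ⊗[k] A ≃ₐ[L] Matrix (Fin (n + 1)) (Fin (n + 1)) L)

/-- The representation over an `L`-algebra. -/
noncomputable def repOver (R : Type u) [CommRing R] [Algebra k R] [Algebra L R] [IsScalarTower k L R] :
    A →ₐ[k] Matrix (Fin (n + 1)) (Fin (n + 1)) R :=
  (IsScalarTower.toAlgHom k L R).mapMatrix.comp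
    ((φ.toAlgHom.restrictScalars k).comp Algebra.TensorProduct.includeRight)

theorem extRep_repOver_surjective (R : Type u) [CommRing R] [Algebra k R] [Algebra L R] [IsScalarTower k L R] :
    Function.Surjective (extRep (repOver φ R)) := by
  have h1 : ∀ t : L ⊗[k] A, (φ t).map (algebraMap L R) ∈ LinearMap.range (extRep (repOver φ R)).toLinearMap := by
    intro t
    induction t using TensorProduct.induction_on with
    | zero => simp
    | tmul l a =>
      refine ⟨algebraMap L R l ⊗ₜ[k] a, ?_⟩
      have : φ (l ⊗ₜ[k] a) = l • φ ((1 : L) ⊗ₜ[k] a) := by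
        rw [← map_smul φ, TensorProduct.smul_tmul', smul_eq_mul, mul_one]
      rw [AlgHom.toLinearMap_apply, extRep_tmul, this]
      ext i j
      simp [repOver]
    | add x y hx hy => rw [map_add, Matrix.map_add _ (map_add _)]; exact add_mem hx hy
  intro M
  rw [Matrix.matrix_eq_sum_single M]
  refine AlgHom.mem_range (extRep (repOver φ R)) |>.mp (Subalgebra.sum_mem _ fun i _ => Subalgebra.sum_mem _ fun j _ => ?_)
  obtain ⟨t, ht⟩ := h1 (φ.symm (Matrix.single i j 1))
  rw [AlgEquiv.apply_symm_apply, Matrix.map_single, map_one] at ht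
  refine ⟨M i j • t, ?_⟩
  change extRep (repOver φ R) (M i j • t) = _
  rw [map_smul]
  exact (congrArg (M i j • ·) ht).trans (by rw [Matrix.smul_single, smul_eq_mul, mul_one])

theorem mapMatrix_repOver {R S : Type u} [CommRing R] [Algebra k R] [Algebra L R] [IsScalarTower k L R]
    [CommRing S] [Algebra k S] [Algebra L S] [IsScalarTower k L S] (ψ : R →ₐ[L] S) :
    (ψ.restrictScalars k).mapMatrix.comp (repOver φ R) = repOver φ S :=
  AlgHom.ext fun a => Matrix.ext fun i j => by simp [repOver]

local notation "𝕊" => MvPolynomial (Fin (n + 1)) L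
local notation "Ω" => FractionRing (MvPolynomial (Fin (n + 1)) L)

variable (L n) in
/-- The `i`th normalised generic vector. -/
noncomputable def genVec (i j : Fin (n + 1)) : SplitData.deg0 L n :=
  ⟨algebraMap 𝕊 Ω (MvPolynomial.X j) / algebraMap 𝕊 Ω (MvPolynomial.X i), 1, _, _,
    MvPolynomial.isHomogeneous_X L j, MvPolynomial.isHomogeneous_X L i, MvPolynomial.X_ne_zero i, rfl⟩

theorem genVec_self (i : Fin (n + 1)) : genVec L n i i = 1 :=
  Subtype.ext (div_self (by simp))

theorem genVec_eq_mul (i l j : Fin (n + 1)) : genVec L n i j = genVec L n i l * genVec L n l j := by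
  apply Subtype.ext
  show _ / _ = _ / _ * (_ / _)
  have h1 : algebraMap 𝕊 Ω (MvPolynomial.X i) ≠ 0 := by simp
  have h2 : algebraMap 𝕊 Ω (MvPolynomial.X l) ≠ 0 := by simp
  field_simp

/-- The generic point as a point of the left ideal functor. -/
noncomputable def genPoint : BrSev.SBSet k A ((n + 1) * (n + 1) - (n + 1)) (SplitData.deg0 L n) :=
  rowPoint (repOver φ (SplitData.deg0 L n)) (extRep_repOver_surjective φ _) (genVec L n 0) 0 (genVec_self 0)

variable (hφ : ∀ σ a, φ (1 ⊗ₜ[k] a) * D.P σ = D.P σ * (φ (1 ⊗ₜ[k] a)).map σ)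

include hφ in
theorem map_genPoint (σ : L ≃ₐ[k] L) :
    (Module.Grassmannian.map (D.rho σ).toAlgHom (genPoint φ).1).toSubmodule = (genPoint φ).1.toSubmodule := by
  rw [genPoint, map_rowPoint]
  let K := SplitData.deg0 L n
  let hK := repOver φ K
  let η := genVec L n 0
  let f := (algebraMap L K)
  let P := (D.P σ).map f
  let Q := (D.Pi σ).map f
  have hPPi : P * Q = 1 := by rw [← Matrix.map_mul, D.mul_inv, Matrix.map_one _ (map_zero f) (map_one f)]
  have hPiP : Q * P = 1 := by rw [← Matrix.map_mul, D.inv_mul, Matrix.map_one _ (map_zero f) (map_one f)]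
  have hconj : ∀ t, extRep ((D.rho σ).toAlgHom.mapMatrix.comp hK) t = Q * extRep hK t * P := by
    intro t
    induction t using TensorProduct.induction_on with
    | zero => simp
    | add x y hx hy => rw [map_add, map_add, hx, hy, mul_add, add_mul]
    | tmul r a =>
      rw [extRep_tmul, extRep_tmul, Matrix.mul_smul, Matrix.smul_mul]
      congr 1
      have h1 : (D.rho σ).toAlgHom.mapMatrix (hK a) = ((φ (1 ⊗ₜ[k] a)).map σ).map f :=
        Matrix.ext fun i j => D.rho_algebraMap σ _
      rw [AlgHom.comp_apply, h1]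
      have h2 := congrArg (·.map f) (hφ σ a)
      simp only [Matrix.map_mul] at h2
      calc ((φ (1 ⊗ₜ[k] a)).map σ).map f = Q * (P * ((φ (1 ⊗ₜ[k] a)).map σ).map f) := by
            rw [← mul_assoc, hPiP, one_mul]
        _ = Q * hK a * P := by rw [← h2, ← mul_assoc]; rfl
  have hη : (D.rho σ).toAlgHom ∘ η = (D.alpha σ)⁻¹ • Matrix.vecMul η P := by
    funext j
    rw [Pi.smul_apply, smul_eq_mul, eq_inv_mul_iff_mul_eq₀ (D.alpha_ne σ)]
    apply Subtype.ext
    simp only [Matrix.vecMul, dotProduct, P, Matrix.map_apply, η, f]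
    push_cast
    show algebraMap 𝕊 Ω (D.act σ (MvPolynomial.X 0)) / algebraMap 𝕊 Ω (MvPolynomial.X 0) *
      D.actFrac σ (algebraMap 𝕊 Ω (MvPolynomial.X j) / algebraMap 𝕊 Ω (MvPolynomial.X 0)) = _
    rw [map_div₀, SplitData.actFrac_algebraMap, SplitData.actFrac_algebraMap]
    have hX : D.act σ (MvPolynomial.X j) = ∑ i, MvPolynomial.C (D.P σ i j) * MvPolynomial.X i := subHom_X _ _ j
    have h1 : algebraMap 𝕊 Ω (D.act σ (MvPolynomial.X 0)) ≠ 0 := by simp
    rw [div_mul_div_comm, mul_comm (algebraMap 𝕊 Ω (MvPolynomial.X 0)), mul_div_mul_left _ _ h1, hX, map_sum,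
      Finset.sum_div]
    refine Finset.sum_congr rfl fun i _ => ?_
    rw [map_mul]
    show _ = algebraMap 𝕊 Ω (MvPolynomial.X i) / _ * algebraMap L Ω _
    rw [SplitData.algebraMap_L_eq]
    ring
  ext t
  show t ∈ LinearMap.ker (rowDev ((D.rho σ).toAlgHom.mapMatrix.comp hK) ((D.rho σ).toAlgHom ∘ η) 0) ↔
    t ∈ LinearMap.ker (rowDev hK η 0)
  rw [mem_ker_rowDev _ (by simp [η, genVec_self]), mem_ker_rowDev _ (genVec_self 0)]
  have hα : D.alpha σ ≠ 0 := D.alpha_ne σ
  constructor
  · rintro ⟨v, hv⟩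
    rw [hconj, hη] at hv
    refine ⟨(D.alpha σ)⁻¹ • P.mulVec v, ?_⟩
    calc extRep hK t = P * (Q * extRep hK t * P) * Q := by
          rw [← mul_assoc, ← mul_assoc, hPPi, one_mul, mul_assoc, hPPi, mul_one]
      _ = _ := by
          rw [hv, Matrix.vecMulVec_smul, Matrix.mul_smul, Matrix.smul_mul, Matrix.mul_vecMulVec,
            Matrix.vecMulVec_mul, Matrix.vecMul_vecMul, hPPi, Matrix.vecMul_one, Matrix.smul_vecMulVec]
  · rintro ⟨v, hv⟩
    refine ⟨D.alpha σ • Q.mulVec v, ?_⟩
    rw [hconj, hv, hη, Matrix.mul_vecMulVec, Matrix.vecMulVec_mul, Matrix.smul_vecMulVec,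
      Matrix.vecMulVec_smul, smul_smul, mul_inv_cancel₀ hα, one_smul]

variable {X : Scheme.{u}} {f : X ⟶ Spec (CommRingCat.of k)}

theorem SBStr.ext_point {c : ℕ} (str : BrSev.SBStr k A c f) {R T : Type u} [CommRing R] [Algebra k R]
    [CommRing T] [Algebra k T] (ψ : R →ₐ[k] T) (x : BrSev.SBSet k A c R) (y : BrSev.SBSet k A c T)
    (h : (Module.Grassmannian.map ψ x.1).toSubmodule = y.1.toSubmodule) :
    BrSev.Pts.map f ψ ((str.bij R).symm x) = (str.bij T).symm y := by
  apply (str.bij T).injective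
  rw [Equiv.apply_symm_apply]
  refine Subtype.ext (Module.Grassmannian.ext ?_)
  rw [str.natural, Equiv.apply_symm_apply, h]

variable [Algebra.IsCentral k A] [IsSimpleRing A] [FiniteDimensional k A]
  (str : BrSev.SBStr k A ((n + 1) * (n + 1) - (n + 1)) f)

include φ in
/-- The generic point is dense. -/
theorem genPoint_specializes (z : Spec (CommRingCat.of (SplitData.deg0 L n))) (y : X) :
    ((str.bij _).symm (genPoint φ)).1 z ⤳ y := by
  classical
  let κ := AlgebraicClosure (X.residueField y)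
  letI : Algebra k (X.residueField y) :=
    (Spec.preimage (X.fromSpecResidueField y ≫ f)).hom.toAlgebra
  have hpt : X.fromSpecResidueField y ≫ f =
      Spec.map (CommRingCat.ofHom (algebraMap k (X.residueField y))) := by
    rw [RingHom.algebraMap_toAlgebra, CommRingCat.ofHom_hom, Spec.map_preimage]
  let emb : L →ₐ[k] κ := IsAlgClosed.lift
  letI : Algebra L κ := emb.toRingHom.toAlgebra
  haveI : IsScalarTower k L κ := IsScalarTower.of_algebraMap_eq fun a => (emb.commutes a).symm
  let p0 : BrSev.Pts f κ := BrSev.Pts.map f (IsScalarTower.toAlgHom k (X.residueField y) κ)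
    ⟨X.fromSpecResidueField y, hpt⟩
  let J := str.bij κ p0
  let hκ := repOver φ κ
  have hsurj := extRep_repOver_surjective φ κ
  have hdim : finrank κ (κ ⊗[k] A) = (n + 1) * (n + 1) := by
    rw [Module.finrank_baseChange, finrank_eq_of_splitting φ]
  have hinj : Function.Injective (extRep hκ) :=
    (LinearMap.injective_iff_surjective_of_finrank_eq_finrank
      (by rw [hdim, Module.finrank_matrix]; simp) (f := (extRep hκ).toLinearMap)).mpr hsurj
  let p : PrimeSpectrum κ := ⟨⊥, Ideal.isPrime_bot⟩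
  have hrank : ∀ N : Module.Grassmannian κ (κ ⊗[k] A) ((n + 1) * (n + 1) - (n + 1)),
      finrank κ N.toSubmodule = n + 1 := by
    intro N
    have h1 := Submodule.finrank_quotient_add_finrank N.toSubmodule
    have h2 := N.rankAtStalk_eq p
    rw [Module.rankAtStalk_eq_finrank_of_free, Pi.natCast_apply, Nat.cast_id] at h2
    have h3 : n + 1 ≤ (n + 1) * (n + 1) := Nat.le_mul_self _
    omega
  obtain ⟨t0, ht0, ht0'⟩ : ∃ t ∈ J.1.toSubmodule, t ≠ 0 := Submodule.exists_mem_ne_zero_of_ne_bot fun h => by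
    have := hrank J.1
    rw [h, finrank_bot] at this
    omega
  obtain ⟨a, i, hai⟩ : ∃ a i, extRep hκ t0 a i ≠ 0 := by
    by_contra hne
    push Not at hne
    exact ht0' (hinj ((Matrix.ext hne).trans (map_zero _).symm))
  let w : Fin (n + 1) → κ := fun j => (extRep hκ t0 a i)⁻¹ * extRep hκ t0 a j
  have hwi : w i = 1 := inv_mul_cancel₀ hai
  let W := rowPoint hκ hsurj w i hwi
  have hle : W.1.toSubmodule ≤ J.1.toSubmodule := by
    intro t ht
    obtain ⟨v, hv⟩ := (mem_ker_rowDev hκ hwi).mp ht
    obtain ⟨s, hs⟩ := hsurj (Matrix.vecMulVec ((extRep hκ t0 a i)⁻¹ • v) (Pi.single a 1))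
    have : t = s * t0 := hinj (by
      rw [hv, map_mul, hs, Matrix.vecMulVec_mul, Matrix.smul_vecMulVec, ← Matrix.vecMulVec_smul]
      congr 1
      funext j
      simp [w, Matrix.single_one_vecMul])
    rw [this]
    exact J.2 s t0 ht0
  have hWJ : W = J := Subtype.ext (Module.Grassmannian.ext
    (Submodule.eq_of_le_of_finrank_eq hle ((hrank W.1).trans (hrank J.1).symm)))
  -- the chart
  let Ri := MvPolynomial {j : Fin (n + 1) // j ≠ i} L
  let ηi : Fin (n + 1) → Ri := fun j => if hj : j = i then 1 else MvPolynomial.X ⟨j, hj⟩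
  have hηi : ηi i = 1 := by simp [ηi]
  let pR := rowPoint (repOver φ Ri) (extRep_repOver_surjective φ Ri) ηi i hηi
  let g := (str.bij Ri).symm pR
  let ev : Ri →ₐ[L] κ := MvPolynomial.aeval fun j => w j
  let toK : Ri →ₐ[L] SplitData.deg0 L n := MvPolynomial.aeval fun j => genVec L n i j
  have hev : ev ∘ ηi = w := funext fun j => by
    by_cases hj : j = i
    · simp [ηi, hj, hwi]
    · rw [Function.comp_apply]
      simp only [ηi, dif_neg hj]
      exact MvPolynomial.aeval_X _ _
  have htoK : toK ∘ ηi = genVec L n i := funext fun j => by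
    by_cases hj : j = i
    · simp [ηi, hj, genVec_self]
    · rw [Function.comp_apply]
      simp only [ηi, dif_neg hj]
      exact MvPolynomial.aeval_X _ _
  have h1 : BrSev.Pts.map f (ev.restrictScalars k) g = p0 := by
    rw [show p0 = (str.bij κ).symm W by rw [hWJ, Equiv.symm_apply_apply]]
    refine SBStr.ext_point str _ pR W ?_
    rw [map_rowPoint]
    have hm := mapMatrix_repOver φ ev
    simp only [rowPoint, W, AlgHom.coe_restrictScalars', hev, hm]
    rfl
  have h2 : BrSev.Pts.map f (toK.restrictScalars k) g = (str.bij _).symm (genPoint φ) := by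
    refine SBStr.ext_point str _ pR _ ?_
    rw [map_rowPoint]
    have hm := mapMatrix_repOver φ toK
    simp only [AlgHom.coe_restrictScalars', htoK, hm]
    ext t
    show _ ↔ t ∈ LinearMap.ker (rowDev _ (genVec L n 0) 0)
    rw [mem_ker_rowDev _ (genVec_self i), mem_ker_rowDev _ (genVec_self 0)]
    constructor
    · rintro ⟨v, hv⟩
      refine ⟨genVec L n i 0 • v, hv.trans ?_⟩
      ext a b
      simp only [Matrix.vecMulVec_apply, Pi.smul_apply, smul_eq_mul, genVec_eq_mul i 0 b]
      ring
    · rintro ⟨v, hv⟩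
      refine ⟨genVec L n 0 i • v, hv.trans ?_⟩
      ext a b
      simp only [Matrix.vecMulVec_apply, Pi.smul_apply, smul_eq_mul, genVec_eq_mul 0 i b]
      ring
  have htoK_inj : Function.Injective toK := by
    let R' := Localization.Away (MvPolynomial.X i : 𝕊)
    have hu : IsUnit ((MvPolynomial.aeval (R := L) ηi) (MvPolynomial.X i : 𝕊)) := by simp [hηi]
    let back : R' →+* Ri :=
      IsLocalization.Away.lift (MvPolynomial.X i : 𝕊) (g := (MvPolynomial.aeval (R := L) ηi).toRingHom) hu
    have hbackS : ∀ s, back (algebraMap 𝕊 R' s) = MvPolynomial.aeval ηi s :=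
      IsLocalization.Away.lift_eq _ _
    have hle : Submonoid.powers (MvPolynomial.X i : 𝕊) ≤ nonZeroDivisors 𝕊 :=
      powers_le_nonZeroDivisors_of_noZeroDivisors (MvPolynomial.X_ne_zero i)
    let toΩ : R' →+* Ω := IsLocalization.map (M := Submonoid.powers (MvPolynomial.X i : 𝕊)) (T := nonZeroDivisors 𝕊) Ω (RingHom.id 𝕊) hle
    have htoΩ : Function.Injective toΩ := by
      refine (injective_iff_map_eq_zero toΩ).mpr fun x hx => ?_
      obtain ⟨r, s, rfl⟩ := IsLocalization.exists_mk'_eq (Submonoid.powers (MvPolynomial.X i : 𝕊)) x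
      have h := congrArg toΩ (IsLocalization.mk'_spec R' r s)
      simp only [map_mul, hx, zero_mul, toΩ, IsLocalization.map_eq] at h
      rw [IsFractionRing.injective 𝕊 Ω (h.symm.trans (map_zero _).symm) |> fun e : r = 0 => e, IsLocalization.mk'_zero]
    let j : Ri →+* R' := MvPolynomial.eval₂Hom (algebraMap L R') fun j =>
      algebraMap 𝕊 R' (MvPolynomial.X j) * IsLocalization.Away.invSelf (MvPolynomial.X i : 𝕊)
    have hbackInv : back (IsLocalization.Away.invSelf (MvPolynomial.X i : 𝕊)) = 1 := by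
      have := congrArg back (IsLocalization.Away.mul_invSelf (S := R') (MvPolynomial.X i : 𝕊))
      rwa [map_mul, hbackS, map_one, MvPolynomial.aeval_X, hηi, one_mul] at this
    have hbj : back.comp j = RingHom.id Ri := by
      refine MvPolynomial.ringHom_ext (fun a => ?_) fun j' => ?_
      · simp only [RingHom.comp_apply, j, MvPolynomial.eval₂Hom_C, RingHom.id_apply]
        rw [IsScalarTower.algebraMap_apply L 𝕊 R', hbackS]
        simp
        rfl
      · simp only [RingHom.comp_apply, j, MvPolynomial.eval₂Hom_X', map_mul, hbackS, hbackInv,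
          MvPolynomial.aeval_X, mul_one, RingHom.id_apply]
        simp [ηi, j'.2]
        rfl
    have hval : ((IntermediateField.val (SplitData.deg0 L n)).toRingHom.comp toK.toRingHom) = toΩ.comp j := by
      refine MvPolynomial.ringHom_ext (fun a => ?_) fun j' => ?_
      · simp only [RingHom.comp_apply, j, MvPolynomial.eval₂Hom_C, toΩ]
        rw [IsScalarTower.algebraMap_apply L 𝕊 R', IsLocalization.map_eq]
        simp [toK]
        erw [MvPolynomial.aeval_C]
        exact SplitData.algebraMap_L_eq a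
      · simp only [RingHom.comp_apply, j, MvPolynomial.eval₂Hom_X', toΩ, map_mul, IsLocalization.map_eq]
        have hXi : algebraMap 𝕊 Ω (MvPolynomial.X i) ≠ 0 := by simp
        have := congrArg toΩ (IsLocalization.Away.mul_invSelf (S := R') (MvPolynomial.X i : 𝕊))
        simp only [toΩ, map_mul, IsLocalization.map_eq, map_one, RingHom.id_apply] at this
        rw [eq_inv_of_mul_eq_one_right this]
        simp [toK, genVec, RingHom.id_apply, div_eq_mul_inv]
        erw [MvPolynomial.aeval_X]
    intro p q hpq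
    have h1 := congrArg (IntermediateField.val (SplitData.deg0 L n)) hpq
    have h2 : toΩ (j p) = toΩ (j q) := by
      rw [← RingHom.comp_apply, ← RingHom.comp_apply, ← hval]; exact h1
    have h3 := congrArg back (htoΩ h2)
    rwa [← RingHom.comp_apply, ← RingHom.comp_apply, hbj, RingHom.id_apply, RingHom.id_apply] at h3
  rw [← h2]
  show (Spec.map _ ≫ g.1) z ⤳ y
  rw [Scheme.Hom.comp_apply]
  have hz : ∀ q : Spec (CommRingCat.of Ri),
      Spec.map (CommRingCat.ofHom ((toK.restrictScalars k) : Ri →+* SplitData.deg0 L n)) z ⤳ q := by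
    intro q
    refine (PrimeSpectrum.le_iff_specializes (R := Ri) _ q).mp ?_
    have hz0 : z.asIdeal = ⊥ := (Ideal.eq_bot_or_top z.asIdeal).resolve_right z.2.ne_top
    show Ideal.comap _ z.asIdeal ≤ q.asIdeal
    intro r hr
    have hr0 : toK r = 0 := by rw [hz0] at hr; exact hr
    rw [htoK_inj (hr0.trans (map_zero toK).symm)]
    exact q.asIdeal.zero_mem
  let q0 : Spec (CommRingCat.of κ) := ⟨⊥, Ideal.isPrime_bot⟩
  have hy : p0.1 q0 = y := by
    show (Spec.map _ ≫ X.fromSpecResidueField y) q0 = y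
    rw [Scheme.Hom.comp_apply, Scheme.fromSpecResidueField_apply]
  have hy' : g.1 (Spec.map (CommRingCat.ofHom ((ev.restrictScalars k) : Ri →+* κ)) q0) = y := by
    have := congrArg (fun q : BrSev.Pts f κ => q.1 q0) h1
    rw [hy] at this
    exact (Scheme.Hom.comp_apply _ _ _).symm.trans this
  have := (hz (Spec.map (CommRingCat.ofHom ((ev.restrictScalars k) : Ri →+* κ)) q0)).map g.1.continuous
  rwa [hy'] at this

include φ hφ str in
/-- The generic point of the Severi–Brauer scheme has a point in the generic field. -/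
theorem exists_pts_genField :
    ∃ g : BrSev.Pts f D.genField, ∀ (z : Spec (CommRingCat.of D.genField)) (y : X), g.1 z ⤳ y := by
  let K := SplitData.deg0 L n
  let gK := (str.bij K).symm (genPoint φ)
  obtain ⟨⟨x, ι⟩, hxι⟩ : ∃ p, p = Scheme.SpecToEquivOfField K X gK.1 := ⟨_, rfl⟩
  have hgK : gK.1 = Spec.map ι ≫ X.fromSpecResidueField x := by
    have : gK.1 = (Scheme.SpecToEquivOfField K X).symm ⟨x, ι⟩ := by rw [hxι, Equiv.symm_apply_apply]
    exact this
  have hinv : ∀ σ, BrSev.Pts.map f (D.rho σ).toAlgHom gK = gK := fun σ =>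
    SBStr.ext_point str _ _ _ (map_genPoint D φ hφ σ)
  have hfix : ∀ σ r, D.rho σ (ι.hom r) = ι.hom r := by
    intro σ r
    let rσ : CommRingCat.of K ⟶ CommRingCat.of K := CommRingCat.ofHom ((D.rho σ).toAlgHom : K →+* K)
    have h1 : Spec.map rσ ≫ gK.1 = gK.1 := congrArg Subtype.val (hinv σ)
    have h2 : Spec.map (ι ≫ rσ) ≫ X.fromSpecResidueField x = Spec.map ι ≫ X.fromSpecResidueField x := by
      rw [Spec.map_comp, Category.assoc, ← hgK, h1]
    have h3 : (⟨x, ι ≫ rσ⟩ : (x : X) × (X.residueField x ⟶ CommRingCat.of K)) = ⟨x, ι⟩ :=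
      (Scheme.SpecToEquivOfField K X).symm.injective h2
    have h4 : ι ≫ rσ = ι := eq_of_heq (Sigma.mk.inj_iff.mp h3).2
    exact RingHom.congr_fun (congrArg CommRingCat.Hom.hom h4) r
  let ιF : X.residueField x →+* D.genField :=
    ι.hom.codRestrict D.genField.toSubfield fun r => D.mem_genField.mpr fun σ => hfix σ r
  have hcomp : Spec.map (CommRingCat.ofHom (D.genField.val : D.genField →+* K)) ≫
      (Spec.map (CommRingCat.ofHom ιF) ≫ X.fromSpecResidueField x) = gK.1 := by
    rw [← Category.assoc, ← Spec.map_comp, hgK]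
    congr 1
  have hg : (Spec.map (CommRingCat.ofHom ιF) ≫ X.fromSpecResidueField x) ≫ f =
      Spec.map (CommRingCat.ofHom (algebraMap k D.genField)) := by
    refine ?_
    haveI : Epi (Spec.map (CommRingCat.ofHom (D.genField.val : D.genField →+* K))) := by
      haveI : Subsingleton (Spec (CommRingCat.of D.genField)) := inferInstance
      exact Flat.epi_of_flat_of_surjective _
    rw [← cancel_epi (Spec.map (CommRingCat.ofHom (D.genField.val : D.genField →+* K))), ← Category.assoc, hcomp,
      gK.2, ← Spec.map_comp, ← CommRingCat.ofHom_comp]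
    exact congrArg (fun h => Spec.map (CommRingCat.ofHom h)) (D.genField.val.comp_algebraMap).symm
  refine ⟨⟨_, hg⟩, fun z y => ?_⟩
  let zK : Spec (CommRingCat.of K) := ⟨⊥, Ideal.isPrime_bot⟩
  have hx1 : gK.1 zK = x := by rw [hgK, Scheme.Hom.comp_apply, Scheme.fromSpecResidueField_apply]
  show (Spec.map (CommRingCat.ofHom ιF) ≫ X.fromSpecResidueField x) z ⤳ y
  rw [Scheme.Hom.comp_apply, Scheme.fromSpecResidueField_apply, ← hx1]
  exact genPoint_specializes φ str zK y

end Groth.Agent.Csa25
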